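import Mathlib.RingTheory.RegularLocalRing.Defs
import Mathlib.RingTheory.KrullDimension.Regular
import Mathlib.RingTheory.Ideal.KrullsHeightTheorem
import Mathlib.RingTheory.Ideal.Cotangent
import Mathlib.RingTheory.Nakayama
import Mathlib.RingTheory.Regular.RegularSequence
import Mathlib.LinearAlgebra.Basis.VectorSpace
import Mathlib.LinearAlgebra.Dimension.Finite

set_option autoImplicit false

namespace Groth.Agent.Lib.Helper76

open IsLocalRing RingTheory.Sequence
open scoped Pointwise

universe u

section GeneratingSet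

variable (R : Type u) [CommRing R] [IsLocalRing R] [IsNoetherianRing R]

/-- If `x ∈ m \ m²` then `x` is part of a generating set of `m` of minimal size. -/
theorem exists_finset_span_insert_eq_maximalIdeal (x : R) (hx : x ∈ maximalIdeal R)
    (hx2 : x ∉ maximalIdeal R ^ 2) :
    ∃ T : Finset R, T.card + 1 ≤ (maximalIdeal R).spanFinrank ∧
      (T : Set R) ⊆ maximalIdeal R ∧
      Ideal.span (insert x (T : Set R)) = maximalIdeal R := by
  classical
  set xbar : CotangentSpace R := (maximalIdeal R).toCotangent ⟨x, hx⟩ with hxbar_def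
  have hxbar : xbar ≠ 0 := by
    rw [Ne, Ideal.toCotangent_eq_zero]; exact hx2
  have hli : LinearIndepOn (ResidueField R) id ({xbar} : Set (CotangentSpace R)) :=
    LinearIndepOn.singleton (v := id) hxbar
  obtain ⟨B, hxB, b, hbrange⟩ : ∃ (B : Set (CotangentSpace R)) (_ : xbar ∈ B)
      (b : Module.Basis B (ResidueField R) (CotangentSpace R)), Set.range b = B :=
    ⟨hli.extend (Set.subset_univ _), hli.subset_extend _ (Set.mem_singleton _),
      Module.Basis.extend hli, Module.Basis.range_extend hli⟩
  have hBfin : B.Finite := by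
    have : Finite B := Module.Finite.finite_basis b
    exact Set.toFinite B
  have hBcard : B.ncard = (maximalIdeal R).spanFinrank := by
    rw [spanFinrank_maximalIdeal_eq_finrank_cotangentSpace,
      Module.finrank_eq_nat_card_basis b, Nat.card_coe_set_eq]
  have hBspan : Submodule.span (ResidueField R) B = ⊤ := by
    have := b.span_eq
    rwa [hbrange] at this
  let σ := Function.surjInv (maximalIdeal R).toCotangent_surjective
  have hσ : ∀ v, (maximalIdeal R).toCotangent (σ v) = v :=
    Function.surjInv_eq (maximalIdeal R).toCotangent_surjective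
  let T : Finset R := (hBfin.toFinset.erase xbar).image (fun v => (σ v : R))
  refine ⟨T, ?_, ?_, ?_⟩
  · have h1 : T.card ≤ (hBfin.toFinset.erase xbar).card := Finset.card_image_le
    have h2 : (hBfin.toFinset.erase xbar).card + 1 = hBfin.toFinset.card :=
      Finset.card_erase_add_one (by simpa using hxB)
    have h3 : hBfin.toFinset.card = B.ncard := (Set.ncard_eq_toFinset_card B hBfin).symm
    omega
  · intro r hr
    simp only [T, Finset.coe_image, Set.mem_image] at hr
    obtain ⟨v, -, rfl⟩ := hr
    exact (σ v).2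
  · let S : Set (maximalIdeal R) := insert ⟨x, hx⟩ (σ '' (B \ {xbar}))
    have hS : (maximalIdeal R).toCotangent '' S = B := by
      ext v
      simp only [S, Set.image_insert_eq, Set.mem_insert_iff, Set.mem_image, Set.mem_sdiff,
        Set.mem_singleton_iff]
      constructor
      · rintro (rfl | ⟨_, ⟨w, ⟨hw, -⟩, rfl⟩, rfl⟩)
        · exact hxB
        · rwa [hσ]
      · intro hv
        by_cases hvx : v = xbar
        · left; exact hvx
        · right; exact ⟨σ v, ⟨v, ⟨hv, hvx⟩, rfl⟩, hσ v⟩
    have hspan : Submodule.span R S = ⊤ :=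
      CotangentSpace.span_image_eq_top_iff.mp (by rw [hS]; exact hBspan)
    have h4 := congrArg (Submodule.map (maximalIdeal R).subtype) hspan
    rw [Submodule.map_span, Submodule.map_top, Submodule.range_subtype] at h4
    rw [← h4]
    congr 1
    ext r
    simp only [S, T, Set.image_insert_eq, Submodule.subtype_apply, Set.mem_insert_iff,
      Set.mem_image, Finset.coe_image, Finset.coe_erase, Set.Finite.coe_toFinset, Set.mem_sdiff,
      Set.mem_singleton_iff]
    constructor
    · rintro (rfl | ⟨v, ⟨hv, hvx⟩, rfl⟩)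
      · left; rfl
      · right; exact ⟨σ v, ⟨v, ⟨hv, hvx⟩, rfl⟩, rfl⟩
    · rintro (rfl | ⟨_, ⟨v, ⟨hv, hvx⟩, rfl⟩, rfl⟩)
      · left; rfl
      · right; exact ⟨v, ⟨hv, hvx⟩, rfl⟩

end GeneratingSet

section Quotient

variable (R : Type u) [CommRing R] [IsRegularLocalRing R]

theorem quotient_span_singleton_nontrivial (x : R) (hx : x ∈ maximalIdeal R) :
    Nontrivial (R ⧸ Ideal.span ({x} : Set R)) := by
  rw [Ideal.Quotient.nontrivial_iff]
  intro h
  have : Ideal.span ({x} : Set R) ≤ maximalIdeal R := by
    rw [Ideal.span_le, Set.singleton_subset_iff]; exact hx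
  rw [h, top_le_iff] at this
  exact (maximalIdeal.isMaximal R).ne_top this

/-- Quotient of a regular local ring by an element of `m \ m²` is regular local of dimension one
less. -/
theorem isRegularLocalRing_quotient_of_notMem_sq (x : R) (hx : x ∈ maximalIdeal R)
    (hx2 : x ∉ maximalIdeal R ^ 2) :
    IsRegularLocalRing (R ⧸ Ideal.span ({x} : Set R)) ∧
      ringKrullDim (R ⧸ Ideal.span ({x} : Set R)) + 1 = ringKrullDim R := by
  classical
  have hnt : Nontrivial (R ⧸ Ideal.span ({x} : Set R)) := quotient_span_singleton_nontrivial R x hx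
  set π := Ideal.Quotient.mk (Ideal.span ({x} : Set R)) with hπ
  have hπs : Function.Surjective π := Ideal.Quotient.mk_surjective
  have hloc : IsLocalRing (R ⧸ Ideal.span ({x} : Set R)) := IsLocalRing.of_surjective' π hπs
  have hmem : ∀ r : R, r ∈ maximalIdeal R ↔ π r ∈ maximalIdeal (R ⧸ Ideal.span ({x} : Set R)) := by
    intro r
    have : IsLocalHom π := hπs.isLocalHom π
    rw [mem_maximalIdeal, mem_maximalIdeal, map_mem_nonunits_iff]
  obtain ⟨T, hTcard, hTsub, hTspan⟩ := exists_finset_span_insert_eq_maximalIdeal R x hx hx2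
  -- the maximal ideal of the quotient is generated by the image of T
  have hm' : maximalIdeal (R ⧸ Ideal.span ({x} : Set R)) = Ideal.span (π '' (T : Set R)) := by
    apply le_antisymm
    · intro y hy
      obtain ⟨r, rfl⟩ := hπs y
      have hr : r ∈ maximalIdeal R := (hmem r).mpr hy
      rw [← hTspan] at hr
      have h1 : π r ∈ Ideal.map π (Ideal.span (insert x (T : Set R))) := Ideal.mem_map_of_mem π hr
      rw [Ideal.map_span, Set.image_insert_eq] at h1
      have hx0 : π x = 0 := Ideal.Quotient.eq_zero_iff_mem.mpr (Ideal.mem_span_singleton_self x)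
      rw [hx0] at h1
      have h2 : Ideal.span (insert (0 : R ⧸ Ideal.span ({x} : Set R)) (π '' (T : Set R))) =
          Ideal.span (π '' (T : Set R)) := by
        rw [Ideal.span_insert, Ideal.span_singleton_eq_bot.mpr rfl, bot_sup_eq]
      rwa [h2] at h1
    · rw [Ideal.span_le]
      rintro _ ⟨t, ht, rfl⟩
      exact (hmem t).mp (hTsub ht)
  have hfin : (maximalIdeal (R ⧸ Ideal.span ({x} : Set R))).spanFinrank ≤ T.card := by
    rw [hm']
    refine le_trans (Submodule.spanFinrank_span_le_ncard_of_finite
      ((Finset.finite_toSet T).image π)) ?_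
    refine le_trans (Set.ncard_image_le (Finset.finite_toSet T)) ?_
    rw [Set.ncard_coe_finset]
  have hdim : ringKrullDim R ≤ ringKrullDim (R ⧸ Ideal.span ({x} : Set R)) + 1 := by
    have h : Ideal.span {x} = x • (⊤ : Ideal R) := by
      simp [← Submodule.ideal_span_singleton_smul]
    rw [ringKrullDim_eq_of_ringEquiv (Ideal.quotientEquivAlgOfEq R h).toRingEquiv]
    exact ringKrullDim_le_ringKrullDim_quotSMulTop_succ hx
  have hreg : ((maximalIdeal R).spanFinrank : WithBot ℕ∞) = ringKrullDim R :=
    IsRegularLocalRing.spanFinrank_maximalIdeal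
  have hle : ringKrullDim (R ⧸ Ideal.span ({x} : Set R)) ≤
      (maximalIdeal (R ⧸ Ideal.span ({x} : Set R))).spanFinrank :=
    ringKrullDim_le_spanFinrank_maximalIdeal _
  -- numerical
  have hd' : ringKrullDim (R ⧸ Ideal.span ({x} : Set R)) ≠ ⊥ := ringKrullDim_ne_bot
  have hd'' : ringKrullDim (R ⧸ Ideal.span ({x} : Set R)) ≠ ⊤ := ringKrullDim_ne_top
  obtain ⟨e, he⟩ : ∃ e : ℕ, ringKrullDim (R ⧸ Ideal.span ({x} : Set R)) = e := by
    cases h : ringKrullDim (R ⧸ Ideal.span ({x} : Set R)) with
    | bot => exact absurd h hd'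
    | coe a =>
      cases a with
      | top => exact absurd h hd''
      | coe n => exact ⟨n, rfl⟩
  rw [he] at hle hdim ⊢
  rw [← hreg] at hdim ⊢
  have h1 : (maximalIdeal R).spanFinrank ≤ e + 1 := by exact_mod_cast hdim
  have h2 : e ≤ (maximalIdeal (R ⧸ Ideal.span ({x} : Set R))).spanFinrank := by
    exact_mod_cast hle
  have h3 : (maximalIdeal (R ⧸ Ideal.span ({x} : Set R))).spanFinrank = e := by omega
  have h4 : (maximalIdeal R).spanFinrank = e + 1 := by omega
  refine ⟨?_, ?_⟩
  · rw [isRegularLocalRing_iff, he, h3]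
  · rw [h4]; norm_cast

end Quotient

section Domain

/-- In a Noetherian local ring of positive dimension there is an element of `m` outside `m²`
and outside all minimal primes. -/
theorem exists_mem_maximalIdeal_notMem_sq_notMem_minimalPrimes (R : Type u) [CommRing R]
    [IsLocalRing R] [IsNoetherianRing R] (hdim : ringKrullDim R ≠ 0) :
    ∃ x ∈ maximalIdeal R, x ∉ maximalIdeal R ^ 2 ∧ ∀ p ∈ minimalPrimes R, x ∉ p := by
  classical
  have hfin : (minimalPrimes R).Finite := minimalPrimes.finite_of_isNoetherianRing R
  -- m is not a minimal prime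
  have hmnot : maximalIdeal R ∉ minimalPrimes R := by
    intro hm
    apply hdim
    rw [← IsLocalRing.maximalIdeal_height_eq_ringKrullDim, Ideal.height_eq_zero_iff.mpr hm]
    rfl
  by_contra hcon
  push Not at hcon
  have hsub : ((maximalIdeal R : Ideal R) : Set R) ⊆
      ⋃ i ∈ ((insert (maximalIdeal R ^ 2) hfin.toFinset : Finset (Ideal R)) : Set (Ideal R)),
        (id i : Ideal R) := by
    intro x hx
    simp only [Finset.coe_insert, Set.Finite.coe_toFinset, Set.mem_insert_iff, id_eq,
      Set.iUnion_iUnion_eq_or_left, Set.mem_union, SetLike.mem_coe, Set.mem_iUnion, exists_prop]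
    by_cases hx2 : x ∈ maximalIdeal R ^ 2
    · left; exact hx2
    · right
      obtain ⟨p, hp, hxp⟩ := hcon x hx hx2
      exact ⟨p, hp, hxp⟩
  rw [Ideal.subset_union_prime (maximalIdeal R ^ 2) (maximalIdeal R ^ 2)] at hsub
  · obtain ⟨i, hi, hle⟩ := hsub
    simp only [Finset.mem_insert, Set.Finite.mem_toFinset] at hi
    rcases hi with rfl | hi
    · -- m ≤ m², Nakayama
      have hbot : maximalIdeal R = ⊥ := by
        apply Submodule.eq_bot_of_le_smul_of_le_jacobson_bot (maximalIdeal R) (maximalIdeal R)
          (IsNoetherian.noetherian _)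
        · rw [smul_eq_mul, ← pow_two]; exact hle
        · exact (IsLocalRing.jacobson_eq_maximalIdeal _ bot_ne_top).ge
      apply hmnot
      rw [hbot]
      have : (⊥ : Ideal R).IsPrime := hbot ▸ (inferInstance : (maximalIdeal R).IsPrime)
      exact ⟨⟨this, bot_le⟩, fun q hq _ => bot_le⟩
    · -- m ≤ p minimal
      have : i = maximalIdeal R := by
        have hip : i.IsPrime := hi.1.1
        exact ((maximalIdeal.isMaximal R).eq_of_le hip.ne_top hle).symm
      exact hmnot (this ▸ hi)
  · intro i hi hne _
    simp only [Finset.mem_insert, Set.Finite.mem_toFinset] at hi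
    rcases hi with rfl | hi
    · exact absurd rfl hne
    · exact hi.1.1

/-- Auxiliary inductive form of: a regular local ring is a domain. -/
theorem isDomain_of_isRegularLocalRing_aux (d : ℕ) :
    ∀ (R : Type u) [CommRing R] [IsRegularLocalRing R], ringKrullDim R = d → IsDomain R := by
  induction d with
  | zero =>
    intro R _ _ hd
    have hspan : (maximalIdeal R).spanFinrank = 0 := by
      have h := IsRegularLocalRing.spanFinrank_maximalIdeal (R := R)
      rw [hd] at h
      exact_mod_cast h
    have hbot : maximalIdeal R = ⊥ := by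
      rwa [Submodule.spanFinrank_eq_zero_iff_eq_bot (IsNoetherian.noetherian _)] at hspan
    have hf : IsField R := IsLocalRing.isField_iff_maximalIdeal_eq.mpr hbot
    exact hf.isDomain
  | succ d ih =>
    intro R _ _ hd
    have hdim : ringKrullDim R ≠ 0 := by
      rw [hd]; exact_mod_cast Nat.succ_ne_zero d
    obtain ⟨x, hx, hx2, hxmin⟩ := exists_mem_maximalIdeal_notMem_sq_notMem_minimalPrimes R hdim
    obtain ⟨hreg, hd'⟩ := isRegularLocalRing_quotient_of_notMem_sq R x hx hx2
    have hdq : ringKrullDim (R ⧸ Ideal.span ({x} : Set R)) = d := by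
      rw [hd] at hd'
      have hne : ringKrullDim (R ⧸ Ideal.span ({x} : Set R)) ≠ ⊥ := ringKrullDim_ne_bot
      have hne' : ringKrullDim (R ⧸ Ideal.span ({x} : Set R)) ≠ ⊤ := ringKrullDim_ne_top
      cases h : ringKrullDim (R ⧸ Ideal.span ({x} : Set R)) with
      | bot => exact absurd h hne
      | coe a =>
        cases a with
        | top => exact absurd h hne'
        | coe n =>
          rw [h] at hd'
          have : n + 1 = d + 1 := by exact_mod_cast hd'
          have : n = d := by omega
          subst this
          rfl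
    have hdom : IsDomain (R ⧸ Ideal.span ({x} : Set R)) := ih _ hdq
    have hprime : (Ideal.span ({x} : Set R)).IsPrime :=
      (Ideal.Quotient.isDomain_iff_prime _).mp hdom
    obtain ⟨p, hpmin, hple⟩ := Ideal.exists_minimalPrimes_le (I := (⊥ : Ideal R))
      (J := Ideal.span ({x} : Set R)) bot_le
    have hpprime : p.IsPrime := hpmin.1.1
    have hxp : x ∉ p := hxmin p hpmin
    have hpbot : p = ⊥ := by
      apply Submodule.eq_bot_of_le_smul_of_le_jacobson_bot (maximalIdeal R) p
        (IsNoetherian.noetherian _)
      · intro y hy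
        obtain ⟨a, rfl⟩ := Ideal.mem_span_singleton'.mp (hple hy)
        have ha : a ∈ p := (hpprime.mem_or_mem hy).resolve_right hxp
        rw [mul_comm]
        exact Submodule.smul_mem_smul hx ha
      · exact (IsLocalRing.jacobson_eq_maximalIdeal _ bot_ne_top).ge
    have : (⊥ : Ideal R).IsPrime := hpbot ▸ hpprime
    exact IsDomain.of_bot_isPrime R

/-- A regular local ring is a domain. -/
theorem isDomain_of_isRegularLocalRing (R : Type u) [CommRing R] [IsRegularLocalRing R] :
    IsDomain R := by
  have hne : ringKrullDim R ≠ ⊥ := ringKrullDim_ne_bot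
  have hne' : ringKrullDim R ≠ ⊤ := ringKrullDim_ne_top
  cases h : ringKrullDim R with
  | bot => exact absurd h hne
  | coe a =>
    cases a with
    | top => exact absurd h hne'
    | coe n => exact isDomain_of_isRegularLocalRing_aux n R h

end Domain

section RegularSequence

/-- If `x 0, …, x d` generate the maximal ideal of a regular local ring of dimension `d + 1`, then
`x 0 ∉ m²`. -/
theorem notMem_sq_of_span_range_eq_maximalIdeal (R : Type u) [CommRing R] [IsRegularLocalRing R]
    (d : ℕ) (hd : ringKrullDim R = (d + 1 : ℕ)) (x : Fin (d + 1) → R)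
    (hx : Ideal.span (Set.range x) = maximalIdeal R) : x 0 ∉ maximalIdeal R ^ 2 := by
  intro h0
  have hle : maximalIdeal R ≤ Ideal.span (Set.range (fun i : Fin d => x i.succ)) := by
    apply Submodule.le_of_le_smul_of_le_jacobson_bot (I := maximalIdeal R)
      (IsNoetherian.noetherian _)
      (IsLocalRing.jacobson_eq_maximalIdeal _ bot_ne_top).ge
    rw [← hx, Ideal.span_le]
    rintro _ ⟨i, rfl⟩
    refine Fin.cases ?_ (fun j => ?_) i
    · apply Submodule.mem_sup_right
      rw [hx, smul_eq_mul, ← pow_two]
      exact h0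
    · exact Submodule.mem_sup_left (Ideal.subset_span ⟨j, rfl⟩)
  have hge : Ideal.span (Set.range (fun i : Fin d => x i.succ)) ≤ maximalIdeal R := by
    rw [← hx]
    apply Ideal.span_mono
    rintro _ ⟨i, rfl⟩
    exact ⟨i.succ, rfl⟩
  have heq : maximalIdeal R = Ideal.span (Set.range (fun i : Fin d => x i.succ)) :=
    le_antisymm hle hge
  have h1 : (maximalIdeal R).spanFinrank ≤ d := by
    rw [heq]
    refine le_trans (Submodule.spanFinrank_span_le_ncard_of_finite (Set.finite_range _)) ?_
    rw [← Set.image_univ]
    refine le_trans (Set.ncard_image_le Set.finite_univ) ?_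
    simp [Set.ncard_univ]
  have h2 : ((maximalIdeal R).spanFinrank : WithBot ℕ∞) = ringKrullDim R :=
    IsRegularLocalRing.spanFinrank_maximalIdeal
  rw [hd] at h2
  have : (maximalIdeal R).spanFinrank = d + 1 := by exact_mod_cast h2
  omega

/-- `R ⧸ x • ⊤ ≃ R ⧸ span {x}` linearly over `R ⧸ span {x}`. -/
noncomputable def quotSMulTopEquivQuotSpan (R : Type u) [CommRing R] (x : R) :
    QuotSMulTop x R ≃ₗ[R ⧸ Ideal.span ({x} : Set R)] (R ⧸ Ideal.span ({x} : Set R)) :=
  LinearEquiv.extendScalarsOfSurjective (R := R) (S := R ⧸ Ideal.span ({x} : Set R))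
    Ideal.Quotient.mk_surjective
    (Submodule.quotEquivOfEq (x • (⊤ : Submodule R R)) (Ideal.span ({x} : Set R))
      (by simp [← Submodule.ideal_span_singleton_smul]))

theorem isRegular_of_span_range_eq_maximalIdeal_aux (d : ℕ) :
    ∀ (R : Type u) [CommRing R] [IsRegularLocalRing R], ringKrullDim R = d →
      ∀ (x : Fin d → R), Ideal.span (Set.range x) = maximalIdeal R →
        IsRegular R (List.ofFn x) := by
  induction d with
  | zero =>
    intro R _ _ _ x _
    simp only [List.ofFn_zero]
    exact IsRegular.nil R R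
  | succ d ih =>
    intro R _ _ hd x hx
    have hmem : ∀ i, x i ∈ maximalIdeal R := fun i => by
      rw [← hx]; exact Ideal.subset_span ⟨i, rfl⟩
    have hx2 : x 0 ∉ maximalIdeal R ^ 2 :=
      notMem_sq_of_span_range_eq_maximalIdeal R d hd x hx
    have hx0 : x 0 ≠ 0 := fun h => hx2 (h ▸ zero_mem _)
    have hdom : IsDomain R := isDomain_of_isRegularLocalRing R
    obtain ⟨hreg, hd'⟩ := isRegularLocalRing_quotient_of_notMem_sq R (x 0) (hmem 0) hx2
    have hloc' : IsLocalRing (R ⧸ Ideal.span ({x 0} : Set R)) := hreg.toIsLocalRing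
    have hdq : ringKrullDim (R ⧸ Ideal.span ({x 0} : Set R)) = d := by
      rw [hd] at hd'
      have hne : ringKrullDim (R ⧸ Ideal.span ({x 0} : Set R)) ≠ ⊥ := ringKrullDim_ne_bot
      have hne' : ringKrullDim (R ⧸ Ideal.span ({x 0} : Set R)) ≠ ⊤ := ringKrullDim_ne_top
      cases h : ringKrullDim (R ⧸ Ideal.span ({x 0} : Set R)) with
      | bot => exact absurd h hne
      | coe a =>
        cases a with
        | top => exact absurd h hne'
        | coe n =>
          rw [h] at hd'
          have : n + 1 = d + 1 := by exact_mod_cast hd'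
          have : n = d := by omega
          subst this
          rfl
    set π := Ideal.Quotient.mk (Ideal.span ({x 0} : Set R)) with hπ
    have hπs : Function.Surjective π := Ideal.Quotient.mk_surjective
    have hmem' : ∀ r : R, r ∈ maximalIdeal R ↔
        π r ∈ maximalIdeal (R ⧸ Ideal.span ({x 0} : Set R)) := by
      intro r
      have : IsLocalHom π := hπs.isLocalHom π
      rw [mem_maximalIdeal, mem_maximalIdeal, map_mem_nonunits_iff]
    -- generators of the maximal ideal of the quotient
    have hspan' : Ideal.span (Set.range (fun i : Fin d => π (x i.succ))) =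
        maximalIdeal (R ⧸ Ideal.span ({x 0} : Set R)) := by
      apply le_antisymm
      · rw [Ideal.span_le]
        rintro _ ⟨i, rfl⟩
        exact (hmem' _).mp (hmem i.succ)
      · intro y hy
        obtain ⟨r, rfl⟩ := hπs y
        have hr : r ∈ maximalIdeal R := (hmem' r).mpr hy
        rw [← hx] at hr
        have h1 : π r ∈ Ideal.map π (Ideal.span (Set.range x)) := Ideal.mem_map_of_mem π hr
        rw [Ideal.map_span] at h1
        refine (Ideal.span_le.mpr ?_) h1
        rintro _ ⟨_, ⟨i, rfl⟩, rfl⟩
        refine Fin.cases ?_ (fun j => ?_) i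
        · have : π (x 0) = 0 :=
            Ideal.Quotient.eq_zero_iff_mem.mpr (Ideal.mem_span_singleton_self _)
          rw [this]; exact zero_mem _
        · exact Ideal.subset_span ⟨j, rfl⟩
    have hIH := ih (R ⧸ Ideal.span ({x 0} : Set R)) hdq (fun i : Fin d => π (x i.succ)) hspan'
    -- assemble
    rw [List.ofFn_succ]
    refine IsRegular.of_isWeaklyRegular_of_mem_maximalIdeal R ?_ ?_
    · intro r hr
      rw [List.mem_cons, List.mem_ofFn] at hr
      rcases hr with rfl | ⟨i, rfl⟩
      · exact hmem 0
      · exact hmem i.succ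
    · rw [isWeaklyRegular_cons_iff']
      refine ⟨IsSMulRegular.of_ne_zero hx0, ?_⟩
      rw [(quotSMulTopEquivQuotSpan R (x 0)).isWeaklyRegular_congr]
      have : (List.ofFn fun i : Fin d => x i.succ).map
          (Ideal.Quotient.mk (Ideal.span ({x 0} : Set R))) =
          List.ofFn (fun i : Fin d => π (x i.succ)) := by
        rw [List.map_ofFn]; rfl
      rw [this]
      exact hIH.toIsWeaklyRegular

/-- In a regular local ring of dimension `d`, any `d` generators of the maximal ideal form a
regular sequence. -/
theorem isRegular_of_span_range_eq_maximalIdeal (R : Type u) [CommRing R]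
    [IsRegularLocalRing R] (d : ℕ) (hd : ringKrullDim R = d) (x : Fin d → R)
    (hx : Ideal.span (Set.range x) = maximalIdeal R) :
    IsRegular R (List.ofFn x) :=
  isRegular_of_span_range_eq_maximalIdeal_aux d R hd x hx

end RegularSequence

end Groth.Agent.Lib.Helper76
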