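import Mathlib
import Groth.Prelude.Def_CInt

/-!
# KILL of helper33's open call for S3843 (helper76)
-/

set_option autoImplicit false
universe u
open TensorProduct AlgebraicGeometry CategoryTheory TopologicalSpace

namespace Groth.Agent.Lib.Helper76.SDKILL

variable {A : Type u} [CommRing A]

/-- `C = A_g / J A_g`. -/
abbrev Cq (g : A) (J : Ideal A) : Type u :=
  Localization.Away g ⧸ J.map (algebraMap A (Localization.Away g))

lemma isUnit_g (g : A) (J : Ideal A) : IsUnit (algebraMap A (Cq g J) g) := by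
  rw [IsScalarTower.algebraMap_apply A (Localization.Away g) (Cq g J)]
  exact (IsLocalization.Away.algebraMap_isUnit g).map _

lemma eq_zero_of_pow_smul (g : A) (J : Ideal A) (N : Type u) [AddCommGroup N] [Module A N]
    (z : Cq g J ⊗[A] N) (j : ℕ) (h : g ^ j • z = 0) : z = 0 := by
  have hu : IsUnit (algebraMap A (Cq g J) (g ^ j)) := by
    rw [map_pow]; exact (isUnit_g g J).pow j
  rw [← algebraMap_smul (Cq g J) (g ^ j) z] at h
  obtain ⟨u, hu⟩ := hu
  rw [← hu] at h
  have := congrArg (fun w => (↑u⁻¹ : Cq g J) • w) h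
  simpa [smul_smul] using this

lemma noTors (g : A) (J : Ideal A) (P : Type u) [AddCommGroup P] [Module A P]
    (hK1 : (∀ p : P, (1 : Cq g J) ⊗ₜ[A] p = 0 → ∃ m : ℕ, g ^ m • p = 0) ∧
      (∀ z : Cq g J ⊗[A] P, ∃ (k : ℕ) (p : P), g ^ k • z = 1 ⊗ₜ[A] p))
    (I : Set A) (hP : ∀ x : P, (∀ a ∈ I, ∃ n : ℕ, (g * a) ^ n • x = 0) → ∃ m : ℕ, g ^ m • x = 0)
    (z : Cq g J ⊗[A] P) (hz : ∀ a ∈ I, ∃ n : ℕ, a ^ n • z = 0) : z = 0 := by
  obtain ⟨k, p, hkp⟩ := hK1.2 z
  have h1 : ∀ a ∈ I, ∃ n : ℕ, (g * a) ^ n • p = 0 := by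
    intro a ha
    obtain ⟨n, hn⟩ := hz a ha
    have h2 : (1 : Cq g J) ⊗ₜ[A] (a ^ n • p) = 0 := by
      rw [TensorProduct.tmul_smul, ← hkp, smul_comm, hn, smul_zero]
    obtain ⟨m, hm⟩ := hK1.1 _ h2
    refine ⟨m + n, ?_⟩
    have : (g * a) ^ (m + n) • p = (g ^ n * a ^ m) • (g ^ m • a ^ n • p) := by
      rw [smul_smul, smul_smul]; congr 1; ring
    rw [this, hm, smul_zero]
  obtain ⟨m, hm⟩ := hP p h1
  apply eq_zero_of_pow_smul g J P z (m + k)
  rw [pow_add, mul_smul, hkp, ← TensorProduct.tmul_smul, hm, TensorProduct.tmul_zero]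

theorem KILL_aux (M : Type u) [AddCommGroup M] [Module A M] (g : A) (J : Ideal A)
    (hfree : Module.Free (Cq g J) (Cq g J ⊗[A] M))
    (P : Type u) [AddCommGroup P] [Module A P]
    (hK1P : (∀ p : P, (1 : Cq g J) ⊗ₜ[A] p = 0 → ∃ m : ℕ, g ^ m • p = 0) ∧
      (∀ z : Cq g J ⊗[A] P, ∃ (k : ℕ) (p : P), g ^ k • z = 1 ⊗ₜ[A] p))
    (hK1PM : ∀ w : P ⊗[A] M, (1 : Cq g J) ⊗ₜ[A] w = 0 → ∃ m : ℕ, g ^ m • w = 0)
    (I : Set A)
    (hP : ∀ x : P, (∀ a ∈ I, ∃ n : ℕ, (g * a) ^ n • x = 0) → ∃ m : ℕ, g ^ m • x = 0)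
    (t : P ⊗[A] M) (ht : ∀ a ∈ I, ∃ n : ℕ, a ^ n • t = 0) : ∃ m : ℕ, g ^ m • t = 0 := by
  apply hK1PM
  let ι := Module.Free.ChooseBasisIndex (Cq g J) (Cq g J ⊗[A] M)
  let b : Module.Basis ι (Cq g J) (Cq g J ⊗[A] M) :=
    Module.Free.chooseBasis (Cq g J) (Cq g J ⊗[A] M)
  let Φ : Cq g J ⊗[A] (P ⊗[A] M) ≃ₗ[A] (ι →₀ P ⊗[A] Cq g J) :=
    (TensorProduct.leftComm A (Cq g J) P M) ≪≫ₗ
    (TensorProduct.congr (LinearEquiv.refl A P) (b.repr.restrictScalars A)) ≪≫ₗ
    (TensorProduct.finsuppRight A A P (Cq g J) ι)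
  apply Φ.injective
  rw [map_zero]
  ext i
  have hi : ∀ a ∈ I, ∃ n : ℕ,
      a ^ n • (TensorProduct.comm A P (Cq g J) (Φ ((1 : Cq g J) ⊗ₜ[A] t) i)) = 0 := by
    intro a ha
    obtain ⟨n, hn⟩ := ht a ha
    refine ⟨n, ?_⟩
    rw [← map_smul, ← Finsupp.smul_apply, ← map_smul, ← TensorProduct.tmul_smul, hn,
      TensorProduct.tmul_zero, map_zero, Finsupp.zero_apply, map_zero]
  have h0 := noTors g J P hK1P I hP _ hi
  rw [Finsupp.zero_apply]
  exact (TensorProduct.comm A P (Cq g J)).injective (by rw [h0, map_zero])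

/-- local copy of K1 (for `J`-torsion `N`, `N → C ⊗ N` is the localization at `g`). -/
theorem K1' (g : A) (J : Ideal A) (N : Type u) [AddCommGroup N] [Module A N]
    (hJN : ∀ a ∈ J, ∀ p : N, a • p = 0) :
    (∀ p : N, (1 : Cq g J) ⊗ₜ[A] p = 0 → ∃ m : ℕ, g ^ m • p = 0) ∧
    (∀ z : Cq g J ⊗[A] N, ∃ (k : ℕ) (p : N), g ^ k • z = 1 ⊗ₜ[A] p) := by
  constructor
  · intro p hp
    let J' : Ideal (Localization.Away g) := J.map (algebraMap A (Localization.Away g))
    let f : J' →ₗ[A] Localization.Away g := (Submodule.subtype J').restrictScalars A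
    let q : Localization.Away g →ₗ[A] Cq g J := (Ideal.Quotient.mkₐ A J').toLinearMap
    have hex : Function.Exact f q := by
      intro y
      constructor
      · intro hy
        exact ⟨⟨y, Ideal.Quotient.eq_zero_iff_mem.1 hy⟩, rfl⟩
      · rintro ⟨x, rfl⟩
        exact Ideal.Quotient.eq_zero_iff_mem.2 x.2
    have hq : Function.Surjective q := Ideal.Quotient.mk_surjective
    have hex2 := rTensor_exact N hex hq
    have h1 : LinearMap.rTensor N q ((1 : Localization.Away g) ⊗ₜ[A] p) = 0 := by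
      rw [LinearMap.rTensor_tmul]
      exact hp
    obtain ⟨w, hw⟩ := (hex2 _).1 h1
    have hzero : ∀ w : J' ⊗[A] N, LinearMap.rTensor N f w = 0 := by
      intro w
      induction w using TensorProduct.induction_on with
      | zero => simp
      | add x y hx hy => rw [map_add, hx, hy, add_zero]
      | tmul x n =>
        rw [LinearMap.rTensor_tmul]
        obtain ⟨x, hx⟩ := x
        change (x : Localization.Away g) ⊗ₜ[A] n = 0
        induction hx using Submodule.span_induction generalizing n with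
        | mem y hy =>
          obtain ⟨a, ha, rfl⟩ := hy
          rw [Algebra.algebraMap_eq_smul_one, TensorProduct.smul_tmul, hJN a ha, tmul_zero]
        | zero => rw [zero_tmul]
        | add y z _ _ hy hz => rw [add_tmul, hy, hz, add_zero]
        | smul c y _ hy =>
          have : (c • y) ⊗ₜ[A] n = c • (y ⊗ₜ[A] n) := by
            rw [TensorProduct.smul_tmul']
          rw [this, hy, smul_zero]
    rw [hzero] at hw
    have hloc : IsLocalizedModule (Submonoid.powers g)
        (TensorProduct.mk A (Localization.Away g) N 1) :=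
      (isLocalizedModule_iff_isBaseChange (Submonoid.powers g) (Localization.Away g) _).2
        (TensorProduct.isBaseChange A N (Localization.Away g))
    have h2 : TensorProduct.mk A (Localization.Away g) N 1 p = 0 := hw.symm
    obtain ⟨⟨c, m, rfl⟩, hc⟩ :=
      (IsLocalizedModule.eq_zero_iff (Submonoid.powers g)
        (TensorProduct.mk A (Localization.Away g) N 1)).1 h2
    exact ⟨m, hc⟩
  · intro z
    induction z using TensorProduct.induction_on with
    | zero => exact ⟨0, 0, by simp⟩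
    | tmul c n =>
      obtain ⟨c, rfl⟩ := Ideal.Quotient.mk_surjective c
      obtain ⟨a, s, rfl⟩ := IsLocalization.exists_mk'_eq (Submonoid.powers g) c
      obtain ⟨k, hk⟩ := s.2
      refine ⟨k, a • n, ?_⟩
      rw [TensorProduct.smul_tmul', TensorProduct.tmul_smul, TensorProduct.smul_tmul']
      congr 1
      have hk' : g ^ k = (s : A) := hk
      have e1 : g ^ k • (Ideal.Quotient.mk (J.map (algebraMap A (Localization.Away g)))
          (IsLocalization.mk' (Localization.Away g) a s)) =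
          Ideal.Quotient.mk (J.map (algebraMap A (Localization.Away g)))
            (g ^ k • IsLocalization.mk' (Localization.Away g) a s) := rfl
      have e2 : a • (1 : Cq g J) = Ideal.Quotient.mk (J.map (algebraMap A (Localization.Away g)))
          (a • (1 : Localization.Away g)) := rfl
      rw [e1, e2]
      congr 1
      rw [Algebra.smul_def, Algebra.smul_def, mul_one, hk']
      exact IsLocalization.mk'_spec' _ a s
    | add x y hx hy =>
      obtain ⟨k, p, hkp⟩ := hx
      obtain ⟨k', p', hkp'⟩ := hy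
      refine ⟨k + k', g ^ k' • p + g ^ k • p', ?_⟩
      rw [smul_add, tmul_add, TensorProduct.tmul_smul, TensorProduct.tmul_smul, ← hkp, ← hkp',
        smul_smul, smul_smul, pow_add, mul_comm (g ^ k) (g ^ k')]

/-- **KILL**. -/
theorem KILL (M : Type u) [AddCommGroup M] [Module A M] (g : A) (J : Ideal A)
    (hfree : Module.Free (Localization.Away g ⧸ J.map (algebraMap A (Localization.Away g)))
      ((Localization.Away g ⧸ J.map (algebraMap A (Localization.Away g))) ⊗[A] M))
    (P : Type u) [AddCommGroup P] [Module A P] (hJP : ∀ a ∈ J, ∀ p : P, a • p = 0) (I : Set A)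
    (hP : ∀ x : P, (∀ a ∈ I, ∃ n : ℕ, (g * a) ^ n • x = 0) → ∃ m : ℕ, g ^ m • x = 0)
    (t : P ⊗[A] M) (ht : ∀ a ∈ I, ∃ n : ℕ, a ^ n • t = 0) : ∃ m : ℕ, g ^ m • t = 0 := by
  have hJPM : ∀ a ∈ J, ∀ w : P ⊗[A] M, a • w = 0 := by
    intro a ha w
    induction w using TensorProduct.induction_on with
    | zero => simp
    | tmul p m => rw [TensorProduct.smul_tmul', hJP a ha, zero_tmul]
    | add x y hx hy => rw [smul_add, hx, hy, add_zero]
  exact KILL_aux M g J hfree P (K1' g J P hJP) (K1' g J (P ⊗[A] M) hJPM).1 I hP t ht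

end Groth.Agent.Lib.Helper76.SDKILL
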