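import Mathlib
import Groth.Agent.Lib.Helper76.SDKILL

/-!
# KILLF of helper33's open call for S4875 (helper76)

Family version of `Groth.Agent.Lib.Helper76.SDKILL.KILL`: the torsion condition is replaced by a
jointly "`g`-locally injective" family of maps `φ i : P → Pl i`.
-/

set_option autoImplicit false
universe u
open TensorProduct

namespace Groth.Agent.Lib.Helper76.SDKILLF

open Groth.Agent.Lib.Helper76.SDKILL

variable {A : Type u} [CommRing A]

/-- the coordinate isomorphism attached to a basis `b` of `C ⊗ M` over `C = A_g / J A_g`. -/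
noncomputable def Φ (g : A) (J : Ideal A) (M : Type u) [AddCommGroup M] [Module A M] {ι : Type u} [DecidableEq ι]
    (b : Module.Basis ι (Cq g J) (Cq g J ⊗[A] M)) (P : Type u) [AddCommGroup P] [Module A P] :
    Cq g J ⊗[A] (P ⊗[A] M) ≃ₗ[A] (ι →₀ P ⊗[A] Cq g J) :=
  (TensorProduct.leftComm A (Cq g J) P M) ≪≫ₗ
    (TensorProduct.congr (LinearEquiv.refl A P) (b.repr.restrictScalars A)) ≪≫ₗ
    (TensorProduct.finsuppRight A A P (Cq g J) ι)

lemma Φ_tmul (g : A) (J : Ideal A) (M : Type u) [AddCommGroup M] [Module A M] {ι : Type u} [DecidableEq ι]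
    (b : Module.Basis ι (Cq g J) (Cq g J ⊗[A] M)) (P : Type u) [AddCommGroup P] [Module A P]
    (c : Cq g J) (p : P) (m : M) (j : ι) :
    Φ g J M b P (c ⊗ₜ[A] (p ⊗ₜ[A] m)) j = p ⊗ₜ[A] (b.repr (c ⊗ₜ[A] m) j) := by
  simp only [Φ, LinearEquiv.trans_apply, TensorProduct.leftComm_tmul, TensorProduct.congr_tmul,
    LinearEquiv.refl_apply, LinearEquiv.restrictScalars_apply,
    TensorProduct.finsuppRight_apply_tmul_apply]

lemma Φ_natural (g : A) (J : Ideal A) (M : Type u) [AddCommGroup M] [Module A M] {ι : Type u} [DecidableEq ι]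
    (b : Module.Basis ι (Cq g J) (Cq g J ⊗[A] M)) {P P' : Type u} [AddCommGroup P] [Module A P]
    [AddCommGroup P'] [Module A P'] (ψ : P →ₗ[A] P') (z : Cq g J ⊗[A] (P ⊗[A] M)) (j : ι) :
    Φ g J M b P' ((ψ.rTensor M).lTensor (Cq g J) z) j = ψ.rTensor (Cq g J) (Φ g J M b P z j) := by
  induction z using TensorProduct.induction_on with
  | zero => simp
  | add x y hx hy => simp only [map_add, Finsupp.add_apply, hx, hy]
  | tmul c w =>
    induction w using TensorProduct.induction_on with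
    | zero => simp
    | add x y hx hy => simp only [tmul_add, map_add, Finsupp.add_apply, hx, hy]
    | tmul p m =>
      rw [LinearMap.lTensor_tmul, LinearMap.rTensor_tmul, Φ_tmul, Φ_tmul, LinearMap.rTensor_tmul]

lemma jointInj (g : A) (J : Ideal A) (P : Type u) [AddCommGroup P] [Module A P]
    (hJP : ∀ a ∈ J, ∀ p : P, a • p = 0) {Λ : Type u} (Pl : Λ → Type u)
    [∀ i, AddCommGroup (Pl i)] [∀ i, Module A (Pl i)]
    (hJPl : ∀ i, ∀ a ∈ J, ∀ p : Pl i, a • p = 0) (φ : ∀ i, P →ₗ[A] Pl i)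
    (hSL : ∀ x : P, (∀ i, ∃ m : ℕ, g ^ m • φ i x = 0) → ∃ m : ℕ, g ^ m • x = 0)
    (z : Cq g J ⊗[A] P) (hz : ∀ i, (φ i).lTensor (Cq g J) z = 0) : z = 0 := by
  obtain ⟨k, p, hkp⟩ := (K1' g J P hJP).2 z
  have h1 : ∀ i, ∃ m : ℕ, g ^ m • φ i p = 0 := by
    intro i
    apply (K1' g J (Pl i) (hJPl i)).1
    have := congrArg ((φ i).lTensor (Cq g J)) hkp
    rw [map_smul, hz i, smul_zero, LinearMap.lTensor_tmul] at this
    exact this.symm
  obtain ⟨m, hm⟩ := hSL p h1
  apply eq_zero_of_pow_smul g J P z (m + k)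
  rw [pow_add, mul_smul, hkp, ← TensorProduct.tmul_smul, hm, TensorProduct.tmul_zero]

/-- **KILLF**. -/
theorem KILLF {A : Type u} [CommRing A] (M : Type u) [AddCommGroup M] [Module A M] (g : A)
    (J : Ideal A)
    (hfree : Module.Free (Localization.Away g ⧸ J.map (algebraMap A (Localization.Away g)))
      ((Localization.Away g ⧸ J.map (algebraMap A (Localization.Away g))) ⊗[A] M))
    (P : Type u) [AddCommGroup P] [Module A P] (hJP : ∀ a ∈ J, ∀ p : P, a • p = 0)
    {Λ : Type u} (Pl : Λ → Type u) [∀ i, AddCommGroup (Pl i)] [∀ i, Module A (Pl i)]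
    (hJPl : ∀ i, ∀ a ∈ J, ∀ p : Pl i, a • p = 0) (φ : ∀ i, P →ₗ[A] Pl i)
    (hSL : ∀ x : P, (∀ i, ∃ m : ℕ, g ^ m • φ i x = 0) → ∃ m : ℕ, g ^ m • x = 0)
    (t : P ⊗[A] M) (ht : ∀ i, (φ i).rTensor M t = 0) : ∃ m : ℕ, g ^ m • t = 0 := by
  have hJPM : ∀ a ∈ J, ∀ w : P ⊗[A] M, a • w = 0 := by
    intro a ha w
    induction w using TensorProduct.induction_on with
    | zero => simp
    | tmul p m => rw [TensorProduct.smul_tmul', hJP a ha, zero_tmul]
    | add x y hx hy => rw [smul_add, hx, hy, add_zero]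
  classical
  apply (K1' g J (P ⊗[A] M) hJPM).1
  let ι := Module.Free.ChooseBasisIndex (Cq g J) (Cq g J ⊗[A] M)
  let b : Module.Basis ι (Cq g J) (Cq g J ⊗[A] M) :=
    Module.Free.chooseBasis (Cq g J) (Cq g J ⊗[A] M)
  apply (Φ g J M b P).injective
  rw [map_zero]
  ext j
  rw [Finsupp.zero_apply]
  have h1 : ∀ i, (φ i).rTensor (Cq g J) (Φ g J M b P ((1 : Cq g J) ⊗ₜ[A] t) j) = 0 := by
    intro i
    rw [← Φ_natural, LinearMap.lTensor_tmul, ht i, tmul_zero, map_zero, Finsupp.zero_apply]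
  have hz : TensorProduct.comm A P (Cq g J) (Φ g J M b P ((1 : Cq g J) ⊗ₜ[A] t) j) = 0 := by
    apply jointInj g J P hJP Pl hJPl φ hSL
    intro i
    rw [LinearMap.lTensor_comm, h1 i, map_zero]
  exact (TensorProduct.comm A P (Cq g J)).injective (by rw [hz, map_zero])

end Groth.Agent.Lib.Helper76.SDKILLF
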