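import Groth.Agent.Lib.Helper76.RegularLocal
import Groth.Agent.S5805
import Mathlib.RingTheory.Regular.ProjectiveDimension

set_option autoImplicit false

namespace Groth.Agent.Lib.Helper76

open IsLocalRing RingTheory.Sequence CategoryTheory
open scoped Pointwise

universe u

section GlobalDimension

/-- The maximal ideal of a regular local ring of dimension `d` has `d` generators. -/
theorem exists_fin_span_range_eq_maximalIdeal (R : Type u) [CommRing R] [IsRegularLocalRing R]
    (d : ℕ) (hd : ringKrullDim R = d) :
    ∃ x : Fin d → R, Ideal.span (Set.range x) = maximalIdeal R := by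
  classical
  have hfg : (maximalIdeal R).FG := IsNoetherian.noetherian _
  obtain ⟨S, hcard, hspan⟩ := Submodule.FG.exists_span_finset_card_eq_spanFinrank hfg
  have h2 : ((maximalIdeal R).spanFinrank : WithBot ℕ∞) = ringKrullDim R :=
    IsRegularLocalRing.spanFinrank_maximalIdeal
  rw [hd] at h2
  have h3 : S.card = d := by rw [hcard]; exact_mod_cast h2
  refine ⟨fun i => ((S.equivFinOfCardEq h3).symm i : R), ?_⟩
  rw [← hspan]
  congr 1
  ext r
  simp only [Set.mem_range, Finset.mem_coe]
  constructor
  · rintro ⟨i, rfl⟩
    exact ((S.equivFinOfCardEq h3).symm i).2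
  · intro hr
    exact ⟨S.equivFinOfCardEq h3 ⟨r, hr⟩, by simp⟩

/-- The residue field of a regular local ring of dimension `d` has projective dimension `d`. -/
theorem projectiveDimension_residueField (R : Type u) [CommRing R] [IsRegularLocalRing R]
    (d : ℕ) (hd : ringKrullDim R = d) :
    projectiveDimension (ModuleCat.of R (R ⧸ maximalIdeal R)) = d := by
  obtain ⟨x, hx⟩ := exists_fin_span_range_eq_maximalIdeal R d hd
  have hreg := isRegular_of_span_range_eq_maximalIdeal R d hd x hx
  have hof : Ideal.ofList (List.ofFn x) = maximalIdeal R := by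
    rw [← hx]
    unfold Ideal.ofList
    congr 1
    ext r
    simp [List.mem_ofFn]
  have h := ModuleCat.projectiveDimension_quotient_eq_length.{u, u} (List.ofFn x) hreg
  rw [List.length_ofFn] at h
  rw [← h]
  refine ModuleCat.projectiveDimension_eq_of_linearEquiv ?_
  exact (Submodule.quotEquivOfEq _ _ hof.symm).trans (Shrink.linearEquiv R _).symm

/-- Over a regular local ring of dimension `d`, every module has projective dimension `≤ d`. -/
theorem hasProjectiveDimensionLT_of_isRegularLocalRing (R : Type u) [CommRing R]
    [IsRegularLocalRing R] (d : ℕ) (hd : ringKrullDim R = d) (M : Type u) [AddCommGroup M]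
    [Module R M] : HasProjectiveDimensionLT (ModuleCat.of R M) (d + 1) := by
  apply Groth.Agent.S5805.result R d
  change HasProjectiveDimensionLT (ModuleCat.of R (R ⧸ maximalIdeal R)) (d + 1)
  rw [← projectiveDimension_lt_iff, projectiveDimension_residueField R d hd]
  exact_mod_cast Nat.lt_succ_self d

end GlobalDimension

end Groth.Agent.Lib.Helper76
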