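import Mathlib

/-!
# [LIM] of helper19's open call for S6843 (helper76)

A solution of a finite polynomial system in the local ring `C_q` spreads out to a solution in
`C[1/(h₀ h)]` for some `h ∉ q`.
-/

set_option autoImplicit false
universe u

namespace Groth.Agent.Lib.Helper76.SpreadLIM

/-- the canonical `C`-algebra map `C[1/x] → P` when `x` becomes a unit in `P`. -/
noncomputable def awayLift {C : Type u} [CommRing C] (x : C) {P : Type u} [CommRing P]
    [Algebra C P] (hx : IsUnit (algebraMap C P x)) : Localization.Away x →ₐ[C] P :=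
  IsLocalization.liftAlgHom (M := Submonoid.powers x) (f := Algebra.ofId C P) (by
    rintro ⟨_, k, rfl⟩
    simpa using hx.pow k)

theorem isUnit_away_of_dvd {C : Type u} [CommRing C] {t y : C} (h : t ∣ y) :
    IsUnit (algebraMap C (Localization.Away y) t) :=
  isUnit_of_dvd_unit (map_dvd (algebraMap C (Localization.Away y)) h)
    (IsLocalization.Away.algebraMap_isUnit y)

theorem exists_away_solution {C : Type u} [CommRing C] (q : Ideal C) [q.IsPrime] (W : Type u)
    [CommRing W] [Algebra C W] [IsLocalization.AtPrime W q] (h₀ : C) (hh₀ : h₀ ∉ q) {n m : ℕ}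
    (F : Fin m → MvPolynomial (Fin n) C) (w : Fin n → W)
    (hw : ∀ j, MvPolynomial.aeval w (F j) = 0) :
    ∃ h : C, h ∉ q ∧ ∃ b : Fin n → Localization.Away (h₀ * h),
      (∀ j, MvPolynomial.aeval b (F j) = 0) ∧
      ∀ θ : Localization.Away (h₀ * h) →ₐ[C] W, ∀ i, θ (b i) = w i := by
  classical
  have hunitW : ∀ t : C, t ∉ q → IsUnit (algebraMap C W t) := fun t ht =>
    IsLocalization.map_units W (⟨t, ht⟩ : q.primeCompl)
  -- write `w i = c i / t i`
  have hw' : ∀ i, ∃ (c t : C), t ∉ q ∧ w i * algebraMap C W t = algebraMap C W c := by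
    intro i
    obtain ⟨⟨c, t⟩, hct⟩ := IsLocalization.surj q.primeCompl (w i)
    exact ⟨c, t, t.2, hct⟩
  choose c t ht hct using hw'
  set h1 : C := ∏ i, t i with hh1
  have hh1q : h1 ∉ q := by
    intro hmem
    obtain ⟨i, -, hi⟩ := (Ideal.IsPrime.prod_mem_iff).1 hmem
    exact ht i hi
  have hx1 : h₀ * h1 ∉ q := fun hmem =>
    ((Ideal.IsPrime.mem_or_mem inferInstance hmem).elim hh₀ hh1q)
  set A1 := Localization.Away (h₀ * h1) with hA1
  have htu : ∀ i, IsUnit (algebraMap C A1 (t i)) := fun i =>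
    isUnit_away_of_dvd ((Finset.dvd_prod_of_mem t (Finset.mem_univ i)).mul_left h₀)
  let b1 : Fin n → A1 := fun i => algebraMap C A1 (c i) * ((htu i).unit⁻¹ : A1ˣ)
  have hb1 : ∀ i, b1 i * algebraMap C A1 (t i) = algebraMap C A1 (c i) := by
    intro i
    simp only [b1]
    rw [mul_assoc, IsUnit.val_inv_mul, mul_one]
  let θ1 : A1 →ₐ[C] W := awayLift (h₀ * h1) (hunitW _ hx1)
  have hθ1 : ∀ i, θ1 (b1 i) = w i := by
    intro i
    have e1 := congrArg θ1 (hb1 i)
    rw [map_mul, AlgHom.commutes, AlgHom.commutes] at e1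
    exact (hunitW (t i) (ht i)).mul_right_cancel (e1.trans (hct i).symm)
  -- the values of the system at `b1` die in `W`
  have hz : ∀ j, θ1 (MvPolynomial.aeval b1 (F j)) = 0 := by
    intro j
    rw [MvPolynomial.comp_aeval_apply]
    simp only [hθ1]
    exact hw j
  have hz2 : ∀ j, ∃ (d u : C) (k : ℕ), u ∉ q ∧ u * d = 0 ∧
      MvPolynomial.aeval b1 (F j) * algebraMap C A1 ((h₀ * h1) ^ k) = algebraMap C A1 d := by
    intro j
    obtain ⟨⟨d, s⟩, hds⟩ := IsLocalization.surj (Submonoid.powers (h₀ * h1))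
      (MvPolynomial.aeval b1 (F j) : A1)
    obtain ⟨k, hk⟩ := s.2
    have e1 := congrArg θ1 hds
    rw [map_mul, hz j, zero_mul, AlgHom.commutes] at e1
    obtain ⟨u, hu⟩ := (IsLocalization.map_eq_zero_iff q.primeCompl W d).1 e1.symm
    refine ⟨d, u, k, u.2, hu, ?_⟩
    have hk' : (h₀ * h1) ^ k = (s : C) := hk
    rw [hk']
    exact hds
  choose d u k hu hud hdk using hz2
  set h : C := h1 * ∏ j, u j with hh
  have hhq : h ∉ q := by
    intro hmem
    rcases Ideal.IsPrime.mem_or_mem inferInstance hmem with h' | h'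
    · exact hh1q h'
    · obtain ⟨j, -, hj⟩ := (Ideal.IsPrime.prod_mem_iff).1 h'
      exact hu j hj
  refine ⟨h, hhq, ?_⟩
  set A := Localization.Away (h₀ * h) with hA
  have hdvd1 : h₀ * h1 ∣ h₀ * h := mul_dvd_mul_left h₀ (Dvd.intro _ rfl)
  let g : A1 →ₐ[C] A := awayLift (h₀ * h1) (isUnit_away_of_dvd hdvd1)
  refine ⟨fun i => g (b1 i), ?_, ?_⟩
  · intro j
    rw [← MvPolynomial.comp_aeval_apply]
    have e1 := congrArg g (hdk j)
    rw [map_mul, AlgHom.commutes, AlgHom.commutes] at e1
    have huu : IsUnit (algebraMap C A (u j)) :=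
      isUnit_away_of_dvd (((Finset.dvd_prod_of_mem u (Finset.mem_univ j)).mul_left h1).mul_left h₀)
    have hd0 : algebraMap C A (d j) = 0 := by
      have : algebraMap C A (u j) * algebraMap C A (d j) = 0 := by
        rw [← map_mul, hud j, map_zero]
      exact (huu.mul_right_eq_zero).1 this
    have hsu : IsUnit (algebraMap C A ((h₀ * h1) ^ k j)) := by
      rw [map_pow]
      exact (isUnit_away_of_dvd hdvd1).pow _
    rw [hd0] at e1
    exact (hsu.mul_left_eq_zero).1 e1
  · intro θ i
    have : θ.comp g = θ1 :=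
      (IsLocalization.algHom_subsingleton (Submonoid.powers (h₀ * h1))).elim _ _
    rw [← hθ1 i, ← this]
    rfl

end Groth.Agent.Lib.Helper76.SpreadLIM
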