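import Mathlib

set_option autoImplicit false
universe u v

namespace Groth.Agent.Lib.Helper76

open MvPowerSeries in
/-- evaluation of power series at a finite family of elements generating an ideal of adic
completeness -/
theorem exists_mvPowerSeries_eval {Q R : Type*} [CommRing Q] [CommRing R] [Algebra Q R]
    {n : ℕ} (a : Fin n → R) [IsAdicComplete (Ideal.span (Set.range a)) R] :
    ∃ f : MvPowerSeries (Fin n) Q →+* R,
      ∀ p : MvPolynomial (Fin n) Q, f (p : MvPowerSeries (Fin n) Q) = MvPolynomial.aeval a p := by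
  classical
  set I : Ideal R := Ideal.span (Set.range a) with hI
  have hle : ∀ m : ℕ, (MvPolynomial.idealOfVars (Fin n) Q) ^ m ≤
      (I ^ m).comap (MvPolynomial.aeval a : MvPolynomial (Fin n) Q →ₐ[Q] R).toRingHom := by
    intro m
    rw [← Ideal.map_le_iff_le_comap, Ideal.map_pow]
    apply Ideal.pow_right_mono
    rw [MvPolynomial.idealOfVars, Ideal.map_span]
    apply Ideal.span_mono
    rintro _ ⟨_, ⟨i, rfl⟩, rfl⟩
    exact ⟨i, by simp⟩
  let g : ∀ m : ℕ, MvPolynomial (Fin n) Q ⧸ (MvPolynomial.idealOfVars (Fin n) Q) ^ m →+* R ⧸ I ^ m :=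
    fun m => Ideal.quotientMap (I ^ m) (MvPolynomial.aeval a : MvPolynomial (Fin n) Q →ₐ[Q] R).toRingHom (hle m)
  let f : ∀ m : ℕ, MvPowerSeries (Fin n) Q →+* R ⧸ I ^ m :=
    fun m => (g m).comp (truncTotalAlgHom (Fin n) Q m).toRingHom
  have hfp : ∀ (m : ℕ) (p : MvPowerSeries (Fin n) Q),
      f m p = Ideal.Quotient.mk (I ^ m) (MvPolynomial.aeval a (truncTotal m p)) := by
    intro m p
    rfl
  have hf : ∀ {m m' : ℕ} (hle : m ≤ m'), (Ideal.Quotient.factorPow I hle).comp (f m') = f m := by
    intro m m' hmm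
    ext p
    rw [RingHom.comp_apply, hfp, hfp, Ideal.Quotient.factor_mk, Ideal.Quotient.mk_eq_mk_iff_sub_mem,
      ← map_sub]
    exact hle m (truncTotal_sub_truncTotal_mem_pow_idealOfVars hmm le_rfl p)
  refine ⟨IsAdicComplete.liftRingHom I f hf, ?_⟩
  intro p
  have hh : IsHausdorff I R := inferInstance
  rw [← sub_eq_zero]
  apply hh.haus'
  intro m
  rw [SModEq.zero, smul_eq_mul, Ideal.mul_top, ← Ideal.Quotient.eq_zero_iff_mem, map_sub,
    IsAdicComplete.mk_liftRingHom, hfp, ← map_sub, Ideal.Quotient.eq_zero_iff_mem, ← map_sub]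
  apply hle m
  have := (truncTotalAlgHom (Fin n) Q m).commutes p
  rw [Ideal.Quotient.algebraMap_eq] at this
  have h2 : (truncTotalAlgHom (Fin n) Q m) (p : MvPowerSeries (Fin n) Q) =
      Ideal.Quotient.mk _ (truncTotal m (p : MvPowerSeries (Fin n) Q)) := rfl
  rw [← Ideal.Quotient.mk_eq_mk_iff_sub_mem, ← h2]
  exact this

/-- **Noetherian criterion**: a ring which is adically complete for a finitely generated ideal `I`
and such that a Noetherian ring `Q` surjects onto `R ⧸ I` is Noetherian. -/
theorem isNoetherianRing_of_isAdicComplete {Q R : Type*} [CommRing Q] [IsNoetherianRing Q]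
    [CommRing R] [Algebra Q R] (I : Ideal R) (hfg : I.FG) [IsAdicComplete I R]
    (hsurj : Function.Surjective ((Ideal.Quotient.mk I).comp (algebraMap Q R))) :
    IsNoetherianRing R := by
  classical
  obtain ⟨s, hs⟩ := hfg
  obtain ⟨n, a, ha⟩ : ∃ (n : ℕ) (a : Fin n → R), Set.range a = (s : Set R) := by
    refine ⟨s.card, fun i => (s.equivFin.symm i : R), ?_⟩
    ext x
    constructor
    · rintro ⟨i, rfl⟩
      exact (s.equivFin.symm i).2
    · intro hx
      exact ⟨s.equivFin ⟨x, hx⟩, by simp⟩
  have hIa : Ideal.span (Set.range a) = I := by rw [ha, hs]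
  subst hIa
  obtain ⟨f, hf⟩ := exists_mvPowerSeries_eval (Q := Q) a
  have hmap : (Ideal.span (Set.range (MvPowerSeries.X : Fin n → MvPowerSeries (Fin n) Q))).map f =
      Ideal.span (Set.range a) := by
    rw [Ideal.map_span, ← Set.range_comp]
    congr 2
    ext i
    have := hf (MvPolynomial.X i)
    rw [MvPolynomial.coe_X, MvPolynomial.aeval_X] at this
    exact this
  have hsurjf : Function.Surjective f := by
    have : IsHausdorff ((Ideal.span (Set.range (MvPowerSeries.X : Fin n → MvPowerSeries (Fin n) Q))).map f) R := by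
      rw [hmap]; infer_instance
    apply surjective_of_mk_map_comp_surjective
      (I := Ideal.span (Set.range (MvPowerSeries.X : Fin n → MvPowerSeries (Fin n) Q))) f
    intro y
    obtain ⟨r, rfl⟩ := Ideal.Quotient.mk_surjective y
    obtain ⟨q, hq⟩ := hsurj (Ideal.Quotient.mk _ r)
    refine ⟨MvPowerSeries.C q, ?_⟩
    have := hf (MvPolynomial.C q)
    rw [MvPolynomial.coe_C, MvPolynomial.aeval_C] at this
    rw [RingHom.comp_apply, this, Ideal.Quotient.eq, hmap]
    rw [RingHom.comp_apply, Ideal.Quotient.eq] at hq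
    exact hq
  exact isNoetherianRing_of_surjective _ _ f hsurjf

end Groth.Agent.Lib.Helper76
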