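import Mathlib
import Groth.Prelude.Def_ArtFun5
import Groth.Agent.Lib.Helper76.SchlNoeth

set_option autoImplicit false
universe u v

namespace Groth.Agent.Lib.Helper76

open ArtFun

section Compl

variable {Λ k : Type u} [CommRing Λ] [Field k] [Algebra Λ k]
variable (P : Type u) [CommRing P] [Algebra Λ P] (resP : P →ₐ[Λ] k)

instance : IsScalarTower Λ P (AdicCompletion (RingHom.ker resP) P) := by
  refine IsScalarTower.of_algebraMap_eq (fun x => ?_)
  rfl

/-- the augmentation of the completion -/
noncomputable def complRes : AdicCompletion (RingHom.ker resP) P →ₐ[Λ] k :=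
  (Ideal.Quotient.liftₐ (RingHom.ker resP) resP (fun _ ha => ha)).comp
    ((AdicCompletion.evalOneₐ (RingHom.ker resP)).restrictScalars Λ)

theorem complRes_of (p : P) : complRes P resP (AdicCompletion.of _ P p) = resP p := rfl

variable [IsNoetherianRing P] (hres : Function.Surjective resP)

omit [IsNoetherianRing P] in
include hres in
theorem ker_isMaximal : (RingHom.ker resP).IsMaximal :=
  RingHom.ker_isMaximal_of_surjective (resP : P →+* k) hres

include hres in
theorem compl_map_isMaximal :
    ((RingHom.ker resP).map (algebraMap P (AdicCompletion (RingHom.ker resP) P))).IsMaximal := by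
  have := ker_isMaximal P resP hres
  exact AdicCompletion.isMaximal_map_of_le _ _ le_rfl (Ideal.fg_of_isNoetherianRing _)

theorem compl_isAdicComplete :
    IsAdicComplete ((RingHom.ker resP).map (algebraMap P (AdicCompletion (RingHom.ker resP) P)))
      (AdicCompletion (RingHom.ker resP) P) :=
  AdicCompletion.isAdicComplete_self _ (Ideal.fg_of_isNoetherianRing _)

include hres in
theorem compl_isLocalRing : IsLocalRing (AdicCompletion (RingHom.ker resP) P) := by
  have := compl_map_isMaximal P resP hres
  have := compl_isAdicComplete P resP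
  exact isLocalRing_of_isAdicComplete_maximal
    ((RingHom.ker resP).map (algebraMap P (AdicCompletion (RingHom.ker resP) P)))

theorem compl_isNoetherianRing : IsNoetherianRing (AdicCompletion (RingHom.ker resP) P) := by
  have := compl_isAdicComplete P resP
  refine isNoetherianRing_of_isAdicComplete (Q := P)
    ((RingHom.ker resP).map (algebraMap P (AdicCompletion (RingHom.ker resP) P)))
    ((Ideal.fg_of_isNoetherianRing _).map _) ?_
  intro y
  obtain ⟨x, rfl⟩ := Ideal.Quotient.mk_surjective y
  obtain ⟨p, hp⟩ := Ideal.Quotient.mk_surjective (AdicCompletion.evalOneₐ (RingHom.ker resP) x)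
  refine ⟨p, ?_⟩
  rw [RingHom.comp_apply, Ideal.Quotient.eq, ← AdicCompletion.ker_evalOneₐ_eq_map _ (Ideal.fg_of_isNoetherianRing _),
    RingHom.mem_ker, map_sub, sub_eq_zero]
  exact hp

theorem mem_map_pow_of_evalₐ_eq_zero {R : Type*} [CommRing R] (I : Ideal R) (fg : I.FG) {n : ℕ}
    {x : AdicCompletion I R} (h : AdicCompletion.evalₐ I n x = 0) :
    x ∈ (I.map (algebraMap R (AdicCompletion I R))) ^ n := by
  have h1 : x ∈ LinearMap.ker (AdicCompletion.eval I R n) := by
    rw [LinearMap.mem_ker, ← AdicCompletion.factor_evalₐ_eq_eval I x (by simp), h, map_zero]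
  rw [← AdicCompletion.pow_smul_top_eq_ker_eval fg, Ideal.smul_top_eq_map,
    Submodule.restrictScalars_mem, Ideal.map_pow] at h1
  exact h1

/-- the completion of an augmented Noetherian `Λ`-algebra as a coefficient ring -/
noncomputable def complCRing : CRing Λ k :=
  haveI := compl_isLocalRing P resP hres
  haveI := compl_isNoetherianRing P resP
  { carrier := AdicCompletion (RingHom.ker resP) P
    res := complRes P resP
    res_surjective := fun c => by
      obtain ⟨p, hp⟩ := hres c
      exact ⟨AdicCompletion.of _ P p, hp⟩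
    isAdicComplete := by
      have h := compl_isAdicComplete P resP
      have hmax := compl_map_isMaximal P resP hres
      rwa [IsLocalRing.eq_maximalIdeal hmax] at h }

theorem complCRing_maximalIdeal :
    IsLocalRing.maximalIdeal (complCRing P resP hres).carrier =
      (RingHom.ker resP).map (algebraMap P (AdicCompletion (RingHom.ker resP) P)) :=
  haveI := compl_isLocalRing P resP hres
  (IsLocalRing.eq_maximalIdeal (compl_map_isMaximal P resP hres)).symm

/-- the canonical map from `P` to its completion -/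
noncomputable def complOf : P →ₐ[Λ] (complCRing P resP hres).carrier :=
  (Algebra.ofId P (AdicCompletion (RingHom.ker resP) P)).restrictScalars Λ

theorem complRes_comp_complOf : (complCRing P resP hres).res.comp (complOf P resP hres) = resP :=
  AlgHom.ext fun _ => rfl

theorem ker_evalₐ_eq {R : Type*} [CommRing R] (I : Ideal R) (fg : I.FG) (n : ℕ) :
    RingHom.ker (AdicCompletion.evalₐ I n) = (I.map (algebraMap R (AdicCompletion I R))) ^ n := by
  apply le_antisymm
  · intro x hx
    exact mem_map_pow_of_evalₐ_eq_zero I fg hx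
  · rw [← Ideal.map_pow, Ideal.map_le_iff_le_comap]
    intro p hp
    rw [Ideal.mem_comap, RingHom.mem_ker]
    have : (algebraMap R (AdicCompletion I R)) p = AdicCompletion.of I R p := rfl
    rw [this, AdicCompletion.evalₐ_of, Ideal.Quotient.eq_zero_iff_mem]
    exact hp

/-- Two ring maps out of the completion which agree on `P` and kill the kernel of some
truncation are equal. -/
theorem compl_ringHom_ext {R : Type*} [CommRing R] (I : Ideal R) {T : Type*} [CommRing T]
    (ψ₁ ψ₂ : AdicCompletion I R →+* T) (n : ℕ)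
    (h : ∀ x, AdicCompletion.evalₐ I n x = 0 → ψ₁ x = 0 ∧ ψ₂ x = 0)
    (hof : ∀ p : R, ψ₁ (AdicCompletion.of I R p) = ψ₂ (AdicCompletion.of I R p)) :
    ψ₁ = ψ₂ := by
  ext x
  obtain ⟨p, hp⟩ := Ideal.Quotient.mk_surjective (AdicCompletion.evalₐ I n x)
  have hy : AdicCompletion.evalₐ I n (x - AdicCompletion.of I R p) = 0 := by
    rw [map_sub, AdicCompletion.evalₐ_of, hp, sub_self]
  obtain ⟨h1, h2⟩ := h _ hy
  rw [map_sub, sub_eq_zero] at h1 h2
  rw [h1, h2, hof]

end Compl

section Ext

open ArtFun.Art

variable {Λ k : Type u} [CommRing Λ] [Field k] [Algebra Λ k]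
variable {P : Type u} [CommRing P] [Algebra Λ P] {resP : P →ₐ[Λ] k}

/-- a map from an augmented algebra to an Artinian object kills a positive power of the
augmentation ideal -/
theorem exists_pow_le_ker (A : Art Λ k) (φ : HomSet P resP A) :
    ∃ n : ℕ, (RingHom.ker resP) ^ (n + 1) ≤ RingHom.ker (φ.1 : P →+* A) := by
  obtain ⟨N, hN⟩ := IsArtinianRing.isNilpotent_jacobson_bot (R := A)
  rw [IsLocalRing.jacobson_eq_maximalIdeal ⊥ bot_ne_top] at hN
  refine ⟨N, ?_⟩
  have h1 : (RingHom.ker resP).map (φ.1 : P →+* A) ≤ IsLocalRing.maximalIdeal A := by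
    rw [Ideal.map_le_iff_le_comap]
    intro p hp
    rw [Ideal.mem_comap, Art.mem_maximalIdeal_iff]
    have : A.res (φ.1 p) = resP p := DFunLike.congr_fun φ.2 p
    exact this.trans hp
  have h2 : ((RingHom.ker resP) ^ (N + 1)).map (φ.1 : P →+* A) ≤ ⊥ := by
    calc ((RingHom.ker resP) ^ (N + 1)).map (φ.1 : P →+* A)
        = ((RingHom.ker resP).map (φ.1 : P →+* A)) ^ (N + 1) := Ideal.map_pow _ _ _
      _ ≤ (IsLocalRing.maximalIdeal A) ^ (N + 1) := Ideal.pow_right_mono h1 _
      _ ≤ (IsLocalRing.maximalIdeal A) ^ N := Ideal.pow_le_pow_right (Nat.le_succ N)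
      _ = ⊥ := hN
  intro r hr
  rw [RingHom.mem_ker]
  exact h2 (Ideal.mem_map_of_mem _ hr)

variable [IsNoetherianRing P] (hres : Function.Surjective resP)

/-- maps out of the completion into Artinian objects are determined by their restriction to `P` -/
theorem compl_homSet_ext (A : Art Λ k)
    (ψ₁ ψ₂ : HomSet (complCRing P resP hres).carrier (complCRing P resP hres).res A)
    (h : ψ₁.1.comp (complOf P resP hres) = ψ₂.1.comp (complOf P resP hres)) : ψ₁ = ψ₂ := by
  obtain ⟨n₁, hn₁⟩ := exists_pow_le_ker A ψ₁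
  obtain ⟨n₂, hn₂⟩ := exists_pow_le_ker A ψ₂
  have hker : RingHom.ker (complCRing P resP hres).res =
      (RingHom.ker resP).map (algebraMap P (AdicCompletion (RingHom.ker resP) P)) := by
    rw [← complCRing_maximalIdeal P resP hres]
    ext x
    rw [RingHom.mem_ker, CRing.mem_maximalIdeal_iff]
  apply Subtype.ext
  apply AlgHom.coe_ringHom_injective
  refine compl_ringHom_ext (RingHom.ker resP) _ _ (max n₁ n₂ + 1) ?_ ?_
  · intro x hx
    have hx' : x ∈ RingHom.ker (AdicCompletion.evalₐ (RingHom.ker resP) (max n₁ n₂ + 1)) := hx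
    rw [ker_evalₐ_eq _ (Ideal.fg_of_isNoetherianRing _), ← hker] at hx'
    exact ⟨hn₁ (Ideal.pow_le_pow_right (by omega) hx'), hn₂ (Ideal.pow_le_pow_right (by omega) hx')⟩
  · intro p
    exact AlgHom.congr_fun h p

/-- every map from `P` to an Artinian object extends to the completion -/
theorem compl_exists_ext (A : Art Λ k) (φ : HomSet P resP A) :
    ∃ ψ : HomSet (complCRing P resP hres).carrier (complCRing P resP hres).res A,
      ψ.1.comp (complOf P resP hres) = φ.1 := by
  obtain ⟨n, hn⟩ := exists_pow_le_ker A φ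
  let ψ₀ : AdicCompletion (RingHom.ker resP) P →ₐ[Λ] A :=
    (Ideal.Quotient.liftₐ ((RingHom.ker resP) ^ (n + 1)) φ.1 (fun a ha => hn ha)).comp
      ((AdicCompletion.evalₐ (RingHom.ker resP) (n + 1)).restrictScalars Λ)
  have hψ₀ : ∀ p : P, ψ₀ (AdicCompletion.of _ P p) = φ.1 p := by
    intro p
    show (Ideal.Quotient.liftₐ ((RingHom.ker resP) ^ (n + 1)) φ.1 (fun a ha => hn ha))
      (AdicCompletion.evalₐ (RingHom.ker resP) (n + 1) (AdicCompletion.of _ P p)) = φ.1 p
    rw [AdicCompletion.evalₐ_of]
    rfl
  have hker : RingHom.ker (complCRing P resP hres).res =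
      (RingHom.ker resP).map (algebraMap P (AdicCompletion (RingHom.ker resP) P)) := by
    rw [← complCRing_maximalIdeal P resP hres]
    ext x
    rw [RingHom.mem_ker, CRing.mem_maximalIdeal_iff]
  have hres' : A.res.comp ψ₀ = (complCRing P resP hres).res := by
    apply AlgHom.coe_ringHom_injective
    refine compl_ringHom_ext (RingHom.ker resP) _ _ (n + 1) ?_ ?_
    · intro x hx
      constructor
      · show A.res (ψ₀ x) = 0
        have : ψ₀ x = 0 := by
          show (Ideal.Quotient.liftₐ ((RingHom.ker resP) ^ (n + 1)) φ.1 (fun a ha => hn ha))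
            (AdicCompletion.evalₐ (RingHom.ker resP) (n + 1) x) = 0
          rw [hx, map_zero]
        rw [this, map_zero]
      · have hx' : x ∈ RingHom.ker (AdicCompletion.evalₐ (RingHom.ker resP) (n + 1)) := hx
        rw [ker_evalₐ_eq _ (Ideal.fg_of_isNoetherianRing _), ← hker] at hx'
        exact Ideal.pow_le_self (Nat.succ_ne_zero n) hx'
    · intro p
      show A.res (ψ₀ (AdicCompletion.of _ P p)) = resP p
      rw [hψ₀]
      exact DFunLike.congr_fun φ.2 p
  exact ⟨⟨ψ₀, hres'⟩, AlgHom.ext hψ₀⟩

/-- if `h_P` is smooth then so is `h` of the completion -/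
theorem compl_isSmoothFunctor (hP : IsSmoothFunctor (hR P resP)) :
    IsSmoothFunctor (hR (complCRing P resP hres).carrier (complCRing P resP hres).res) := by
  intro B A μ hμ (ψA : HomSet _ _ A)
  let φA : HomSet P resP A := ⟨ψA.1.comp (complOf P resP hres), by
    rw [← AlgHom.comp_assoc, ψA.2, complRes_comp_complOf]⟩
  obtain ⟨(φB : HomSet P resP B), hφB⟩ := hP μ hμ φA
  obtain ⟨ψB, hψB⟩ := compl_exists_ext hres B φB
  refine ⟨ψB, ?_⟩
  apply compl_homSet_ext hres
  have h1 : (HomSet.map μ φB).1 = φA.1 := congrArg Subtype.val hφB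
  show (μ.toAlgHom.comp ψB.1).comp (complOf P resP hres) = ψA.1.comp (complOf P resP hres)
  rw [AlgHom.comp_assoc, hψB]
  exact h1

end Ext

section Poly

open ArtFun.Art

variable {Λ k : Type u} [CommRing Λ] [Field k] [Algebra Λ k]

/-- `h_P` is smooth for a polynomial ring `P` -/
theorem mvPolynomial_isSmoothFunctor (σ : Type) (resP : MvPolynomial σ Λ →ₐ[Λ] k) :
    IsSmoothFunctor (hR (MvPolynomial σ Λ) resP) := by
  intro B A μ hμ (φA : HomSet _ _ A)
  choose b hb using fun i => hμ (φA.1 (MvPolynomial.X i))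
  have hcomp : μ.toAlgHom.comp (MvPolynomial.aeval b) = φA.1 := by
    apply MvPolynomial.algHom_ext
    intro i
    rw [AlgHom.comp_apply, MvPolynomial.aeval_X]
    exact hb i
  refine ⟨⟨MvPolynomial.aeval b, ?_⟩, Subtype.ext hcomp⟩
  rw [← μ.res_comp, AlgHom.comp_assoc, hcomp, φA.2]

end Poly

end Groth.Agent.Lib.Helper76
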