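import Mathlib
import Groth.Prelude.Def_ArtFun5
import Groth.Agent.Lib.Helper76.SchlCompl

set_option autoImplicit false
universe u v

namespace Groth.Agent.Lib.Helper76

open MvPowerSeries

section General

variable {R : Type*} [CommRing R] {σ : Type*} [Finite σ]

/-- the ideal `(X)` of the power series ring corresponds to `idealOfVars` in the completion -/
theorem map_toAdicCompletion_span_X :
    Ideal.map (toAdicCompletionAlgEquiv σ R).toRingEquiv (Ideal.span (Set.range X)) =
      (MvPolynomial.idealOfVars σ R).map (algebraMap (MvPolynomial σ R)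
        (AdicCompletion (MvPolynomial.idealOfVars σ R) (MvPolynomial σ R))) := by
  simp_rw [Ideal.map_span, ← Set.range_comp]
  congr 2; ext1
  simp [AdicCompletion.algebraMap_apply, ← MvPolynomial.coe_X, toAdicCompletion_coe]

/-- a power series with vanishing coefficients below degree `N` lies in `(X)^N` -/
theorem mem_pow_span_X_of_coeff_eq_zero (N : ℕ) (g : MvPowerSeries σ R)
    (h : ∀ α : σ →₀ ℕ, α.degree < N → coeff α g = 0) :
    g ∈ (Ideal.span (Set.range (X : σ → MvPowerSeries σ R))) ^ N := by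
  classical
  have h0 : truncTotal N g = 0 := by
    ext α
    rw [coeff_truncTotal_eq_ite, MvPolynomial.coeff_zero]
    split_ifs with hα
    · exact h α hα
    · rfl
  set E := toAdicCompletionAlgEquiv σ R with hE
  have h1 : E g ∈ ((MvPolynomial.idealOfVars σ R).map (algebraMap (MvPolynomial σ R)
        (AdicCompletion (MvPolynomial.idealOfVars σ R) (MvPolynomial σ R)))) ^ N := by
    apply mem_map_pow_of_evalₐ_eq_zero _ (MvPolynomial.idealOfVars_fg σ R)
    rw [← AdicCompletion.factor_eval_eq_evalₐ _ _ (le_of_eq (Ideal.mul_top _))]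
    have : AdicCompletion.eval (MvPolynomial.idealOfVars σ R) (MvPolynomial σ R) N (E g) = 0 := by
      rw [AdicCompletion.eval_apply]
      show (toAdicCompletion σ R g).val N = 0
      rw [toAdicCompletion_apply_eq_mk_truncTotal, h0, map_zero]
    rw [this, map_zero]
  rw [← map_toAdicCompletion_span_X, ← Ideal.map_pow] at h1
  obtain ⟨x, hx, hxg⟩ := (Ideal.mem_map_of_equiv E.toRingEquiv _).1 h1
  have : x = g := E.injective hxg
  rwa [← this]

end General

end Groth.Agent.Lib.Helper76

namespace Groth.Agent.Lib.Helper76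

open MvPowerSeries

section Coeff

variable {R : Type*} [CommRing R] {σ : Type*}

/-- power series whose coefficient at `α` lies in `𝔪 ^ (N - |α|)` -/
def coeffIdeal (𝔪 : Ideal R) (N : ℕ) : Ideal (MvPowerSeries σ R) where
  carrier := {f | ∀ α : σ →₀ ℕ, coeff α f ∈ 𝔪 ^ (N - α.degree)}
  add_mem' := by
    intro f g hf hg α
    rw [map_add]
    exact Ideal.add_mem _ (hf α) (hg α)
  zero_mem' := by
    intro α
    rw [map_zero]
    exact Ideal.zero_mem _
  smul_mem' := by
    classical
    intro g f hf γ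
    rw [smul_eq_mul, coeff_mul]
    apply Ideal.sum_mem
    intro p hp
    rw [Finset.HasAntidiagonal.mem_antidiagonal] at hp
    apply Ideal.mul_mem_left
    have hle : N - γ.degree ≤ N - p.2.degree := by
      rw [← hp, map_add]
      omega
    exact Ideal.pow_le_pow_right hle (hf p.2)

theorem mem_coeffIdeal {𝔪 : Ideal R} {N : ℕ} {f : MvPowerSeries σ R} :
    f ∈ coeffIdeal 𝔪 N ↔ ∀ α : σ →₀ ℕ, coeff α f ∈ 𝔪 ^ (N - α.degree) := Iff.rfl

theorem coeffIdeal_mul_le (𝔪 : Ideal R) (a b : ℕ) :
    (coeffIdeal 𝔪 a : Ideal (MvPowerSeries σ R)) * coeffIdeal 𝔪 b ≤ coeffIdeal 𝔪 (a + b) := by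
  classical
  rw [Ideal.mul_le]
  intro f hf g hg γ
  rw [coeff_mul]
  apply Ideal.sum_mem
  intro p hp
  rw [Finset.HasAntidiagonal.mem_antidiagonal] at hp
  have hle : a + b - γ.degree ≤ (a - p.1.degree) + (b - p.2.degree) := by
    rw [← hp, map_add]
    omega
  apply Ideal.pow_le_pow_right hle
  rw [pow_add]
  exact Ideal.mul_mem_mul (hf p.1) (hg p.2)

theorem coeffIdeal_zero (𝔪 : Ideal R) : (coeffIdeal 𝔪 0 : Ideal (MvPowerSeries σ R)) = ⊤ := by
  rw [eq_top_iff]
  intro f _ α
  simp

theorem pow_coeffIdeal_one_le (𝔪 : Ideal R) (N : ℕ) :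
    (coeffIdeal 𝔪 1 : Ideal (MvPowerSeries σ R)) ^ N ≤ coeffIdeal 𝔪 N := by
  induction N with
  | zero => rw [coeffIdeal_zero]; exact le_top
  | succ N ih =>
    rw [pow_succ]
    exact (Ideal.mul_mono_left ih).trans (coeffIdeal_mul_le 𝔪 N 1)

/-- the ideal `𝔪 T + (X)` of the power series ring -/
noncomputable def bigIdeal (𝔪 : Ideal R) : Ideal (MvPowerSeries σ R) :=
  𝔪.map (C : R →+* MvPowerSeries σ R) ⊔ Ideal.span (Set.range (X : σ → MvPowerSeries σ R))

theorem bigIdeal_le_coeffIdeal_one (𝔪 : Ideal R) :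
    (bigIdeal 𝔪 : Ideal (MvPowerSeries σ R)) ≤ coeffIdeal 𝔪 1 := by
  classical
  rw [bigIdeal, sup_le_iff]
  constructor
  · rw [Ideal.map_le_iff_le_comap]
    intro r hr α
    rw [coeff_C]
    split_ifs with hα
    · subst hα
      simpa using hr
    · exact Ideal.zero_mem _
  · rw [Ideal.span_le]
    rintro _ ⟨i, rfl⟩ α
    rw [coeff_X]
    split_ifs with hα
    · subst hα
      simp
    · exact Ideal.zero_mem _

theorem pow_bigIdeal_le (𝔪 : Ideal R) (N : ℕ) :
    (bigIdeal 𝔪 : Ideal (MvPowerSeries σ R)) ^ N ≤ coeffIdeal 𝔪 N :=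
  (Ideal.pow_right_mono (bigIdeal_le_coeffIdeal_one 𝔪) N).trans (pow_coeffIdeal_one_le 𝔪 N)

/-- polynomial version of the reverse inclusion -/
theorem mvPolynomial_mem_pow_of_coeff (𝔪 : Ideal R) (N : ℕ) (p : MvPolynomial σ R)
    (h : ∀ α : σ →₀ ℕ, MvPolynomial.coeff α p ∈ 𝔪 ^ (N - α.degree)) :
    p ∈ (𝔪.map (MvPolynomial.C : R →+* MvPolynomial σ R) ⊔ MvPolynomial.idealOfVars σ R) ^ N := by
  classical
  rw [MvPolynomial.as_sum p]
  apply Ideal.sum_mem
  intro α _
  have e : MvPolynomial.monomial α (MvPolynomial.coeff α p) =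
      MvPolynomial.C (MvPolynomial.coeff α p) * MvPolynomial.monomial α (1 : R) := by
    rw [MvPolynomial.C_mul_monomial, mul_one]
  rw [e]
  have h1 : MvPolynomial.C (MvPolynomial.coeff α p) ∈
      (𝔪.map (MvPolynomial.C : R →+* MvPolynomial σ R)) ^ (N - α.degree) := by
    rw [← Ideal.map_pow]
    exact Ideal.mem_map_of_mem _ (h α)
  have h2 : MvPolynomial.monomial α (1 : R) ∈ MvPolynomial.idealOfVars σ R ^ α.degree := by
    rw [MvPolynomial.mem_pow_idealOfVars_iff']
    intro x hx
    rw [MvPolynomial.coeff_monomial, if_neg]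
    rintro rfl
    exact lt_irrefl _ hx
  have h3 := Ideal.mul_mem_mul (Ideal.pow_right_mono (le_sup_left (b := MvPolynomial.idealOfVars σ R)) _ h1)
    (Ideal.pow_right_mono (le_sup_right (a := 𝔪.map (MvPolynomial.C : R →+* MvPolynomial σ R))) _ h2)
  rw [← pow_add] at h3
  exact Ideal.pow_le_pow_right (by omega) h3

theorem map_coe_le_bigIdeal (𝔪 : Ideal R) :
    Ideal.map (MvPolynomial.coeToMvPowerSeries.ringHom : MvPolynomial σ R →+* MvPowerSeries σ R)
      (𝔪.map (MvPolynomial.C : R →+* MvPolynomial σ R) ⊔ MvPolynomial.idealOfVars σ R) ≤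
      bigIdeal 𝔪 := by
  rw [Ideal.map_sup, bigIdeal]
  apply sup_le_sup
  · rw [Ideal.map_map]
    apply le_of_eq
    congr 1
    ext r : 1
    simp
  · rw [MvPolynomial.idealOfVars, Ideal.map_span, ← Set.range_comp]
    apply le_of_eq
    congr 2
    ext i : 1
    simp

theorem coeffIdeal_le_pow_bigIdeal [Finite σ] (𝔪 : Ideal R) (N : ℕ) :
    (coeffIdeal 𝔪 N : Ideal (MvPowerSeries σ R)) ≤ bigIdeal 𝔪 ^ N := by
  classical
  intro f hf
  have hsplit : f = (truncTotal N f : MvPowerSeries σ R) + (f - (truncTotal N f : MvPowerSeries σ R)) := by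
    ring
  rw [hsplit]
  apply Ideal.add_mem
  · have h1 : truncTotal N f ∈ (𝔪.map (MvPolynomial.C : R →+* MvPolynomial σ R) ⊔
        MvPolynomial.idealOfVars σ R) ^ N := by
      apply mvPolynomial_mem_pow_of_coeff
      intro α
      rw [coeff_truncTotal_eq_ite]
      split_ifs with hα
      · exact hf α
      · exact Ideal.zero_mem _
    have h2 := Ideal.mem_map_of_mem
      (MvPolynomial.coeToMvPowerSeries.ringHom : MvPolynomial σ R →+* MvPowerSeries σ R) h1
    rw [Ideal.map_pow] at h2
    exact Ideal.pow_right_mono (map_coe_le_bigIdeal 𝔪) N h2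
  · apply Ideal.pow_right_mono (le_sup_right : _ ≤ bigIdeal 𝔪) N
    apply mem_pow_span_X_of_coeff_eq_zero
    intro α hα
    rw [map_sub, MvPolynomial.coeff_coe, coeff_truncTotal _ hα, sub_self]

theorem pow_bigIdeal_eq [Finite σ] (𝔪 : Ideal R) (N : ℕ) :
    (bigIdeal 𝔪 : Ideal (MvPowerSeries σ R)) ^ N = coeffIdeal 𝔪 N :=
  le_antisymm (pow_bigIdeal_le 𝔪 N) (coeffIdeal_le_pow_bigIdeal 𝔪 N)

theorem isAdicComplete_bigIdeal [Finite σ] (𝔪 : Ideal R) [IsAdicComplete 𝔪 R] :
    IsAdicComplete (bigIdeal 𝔪 : Ideal (MvPowerSeries σ R)) (MvPowerSeries σ R) := by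
  have hH : IsHausdorff 𝔪 R := inferInstance
  have hP : IsPrecomplete 𝔪 R := inferInstance
  have hmem : ∀ (n : ℕ) (x : MvPowerSeries σ R),
      x ∈ ((bigIdeal 𝔪 : Ideal (MvPowerSeries σ R)) ^ n • ⊤ : Submodule (MvPowerSeries σ R) (MvPowerSeries σ R)) ↔
        ∀ α : σ →₀ ℕ, coeff α x ∈ 𝔪 ^ (n - α.degree) := by
    intro n x
    rw [smul_eq_mul, Ideal.mul_top, pow_bigIdeal_eq]
    exact Iff.rfl
  have hmemR : ∀ (n : ℕ) (x : R), x ∈ (𝔪 ^ n • ⊤ : Submodule R R) ↔ x ∈ 𝔪 ^ n := by
    intro n x
    rw [smul_eq_mul, Ideal.mul_top]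
  refine { haus' := ?_, prec' := ?_ }
  · intro x hx
    ext α
    rw [map_zero]
    apply hH.haus'
    intro j
    rw [SModEq.zero, hmemR]
    have h1 := hx (j + α.degree)
    rw [SModEq.zero, hmem] at h1
    simpa using h1 α
  · intro f hf
    have hc : ∀ α : σ →₀ ℕ, ∃ L : R, ∀ j, coeff α (f (j + α.degree)) ≡ L [SMOD (𝔪 ^ j • ⊤ : Submodule R R)] := by
      intro α
      apply hP.prec'
      intro i j hij
      rw [SModEq.sub_mem, hmemR, ← map_sub]
      have h1 := hf (Nat.add_le_add_right hij α.degree)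
      rw [SModEq.sub_mem, hmem] at h1
      simpa using h1 α
    choose L hL using hc
    refine ⟨fun α => L α, fun n => ?_⟩
    rw [SModEq.sub_mem, hmem]
    intro α
    rw [map_sub]
    by_cases hα : n ≤ α.degree
    · rw [Nat.sub_eq_zero_of_le hα, pow_zero, Ideal.one_eq_top]
      exact Submodule.mem_top
    · rw [not_le] at hα
      have h1 := hL α (n - α.degree)
      rw [SModEq.sub_mem, hmemR, Nat.sub_add_cancel hα.le] at h1
      exact h1

end Coeff

end Groth.Agent.Lib.Helper76

namespace Groth.Agent.Lib.Helper76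

open MvPowerSeries ArtFun

section PowCRing

variable {Λ k : Type u} [CommRing Λ] [Field k] [Algebra Λ k]
variable (R : CRing Λ k) (n : ℕ)

/-- the constant coefficient as an algebra map -/
noncomputable def constantCoeffₐ (Λ : Type*) [CommRing Λ] (A : Type*) [CommRing A] [Algebra Λ A]
    (σ : Type*) : MvPowerSeries σ A →ₐ[Λ] A :=
  { (constantCoeff : MvPowerSeries σ A →+* A) with
    commutes' := fun c => by
      show constantCoeff (algebraMap Λ (MvPowerSeries σ A) c) = algebraMap Λ A c
      rw [MvPowerSeries.algebraMap_apply, constantCoeff_C] }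

theorem constantCoeffₐ_apply (Λ : Type*) [CommRing Λ] (A : Type*) [CommRing A] [Algebra Λ A]
    (σ : Type*) (f : MvPowerSeries σ A) : constantCoeffₐ Λ A σ f = constantCoeff f := rfl

/-- the augmentation of `R[[X]]` -/
noncomputable def powRes : MvPowerSeries (Fin n) R.carrier →ₐ[Λ] k :=
  R.res.comp (constantCoeffₐ Λ R.carrier (Fin n))

theorem powRes_apply (f : MvPowerSeries (Fin n) R.carrier) :
    powRes R n f = R.res (constantCoeff f) := rfl

theorem pow_maximalIdeal_eq_coeffIdeal :
    IsLocalRing.maximalIdeal (MvPowerSeries (Fin n) R.carrier) =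
      coeffIdeal (IsLocalRing.maximalIdeal R.carrier) 1 := by
  ext f
  rw [IsLocalRing.mem_maximalIdeal, mem_nonunits_iff, isUnit_iff_constantCoeff, mem_coeffIdeal]
  constructor
  · intro hf α
    by_cases hα : α = 0
    · subst hα
      simpa using (IsLocalRing.mem_maximalIdeal _).2 hf
    · have : 1 - α.degree = 0 := by
        have : α.degree ≠ 0 := fun h => hα ((Finsupp.degree_eq_zero_iff α).1 h)
        omega
      rw [this, pow_zero, Ideal.one_eq_top]
      exact Submodule.mem_top
  · intro hf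
    have := hf 0
    simpa using this

theorem pow_maximalIdeal_eq_bigIdeal :
    IsLocalRing.maximalIdeal (MvPowerSeries (Fin n) R.carrier) =
      bigIdeal (IsLocalRing.maximalIdeal R.carrier) := by
  rw [pow_maximalIdeal_eq_coeffIdeal, ← pow_bigIdeal_eq, pow_one]

/-- the power series ring over a coefficient ring, as a coefficient ring -/
noncomputable def powCRing : CRing Λ k :=
  { carrier := MvPowerSeries (Fin n) R.carrier
    res := powRes R n
    res_surjective := fun c => by
      obtain ⟨r, hr⟩ := R.res_surjective c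
      exact ⟨C r, by rw [powRes_apply, constantCoeff_C, hr]⟩
    isAdicComplete := by
      rw [pow_maximalIdeal_eq_bigIdeal]
      have := R.isAdicComplete
      exact isAdicComplete_bigIdeal _ }

/-- the structure map `R → R[[X]]` -/
noncomputable def powC : R.carrier →ₐ[Λ] (powCRing R n).carrier :=
  IsScalarTower.toAlgHom Λ R.carrier (MvPowerSeries (Fin n) R.carrier)

theorem powC_apply (r : R.carrier) : powC R n r = (C r : MvPowerSeries (Fin n) R.carrier) := rfl

theorem powRes_comp_powC : (powCRing R n).res.comp (powC R n) = R.res := by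
  apply AlgHom.ext
  intro r
  show R.res (constantCoeff (C r : MvPowerSeries (Fin n) R.carrier)) = R.res r
  rw [constantCoeff_C]

end PowCRing

end Groth.Agent.Lib.Helper76
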