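import Mathlib

/-!
# Facts on adic completions: kernel of `evalₐ`, density of the ring, closedness of powers
-/

set_option autoImplicit false

namespace Groth.Agent.Lib.Helper76.ComplFacts

open AdicCompletion

variable {R : Type*} [CommRing R] (I : Ideal R)

theorem ker_evalₐ (hI : I.FG) (n : ℕ) :
    RingHom.ker (evalₐ I n : AdicCompletion I R →+* R ⧸ I ^ n) =
      (I.map (algebraMap R (AdicCompletion I R))) ^ n := by
  ext x
  have h : (I ^ n • ⊤ : Ideal R) = I ^ n := by ext x; simp
  have h1 : x ∈ RingHom.ker (evalₐ I n : AdicCompletion I R →+* R ⧸ I ^ n) ↔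
      x ∈ LinearMap.ker (eval I R n) := by
    rw [RingHom.mem_ker, LinearMap.mem_ker]
    constructor
    · intro hx
      have := factor_evalₐ_eq_eval I x (le_of_eq h.symm)
      rw [← this]
      show Ideal.Quotient.factor _ ((evalₐ I n) x) = 0
      have hx' : (evalₐ I n) x = 0 := hx
      rw [hx', _root_.map_zero]
    · intro hx
      have := factor_eval_eq_evalₐ I x (le_of_eq h)
      show (evalₐ I n) x = 0
      rw [← this, hx, _root_.map_zero]
  rw [h1, ← pow_smul_top_eq_ker_eval hI, ← Ideal.map_pow, Ideal.smul_top_eq_map,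
    Submodule.restrictScalars_mem]

theorem exists_sub_mem (hI : I.FG) (n : ℕ) (x : AdicCompletion I R) :
    ∃ r : R, x - algebraMap R (AdicCompletion I R) r ∈
      (I.map (algebraMap R (AdicCompletion I R))) ^ n := by
  obtain ⟨r, hr⟩ := Ideal.Quotient.mk_surjective (evalₐ I n x)
  refine ⟨r, ?_⟩
  rw [← ker_evalₐ I hI, RingHom.mem_ker, map_sub]
  show (evalₐ I n) x - (evalₐ I n) (algebraMap R (AdicCompletion I R) r) = 0
  rw [AlgHom.commutes, Ideal.Quotient.algebraMap_eq, hr, sub_self]

theorem mem_pow_of_algebraMap_mem (hI : I.FG) (n : ℕ) (r : R)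
    (h : algebraMap R (AdicCompletion I R) r ∈ (I.map (algebraMap R (AdicCompletion I R))) ^ n) :
    r ∈ I ^ n := by
  rw [← ker_evalₐ I hI, RingHom.mem_ker] at h
  have h' : (evalₐ I n) (algebraMap R (AdicCompletion I R) r) = 0 := h
  rw [AlgHom.commutes, Ideal.Quotient.algebraMap_eq, Ideal.Quotient.eq_zero_iff_mem] at h'
  exact h'

end Groth.Agent.Lib.Helper76.ComplFacts
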