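import Mathlib.RingTheory.Regular.ProjectiveDimension
import Mathlib.Algebra.Category.ModuleCat.Ext.Finite
import Mathlib.Algebra.Homology.DerivedCategory.Ext.ExactSequences
import Mathlib.RingTheory.Finiteness.Cardinality

set_option autoImplicit false

namespace Groth.Agent.Lib.Helper76

open CategoryTheory Abelian

universe u

section ExtDetect

variable {A : Type u} [CommRing A]

theorem ext_subsingleton_of_isZero_tgt (M L : ModuleCat.{u} A) (hL : Limits.IsZero L) (n : ℕ) :
    Subsingleton (Ext M L n) := by
  refine ⟨fun x y => ?_⟩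
  have hx : ∀ z : Ext M L n, z = 0 := fun z => by
    rw [← z.comp_mk₀_id, hL.eq_zero_of_src (𝟙 _), Ext.mk₀_zero, Ext.comp_zero]
  rw [hx x, hx y]

theorem ext_subsingleton_of_isZero_src (M L : ModuleCat.{u} A) (hM : Limits.IsZero M) (n : ℕ) :
    Subsingleton (Ext M L n) := by
  refine ⟨fun x y => ?_⟩
  have hx : ∀ z : Ext M L n, z = 0 := fun z => by
    rw [← z.mk₀_id_comp, hM.eq_zero_of_src (𝟙 _), Ext.mk₀_zero, Ext.zero_comp]
  rw [hx x, hx y]

/-- If `Ext^n(M, A) = 0` then `Ext^n(M, A^r) = 0`. -/
theorem ext_free_subsingleton (M : ModuleCat.{u} A) (n : ℕ)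
    (h : Subsingleton (Ext M (ModuleCat.of A A) n)) (r : ℕ) :
    Subsingleton (Ext M (ModuleCat.of A (Fin r → A)) n) := by
  induction r with
  | zero =>
    exact ext_subsingleton_of_isZero_tgt M _ (ModuleCat.isZero_of_subsingleton _) n
  | succ r ih =>
    let f : A →ₗ[A] (Fin (r + 1) → A) := LinearMap.single A (fun _ => A) 0
    let g : (Fin (r + 1) → A) →ₗ[A] (Fin r → A) := LinearMap.funLeft A A Fin.succ
    have hf : Function.Injective f := fun a b hab => by
      have := congrFun hab 0
      simpa [f] using this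
    have hg : Function.Surjective g := by
      intro v
      refine ⟨Fin.cons 0 v, ?_⟩
      funext i
      simp [g, LinearMap.funLeft_apply]
    have hfg : Function.Exact f g := by
      intro v
      constructor
      · intro hv
        refine ⟨v 0, ?_⟩
        funext i
        refine Fin.cases ?_ (fun j => ?_) i
        · simp [f]
        · have := congrFun hv j
          simp only [g, LinearMap.funLeft_apply, Pi.zero_apply] at this
          simp [f, this]
      · rintro ⟨a, rfl⟩
        funext j
        simp [f, g, LinearMap.funLeft_apply]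
    let S : ShortComplex (ModuleCat.{u} A) :=
      ModuleCat.shortComplexOfCompEqZero f g
        (LinearMap.ext fun x => hfg.apply_apply_eq_zero x)
    have hS : S.ShortExact := ModuleCat.shortComplex_shortExact S hfg hf hg
    refine ⟨fun x y => ?_⟩
    have hx : ∀ z : Ext M (ModuleCat.of A (Fin (r + 1) → A)) n, z = 0 := fun z => by
      obtain ⟨x₁, hx₁⟩ := Ext.covariant_sequence_exact₂ M hS z (Subsingleton.elim _ _)
      rw [← hx₁, Subsingleton.elim x₁ 0, Ext.zero_comp]
    rw [hx x, hx y]

/-- Over a Noetherian ring, if a finitely generated module `M` has projective dimension exactly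
`e` (i.e. `< e + 1` but not `< e`), then `Ext^e(M, A) ≠ 0`. -/
theorem ext_self_nontrivial_of_projectiveDimension [IsNoetherianRing A]
    (M : Type u) [AddCommGroup M] [Module A M] [Module.Finite A M] (e : ℕ)
    (h1 : HasProjectiveDimensionLT (ModuleCat.of A M) (e + 1))
    (h2 : ¬ HasProjectiveDimensionLT (ModuleCat.of A M) e) :
    Nontrivial (Ext (ModuleCat.of A M) (ModuleCat.of A A) e) := by
  by_contra hnt
  rw [not_nontrivial_iff_subsingleton] at hnt
  apply h2
  apply ModuleCat.hasProjectiveDimensionLT_of_forall_finite (ModuleCat.of A M) e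
  intro L hL
  obtain ⟨r, φ, hφ⟩ := Module.Finite.exists_fin' A L
  have hS := LinearMap.shortExact_shortComplexKer hφ
  refine ⟨fun x y => ?_⟩
  have hx : ∀ z : Ext (ModuleCat.of A M) L e, z = 0 := fun z => by
    have hz : z.comp hS.extClass rfl = 0 :=
      Ext.eq_zero_of_hasProjectiveDimensionLT _ (e + 1) le_rfl
    obtain ⟨x₂, hx₂⟩ := Ext.covariant_sequence_exact₃ (ModuleCat.of A M) hS z rfl hz
    have := ext_free_subsingleton (ModuleCat.of A M) e hnt r
    rw [← hx₂, Subsingleton.elim x₂ 0, Ext.zero_comp]
  rw [hx x, hx y]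

end ExtDetect

end Groth.Agent.Lib.Helper76
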