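import Mathlib
import Groth.Prelude.Def_ArtFun5
import Groth.Agent.Lib.Helper76.PowSeries

set_option autoImplicit false
universe u v

namespace Groth.Agent.Lib.Helper76

open MvPowerSeries

section Eval

/-- evaluation of power series at a finite family of elements of an ideal of adic completeness -/
theorem exists_mvPowerSeries_eval' {Q R : Type*} [CommRing Q] [CommRing R] [Algebra Q R]
    {n : ℕ} (a : Fin n → R) (J : Ideal R) [IsAdicComplete J R] (ha : ∀ i, a i ∈ J) :
    ∃ f : MvPowerSeries (Fin n) Q →+* R,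
      ∀ p : MvPolynomial (Fin n) Q, f (p : MvPowerSeries (Fin n) Q) = MvPolynomial.aeval a p := by
  classical
  have hle : ∀ m : ℕ, (MvPolynomial.idealOfVars (Fin n) Q) ^ m ≤
      (J ^ m).comap (MvPolynomial.aeval a : MvPolynomial (Fin n) Q →ₐ[Q] R).toRingHom := by
    intro m
    rw [← Ideal.map_le_iff_le_comap, Ideal.map_pow]
    apply Ideal.pow_right_mono
    rw [MvPolynomial.idealOfVars, Ideal.map_span, Ideal.span_le]
    rintro _ ⟨_, ⟨i, rfl⟩, rfl⟩
    show (MvPolynomial.aeval a) (MvPolynomial.X i) ∈ J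
    rw [MvPolynomial.aeval_X]
    exact ha i
  let g : ∀ m : ℕ, MvPolynomial (Fin n) Q ⧸ (MvPolynomial.idealOfVars (Fin n) Q) ^ m →+* R ⧸ J ^ m :=
    fun m => Ideal.quotientMap (J ^ m) (MvPolynomial.aeval a : MvPolynomial (Fin n) Q →ₐ[Q] R).toRingHom (hle m)
  let f : ∀ m : ℕ, MvPowerSeries (Fin n) Q →+* R ⧸ J ^ m :=
    fun m => (g m).comp (truncTotalAlgHom (Fin n) Q m).toRingHom
  have hfp : ∀ (m : ℕ) (p : MvPowerSeries (Fin n) Q),
      f m p = Ideal.Quotient.mk (J ^ m) (MvPolynomial.aeval a (truncTotal m p)) := by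
    intro m p
    rfl
  have hf : ∀ {m m' : ℕ} (hle : m ≤ m'), (Ideal.Quotient.factorPow J hle).comp (f m') = f m := by
    intro m m' hmm
    ext p
    rw [RingHom.comp_apply, hfp, hfp, Ideal.Quotient.factor_mk, Ideal.Quotient.mk_eq_mk_iff_sub_mem,
      ← map_sub]
    exact hle m (truncTotal_sub_truncTotal_mem_pow_idealOfVars hmm le_rfl p)
  refine ⟨IsAdicComplete.liftRingHom J f hf, ?_⟩
  intro p
  have hh : IsHausdorff J R := inferInstance
  rw [← sub_eq_zero]
  apply hh.haus'
  intro m
  rw [SModEq.zero, smul_eq_mul, Ideal.mul_top, ← Ideal.Quotient.eq_zero_iff_mem, map_sub,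
    IsAdicComplete.mk_liftRingHom, hfp, ← map_sub, Ideal.Quotient.eq_zero_iff_mem, ← map_sub]
  apply hle m
  have := (truncTotalAlgHom (Fin n) Q m).commutes p
  rw [Ideal.Quotient.algebraMap_eq] at this
  have h2 : (truncTotalAlgHom (Fin n) Q m) (p : MvPowerSeries (Fin n) Q) =
      Ideal.Quotient.mk _ (truncTotal m (p : MvPowerSeries (Fin n) Q)) := rfl
  rw [← Ideal.Quotient.mk_eq_mk_iff_sub_mem, ← h2]
  exact this

/-- a power series minus its truncation lies in `(X)^N` -/
theorem sub_truncTotal_mem_pow {Q : Type*} [CommRing Q] {σ : Type*} [Finite σ] (N : ℕ)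
    (t : MvPowerSeries σ Q) :
    t - (truncTotal N t : MvPowerSeries σ Q) ∈ (Ideal.span (Set.range (X : σ → MvPowerSeries σ Q))) ^ N := by
  apply mem_pow_span_X_of_coeff_eq_zero
  intro α hα
  rw [map_sub, MvPolynomial.coeff_coe, coeff_truncTotal _ hα, sub_self]

/-- ring maps out of a power series ring into a separated ring are determined by their values on
the coefficients and the variables -/
theorem mvPowerSeries_ringHom_ext {Q A : Type*} [CommRing Q] [CommRing A] {n : ℕ}
    (J : Ideal A) [IsHausdorff J A] (f₁ f₂ : MvPowerSeries (Fin n) Q →+* A)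
    (hC : ∀ r, f₁ (C r) = f₂ (C r)) (hX : ∀ i, f₁ (X i) = f₂ (X i)) (h₁ : ∀ i, f₁ (X i) ∈ J) :
    f₁ = f₂ := by
  have hpoly : ∀ p : MvPolynomial (Fin n) Q, f₁ (p : MvPowerSeries (Fin n) Q) = f₂ p := by
    intro p
    have : f₁.comp (MvPolynomial.coeToMvPowerSeries.ringHom) =
        f₂.comp (MvPolynomial.coeToMvPowerSeries.ringHom) := by
      apply MvPolynomial.ringHom_ext
      · intro r
        simpa using hC r
      · intro i
        simpa using hX i
    exact RingHom.congr_fun this p
  have hJ : ∀ (f : MvPowerSeries (Fin n) Q →+* A), (∀ i, f (X i) ∈ J) → ∀ (N : ℕ)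
      (g : MvPowerSeries (Fin n) Q),
      g ∈ (Ideal.span (Set.range (X : Fin n → MvPowerSeries (Fin n) Q))) ^ N → f g ∈ J ^ N := by
    intro f hf N g hg
    have h1 := Ideal.mem_map_of_mem f hg
    rw [Ideal.map_pow] at h1
    refine Ideal.pow_right_mono ?_ N h1
    rw [Ideal.map_span, Ideal.span_le]
    rintro _ ⟨_, ⟨i, rfl⟩, rfl⟩
    exact hf i
  have h₂ : ∀ i, f₂ (X i) ∈ J := fun i => hX i ▸ h₁ i
  have hh : IsHausdorff J A := inferInstance
  ext t
  rw [← sub_eq_zero]
  apply hh.haus'
  intro N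
  rw [SModEq.zero, smul_eq_mul, Ideal.mul_top]
  have e1 : f₁ t - f₂ t = f₁ (t - (truncTotal N t : MvPowerSeries (Fin n) Q)) -
      f₂ (t - (truncTotal N t : MvPowerSeries (Fin n) Q)) := by
    rw [map_sub, map_sub, hpoly]
    ring
  rw [e1]
  exact Ideal.sub_mem _ (hJ f₁ h₁ N _ (sub_truncTotal_mem_pow N t)) (hJ f₂ h₂ N _ (sub_truncTotal_mem_pow N t))

end Eval

section Linear

variable {R : Type*} [CommRing R] {n : ℕ}

/-- the linear part of a power series -/
noncomputable def linPart (t : MvPowerSeries (Fin n) R) : MvPowerSeries (Fin n) R :=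
  ∑ i : Fin n, C (coeff (Finsupp.single i 1) t) * X i

theorem coeff_zero_linPart (t : MvPowerSeries (Fin n) R) : coeff 0 (linPart t) = 0 := by
  classical
  rw [linPart, map_sum]
  apply Finset.sum_eq_zero
  intro i _
  rw [coeff_C_mul, coeff_X, if_neg, mul_zero]
  intro h
  have := congrArg (fun f => f i) h
  simp at this

theorem coeff_single_linPart (t : MvPowerSeries (Fin n) R) (j : Fin n) :
    coeff (Finsupp.single j 1) (linPart t) = coeff (Finsupp.single j 1) t := by
  classical
  rw [linPart, map_sum, Finset.sum_eq_single j]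
  · rw [coeff_C_mul, coeff_X, if_pos rfl, mul_one]
  · intro i _ hij
    rw [coeff_C_mul, coeff_X, if_neg, mul_zero]
    intro h
    exact hij ((Finsupp.single_left_injective one_ne_zero) h).symm
  · intro h
    exact absurd (Finset.mem_univ j) h

/-- a power series with constant coefficient in `𝔪` is its linear part modulo `𝔪 T + (𝔪 T + (X))^2` -/
theorem sub_linPart_mem (𝔪 : Ideal R) (t : MvPowerSeries (Fin n) R) (ht : constantCoeff t ∈ 𝔪) :
    t - linPart t ∈ 𝔪.map (C : R →+* MvPowerSeries (Fin n) R) ⊔ bigIdeal 𝔪 ^ 2 := by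
  have e : t - linPart t = C (constantCoeff t) + (t - C (constantCoeff t) - linPart t) := by ring
  rw [e]
  apply Ideal.add_mem
  · exact Ideal.mem_sup_left (Ideal.mem_map_of_mem _ ht)
  · apply Ideal.mem_sup_right
    rw [pow_bigIdeal_eq, mem_coeffIdeal]
    intro α
    rcases Nat.lt_or_ge α.degree 2 with h | h
    · have h01 : α.degree = 0 ∨ α.degree = 1 := by omega
      rcases h01 with h0 | h1
      · have hα : α = 0 := (Finsupp.degree_eq_zero_iff α).1 h0
        subst hα
        rw [map_sub, map_sub, coeff_zero_linPart, coeff_zero_C, sub_zero]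
        have : coeff (0 : Fin n →₀ ℕ) t = constantCoeff t := rfl
        rw [this, sub_self]
        exact Ideal.zero_mem _
      · have : α ∈ {d : Fin n →₀ ℕ | d.degree = 1} := h1
        rw [← Finsupp.range_single_one] at this
        obtain ⟨j, rfl⟩ := this
        rw [map_sub, map_sub, coeff_single_linPart, coeff_C, if_neg, sub_zero, sub_self]
        · exact Ideal.zero_mem _
        · intro h
          have := congrArg (fun f => f j) h
          simp at this
    · rw [Nat.sub_eq_zero_of_le h, pow_zero, Ideal.one_eq_top]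
      exact Submodule.mem_top

end Linear

section RingEnd

/-- a surjective endomorphism of a Noetherian ring is injective -/
theorem injective_of_surjective_ringEnd' {R : Type*} [CommRing R] [IsNoetherianRing R]
    (f : R →+* R) (hf : Function.Surjective f) : Function.Injective f := by
  let c : ℕ →o Ideal R := ⟨fun n => RingHom.ker (f ^ n), by
    intro m n hmn x hx
    rw [RingHom.mem_ker] at hx ⊢
    obtain ⟨d, rfl⟩ := Nat.exists_eq_add_of_le hmn
    rw [add_comm, pow_add, RingHom.mul_def, RingHom.comp_apply, hx, map_zero]⟩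
  obtain ⟨n, hn⟩ := monotone_stabilizes_iff_noetherian.2 (inferInstance : IsNoetherian R R) c
  rw [injective_iff_map_eq_zero]
  intro x hx
  have hsurj : Function.Surjective (f ^ n) := by
    rw [RingHom.coe_pow]
    exact hf.iterate n
  obtain ⟨y, rfl⟩ := hsurj x
  have h1 : y ∈ c (n + 1) := by
    show y ∈ RingHom.ker (f ^ (n + 1))
    rw [RingHom.mem_ker, pow_succ', RingHom.mul_def, RingHom.comp_apply]
    exact hx
  rw [← hn (n + 1) (Nat.le_succ n)] at h1
  exact h1

end RingEnd

end Groth.Agent.Lib.Helper76
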