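import Mathlib

/-!
# Differentials of a flat deformation over `k[X]/X^(n+1)` (helper76)

`formallySmooth_of_flat_of_nilpotent` (Stacks 031L for nilpotent ideals), `formallySmooth_of_flat`,
`exists_derivation` (a `k`-derivation `B → B/t^n` with `δ t = 1`), the exact sequence
`0 → B' → B' ⊗ Ω_{B/k} → B' ⊗ Ω_{B/D} → 0`, and the fibre-product descriptions of `B` and `Ω_{B/k}`.
-/

set_option autoImplicit false
universe u

namespace Groth.Agent.Lib.Helper76.DefoDiff

open TensorProduct Polynomial

section Part1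

/-- flatness passes to quotients -/
theorem flat_quotientMap {R S : Type u} [CommRing R] [CommRing S] (f : R →+* S) (flat : f.Flat)
    (K : Ideal R) :
    (Ideal.quotientMap (K.map f) f Ideal.le_comap_map : R ⧸ K →+* S ⧸ K.map f).Flat := by
  algebraize [f]
  have h1 : Module.Flat (R ⧸ K) (S ⧸ K.map (algebraMap R S)) :=
    Module.Flat.of_linearEquiv
      (Algebra.TensorProduct.quotIdealMapEquivQuotTensor S K).toLinearEquiv
  exact RingHom.flat_algebraMap_iff.mpr h1

/-- Stacks 031L for a nilpotent (rather than square-zero) ideal -/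
theorem formallySmooth_of_flat_of_nilpotent (N : ℕ) :
    ∀ {R S R₀ S₀ : Type u} [CommRing R] [CommRing S] [CommRing R₀] [CommRing S₀]
      (f : R →+* S) (_ : f.Flat) (qR : R →+* R₀) (qS : S →+* S₀) (g : R₀ →+* S₀)
      (_ : Function.Surjective qR) (_ : Function.Surjective qS)
      (_ : qS.comp f = g.comp qR) (_ : RingHom.ker qR ^ (N + 1) = ⊥)
      (_ : RingHom.ker qS = (RingHom.ker qR).map f) (_ : g.FormallySmooth),
      f.FormallySmooth := by
  induction N with
  | zero =>
    intro R S R₀ S₀ _ _ _ _ f flat qR qS g surjR surjS comm hnil eqmap smoothq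
    refine RingHom.FormallySmooth.of_flat_of_ker_eq_map_of_square_zero f flat qR qS g surjR surjS
      comm ?_ eqmap smoothq
    rw [zero_add, pow_one] at hnil
    rw [hnil, Ideal.bot_pow (by norm_num)]
  | succ N ih =>
    intro R S R₀ S₀ _ _ _ _ f flat qR qS g surjR surjS comm hnil eqmap smoothq
    set K : Ideal R := RingHom.ker qR ^ (N + 1) with hK
    have hK2 : K ^ 2 = ⊥ := by
      rw [hK, ← pow_mul, eq_bot_iff, ← hnil]
      exact Ideal.pow_le_pow_right (by omega)
    have hKle : K ≤ RingHom.ker qR := Ideal.pow_le_self (Nat.succ_ne_zero N)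
    have hKSle : K.map f ≤ RingHom.ker qS := by
      rw [eqmap]
      exact Ideal.map_mono hKle
    let f' : R ⧸ K →+* S ⧸ K.map f := Ideal.quotientMap (K.map f) f Ideal.le_comap_map
    let qR' : R ⧸ K →+* R₀ := Ideal.Quotient.lift K qR hKle
    let qS' : S ⧸ K.map f →+* S₀ := Ideal.Quotient.lift (K.map f) qS hKSle
    have hf'mk : f'.comp (Ideal.Quotient.mk K) = (Ideal.Quotient.mk (K.map f)).comp f :=
      Ideal.quotientMap_comp_mk _
    have h1 : f'.FormallySmooth := by
      refine ih f' (flat_quotientMap f flat K) qR' qS' g ?_ ?_ ?_ ?_ ?_ smoothq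
      · exact Ideal.Quotient.lift_surjective_of_surjective K hKle surjR
      · exact Ideal.Quotient.lift_surjective_of_surjective _ hKSle surjS
      · apply Ideal.Quotient.ringHom_ext
        ext a
        have := congrArg (fun h : R →+* S₀ => h a) comm
        simpa [f', qR', qS'] using this
      · rw [Ideal.ker_quotient_lift, ← Ideal.map_pow, ← hK, Ideal.map_quotient_self]
      · rw [Ideal.ker_quotient_lift, Ideal.ker_quotient_lift, eqmap, Ideal.map_map, Ideal.map_map,
          hf'mk]
    refine RingHom.FormallySmooth.of_flat_of_ker_eq_map_of_square_zero f flat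
      (Ideal.Quotient.mk K) (Ideal.Quotient.mk (K.map f)) f' Ideal.Quotient.mk_surjective
      Ideal.Quotient.mk_surjective hf'mk.symm ?_ ?_ h1
    · rw [Ideal.mk_ker, hK2]
    · rw [Ideal.mk_ker, Ideal.mk_ker]

end Part1

section Part2

variable {k : Type u} [Field k] {n : ℕ} {D : Type u} [CommRing D] [Algebra k D] {τ : D}
  (e : (k[X] ⧸ Ideal.span {(X : k[X]) ^ (n + 1)}) ≃ₐ[k] D)
  (he : e (Ideal.Quotient.mk (Ideal.span {(X : k[X]) ^ (n + 1)}) X) = τ)

include he in
theorem tau_pow : τ ^ (n + 1) = 0 := by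
  rw [← he, ← map_pow, ← map_pow,
    Ideal.Quotient.eq_zero_iff_mem.2 (Ideal.mem_span_singleton_self _), map_zero]

include he in
theorem e_mk (p : k[X]) :
    e (Ideal.Quotient.mk (Ideal.span {(X : k[X]) ^ (n + 1)}) p) = Polynomial.aeval τ p := by
  have h : ((e : (k[X] ⧸ Ideal.span {(X : k[X]) ^ (n + 1)}) →ₐ[k] D).comp
      (Ideal.Quotient.mkₐ k (Ideal.span {(X : k[X]) ^ (n + 1)}))) = Polynomial.aeval τ := by
    apply Polynomial.algHom_ext
    rw [Polynomial.aeval_X]
    exact he
  exact DFunLike.congr_fun h p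

include he in
theorem adjoin_tau : Algebra.adjoin k {τ} = ⊤ := by
  rw [eq_top_iff]
  intro d _
  obtain ⟨q, rfl⟩ := e.surjective d
  obtain ⟨p, rfl⟩ := Ideal.Quotient.mk_surjective q
  rw [e_mk e he]
  exact Polynomial.aeval_mem_adjoin_singleton k τ

include he in
theorem exists_eq_add_tau_mul (d : D) : ∃ (c : k) (d' : D), d = algebraMap k D c + τ * d' := by
  obtain ⟨q, rfl⟩ := e.surjective d
  obtain ⟨p, rfl⟩ := Ideal.Quotient.mk_surjective q
  refine ⟨p.coeff 0, Polynomial.aeval τ p.divX, ?_⟩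
  rw [e_mk e he]
  conv_lhs => rw [← Polynomial.X_mul_divX_add p]
  rw [map_add, map_mul, Polynomial.aeval_X, Polynomial.aeval_C, add_comm]

variable {B : Type u} [CommRing B] [Algebra k B] [Algebra D B] [IsScalarTower k D B]
  [Module.Flat D B] {t : B} (ht : t = algebraMap D B τ)

include he ht in
theorem formallySmooth_of_flat (hsm : Algebra.FormallySmooth k (B ⧸ Ideal.span {t})) :
    Algebra.FormallySmooth D B := by
  rw [← RingHom.formallySmooth_algebraMap]
  have hle : Ideal.span {τ} ≤ Ideal.comap (algebraMap D B) (Ideal.span {t}) := by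
    rw [Ideal.span_singleton_le_iff_mem, Ideal.mem_comap, ← ht]
    exact Ideal.mem_span_singleton_self t
  let g : D ⧸ Ideal.span {τ} →+* B ⧸ Ideal.span {t} :=
    Ideal.quotientMap (Ideal.span {t}) (algebraMap D B) hle
  refine formallySmooth_of_flat_of_nilpotent n (algebraMap D B)
    (RingHom.flat_algebraMap_iff.mpr inferInstance)
    (Ideal.Quotient.mk (Ideal.span {τ})) (Ideal.Quotient.mk (Ideal.span {t})) g
    Ideal.Quotient.mk_surjective Ideal.Quotient.mk_surjective
    (Ideal.quotientMap_comp_mk hle).symm ?_ ?_ ?_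
  · rw [Ideal.mk_ker, Ideal.span_singleton_pow, tau_pow e he, Ideal.span_singleton_eq_bot]
  · rw [Ideal.mk_ker, Ideal.mk_ker, Ideal.map_span, Set.image_singleton, ht]
  · algebraize [g]
    haveI : IsScalarTower k (D ⧸ Ideal.span {τ}) (B ⧸ Ideal.span {t}) := by
      refine IsScalarTower.of_algebraMap_eq fun c => ?_
      change Ideal.Quotient.mk _ (algebraMap k B c) =
        g (Ideal.Quotient.mk _ (algebraMap k D c))
      rw [IsScalarTower.algebraMap_apply k D B]
      rfl
    have hsurj : Function.Surjective (Algebra.ofId k (D ⧸ Ideal.span {τ})) := by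
      intro x
      obtain ⟨d, rfl⟩ := Ideal.Quotient.mk_surjective x
      obtain ⟨c, d', rfl⟩ := exists_eq_add_tau_mul e he d
      refine ⟨c, ?_⟩
      rw [map_add, map_mul, Ideal.Quotient.eq_zero_iff_mem.2 (Ideal.mem_span_singleton_self τ),
        zero_mul, add_zero]
      rfl
    haveI : Algebra.FormallyUnramified k (D ⧸ Ideal.span {τ}) :=
      Algebra.FormallyUnramified.of_surjective (Algebra.ofId k (D ⧸ Ideal.span {τ})) hsurj
    exact Algebra.FormallySmooth.of_restrictScalars k (D ⧸ Ideal.span {τ}) (B ⧸ Ideal.span {t})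

end Part2

section Part3

/-- dual numbers over `B'`, as a bare ring (to carry a twisted algebra structure) -/
def Tw (B' : Type u) : Type u := TrivSqZeroExt B' B'

noncomputable instance (B' : Type u) [CommRing B'] : CommRing (Tw B') :=
  inferInstanceAs (CommRing (TrivSqZeroExt B' B'))

/-- the identity, as a ring isomorphism -/
noncomputable def Tw.toT (B' : Type u) [CommRing B'] : Tw B' ≃+* TrivSqZeroExt B' B' :=
  RingEquiv.refl (TrivSqZeroExt B' B')

/-- the first projection -/
noncomputable def Tw.fstHom (B' : Type u) [CommRing B'] : Tw B' →+* B' :=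
  (TrivSqZeroExt.fstHom B' B' B').toRingHom

variable {k : Type u} [Field k] {n : ℕ} {D : Type u} [CommRing D] [Algebra k D] {τ : D}
  (e : (k[X] ⧸ Ideal.span {(X : k[X]) ^ (n + 1)}) ≃ₐ[k] D)
  (he : e (Ideal.Quotient.mk (Ideal.span {(X : k[X]) ^ (n + 1)}) X) = τ)

variable {B : Type u} [CommRing B] [Algebra k B] [Algebra D B] [IsScalarTower k D B]
  (t : B)

/-- the element `t + ε` of the dual numbers over `B / t^n` -/
noncomputable def x₀ (n : ℕ) :
    TrivSqZeroExt (B ⧸ Ideal.span {t ^ n}) (B ⧸ Ideal.span {t ^ n}) :=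
  TrivSqZeroExt.inl (Ideal.Quotient.mk _ t) + TrivSqZeroExt.inr 1

theorem mk_t_pow (n : ℕ) : (Ideal.Quotient.mk (Ideal.span {t ^ n}) t) ^ n = 0 := by
  rw [← map_pow, Ideal.Quotient.eq_zero_iff_mem]
  exact Ideal.mem_span_singleton_self _

theorem x₀_pow (n : ℕ) : x₀ t n ^ (n + 1) = 0 := by
  apply TrivSqZeroExt.ext
  · rw [TrivSqZeroExt.fst_pow, TrivSqZeroExt.fst_zero]
    simp only [x₀, TrivSqZeroExt.fst_add, TrivSqZeroExt.fst_inl, TrivSqZeroExt.fst_inr, add_zero]
    rw [pow_succ, mk_t_pow, zero_mul]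
  · rw [TrivSqZeroExt.snd_pow, TrivSqZeroExt.snd_zero]
    simp only [x₀, TrivSqZeroExt.fst_add, TrivSqZeroExt.fst_inl, TrivSqZeroExt.fst_inr, add_zero,
      Nat.pred_succ]
    rw [mk_t_pow, zero_smul, smul_zero]

theorem aeval_x₀_eq_zero (k : Type u) [Field k] [Algebra k B] (n : ℕ) (p : k[X])
    (hp : p ∈ Ideal.span {(X : k[X]) ^ (n + 1)}) : Polynomial.aeval (x₀ t n) p = 0 := by
  obtain ⟨q, rfl⟩ := Ideal.mem_span_singleton.1 hp
  rw [map_mul, map_pow, Polynomial.aeval_X, x₀_pow, zero_mul]

/-- the `k`-algebra map `k[X]/X^(n+1) → (B/t^n)[ε]`, `X ↦ t + ε` -/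
noncomputable def gQ (k : Type u) [Field k] [Algebra k B] (n : ℕ) :
    (k[X] ⧸ Ideal.span {(X : k[X]) ^ (n + 1)}) →ₐ[k]
      TrivSqZeroExt (B ⧸ Ideal.span {t ^ n}) (B ⧸ Ideal.span {t ^ n}) :=
  Ideal.Quotient.liftₐ (Ideal.span {(X : k[X]) ^ (n + 1)}) (Polynomial.aeval (x₀ t n))
    (aeval_x₀_eq_zero t k n)

theorem gQ_mk_X (k : Type u) [Field k] [Algebra k B] (n : ℕ) :
    gQ t k n (Ideal.Quotient.mk (Ideal.span {(X : k[X]) ^ (n + 1)}) X) = x₀ t n := by
  change Polynomial.aeval (x₀ t n) X = _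
  rw [Polynomial.aeval_X]

/-- the `k`-algebra map `D → (B/t^n)[ε]`, `τ ↦ t + ε` -/
noncomputable def gD : D →ₐ[k] TrivSqZeroExt (B ⧸ Ideal.span {t ^ n}) (B ⧸ Ideal.span {t ^ n}) :=
  (gQ t k n).comp (e.symm : D →ₐ[k] (k[X] ⧸ Ideal.span {(X : k[X]) ^ (n + 1)}))

include he in
theorem gD_tau : gD e t τ = x₀ t n := by
  have h1 : e.symm τ = Ideal.Quotient.mk (Ideal.span {(X : k[X]) ^ (n + 1)}) X := by
    rw [← he, AlgEquiv.symm_apply_apply]
  change gQ t k n (e.symm τ) = _
  rw [h1, gQ_mk_X]

variable (ht : t = algebraMap D B τ)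

include he ht in
theorem fst_gD (d : D) :
    (gD e t d).fst = Ideal.Quotient.mk (Ideal.span {t ^ n}) (algebraMap D B d) := by
  have h : (TrivSqZeroExt.fstHom k (B ⧸ Ideal.span {t ^ n}) (B ⧸ Ideal.span {t ^ n})).comp (gD e t) =
      (Ideal.Quotient.mkₐ k (Ideal.span {t ^ n})).comp (IsScalarTower.toAlgHom k D B) := by
    apply AlgHom.ext_of_adjoin_eq_top (adjoin_tau e he)
    intro x hx
    rw [Set.mem_singleton_iff] at hx
    subst hx
    change (gD e t x).fst = Ideal.Quotient.mk _ (algebraMap D B x)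
    rw [gD_tau e he, ← ht]
    simp [x₀]
  exact DFunLike.congr_fun h d

include he ht in
/-- a `k`-derivation `B → B/t^n` with `δ t = 1`, when `B` is formally smooth over `D` -/
theorem exists_derivation [Algebra.FormallySmooth D B] :
    ∃ δ : Derivation k B (B ⧸ Ideal.span {t ^ n}), δ t = 1 := by
  let B' := B ⧸ Ideal.span {t ^ n}
  let γ : D →+* Tw B' := (gD e t).toRingHom
  letI : Algebra D (Tw B') := γ.toAlgebra
  let fstA : Tw B' →ₐ[D] B' :=
    { Tw.fstHom B' with commutes' := fun d => fst_gD e he t ht d }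
  have hsurj : Function.Surjective fstA := fun b => ⟨(TrivSqZeroExt.inl b : TrivSqZeroExt B' B'), rfl⟩
  have hnil : IsNilpotent (RingHom.ker (fstA : Tw B' →+* B')) := by
    refine ⟨2, ?_⟩
    rw [Ideal.zero_eq_bot, eq_bot_iff, pow_two, Ideal.mul_le]
    intro x hx y hy
    have hx' : TrivSqZeroExt.fst (Tw.toT B' x) = 0 := hx
    have hy' : TrivSqZeroExt.fst (Tw.toT B' y) = 0 := hy
    rw [Ideal.mem_bot]
    apply (Tw.toT B').injective
    rw [map_mul, map_zero]
    apply TrivSqZeroExt.ext
    · rw [TrivSqZeroExt.fst_mul, hx', zero_mul, TrivSqZeroExt.fst_zero]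
    · rw [TrivSqZeroExt.snd_mul, hx', hy', zero_smul, MulOpposite.op_zero, zero_smul, add_zero,
        TrivSqZeroExt.snd_zero]
  let χ₀ : B →ₐ[D] Tw B' := Algebra.FormallySmooth.liftOfSurjective
    (Ideal.Quotient.mkₐ D (Ideal.span {t ^ n})) fstA hsurj hnil
  let χ : B →+* TrivSqZeroExt B' B' := (Tw.toT B').toRingHom.comp χ₀.toRingHom
  have hχ : ∀ b, TrivSqZeroExt.fst (χ b) = Ideal.Quotient.mk _ b :=
    fun b => Algebra.FormallySmooth.liftOfSurjective_apply _ fstA hsurj hnil b
  have hχD : ∀ d, χ (algebraMap D B d) = gD e t d := fun d => χ₀.commutes d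
  have hχk : ∀ c : k, χ (algebraMap k B c) = TrivSqZeroExt.inl (algebraMap k B' c) := by
    intro c
    rw [IsScalarTower.algebraMap_apply k D B, hχD, AlgHom.commutes]
    rfl
  have hsmul : ∀ (a : B) (z : B'), a • z = Ideal.Quotient.mk _ a * z := fun a z => by
    rw [Algebra.smul_def]; rfl
  refine ⟨{ toFun := fun b => TrivSqZeroExt.snd (χ b)
            map_add' := fun a b => by rw [map_add, TrivSqZeroExt.snd_add]
            map_smul' := fun c b => by
              rw [Algebra.smul_def, map_mul, hχk, TrivSqZeroExt.snd_mul, TrivSqZeroExt.fst_inl,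
                TrivSqZeroExt.snd_inl, smul_zero, add_zero, RingHom.id_apply, algebraMap_smul]
            map_one_eq_zero' := by
              change TrivSqZeroExt.snd (χ 1) = 0
              rw [map_one]
              rfl
            leibniz' := fun a b => by
              change TrivSqZeroExt.snd (χ (a * b)) =
                a • TrivSqZeroExt.snd (χ b) + b • TrivSqZeroExt.snd (χ a)
              rw [map_mul, TrivSqZeroExt.snd_mul, hχ, hχ, hsmul, hsmul, op_smul_eq_smul,
                smul_eq_mul, smul_eq_mul] }, ?_⟩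
  change TrivSqZeroExt.snd (χ t) = 1
  have h3 : χ t = x₀ t n := by
    have h4 : χ (algebraMap D B τ) = x₀ t n := by rw [hχD, gD_tau e he]
    rw [← ht] at h4
    exact h4
  rw [h3]
  simp [x₀]

end Part3

section Part4

variable {k : Type u} [Field k] {n : ℕ} {D : Type u} [CommRing D] [Algebra k D] {τ : D}
  (e : (k[X] ⧸ Ideal.span {(X : k[X]) ^ (n + 1)}) ≃ₐ[k] D)
  (he : e (Ideal.Quotient.mk (Ideal.span {(X : k[X]) ^ (n + 1)}) X) = τ)

variable {B : Type u} [CommRing B] [Algebra k B] [Algebra D B] [IsScalarTower k D B]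
  {t : B} (ht : t = algebraMap D B τ)

include he ht in
theorem D_algebraMap_mem (d : D) :
    KaehlerDifferential.D k B (algebraMap D B d) ∈
      Submodule.span B {KaehlerDifferential.D k B t} := by
  have hd : d ∈ Algebra.adjoin k {τ} := by rw [adjoin_tau e he]; trivial
  induction hd using Algebra.adjoin_induction with
  | mem x hx =>
    rw [Set.mem_singleton_iff] at hx
    subst hx
    rw [← ht]
    exact Submodule.mem_span_singleton_self _
  | algebraMap c =>
    rw [← IsScalarTower.algebraMap_apply k D B, Derivation.map_algebraMap]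
    exact Submodule.zero_mem _
  | add x y _ _ hx hy =>
    rw [map_add, map_add]
    exact Submodule.add_mem _ hx hy
  | mul x y _ _ hx hy =>
    rw [map_mul, Derivation.leibniz]
    exact Submodule.add_mem _ (Submodule.smul_mem _ _ hy) (Submodule.smul_mem _ _ hx)

include he ht in
theorem ker_map_eq_span :
    LinearMap.ker (KaehlerDifferential.map k D B B) =
      Submodule.span B {KaehlerDifferential.D k B t} := by
  rw [← KaehlerDifferential.range_mapBaseChange]
  apply le_antisymm
  · rintro _ ⟨x, rfl⟩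
    induction x using TensorProduct.induction_on with
    | zero => rw [map_zero]; exact Submodule.zero_mem _
    | tmul b ω =>
      rw [KaehlerDifferential.mapBaseChange_tmul]
      apply Submodule.smul_mem
      have hω : ω ∈ Submodule.span D (Set.range (KaehlerDifferential.D k D)) := by
        rw [KaehlerDifferential.span_range_derivation]; trivial
      induction hω using Submodule.span_induction with
      | mem x hx =>
        obtain ⟨d, rfl⟩ := hx
        rw [KaehlerDifferential.map_D]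
        exact D_algebraMap_mem e he ht d
      | zero => rw [map_zero]; exact Submodule.zero_mem _
      | add x y _ _ hx hy => rw [map_add]; exact Submodule.add_mem _ hx hy
      | smul d x _ hx =>
        rw [map_smul, ← algebraMap_smul B d]
        exact Submodule.smul_mem _ _ hx
    | add x y hx hy => rw [map_add]; exact Submodule.add_mem _ hx hy
  · rw [Submodule.span_singleton_le_iff_mem]
    refine ⟨(1 : B) ⊗ₜ KaehlerDifferential.D k D τ, ?_⟩
    rw [KaehlerDifferential.mapBaseChange_tmul, one_smul, KaehlerDifferential.map_D, ← ht]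

variable (n) (t)

/-- `B / t^n` -/
abbrev Bq : Type u := B ⧸ Ideal.span {t ^ n}

/-- the element `1 ⊗ dt` -/
noncomputable def vt : Bq n t ⊗[B] Ω[B⁄k] := (1 : Bq n t) ⊗ₜ[B] KaehlerDifferential.D k B t

variable {n} {t}

include he ht in
theorem exact_span_baseChange :
    Function.Exact
      (LinearMap.toSpanSingleton (Bq n t) (Bq n t ⊗[B] Ω[B⁄k]) (vt (k := k) n t))
      (LinearMap.baseChange (Bq n t) (KaehlerDifferential.map k D B B)) := by
  set g₀ := KaehlerDifferential.map k D B B with hg₀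
  have hex : Function.Exact (LinearMap.ker g₀).subtype g₀ := LinearMap.exact_subtype_ker_map g₀
  have hs : Function.Surjective g₀ := KaehlerDifferential.map_surjective k D B
  have h1 := lTensor_exact (Bq n t) hex hs
  intro y
  have h2 : (LinearMap.baseChange (Bq n t) g₀) y = (g₀.lTensor (Bq n t)) y := rfl
  rw [h2, h1 y]
  clear h2
  constructor
  · rintro ⟨z, rfl⟩
    induction z using TensorProduct.induction_on with
    | zero => exact ⟨0, by simp⟩
    | tmul b x =>
      obtain ⟨x, hx⟩ := x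
      have hx' := hx
      rw [hg₀, ker_map_eq_span e he ht, Submodule.mem_span_singleton] at hx'
      obtain ⟨c, rfl⟩ := hx'
      refine ⟨b * Ideal.Quotient.mk _ c, ?_⟩
      rw [LinearMap.toSpanSingleton_apply, LinearMap.lTensor_tmul]
      change _ = b ⊗ₜ[B] (c • KaehlerDifferential.D k B t)
      rw [vt, TensorProduct.smul_tmul', smul_eq_mul, mul_one, TensorProduct.tmul_smul,
        TensorProduct.smul_tmul', Algebra.smul_def, mul_comm]
      rfl
    | add x y hx hy =>
      obtain ⟨a, ha⟩ := hx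
      obtain ⟨b, hb⟩ := hy
      exact ⟨a + b, by rw [map_add, map_add, ha, hb]⟩
  · rintro ⟨b, rfl⟩
    have hmem : KaehlerDifferential.D k B t ∈ LinearMap.ker g₀ := by
      rw [hg₀, ker_map_eq_span e he ht]
      exact Submodule.mem_span_singleton_self _
    refine ⟨b ⊗ₜ ⟨_, hmem⟩, ?_⟩
    rw [LinearMap.lTensor_tmul, LinearMap.toSpanSingleton_apply, vt, TensorProduct.smul_tmul',
      smul_eq_mul, mul_one]
    rfl

include he ht in
theorem injective_span [Algebra.FormallySmooth D B] :
    Function.Injective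
      (LinearMap.toSpanSingleton (Bq n t) (Bq n t ⊗[B] Ω[B⁄k]) (vt (k := k) n t)) := by
  obtain ⟨δ, hδ⟩ := exists_derivation (k := k) e he t ht
  let ρ : Bq n t ⊗[B] Ω[B⁄k] →ₗ[Bq n t] Bq n t :=
    LinearMap.liftBaseChange (Bq n t) δ.liftKaehlerDifferential
  have hρ : ∀ b, ρ (LinearMap.toSpanSingleton (Bq n t) (Bq n t ⊗[B] Ω[B⁄k]) (vt (k := k) n t) b) = b := by
    intro b
    rw [LinearMap.toSpanSingleton_apply, map_smul, vt, LinearMap.liftBaseChange_tmul,
      Derivation.liftKaehlerDifferential_comp_D, hδ, one_smul, smul_eq_mul, mul_one]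
  exact Function.LeftInverse.injective hρ

theorem surjective_baseChange :
    Function.Surjective (LinearMap.baseChange (Bq n t) (KaehlerDifferential.map k D B B)) := by
  have hs : Function.Surjective (KaehlerDifferential.map k D B B) :=
    KaehlerDifferential.map_surjective k D B
  exact LinearMap.lTensor_surjective (Bq n t) hs

include he ht in
theorem projective_baseChange [Algebra.FormallySmooth D B] :
    Module.Projective (Bq n t) (Bq n t ⊗[B] Ω[B⁄k]) := by
  have hex := exact_span_baseChange (k := k) e he ht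
  have hinj := injective_span (k := k) e he ht
  have hsurj := surjective_baseChange (k := k) (D := D) (n := n) (t := t)
  obtain ⟨σ, hσ⟩ := Module.projective_lifting_property
    (LinearMap.baseChange (Bq n t) (KaehlerDifferential.map k D B B)) LinearMap.id hsurj
  obtain ⟨eq, -⟩ := hex.splitSurjectiveEquiv hinj ⟨σ, hσ⟩
  exact Module.Projective.of_equiv eq.symm

end Part4

section Part5

variable {k : Type u} [Field k] {n : ℕ} {D : Type u} [CommRing D] [Algebra k D] {τ : D}
  (e : (k[X] ⧸ Ideal.span {(X : k[X]) ^ (n + 1)}) ≃ₐ[k] D)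
  (he : e (Ideal.Quotient.mk (Ideal.span {(X : k[X]) ^ (n + 1)}) X) = τ)

include he in
/-- the annihilator of `τ^b` in `D` is generated by `τ^a` when `a + b = n + 1` -/
theorem exists_of_tau_pow_mul_eq_zero (a b : ℕ) (hab : a + b = n + 1) (d : D)
    (hd : τ ^ b * d = 0) : ∃ d', d = τ ^ a * d' := by
  obtain ⟨q, rfl⟩ := e.surjective d
  obtain ⟨p, rfl⟩ := Ideal.Quotient.mk_surjective q
  rw [← he, ← map_pow, ← map_mul, ← map_pow, ← map_mul, map_eq_zero_iff _ e.injective,
    Ideal.Quotient.eq_zero_iff_mem, Ideal.mem_span_singleton, ← hab, pow_add, mul_comm] at hd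
  have h1 : (X : k[X]) ^ a ∣ p := by
    have hX : (X : k[X]) ^ b ≠ 0 := pow_ne_zero _ Polynomial.X_ne_zero
    exact (mul_dvd_mul_iff_left hX).1 hd
  obtain ⟨r, rfl⟩ := h1
  exact ⟨e (Ideal.Quotient.mk _ r), by rw [← he, ← map_pow, ← map_mul, ← map_pow, ← map_mul]⟩

variable {B : Type u} [CommRing B] [Algebra k B] [Algebra D B] [IsScalarTower k D B]
  [Module.Flat D B] {t : B} (ht : t = algebraMap D B τ)

include he ht in
/-- by flatness the same holds in `B` -/
theorem exists_of_t_pow_mul_eq_zero (a b : ℕ) (hab : a + b = n + 1) (x : B)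
    (hx : t ^ b * x = 0) : ∃ y, x = t ^ a * y := by
  let f : D →ₗ[D] D := LinearMap.lsmul D D (τ ^ a)
  let g : D →ₗ[D] D := LinearMap.lsmul D D (τ ^ b)
  have hex : Function.Exact f g := by
    intro d
    constructor
    · intro hd
      obtain ⟨d', rfl⟩ := exists_of_tau_pow_mul_eq_zero e he a b hab d hd
      exact ⟨d', rfl⟩
    · rintro ⟨d', rfl⟩
      change τ ^ b * (τ ^ a * d') = 0
      rw [← mul_assoc, ← pow_add, add_comm, hab, tau_pow e he, zero_mul]
  have hex' := Module.Flat.lTensor_exact B hex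
  have h1 : (g.lTensor B) (x ⊗ₜ (1 : D)) = 0 := by
    rw [LinearMap.lTensor_tmul]
    change x ⊗ₜ[D] (τ ^ b • (1 : D)) = 0
    rw [← TensorProduct.smul_tmul, Algebra.smul_def, map_pow, ← ht, hx, TensorProduct.zero_tmul]
  obtain ⟨w, hw⟩ := (hex' _).1 h1
  have h2 : ∀ w : B ⊗[D] D, TensorProduct.rid D B ((f.lTensor B) w) =
      t ^ a * TensorProduct.rid D B w := by
    intro w
    induction w using TensorProduct.induction_on with
    | zero => simp
    | tmul b d =>
      rw [LinearMap.lTensor_tmul, TensorProduct.rid_tmul, TensorProduct.rid_tmul]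
      change (τ ^ a * d) • b = _
      rw [mul_smul, Algebra.smul_def (τ ^ a), map_pow, ← ht]
    | add x y hx hy => rw [map_add, map_add, map_add, hx, hy, mul_add]
  refine ⟨TensorProduct.rid D B w, ?_⟩
  rw [← h2, hw, TensorProduct.rid_tmul, one_smul]

end Part5

section Part6

variable {k : Type u} [Field k] {n : ℕ} {D : Type u} [CommRing D] [Algebra k D] {τ : D}
  (e : (k[X] ⧸ Ideal.span {(X : k[X]) ^ (n + 1)}) ≃ₐ[k] D)
  (he : e (Ideal.Quotient.mk (Ideal.span {(X : k[X]) ^ (n + 1)}) X) = τ)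

variable {B : Type u} [CommRing B] [Algebra k B] [Algebra D B] [IsScalarTower k D B]
  {t : B} (ht : t = algebraMap D B τ)

/-- `x ↦ 1 ⊗ x` -/
noncomputable def iota (n : ℕ) (t : B) : Ω[B⁄k] →ₗ[B] Bq n t ⊗[B] Ω[B⁄k] :=
  TensorProduct.mk B (Bq n t) Ω[B⁄k] 1

theorem iota_apply (x : Ω[B⁄k]) : iota (k := k) n t x = (1 : Bq n t) ⊗ₜ[B] x := rfl

theorem iota_smul (b : B) (x : Ω[B⁄k]) :
    iota (k := k) n t (b • x) = (Ideal.Quotient.mk (Ideal.span {t ^ n}) b) • iota (k := k) n t x := by
  rw [map_smul, iota_apply, TensorProduct.smul_tmul', TensorProduct.smul_tmul']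
  congr 1

theorem iota_D_t : iota (k := k) n t (KaehlerDifferential.D k B t) = vt (k := k) n t := rfl

theorem natCast_mul_mem [CharZero k] {R : Type u} [CommRing R] [Algebra k R] (I : Ideal R) (m : ℕ) (hm : m ≠ 0)
    (x : R) (hx : (m : R) * x ∈ I) : x ∈ I := by
  have hu : IsUnit (m : R) := by
    have h1 : IsUnit (m : k) := (Nat.cast_ne_zero.2 hm).isUnit
    have h2 := h1.map (algebraMap k R)
    rwa [map_natCast] at h2
  exact (Ideal.unit_mul_mem_iff_mem I hu).1 hx

include he ht in
theorem t_pow_succ : t ^ (n + 1) = 0 := by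
  rw [ht, ← map_pow, tau_pow e he, map_zero]

/-- the formula for `1 ⊗ d(t^n c)` -/
theorem iota_D_mul (c : B) :
    iota (k := k) n t (KaehlerDifferential.D k B (t ^ n * c)) =
      Ideal.Quotient.mk (Ideal.span {t ^ n}) ((n : B) * (t ^ (n - 1) * c)) • vt (k := k) n t := by
  rw [Derivation.leibniz, Derivation.leibniz_pow, map_add, iota_smul, iota_smul,
    ← Nat.cast_smul_eq_nsmul B, iota_smul, iota_smul, iota_D_t,
    Ideal.Quotient.eq_zero_iff_mem.2 (Ideal.mem_span_singleton_self (t ^ n)), zero_smul, zero_add,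
    smul_smul, smul_smul]
  congr 1
  rw [← map_mul, ← map_mul]
  congr 1
  ring

variable [Module.Flat D B]

include he ht in
theorem mu_injective [CharZero k] (hn : 1 ≤ n) [Algebra.FormallySmooth D B] :
    Function.Injective (fun f : B =>
      ((Ideal.Quotient.mk (Ideal.span {t ^ n}) f,
        (1 : (B ⧸ Ideal.span {t ^ n})) ⊗ₜ[B] KaehlerDifferential.D k B f) :
        (B ⧸ Ideal.span {t ^ n}) × ((B ⧸ Ideal.span {t ^ n}) ⊗[B] Ω[B⁄k]))) := by
  intro f f' hff'
  have h1 : Ideal.Quotient.mk (Ideal.span {t ^ n}) (f - f') = 0 := by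
    rw [map_sub, sub_eq_zero]
    exact congrArg Prod.fst hff'
  have h2 : iota (k := k) n t (KaehlerDifferential.D k B (f - f')) = 0 := by
    rw [map_sub, map_sub, sub_eq_zero]
    exact congrArg Prod.snd hff'
  rw [Ideal.Quotient.eq_zero_iff_mem, Ideal.mem_span_singleton] at h1
  obtain ⟨c, hc⟩ := h1
  rw [hc, iota_D_mul] at h2
  have h3 : Ideal.Quotient.mk (Ideal.span {t ^ n}) ((n : B) * (t ^ (n - 1) * c)) = 0 := by
    apply injective_span (k := k) e he ht
    rw [map_zero]
    exact h2
  rw [Ideal.Quotient.eq_zero_iff_mem] at h3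
  have h4 := natCast_mul_mem (k := k) _ n (by omega) _ h3
  rw [Ideal.mem_span_singleton] at h4
  obtain ⟨c', hc'⟩ := h4
  have h5 : t ^ (n - 1) * (c - t * c') = 0 := by
    rw [mul_sub, hc', ← mul_assoc, ← pow_succ, Nat.sub_add_cancel hn, sub_self]
  obtain ⟨y, hy⟩ := exists_of_t_pow_mul_eq_zero e he ht 2 (n - 1) (by omega) _ h5
  have h6 : f - f' = 0 := by
    rw [hc]
    have : c = t * (c' + t * y) := by
      have := sub_eq_iff_eq_add.1 hy
      rw [this]; ring
    rw [this, ← mul_assoc, ← pow_succ, t_pow_succ e he ht, zero_mul]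
  exact sub_eq_zero.1 h6

omit [Module.Flat D B] in
theorem mu_range :
    Set.range (fun f : B =>
      ((Ideal.Quotient.mk (Ideal.span {t ^ n}) f,
        (1 : (B ⧸ Ideal.span {t ^ n})) ⊗ₜ[B] KaehlerDifferential.D k B f) :
        (B ⧸ Ideal.span {t ^ n}) × ((B ⧸ Ideal.span {t ^ n}) ⊗[B] Ω[B⁄k]))) =
      {p | KaehlerDifferential.D k (B ⧸ Ideal.span {t ^ n}) p.1 =
        KaehlerDifferential.mapBaseChange k B (B ⧸ Ideal.span {t ^ n}) p.2} := by
  ext ⟨g, α⟩
  constructor
  · rintro ⟨f, hf⟩
    obtain ⟨rfl, rfl⟩ := Prod.ext_iff.1 hf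
    change KaehlerDifferential.D k (B ⧸ Ideal.span {t ^ n}) (Ideal.Quotient.mk _ f) =
      KaehlerDifferential.mapBaseChange k B (B ⧸ Ideal.span {t ^ n})
        ((1 : (B ⧸ Ideal.span {t ^ n})) ⊗ₜ[B] KaehlerDifferential.D k B f)
    rw [KaehlerDifferential.mapBaseChange_tmul, one_smul, KaehlerDifferential.map_D]
    rfl
  · intro hp
    change KaehlerDifferential.D k (B ⧸ Ideal.span {t ^ n}) g =
      KaehlerDifferential.mapBaseChange k B (B ⧸ Ideal.span {t ^ n}) α at hp
    obtain ⟨f₀, rfl⟩ := Ideal.Quotient.mk_surjective g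
    have hsurj : Function.Surjective (algebraMap B (B ⧸ Ideal.span {t ^ n})) :=
      Ideal.Quotient.mk_surjective
    have hβ : KaehlerDifferential.mapBaseChange k B (B ⧸ Ideal.span {t ^ n})
        (α - (1 : (B ⧸ Ideal.span {t ^ n})) ⊗ₜ[B] KaehlerDifferential.D k B f₀) = 0 := by
      rw [map_sub, ← hp, KaehlerDifferential.mapBaseChange_tmul, one_smul,
        KaehlerDifferential.map_D, sub_eq_zero]
      rfl
    obtain ⟨x, hx⟩ := (KaehlerDifferential.exact_kerCotangentToTensor_mapBaseChange k B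
      (B ⧸ Ideal.span {t ^ n}) hsurj _).1 hβ
    obtain ⟨⟨y, hy⟩, rfl⟩ := Ideal.toCotangent_surjective _ x
    rw [KaehlerDifferential.kerCotangentToTensor_toCotangent] at hx
    refine ⟨f₀ + y, ?_⟩
    have hy0 : Ideal.Quotient.mk (Ideal.span {t ^ n}) y = 0 := hy
    apply Prod.ext
    · change Ideal.Quotient.mk (Ideal.span {t ^ n}) (f₀ + y) = Ideal.Quotient.mk _ f₀
      rw [map_add, hy0, add_zero]
    · change (1 : (B ⧸ Ideal.span {t ^ n})) ⊗ₜ[B] KaehlerDifferential.D k B (f₀ + y) = α
      rw [map_add, TensorProduct.tmul_add, hx]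
      abel

end Part6

section Part7

variable {k : Type u} [Field k] {n : ℕ} {D : Type u} [CommRing D] [Algebra k D] {τ : D}
  (e : (k[X] ⧸ Ideal.span {(X : k[X]) ^ (n + 1)}) ≃ₐ[k] D)
  (he : e (Ideal.Quotient.mk (Ideal.span {(X : k[X]) ^ (n + 1)}) X) = τ)

variable {B : Type u} [CommRing B] [Algebra k B] [Algebra D B] [IsScalarTower k D B]
  {t : B} (ht : t = algebraMap D B τ)

/-- the two maps `Ω_{B/k} → Ω_{B'/D}` agree -/
theorem map_map_eq (ω : Ω[B⁄k]) :
    KaehlerDifferential.map D D B (B ⧸ Ideal.span {t ^ n}) (KaehlerDifferential.map k D B B ω) =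
      KaehlerDifferential.map k D (B ⧸ Ideal.span {t ^ n}) (B ⧸ Ideal.span {t ^ n})
        (KaehlerDifferential.map k k B (B ⧸ Ideal.span {t ^ n}) ω) := by
  have hω : ω ∈ Submodule.span B (Set.range (KaehlerDifferential.D k B)) := by
    rw [KaehlerDifferential.span_range_derivation]; trivial
  induction hω using Submodule.span_induction with
  | mem x hx =>
    obtain ⟨f, rfl⟩ := hx
    rw [KaehlerDifferential.map_D, KaehlerDifferential.map_D, KaehlerDifferential.map_D,
      KaehlerDifferential.map_D]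
    rfl
  | zero => simp
  | add x y _ _ hx hy => rw [map_add, map_add, map_add, map_add, hx, hy]
  | smul b x _ hx =>
    rw [map_smul, map_smul, map_smul, hx, ← algebraMap_smul (B ⧸ Ideal.span {t ^ n}) b,
      ← algebraMap_smul (B ⧸ Ideal.span {t ^ n}) b
        (KaehlerDifferential.map k k B (B ⧸ Ideal.span {t ^ n}) x), map_smul]

/-- compatibility of the two base-change maps -/
theorem psi_baseChange (x : (B ⧸ Ideal.span {t ^ n}) ⊗[B] Ω[B⁄k]) :
    KaehlerDifferential.mapBaseChange D B (B ⧸ Ideal.span {t ^ n})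
        (LinearMap.baseChange (B ⧸ Ideal.span {t ^ n}) (KaehlerDifferential.map k D B B) x) =
      KaehlerDifferential.map k D (B ⧸ Ideal.span {t ^ n}) (B ⧸ Ideal.span {t ^ n})
        (KaehlerDifferential.mapBaseChange k B (B ⧸ Ideal.span {t ^ n}) x) := by
  induction x using TensorProduct.induction_on with
  | zero => simp
  | tmul b ω =>
    rw [LinearMap.baseChange_tmul, KaehlerDifferential.mapBaseChange_tmul,
      KaehlerDifferential.mapBaseChange_tmul, map_smul, map_map_eq]
  | add x y hx hy => rw [map_add, map_add, map_add, map_add, hx, hy]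

include he ht in
omit [IsScalarTower k D B] [Algebra k B] in
/-- `B' ⊗ Ω_{B/D} → Ω_{B'/D}` is injective, as `t^n` comes from `D` -/
theorem psi_injective :
    Function.Injective (KaehlerDifferential.mapBaseChange D B (B ⧸ Ideal.span {t ^ n})) := by
  rw [injective_iff_map_eq_zero]
  intro x hx
  have hsurj : Function.Surjective (algebraMap B (B ⧸ Ideal.span {t ^ n})) :=
    Ideal.Quotient.mk_surjective
  obtain ⟨z, rfl⟩ := (KaehlerDifferential.exact_kerCotangentToTensor_mapBaseChange D B
    (B ⧸ Ideal.span {t ^ n}) hsurj _).1 hx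
  obtain ⟨⟨y, hy⟩, rfl⟩ := Ideal.toCotangent_surjective _ z
  rw [KaehlerDifferential.kerCotangentToTensor_toCotangent]
  have hy' : y ∈ Ideal.span {t ^ n} := by
    have : Ideal.Quotient.mk (Ideal.span {t ^ n}) y = 0 := hy
    exact Ideal.Quotient.eq_zero_iff_mem.1 this
  obtain ⟨c, rfl⟩ := Ideal.mem_span_singleton.1 hy'
  change (1 : B ⧸ Ideal.span {t ^ n}) ⊗ₜ[B] KaehlerDifferential.D D B (t ^ n * c) = 0
  have h1 : KaehlerDifferential.D D B (t ^ n) = 0 := by
    rw [ht, ← map_pow, Derivation.map_algebraMap]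
  rw [Derivation.leibniz, h1, smul_zero, add_zero, ← TensorProduct.smul_tmul, Algebra.smul_def,
    mul_one]
  have h2 : algebraMap B (B ⧸ Ideal.span {t ^ n}) (t ^ n) = 0 :=
    Ideal.Quotient.eq_zero_iff_mem.2 (Ideal.mem_span_singleton_self _)
  rw [h2, TensorProduct.zero_tmul]

include he ht in
theorem nu_injective [CharZero k] [Algebra.FormallySmooth D B] :
    Function.Injective (fun η : Ω[B⁄k] =>
      ((KaehlerDifferential.map k D B B η, (1 : (B ⧸ Ideal.span {t ^ n})) ⊗ₜ[B] η) :
        Ω[B⁄D] × ((B ⧸ Ideal.span {t ^ n}) ⊗[B] Ω[B⁄k]))) := by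
  intro η η' hηη'
  have h1 : KaehlerDifferential.map k D B B (η - η') = 0 := by
    rw [map_sub, sub_eq_zero]
    exact congrArg Prod.fst hηη'
  have h2 : iota (k := k) n t (η - η') = 0 := by
    rw [map_sub, sub_eq_zero]
    exact congrArg Prod.snd hηη'
  have h3 : η - η' ∈ LinearMap.ker (KaehlerDifferential.map k D B B) := h1
  rw [ker_map_eq_span e he ht, Submodule.mem_span_singleton] at h3
  obtain ⟨b, hb⟩ := h3
  rw [← hb, iota_smul, iota_D_t] at h2
  have h4 : Ideal.Quotient.mk (Ideal.span {t ^ n}) b = 0 := by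
    apply injective_span (k := k) e he ht
    rw [map_zero]
    exact h2
  rw [Ideal.Quotient.eq_zero_iff_mem, Ideal.mem_span_singleton] at h4
  obtain ⟨c, rfl⟩ := h4
  have h5 : ((n + 1 : ℕ) : B) • (t ^ n • KaehlerDifferential.D k B t) = 0 := by
    have := Derivation.leibniz_pow (KaehlerDifferential.D k B) t (n + 1)
    rw [t_pow_succ e he ht, map_zero, Nat.add_sub_cancel, ← Nat.cast_smul_eq_nsmul B] at this
    exact this.symm
  have h6 : t ^ n • KaehlerDifferential.D k B t = 0 := by
    have hu : IsUnit (((n + 1 : ℕ) : B)) := by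
      have h1 : IsUnit (((n + 1 : ℕ) : k)) := (Nat.cast_ne_zero.2 (Nat.succ_ne_zero n)).isUnit
      have h2 := h1.map (algebraMap k B)
      rwa [map_natCast] at h2
    obtain ⟨u, hu⟩ := hu
    rw [← hu] at h5
    have := congrArg (fun z => (↑u⁻¹ : B) • z) h5
    simpa [smul_smul] using this
  have h7 : η - η' = 0 := by
    rw [← hb, mul_comm, mul_smul, h6, smul_zero]
  exact sub_eq_zero.1 h7

include he ht in
theorem nu_range :
    Set.range (fun η : Ω[B⁄k] =>
      ((KaehlerDifferential.map k D B B η, (1 : (B ⧸ Ideal.span {t ^ n})) ⊗ₜ[B] η) :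
        Ω[B⁄D] × ((B ⧸ Ideal.span {t ^ n}) ⊗[B] Ω[B⁄k]))) =
      {p | KaehlerDifferential.map D D B (B ⧸ Ideal.span {t ^ n}) p.1 =
        KaehlerDifferential.map k D (B ⧸ Ideal.span {t ^ n}) (B ⧸ Ideal.span {t ^ n})
          (KaehlerDifferential.mapBaseChange k B (B ⧸ Ideal.span {t ^ n}) p.2)} := by
  ext ⟨α, β⟩
  constructor
  · rintro ⟨η, hη⟩
    obtain ⟨rfl, rfl⟩ := Prod.ext_iff.1 hη
    change KaehlerDifferential.map D D B (B ⧸ Ideal.span {t ^ n}) (KaehlerDifferential.map k D B B η) =
      KaehlerDifferential.map k D (B ⧸ Ideal.span {t ^ n}) (B ⧸ Ideal.span {t ^ n})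
        (KaehlerDifferential.mapBaseChange k B (B ⧸ Ideal.span {t ^ n})
          ((1 : (B ⧸ Ideal.span {t ^ n})) ⊗ₜ[B] η))
    rw [KaehlerDifferential.mapBaseChange_tmul, one_smul, map_map_eq]
  · intro hp
    change KaehlerDifferential.map D D B (B ⧸ Ideal.span {t ^ n}) α =
      KaehlerDifferential.map k D (B ⧸ Ideal.span {t ^ n}) (B ⧸ Ideal.span {t ^ n})
        (KaehlerDifferential.mapBaseChange k B (B ⧸ Ideal.span {t ^ n}) β) at hp
    obtain ⟨η₀, rfl⟩ := KaehlerDifferential.map_surjective k D B α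
    have hγ : LinearMap.baseChange (B ⧸ Ideal.span {t ^ n}) (KaehlerDifferential.map k D B B)
        (β - iota (k := k) n t η₀) = 0 := by
      apply psi_injective e he ht
      rw [map_zero, psi_baseChange, map_sub, map_sub, ← hp, iota_apply,
        KaehlerDifferential.mapBaseChange_tmul, one_smul, map_map_eq, sub_self]
    obtain ⟨b', hb'⟩ := (exact_span_baseChange (k := k) e he ht _).1 hγ
    obtain ⟨c, rfl⟩ := Ideal.Quotient.mk_surjective b'
    rw [LinearMap.toSpanSingleton_apply] at hb'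
    refine ⟨η₀ + c • KaehlerDifferential.D k B t, ?_⟩
    apply Prod.ext
    · change KaehlerDifferential.map k D B B (η₀ + c • KaehlerDifferential.D k B t) = _
      have h1 : KaehlerDifferential.map k D B B (KaehlerDifferential.D k B t) = 0 := by
        rw [KaehlerDifferential.map_D, ht]
        exact Derivation.map_algebraMap _ _
      rw [map_add, map_smul, h1, smul_zero, add_zero]
    · change iota (k := k) n t (η₀ + c • KaehlerDifferential.D k B t) = β
      rw [map_add, iota_smul, iota_D_t, hb']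
      abel

end Part7

end Groth.Agent.Lib.Helper76.DefoDiff
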