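import Mathlib
import Groth.Prelude.Def_ArtFun5

set_option autoImplicit false
universe u v

namespace Groth.Agent.Lib.Helper76

open ArtFun

section Limits

variable {R : Type*} [CommRing R] (I : Ideal R)

theorem smodEq_pow_iff (n : ℕ) (x y : R) :
    x ≡ y [SMOD (I ^ n • ⊤ : Submodule R R)] ↔ x - y ∈ I ^ n := by
  rw [SModEq.sub_mem, smul_eq_mul, Ideal.mul_top]

/-- limits of sequences whose successive differences lie in `I ^ n` -/
theorem exists_adic_limit [IsPrecomplete I R] (f : ℕ → R) (h : ∀ n, f n - f (n + 1) ∈ I ^ n) :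
    ∃ L : R, ∀ n, f n - L ∈ I ^ n := by
  have hc : AdicCompletion.IsAdicCauchy I R f := by
    rw [AdicCompletion.isAdicCauchy_iff]
    intro n
    rw [smodEq_pow_iff]
    exact h n
  obtain ⟨L, hL⟩ := IsPrecomplete.prec ‹_› hc
  refine ⟨L, fun n => ?_⟩
  rw [← smodEq_pow_iff]
  exact hL n

/-- tails of such sequences -/
theorem sub_mem_pow_of_succ (f : ℕ → R) (a : ℕ → ℕ) (ha : Monotone a)
    (h : ∀ n, f n - f (n + 1) ∈ I ^ (a n)) (m n : ℕ) (hmn : m ≤ n) : f m - f n ∈ I ^ (a m) := by
  induction n, hmn using Nat.le_induction with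
  | base => rw [sub_self]; exact Ideal.zero_mem _
  | succ n hmn ih =>
    have : f m - f (n + 1) = (f m - f n) + (f n - f (n + 1)) := by ring
    rw [this]
    exact Ideal.add_mem _ ih (Ideal.pow_le_pow_right (ha hmn) (h n))

end Limits

section Quot

variable {Λ k : Type u} [CommRing Λ] [Field k] [Algebra Λ k]

variable (S : CRing Λ k) (K : Ideal S.carrier) (hK : K ≤ IsLocalRing.maximalIdeal S.carrier)

include hK in
theorem quot_ne_top : K ≠ ⊤ :=
  fun h => (IsLocalRing.maximalIdeal.isMaximal S.carrier).ne_top (top_le_iff.1 (h ▸ hK))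

include hK in
theorem quot_isLocalRing : IsLocalRing (S.carrier ⧸ K) :=
  haveI : Nontrivial (S.carrier ⧸ K) := Ideal.Quotient.nontrivial_iff.2 (quot_ne_top S K hK)
  IsLocalRing.of_surjective' (Ideal.Quotient.mk K) Ideal.Quotient.mk_surjective

include hK in
theorem quot_maximalIdeal_eq :
    haveI := quot_isLocalRing S K hK
    IsLocalRing.maximalIdeal (S.carrier ⧸ K) =
      (IsLocalRing.maximalIdeal S.carrier).map (Ideal.Quotient.mk K) := by
  haveI := quot_isLocalRing S K hK
  have hmax : ((IsLocalRing.maximalIdeal S.carrier).map (Ideal.Quotient.mk K)).IsMaximal := by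
    apply Ideal.IsMaximal.map_of_surjective_of_ker_le Ideal.Quotient.mk_surjective
    rw [Ideal.mk_ker]
    exact hK
  exact (IsLocalRing.eq_maximalIdeal hmax).symm

include hK in
theorem quot_isPrecomplete :
    haveI := quot_isLocalRing S K hK
    IsPrecomplete (IsLocalRing.maximalIdeal (S.carrier ⧸ K)) (S.carrier ⧸ K) := by
  haveI := quot_isLocalRing S K hK
  haveI : IsPrecomplete (IsLocalRing.maximalIdeal S.carrier) S.carrier := S.isAdicComplete.toIsPrecomplete
  rw [quot_maximalIdeal_eq S K hK]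
  refine ⟨fun {f} hf => ?_⟩
  -- successive differences
  have hf' : ∀ n, f n - f (n + 1) ∈
      ((IsLocalRing.maximalIdeal S.carrier).map (Ideal.Quotient.mk K)) ^ n := by
    intro n
    rw [← smodEq_pow_iff]
    exact hf (Nat.le_succ n)
  have hd : ∀ n, ∃ d : S.carrier, d ∈ IsLocalRing.maximalIdeal S.carrier ^ n ∧
      Ideal.Quotient.mk K d = f n - f (n + 1) := by
    intro n
    have := hf' n
    rw [← Ideal.map_pow] at this
    obtain ⟨d, hd, hd'⟩ := (Ideal.mem_map_iff_of_surjective _ Ideal.Quotient.mk_surjective).1 this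
    exact ⟨d, hd, hd'⟩
  choose d hd₁ hd₂ using hd
  obtain ⟨g₀, hg₀⟩ := Ideal.Quotient.mk_surjective (f 0)
  let g : ℕ → S.carrier := fun n => Nat.rec g₀ (fun i y => y - d i) n
  have hg_succ : ∀ n, g (n + 1) = g n - d n := fun n => rfl
  have hg : ∀ n, Ideal.Quotient.mk K (g n) = f n := by
    intro n
    induction n with
    | zero => exact hg₀
    | succ n ih => rw [hg_succ, map_sub, ih, hd₂, sub_sub_cancel]
  obtain ⟨L, hL⟩ := exists_adic_limit (IsLocalRing.maximalIdeal S.carrier) g (fun n => by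
    rw [hg_succ, sub_sub_cancel]; exact hd₁ n)
  refine ⟨Ideal.Quotient.mk K L, fun n => ?_⟩
  rw [smodEq_pow_iff, ← hg, ← map_sub, ← Ideal.map_pow]
  exact Ideal.mem_map_of_mem _ (hL n)

/-- the quotient of a coefficient ring by an ideal inside the maximal ideal -/
noncomputable def quotCRing : CRing Λ k :=
  haveI := quot_isLocalRing S K hK
  { carrier := S.carrier ⧸ K
    res := Ideal.Quotient.liftₐ K S.res (fun a ha => (S.mem_maximalIdeal_iff a).1 (hK ha))
    res_surjective := fun c => by
      obtain ⟨a, ha⟩ := S.res_surjective c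
      exact ⟨Ideal.Quotient.mk K a, ha⟩
    isAdicComplete :=
      { toIsHausdorff := inferInstance
        toIsPrecomplete := quot_isPrecomplete S K hK } }

/-- the quotient map -/
noncomputable def quotCRingMk : S.carrier →ₐ[Λ] (quotCRing S K hK).carrier :=
  Ideal.Quotient.mkₐ Λ K

theorem quotCRingMk_surjective : Function.Surjective (quotCRingMk S K hK) :=
  Ideal.Quotient.mk_surjective

theorem quotCRing_res_comp : (quotCRing S K hK).res.comp (quotCRingMk S K hK) = S.res :=
  AlgHom.ext fun _ => rfl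

theorem quotCRingMk_eq_zero_iff (s : S.carrier) : quotCRingMk S K hK s = 0 ↔ s ∈ K :=
  Ideal.Quotient.eq_zero_iff_mem

theorem quotCRing_maximalIdeal :
    IsLocalRing.maximalIdeal (quotCRing S K hK).carrier =
      (IsLocalRing.maximalIdeal S.carrier).map (quotCRingMk S K hK : S.carrier →+* _) :=
  quot_maximalIdeal_eq S K hK

end Quot

end Groth.Agent.Lib.Helper76
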