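import Mathlib
import Groth.Agent.Lib.Helper76.SchlQuot

set_option autoImplicit false
universe u v

namespace Groth.Agent.Lib.Helper76

open IsLocalRing


section KerSq

variable {B A : Type*} [CommRing B] [CommRing A] [IsLocalRing B] [IsLocalRing A]
  [IsNoetherianRing B]

/-- a surjection of local rings which does not lower the minimal number of generators of the
maximal ideal has kernel inside the square of the maximal ideal -/
theorem ker_le_sq_of_spanFinrank_le (f : B →+* A) (hf : Function.Surjective f)
    (h : (maximalIdeal B).spanFinrank ≤ (maximalIdeal A).spanFinrank) :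
    RingHom.ker f ≤ maximalIdeal B ^ 2 := by
  classical
  have hloc : IsLocalHom f := IsLocalHom.of_surjective f hf
  have fg : (maximalIdeal B).FG := (maximalIdeal B).fg_of_isNoetherianRing
  obtain ⟨s, hs_card, hs_span⟩ := Submodule.FG.exists_span_finset_card_eq_spanFinrank fg
  have hmapmax : (maximalIdeal B).map f = maximalIdeal A := by
    apply le_antisymm
    · rw [Ideal.map_le_iff_le_comap]
      intro x hx
      rw [Ideal.mem_comap, mem_maximalIdeal, mem_nonunits_iff]
      intro hu
      exact hx (hloc.map_nonunit x hu)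
    · intro y hy
      obtain ⟨x, rfl⟩ := hf y
      refine Ideal.mem_map_of_mem f ?_
      rw [mem_maximalIdeal, mem_nonunits_iff]
      intro hu
      exact hy (hu.map f)
  intro x hx
  have hxm : x ∈ maximalIdeal B := by
    rw [mem_maximalIdeal, mem_nonunits_iff]
    intro hu
    have := hu.map f
    rw [RingHom.mem_ker.1 hx] at this
    exact not_isUnit_zero this
  have hxs : x ∈ Submodule.span B (s : Set B) := by rw [hs_span]; exact hxm
  obtain ⟨b, -, hb⟩ := Submodule.mem_span_finset.1 hxs
  have hsm : ∀ i ∈ s, i ∈ maximalIdeal B := by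
    intro i hi
    rw [← hs_span]
    exact Submodule.subset_span hi
  have hbm : ∀ j ∈ s, b j ∈ maximalIdeal B := by
    intro j hj
    by_contra hu
    rw [mem_maximalIdeal, mem_nonunits_iff, not_not] at hu
    -- the images of the other generators generate the maximal ideal of `A`
    let t : Finset A := (s.erase j).image f
    have ht : Ideal.span (t : Set A) = maximalIdeal A := by
      apply le_antisymm
      · rw [Ideal.span_le]
        intro y hy
        rw [Finset.mem_coe, Finset.mem_image] at hy
        obtain ⟨i, hi, rfl⟩ := hy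
        rw [← hmapmax]
        exact Ideal.mem_map_of_mem f (hsm i (Finset.mem_of_mem_erase hi))
      · have hj' : f j ∈ Ideal.span (t : Set A) := by
          have h0 : f (∑ i ∈ s, b i • i) = 0 := by rw [hb]; exact hx
          rw [map_sum, ← Finset.add_sum_erase s _ hj] at h0
          have h1 : f (b j) * f j = -∑ i ∈ s.erase j, f (b i • i) := by
            rw [eq_neg_iff_add_eq_zero, ← h0, smul_eq_mul, map_mul]
          have h2 : f j = (hu.map f).unit⁻¹ * (f (b j) * f j) := by
            rw [← mul_assoc, IsUnit.val_inv_mul, one_mul]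
          rw [h2, h1]
          refine Ideal.mul_mem_left _ _ ((Ideal.neg_mem_iff _).2 (Ideal.sum_mem _ fun i hi => ?_))
          rw [smul_eq_mul, map_mul]
          refine Ideal.mul_mem_left _ _ (Ideal.subset_span ?_)
          rw [Finset.mem_coe, Finset.mem_image]
          exact ⟨i, hi, rfl⟩
        rw [← hmapmax, ← hs_span, Ideal.map_le_iff_le_comap]
        show Submodule.span B (s : Set B) ≤ _
        rw [Submodule.span_le]
        intro i hi
        show f i ∈ Ideal.span (t : Set A)
        by_cases hij : i = j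
        · rw [hij]; exact hj'
        · refine Ideal.subset_span ?_
          rw [Finset.mem_coe, Finset.mem_image]
          exact ⟨i, Finset.mem_erase.2 ⟨hij, hi⟩, rfl⟩
    have h3 : (maximalIdeal A).spanFinrank ≤ t.card := by
      rw [← ht]
      have := Submodule.spanFinrank_span_le_ncard_of_finite (R := A) (s := (t : Set A)) t.finite_toSet
      rwa [Set.ncard_coe_finset] at this
    have h4 : t.card ≤ (s.erase j).card := Finset.card_image_le
    have h5 : (s.erase j).card < s.card := Finset.card_erase_lt_of_mem hj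
    omega
  rw [← hb, sq]
  refine Ideal.sum_mem _ fun i hi => ?_
  rw [smul_eq_mul]
  exact Ideal.mul_mem_mul (hbm i hi) (hsm i hi)

end KerSq



section SubalgTop

variable {Λ B : Type*} [CommRing Λ] [CommRing B] [Algebra Λ B] [IsLocalRing B]

/-- a subalgebra of a local ring with nilpotent maximal ideal which surjects modulo the square
of the maximal ideal is everything -/
theorem subalgebra_eq_top_of_sq (hnil : ∃ N, maximalIdeal B ^ N = ⊥) (R : Subalgebra Λ B)
    (h : ∀ b : B, ∃ r ∈ R, b - r ∈ maximalIdeal B ^ 2) : R = ⊤ := by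
  have key : ∀ j : ℕ, ∀ b : B, ∃ r ∈ R, b - r ∈ maximalIdeal B ^ (j + 2) := by
    intro j
    induction j with
    | zero => exact h
    | succ j ih =>
      have sub : ∀ y ∈ maximalIdeal B ^ (j + 2), ∃ r ∈ R, y - r ∈ maximalIdeal B ^ (j + 3) := by
        intro y hy
        rw [show j + 2 = (j + 1) + 1 from rfl, pow_succ'] at hy
        refine Submodule.mul_induction_on hy ?_ ?_
        · intro x hx z hz
          obtain ⟨r, hr, hxr⟩ := ih x
          obtain ⟨r', hr', hzr⟩ := ih z
          refine ⟨r * r', R.mul_mem hr hr', ?_⟩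
          have hrm : r ∈ maximalIdeal B := by
            have : r = x - (x - r) := by ring
            rw [this]
            exact Ideal.sub_mem _ hx (Ideal.pow_le_self (by omega) hxr)
          have e : x * z - r * r' = r * (z - r') + (x - r) * z := by ring
          rw [e]
          refine Ideal.add_mem _ ?_ ?_
          · have := Ideal.mul_mem_mul hrm hzr
            rwa [← pow_succ'] at this
          · have := Ideal.mul_mem_mul hxr hz
            rw [← pow_add] at this
            exact Ideal.pow_le_pow_right (by omega) this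
        · intro y₁ y₂ ⟨r₁, hr₁, h₁⟩ ⟨r₂, hr₂, h₂⟩
          refine ⟨r₁ + r₂, R.add_mem hr₁ hr₂, ?_⟩
          have e : y₁ + y₂ - (r₁ + r₂) = (y₁ - r₁) + (y₂ - r₂) := by ring
          rw [e]
          exact Ideal.add_mem _ h₁ h₂
      intro b
      obtain ⟨r, hr, hbr⟩ := ih b
      obtain ⟨r', hr', hbr'⟩ := sub _ hbr
      refine ⟨r + r', R.add_mem hr hr', ?_⟩
      have e : b - (r + r') = b - r - r' := by ring
      rw [e]
      exact hbr'
  obtain ⟨N, hN⟩ := hnil
  rw [eq_top_iff]
  intro b _
  obtain ⟨r, hr, hbr⟩ := key N b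
  have : b - r ∈ maximalIdeal B ^ N := Ideal.pow_le_pow_right (by omega) hbr
  rw [hN, Ideal.mem_bot, sub_eq_zero] at this
  rw [this]
  exact hr

end SubalgTop



section Offset

variable {R : Type*} [CommRing R] (I : Ideal R)

/-- limits of sequences whose successive differences lie in `I ^ (j + n)` -/
theorem exists_adic_limit_offset [IsPrecomplete I R] (f : ℕ → R) (j : ℕ)
    (h : ∀ n, f n - f (n + 1) ∈ I ^ (j + n)) :
    ∃ L : R, ∀ n, f n - L ∈ I ^ (j + n) := by
  obtain ⟨L, hL⟩ := exists_adic_limit I (fun n => f (n - j)) (fun n => by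
    by_cases hn : n < j
    · have e1 : n - j = 0 := by omega
      have e2 : n + 1 - j = 0 := by omega
      show f (n - j) - f (n + 1 - j) ∈ I ^ n
      rw [e1, e2, sub_self]
      exact Ideal.zero_mem _
    · have e2 : n + 1 - j = (n - j) + 1 := by omega
      show f (n - j) - f (n + 1 - j) ∈ I ^ n
      rw [e2]
      have := h (n - j)
      rwa [show j + (n - j) = n by omega] at this)
  refine ⟨L, fun n => ?_⟩
  have := hL (j + n)
  simpa using this

end Offset

section Chevalley

variable {S : Type*} [CommRing S] [IsLocalRing S] [IsNoetherianRing S]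

/-- stabilisation modulo a power of the maximal ideal -/
theorem exists_stable_mod_pow (I : ℕ → Ideal S) (hanti : Antitone I) (j : ℕ) :
    ∃ N, ∀ n, I N ≤ I n ⊔ maximalIdeal S ^ j := by
  by_cases hj : j = 0
  · subst hj
    refine ⟨0, fun n => ?_⟩
    rw [pow_zero, Ideal.one_eq_top, sup_top_eq]
    exact le_top
  have hmin : maximalIdeal S ∈ (maximalIdeal S ^ j).minimalPrimes := by
    refine ⟨⟨inferInstance, Ideal.pow_le_self hj⟩, fun q hq _ => ?_⟩
    exact hq.1.le_of_pow_le hq.2
  have hart : IsArtinianRing (S ⧸ maximalIdeal S ^ j) :=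
    IsLocalRing.quotient_artinian_of_mem_minimalPrimes_of_isLocalRing _ hmin
  let qs : ℕ →o (Ideal (S ⧸ maximalIdeal S ^ j))ᵒᵈ :=
    { toFun n := OrderDual.toDual ((I n).map (Ideal.Quotient.mk (maximalIdeal S ^ j)))
      monotone' a b hab := Ideal.map_mono (hanti hab) }
  obtain ⟨N, hN⟩ := IsArtinian.monotone_stabilizes qs
  refine ⟨N, fun n x hx => ?_⟩
  by_cases hn : N ≤ n
  · have h1 : (I N).map (Ideal.Quotient.mk (maximalIdeal S ^ j)) =
        (I n).map (Ideal.Quotient.mk (maximalIdeal S ^ j)) := hN n hn
    have h2 : Ideal.Quotient.mk (maximalIdeal S ^ j) x ∈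
        (I n).map (Ideal.Quotient.mk (maximalIdeal S ^ j)) := by
      rw [← h1]; exact Ideal.mem_map_of_mem _ hx
    obtain ⟨y, hy, hxy⟩ := (Ideal.mem_map_iff_of_surjective _ Ideal.Quotient.mk_surjective).1 h2
    have h3 : x - y ∈ maximalIdeal S ^ j := by
      rw [← Ideal.Quotient.eq, hxy]
    have : x = y + (x - y) := by ring
    rw [this]
    exact Ideal.add_mem _ (Ideal.mem_sup_left hy) (Ideal.mem_sup_right h3)
  · exact Ideal.mem_sup_left (hanti (le_of_not_ge hn) hx)

variable [IsAdicComplete (maximalIdeal S) S]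

/-- **Chevalley's lemma** for a decreasing sequence of open ideals with zero intersection in a
complete Noetherian local ring -/
theorem chevalley (I : ℕ → Ideal S) (hanti : Antitone I)
    (hopen : ∀ n, ∃ N, maximalIdeal S ^ N ≤ I n) (hbot : ∀ x, (∀ n, x ∈ I n) → x = 0) (j : ℕ) :
    ∃ N, I N ≤ maximalIdeal S ^ j := by
  choose Nst hNst using exists_stable_mod_pow I hanti
  -- the closure-like ideals
  let E : ℕ → Ideal S := fun j => ⨅ n, I n ⊔ maximalIdeal S ^ j
  have hE1 : ∀ j, maximalIdeal S ^ j ≤ E j := fun j => le_iInf fun n => le_sup_right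
  have hE2 : ∀ j, I (Nst j) ≤ E j := fun j => le_iInf fun n => hNst j n
  have hEanti : ∀ a b, a ≤ b → E b ≤ E a := fun a b hab =>
    iInf_mono fun n => sup_le_sup_left (Ideal.pow_le_pow_right hab) _
  have step : ∀ (j : ℕ) (y : S), y ∈ E j → ∃ y', y' ∈ E (j + 1) ∧ y - y' ∈ maximalIdeal S ^ j := by
    intro j y hy
    have h1 : y ∈ I (Nst (j + 1)) ⊔ maximalIdeal S ^ j := (iInf_le _ (Nst (j + 1)) : E j ≤ _) hy
    obtain ⟨a, ha, b, hb, rfl⟩ := Submodule.mem_sup.1 h1
    refine ⟨a, hE2 (j + 1) ha, ?_⟩
    rw [add_sub_cancel_left]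
    exact hb
  choose! g hg1 hg2 using step
  have hbotE : ∀ x, (∀ j, x ∈ E j) → x = 0 := by
    intro x hx
    apply hbot
    intro n
    obtain ⟨M, hM⟩ := hopen n
    have h1 : x ∈ I n ⊔ maximalIdeal S ^ M := (iInf_le _ n : E M ≤ _) (hx M)
    rwa [sup_eq_left.2 hM] at h1
  have main : ∀ j, E j ≤ maximalIdeal S ^ j := by
    intro j x hx
    let xs : ℕ → S := fun i => Nat.rec x (fun i y => g (j + i) y) i
    have hxs_succ : ∀ i, xs (i + 1) = g (j + i) (xs i) := fun i => rfl
    have hxs_mem : ∀ i, xs i ∈ E (j + i) := by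
      intro i
      induction i with
      | zero => exact hx
      | succ i ih => rw [hxs_succ]; exact hg1 (j + i) _ ih
    have hprec : IsPrecomplete (maximalIdeal S) S := IsAdicComplete.toIsPrecomplete
    obtain ⟨L, hL⟩ := exists_adic_limit_offset (maximalIdeal S) xs j (fun i => by
      rw [hxs_succ]; exact hg2 (j + i) _ (hxs_mem i))
    have hL0 : L = 0 := by
      apply hbotE
      intro i
      have h1 : L ∈ E (j + i) := by
        have : L = xs i - (xs i - L) := by ring
        rw [this]
        exact Ideal.sub_mem _ (hxs_mem i) (hE1 _ (hL i))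
      exact hEanti i (j + i) (by omega) h1
    have := hL 0
    rwa [hL0, sub_zero] at this
  exact ⟨Nst j, (hE2 j).trans (main j)⟩

end Chevalley

end Groth.Agent.Lib.Helper76
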