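import Mathlib
import Groth.Agent.Lib.Helper39.H1RegSum

/-!
# The length of the first Koszul homology and its independence of the generators (helper76)

For a finite family `y : ι → C` we consider `Z y` (relations), `kos y` (trivial relations, from
helper39's `H1Reg`) and `ell y = length (Z y / kos y)`.
* `ell_comp_equiv`: invariance under reindexing.
* `ell_yplus`: adding one redundant generator adds `length (C / (y))`.
* `ell_add_card_eq`: if `y`, `y'` generate the same maximal ideal then
  `ell y + |ι'| = ell y' + |ι|`.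
-/

set_option autoImplicit false

namespace Groth.Agent.Lib.Helper76.KosLen

open Groth.Agent.Lib.Helper39.H1Reg

universe u v

section Basic

variable {C : Type u} [CommRing C] {ι : Type v} [Fintype ι] [DecidableEq ι]

/-- the relation map `a ↦ Σ a i * y i` -/
noncomputable def lc (y : ι → C) : (ι → C) →ₗ[C] C := Fintype.linearCombination C y

lemma lc_apply (y : ι → C) (a : ι → C) : lc y a = ∑ i, a i * y i := by
  simp [lc, Fintype.linearCombination_apply]

/-- the module of relations -/
noncomputable def Z (y : ι → C) : Submodule C (ι → C) := LinearMap.ker (lc y)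

lemma mem_Z (y : ι → C) (a : ι → C) : a ∈ Z y ↔ ∑ i, a i * y i = 0 := by
  rw [Z, LinearMap.mem_ker, lc_apply]

lemma kos_le_Z (y : ι → C) : kos y ≤ Z y := by
  rw [kos, Submodule.span_le]
  rintro _ ⟨i, j, rfl⟩
  show _ ∈ Z y
  rw [mem_Z]
  simp only [Pi.sub_apply, sub_mul, Finset.sum_sub_distrib, Pi.single_apply, ite_mul, zero_mul,
    Finset.sum_ite_eq', Finset.mem_univ, if_true]
  ring

/-- coordinates of trivial relations lie in the ideal generated by the family -/
lemma kos_apply_mem (y : ι → C) (a : ι → C) (ha : a ∈ kos y) (k : ι) :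
    a k ∈ Ideal.span (Set.range y) := by
  induction ha using Submodule.span_induction with
  | mem v hv =>
    obtain ⟨i, j, rfl⟩ := hv
    simp only [Pi.sub_apply, Pi.single_apply]
    refine sub_mem ?_ ?_
    · split_ifs
      · exact Ideal.subset_span ⟨j, rfl⟩
      · exact zero_mem _
    · split_ifs
      · exact Ideal.subset_span ⟨i, rfl⟩
      · exact zero_mem _
  | zero => exact zero_mem _
  | add x y _ _ hx hy => exact add_mem hx hy
  | smul r x _ hx => exact Ideal.mul_mem_left _ _ hx

/-- the length of the first Koszul homology -/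
noncomputable def ell (y : ι → C) : ℕ∞ :=
  Module.length C (Z y ⧸ (kos y).submoduleOf (Z y))

lemma ell_eq_of_surjective (y : ι → C) {P : Type*} [AddCommGroup P] [Module C P]
    (g : Z y →ₗ[C] P) (hg : Function.Surjective g)
    (hker : ∀ a : Z y, g a = 0 ↔ (a : ι → C) ∈ kos y) : ell y = Module.length C P := by
  have hk : LinearMap.ker g = (kos y).submoduleOf (Z y) := by
    ext a
    rw [LinearMap.mem_ker, hker]
    rfl
  unfold ell
  rw [← hk]
  exact (g.quotKerEquivOfSurjective hg).length_eq

end Basic

section Reindex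

variable {C : Type u} [CommRing C] {ι ι' : Type v} [Fintype ι] [DecidableEq ι]
  [Fintype ι'] [DecidableEq ι']

lemma kos_comp_equiv (e : ι' ≃ ι) (y : ι → C) (a : ι → C) (ha : a ∈ kos y) :
    a ∘ e ∈ kos (y ∘ e) := by
  obtain ⟨c, hc⟩ := (mem_kos_iff _ _).1 ha
  refine (mem_kos_iff _ _).2 ⟨fun k l => c (e k) (e l), fun k => ?_⟩
  have := hc (e k)
  simp only [Function.comp_apply]
  rw [this, ← Equiv.sum_comp e]

lemma Z_comp_equiv (e : ι' ≃ ι) (y : ι → C) (a : ι → C) (ha : a ∈ Z y) :
    a ∘ e ∈ Z (y ∘ e) := by
  rw [mem_Z] at ha ⊢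
  rw [← ha, ← Equiv.sum_comp e]
  rfl

theorem ell_comp_equiv (e : ι' ≃ ι) (y : ι → C) : ell (y ∘ e) = ell y := by
  let Ψ : (ι' → C) →ₗ[C] (ι → C) := LinearMap.funLeft C C e.symm
  have hΨ : ∀ a : ι' → C, Ψ a = a ∘ e.symm := fun a => rfl
  have hZ : ∀ a : ι' → C, a ∈ Z (y ∘ e) → Ψ a ∈ Z y := by
    intro a ha
    have := Z_comp_equiv e.symm (y ∘ e) a ha
    have h2 : (y ∘ e) ∘ e.symm = y := by funext i; simp
    rwa [h2] at this
  let g : Z (y ∘ e) →ₗ[C] (Z y ⧸ (kos y).submoduleOf (Z y)) :=
    (Submodule.mkQ _).comp ((Ψ.comp (Z (y ∘ e)).subtype).codRestrict (Z y) (fun a => hZ a a.2))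
  apply ell_eq_of_surjective (y ∘ e) g
  · intro q
    obtain ⟨⟨z, hz⟩, rfl⟩ := Submodule.mkQ_surjective _ q
    refine ⟨⟨z ∘ e, Z_comp_equiv e y z hz⟩, ?_⟩
    show Submodule.mkQ _ _ = Submodule.mkQ _ _
    congr 1
    apply Subtype.ext
    show Ψ (z ∘ e) = z
    rw [hΨ]
    funext i
    simp
  · intro a
    show Submodule.mkQ _ _ = 0 ↔ _
    rw [Submodule.mkQ_apply, Submodule.Quotient.mk_eq_zero]
    show Ψ (a : ι' → C) ∈ kos y ↔ _
    rw [hΨ]
    constructor
    · intro h
      have := kos_comp_equiv e y _ h
      have h2 : ((a : ι' → C) ∘ e.symm) ∘ e = (a : ι' → C) := by funext i; simp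
      rwa [h2] at this
    · intro h
      have := kos_comp_equiv e.symm (y ∘ e) _ h
      have h2 : (y ∘ e) ∘ e.symm = y := by funext i; simp
      rwa [h2] at this

end Reindex

end Groth.Agent.Lib.Helper76.KosLen

namespace Groth.Agent.Lib.Helper76.KosLen

open Groth.Agent.Lib.Helper39.H1Reg

universe u v

section OptionStep

variable {C : Type u} [CommRing C] {ι : Type v} [Fintype ι] [DecidableEq ι]

/-- extend a family by one element -/
def yplus (y : ι → C) (w : C) : Option ι → C := fun o => o.elim w y

@[simp] lemma yplus_none (y : ι → C) (w : C) : yplus y w none = w := rfl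
@[simp] lemma yplus_some (y : ι → C) (w : C) (i : ι) : yplus y w (some i) = y i := rfl

/-- `a ↦ a ∘ some + a none • b` -/
def Phi (b : ι → C) : (Option ι → C) →ₗ[C] (ι → C) where
  toFun a := fun i => a (some i) + a none * b i
  map_add' a a' := by funext i; simp only [Pi.add_apply]; ring
  map_smul' r a := by funext i; simp only [Pi.smul_apply, smul_eq_mul, RingHom.id_apply]; ring

/-- extension by zero -/
def ext0 : (ι → C) →ₗ[C] (Option ι → C) where
  toFun z := fun o => o.elim 0 z
  map_add' a a' := by funext o; cases o <;> simp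
  map_smul' r a := by funext o; cases o <;> simp

omit [Fintype ι] [DecidableEq ι] in
@[simp] lemma Phi_apply (b : ι → C) (a : Option ι → C) (i : ι) :
    Phi b a i = a (some i) + a none * b i := rfl

omit [Fintype ι] [DecidableEq ι] in
@[simp] lemma ext0_none (z : ι → C) : ext0 z none = 0 := rfl

omit [Fintype ι] [DecidableEq ι] in
@[simp] lemma ext0_some (z : ι → C) (i : ι) : ext0 z (some i) = z i := rfl

omit [Fintype ι] in
lemma Phi_single_some (b : ι → C) (i : ι) (c : C) :
    Phi b (Pi.single (some i) c) = Pi.single i c := by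
  funext k
  simp only [Phi_apply, Pi.single_apply, Option.some.injEq, reduceCtorEq, if_false, zero_mul,
    add_zero]

omit [Fintype ι] in
lemma Phi_single_none (b : ι → C) (c : C) :
    Phi b (Pi.single none c) = c • b := by
  funext k
  simp only [Phi_apply, Pi.single_apply, reduceCtorEq, if_false, zero_add, if_true, Pi.smul_apply,
    smul_eq_mul]

omit [Fintype ι] in
lemma ext0_single (i : ι) (c : C) : ext0 (Pi.single i c) = Pi.single (some i) c := by
  funext o
  cases o with
  | none => simp [Pi.single_apply]
  | some k => simp [Pi.single_apply]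

lemma lc_Phi (y : ι → C) (w : C) (b : ι → C) (hb : ∑ i, b i * y i = w) (a : Option ι → C) :
    ∑ i, Phi b a i * y i = ∑ o, a o * yplus y w o := by
  rw [Fintype.sum_option]
  simp only [Phi_apply, add_mul, Finset.sum_add_distrib, yplus_none, yplus_some]
  rw [add_comm, ← hb, Finset.mul_sum]
  congr 1
  refine Finset.sum_congr rfl fun i _ => ?_
  ring

/-- the key trivial relation -/
lemma single_sub_smul_mem_kos (y : ι → C) (w : C) (b : ι → C) (hb : ∑ i, b i * y i = w) (i : ι) :
    Pi.single i w - y i • b ∈ kos y := by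
  have : Pi.single i w - y i • b = ∑ j, b j • (Pi.single i (y j) - Pi.single j (y i)) := by
    funext k
    simp only [Pi.sub_apply, Pi.smul_apply, smul_eq_mul, Finset.sum_apply, Pi.single_apply,
      mul_sub, Finset.sum_sub_distrib, mul_ite, mul_zero, Finset.sum_ite_eq, Finset.mem_univ,
      if_true]
    by_cases hk : k = i
    · subst hk
      simp only [if_true]
      rw [← hb]
      ring
    · simp only [hk, if_false]
      simp only [Finset.sum_const_zero, zero_sub, neg_inj]
      ring
  rw [this]
  exact sum_mem fun j _ => Submodule.smul_mem _ _ (Submodule.subset_span ⟨i, j, rfl⟩)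

lemma Phi_mem_kos (y : ι → C) (w : C) (b : ι → C) (hb : ∑ i, b i * y i = w)
    (a : Option ι → C) (ha : a ∈ kos (yplus y w)) : Phi b a ∈ kos y := by
  induction ha using Submodule.span_induction with
  | mem v hv =>
    obtain ⟨i, j, rfl⟩ := hv
    rw [map_sub]
    cases i with
    | none =>
      cases j with
      | none => simp
      | some j =>
        rw [Phi_single_none, Phi_single_some, yplus_none, yplus_some, ← neg_sub]
        exact neg_mem (single_sub_smul_mem_kos y w b hb j)
    | some i =>
      cases j with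
      | none =>
        rw [Phi_single_none, Phi_single_some, yplus_none, yplus_some]
        exact single_sub_smul_mem_kos y w b hb i
      | some j =>
        rw [Phi_single_some, Phi_single_some, yplus_some, yplus_some]
        exact Submodule.subset_span ⟨i, j, rfl⟩
  | zero => rw [map_zero]; exact zero_mem _
  | add x y' _ _ hx hy => rw [map_add]; exact add_mem hx hy
  | smul r x _ hx => rw [map_smul]; exact Submodule.smul_mem _ _ hx

lemma ext0_mem_kos (y : ι → C) (w : C) (z : ι → C) (hz : z ∈ kos y) :
    ext0 z ∈ kos (yplus y w) := by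
  induction hz using Submodule.span_induction with
  | mem v hv =>
    obtain ⟨i, j, rfl⟩ := hv
    rw [map_sub, ext0_single, ext0_single]
    exact Submodule.subset_span ⟨some i, some j, rfl⟩
  | zero => rw [map_zero]; exact zero_mem _
  | add x y' _ _ hx hy => rw [map_add]; exact add_mem hx hy
  | smul r x _ hx => rw [map_smul]; exact Submodule.smul_mem _ _ hx

lemma span_range_yplus_le (y : ι → C) (w : C) (hw : w ∈ Ideal.span (Set.range y)) :
    Ideal.span (Set.range (yplus y w)) ≤ Ideal.span (Set.range y) := by
  rw [Ideal.span_le]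
  rintro _ ⟨o, rfl⟩
  cases o with
  | none => exact hw
  | some i => exact Ideal.subset_span ⟨i, rfl⟩

end OptionStep

end Groth.Agent.Lib.Helper76.KosLen

namespace Groth.Agent.Lib.Helper76.KosLen

open Groth.Agent.Lib.Helper39.H1Reg

universe u v

section OptionStep

variable {C : Type u} [CommRing C] {ι : Type v} [Fintype ι] [DecidableEq ι]

theorem ell_yplus (y : ι → C) (w : C) (hw : w ∈ Ideal.span (Set.range y)) :
    ell (yplus y w) = ell y + Module.length C (C ⧸ Ideal.span (Set.range y)) := by
  obtain ⟨b, hb⟩ := Ideal.mem_span_range_iff_exists_fun.mp hw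
  have hZ : ∀ a : Option ι → C, a ∈ Z (yplus y w) → Phi b a ∈ Z y := by
    intro a ha
    rw [mem_Z] at ha ⊢
    rw [lc_Phi y w b hb, ha]
  let g1 : Z (yplus y w) →ₗ[C] (Z y ⧸ (kos y).submoduleOf (Z y)) :=
    (Submodule.mkQ _).comp
      (((Phi b).comp (Z (yplus y w)).subtype).codRestrict (Z y) (fun a => hZ a a.2))
  let g2 : Z (yplus y w) →ₗ[C] (C ⧸ Ideal.span (Set.range y)) :=
    (Submodule.mkQ (Ideal.span (Set.range y))).comp
      ((LinearMap.proj (none : Option ι)).comp (Z (yplus y w)).subtype)
  have hg1 : ∀ a : Z (yplus y w), g1 a = 0 ↔ Phi b (a : Option ι → C) ∈ kos y := by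
    intro a
    show Submodule.mkQ _ _ = 0 ↔ _
    rw [Submodule.mkQ_apply, Submodule.Quotient.mk_eq_zero]
    rfl
  have hg2 : ∀ a : Z (yplus y w), g2 a = 0 ↔ (a : Option ι → C) none ∈ Ideal.span (Set.range y) := by
    intro a
    show Submodule.mkQ _ _ = 0 ↔ _
    rw [Submodule.mkQ_apply, Submodule.Quotient.mk_eq_zero]
    rfl
  rw [show ell y = Module.length C (Z y ⧸ (kos y).submoduleOf (Z y)) from rfl,
    ← Module.length_prod]
  apply ell_eq_of_surjective (yplus y w) (g1.prod g2)
  · -- surjectivity
    rintro ⟨q, c'⟩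
    obtain ⟨⟨z, hz⟩, rfl⟩ := Submodule.mkQ_surjective _ q
    obtain ⟨c, rfl⟩ := Submodule.mkQ_surjective _ c'
    have ha : ext0 (z - c • b) + Pi.single none c ∈ Z (yplus y w) := by
      rw [mem_Z, Fintype.sum_option]
      rw [mem_Z] at hz
      simp only [Pi.add_apply, ext0_none, Pi.single_apply, if_true, zero_add, yplus_none,
        ext0_some, Pi.sub_apply, Pi.smul_apply, smul_eq_mul, reduceCtorEq, if_false, add_zero,
        yplus_some, sub_mul, Finset.sum_sub_distrib, hz, zero_sub]
      rw [← hb, Finset.mul_sum]
      simp only [mul_assoc]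
      ring
    refine ⟨⟨_, ha⟩, ?_⟩
    refine Prod.ext ?_ ?_
    · show Submodule.mkQ _ _ = Submodule.mkQ _ _
      congr 1
      apply Subtype.ext
      show Phi b (ext0 (z - c • b) + Pi.single none c) = z
      funext i
      simp [Pi.single_apply]
    · show Submodule.mkQ _ _ = Submodule.mkQ _ _
      congr 1
      show (ext0 (z - c • b) + Pi.single none c : Option ι → C) none = c
      simp
  · intro a
    rw [LinearMap.prod_apply]
    show (g1 a, g2 a) = 0 ↔ _
    rw [Prod.mk_eq_zero, hg1, hg2]
    constructor
    · rintro ⟨h1, h2⟩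
      obtain ⟨c, hc⟩ := Ideal.mem_span_range_iff_exists_fun.mp h2
      -- the correcting trivial relation
      set t : Option ι → C := ∑ i, c i • (Pi.single none (yplus y w (some i)) -
        Pi.single (some i) (yplus y w none)) with ht
      have htk : t ∈ kos (yplus y w) :=
        sum_mem fun i _ => Submodule.smul_mem _ _ (Submodule.subset_span ⟨none, some i, rfl⟩)
      have htn : t none = (a : Option ι → C) none := by
        rw [ht, ← hc]
        simp [Finset.sum_apply, Pi.single_apply]
      have h3 : Phi b ((a : Option ι → C) - t) ∈ kos y := by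
        rw [map_sub]
        exact sub_mem h1 (Phi_mem_kos y w b hb t htk)
      have h4 : (a : Option ι → C) - t = ext0 (Phi b ((a : Option ι → C) - t)) := by
        funext o
        cases o with
        | none => simp [htn]
        | some i => simp [htn]
      have h5 : (a : Option ι → C) - t ∈ kos (yplus y w) := by
        rw [h4]
        exact ext0_mem_kos y w _ h3
      have : (a : Option ι → C) = ((a : Option ι → C) - t) + t := by ring
      rw [this]
      exact add_mem h5 htk
    · intro h
      exact ⟨Phi_mem_kos y w b hb _ h,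
        span_range_yplus_le y w hw (kos_apply_mem (yplus y w) _ h none)⟩

end OptionStep

end Groth.Agent.Lib.Helper76.KosLen

namespace Groth.Agent.Lib.Helper76.KosLen

open Groth.Agent.Lib.Helper39.H1Reg

universe u v

section Indep

variable {C : Type u} [CommRing C] {ι : Type v} [Fintype ι] [DecidableEq ι]

/-- `ι ⊕ Option α ≃ Option (ι ⊕ α)` -/
def sumOptionEquiv (ι α : Type v) : ι ⊕ Option α ≃ Option (ι ⊕ α) where
  toFun x := match x with
    | .inl i => some (.inl i)
    | .inr none => none
    | .inr (some a) => some (.inr a)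
  invFun x := match x with
    | none => .inr none
    | some (.inl i) => .inl i
    | some (.inr a) => .inr (some a)
  left_inv := by rintro (i | (_ | a)) <;> rfl
  right_inv := by rintro (_ | (i | a)) <;> rfl

lemma length_quotient_maximal (m : Ideal C) [hm : m.IsMaximal] :
    Module.length C (C ⧸ m) = 1 := by
  rw [Module.length_eq_one_iff, isSimpleModule_iff_isCoatom]
  exact Ideal.isMaximal_def.mp hm

theorem ell_sumElim (y : ι → C) (hm : (Ideal.span (Set.range y)).IsMaximal)
    (κ : Type v) [Fintype κ] :
    ∀ (_ : DecidableEq κ) (z : κ → C), (∀ k, z k ∈ Ideal.span (Set.range y)) →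
      ell (Sum.elim y z) = ell y + Fintype.card κ := by
  refine Fintype.induction_empty_option
    (P := fun κ _ => ∀ (_ : DecidableEq κ) (z : κ → C), (∀ k, z k ∈ Ideal.span (Set.range y)) →
      ell (Sum.elim y z) = ell y + Fintype.card κ) ?_ ?_ ?_ κ
  · intro α β _ e hα _ z hz
    classical
    letI : Fintype α := Fintype.ofEquiv β e.symm
    have h1 := hα inferInstance (z ∘ e) (fun k => hz (e k))
    have h2 : Sum.elim y (z ∘ e) = Sum.elim y z ∘ (Equiv.sumCongr (Equiv.refl ι) e) := by
      funext x
      cases x <;> rfl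
    rw [h2, ell_comp_equiv] at h1
    rw [h1, Fintype.card_congr e]
  · intro _ z _
    have h2 : Sum.elim y z = y ∘ (Equiv.sumEmpty ι PEmpty) := by
      funext x
      cases x with
      | inl i => rfl
      | inr e => exact e.elim
    rw [h2, ell_comp_equiv]
    simp
  · intro α _ hα _ z hz
    classical
    have h1 := hα inferInstance (z ∘ some) (fun k => hz (some k))
    have h2 : Sum.elim y z = yplus (Sum.elim y (z ∘ some)) (z none) ∘ sumOptionEquiv ι α := by
      funext x
      rcases x with i | (_ | a) <;> rfl
    have hspan : Ideal.span (Set.range (Sum.elim y (z ∘ some))) = Ideal.span (Set.range y) := by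
      apply le_antisymm
      · rw [Ideal.span_le]
        rintro _ ⟨x, rfl⟩
        cases x with
        | inl i => exact Ideal.subset_span ⟨i, rfl⟩
        | inr a => exact hz (some a)
      · apply Ideal.span_mono
        rintro _ ⟨i, rfl⟩
        exact ⟨Sum.inl i, rfl⟩
    have hw : z none ∈ Ideal.span (Set.range (Sum.elim y (z ∘ some))) := by
      rw [hspan]; exact hz none
    rw [h2, ell_comp_equiv, ell_yplus _ _ hw, h1, hspan, length_quotient_maximal,
      Fintype.card_option]
    push_cast
    ring

/-- independence of the generating family: `ℓ(y) - |ι|` only depends on the maximal ideal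
generated. -/
theorem ell_add_card_eq {ι' : Type v} [Fintype ι'] [DecidableEq ι'] (y : ι → C) (y' : ι' → C)
    (hm : (Ideal.span (Set.range y)).IsMaximal)
    (h : Ideal.span (Set.range y) = Ideal.span (Set.range y')) :
    ell y + Fintype.card ι' = ell y' + Fintype.card ι := by
  have hm' : (Ideal.span (Set.range y')).IsMaximal := h ▸ hm
  have h1 := ell_sumElim y hm ι' inferInstance y'
    (fun k => h ▸ Ideal.subset_span ⟨k, rfl⟩)
  have h2 := ell_sumElim y' hm' ι inferInstance y
    (fun k => h ▸ Ideal.subset_span ⟨k, rfl⟩)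
  have h3 : Sum.elim y y' = Sum.elim y' y ∘ (Equiv.sumComm ι ι') := by
    funext x
    cases x <;> rfl
  rw [h3, ell_comp_equiv] at h1
  rw [← h1, ← h2]

end Indep

end Groth.Agent.Lib.Helper76.KosLen
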