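import Mathlib
import Groth.Agent.Lib.Helper76.KosLen
import Groth.Agent.Lib.Helper76.RegularLocal
import Groth.Agent.Lib.Helper94.CILocal

/-!
# Complete intersections: independence of the presentation (helper76)

* `isH1_of_isWeaklyRegular`: a weakly regular sequence is `H_1`-regular.
* `ell_comp_eq_spanFinrank`: for a surjection `φ : S → C` from a Noetherian local ring and an
  `H_1`-regular family `x` generating `m_S`, `ell (φ ∘ x) = μ(ker φ)`.
* `spanFinrank_ker_add_eq`: `μ(ker φ) + dim B = μ(ker ψ) + dim S` for surjections from regular local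
  rings `S`, `B` onto the same ring.
* `isRegularIdeal_ker_iff`: `ker φ` is generated by a regular sequence iff `ker ψ` is.
-/

set_option autoImplicit false

namespace Groth.Agent.Lib.Helper76.KosLen

open Groth.Agent.Lib.Helper39.H1Reg RingTheory.Sequence

universe u

/-- a single regular element is `H_1`-regular -/
lemma isH1_unit {S : Type u} [CommRing S] (r : S) (hr : IsSMulRegular S r) :
    IsH1 (fun _ : Unit => r) := by
  intro a ha
  simp only [Finset.univ_unique, Finset.sum_singleton] at ha
  have h0 : a default = 0 := by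
    apply hr
    simp only [smul_eq_mul, mul_zero]
    rw [mul_comm]; exact ha
  have : a = 0 := by
    funext u
    cases u
    exact h0
  rw [this]
  exact zero_mem _

/-- the cons step -/
lemma isH1_cons {S : Type u} [CommRing S] {n : ℕ} (x : Fin (n + 1) → S)
    (h0 : IsSMulRegular S (x 0))
    (h : IsH1 (fun i : Fin n => Ideal.Quotient.mk (Ideal.span ({x 0} : Set S)) (x i.succ))) :
    IsH1 x := by
  have key : ∀ J : Ideal S, J = Ideal.span ({x 0} : Set S) →
      IsH1 (fun j : Fin n => Ideal.Quotient.mk J (x j.succ)) := by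
    rintro J rfl
    exact h
  have h1 : IsH1 (Sum.elim (fun _ : Unit => x 0) (fun j : Fin n => x j.succ)) :=
    IsH1.sumElim (isH1_unit (x 0) h0) (key _ (by rw [Set.range_const]))
  let e : Fin (n + 1) ≃ Unit ⊕ Fin n :=
    ((finSuccEquiv n).trans (Equiv.optionEquivSumPUnit (Fin n))).trans (Equiv.sumComm _ _)
  have h2 : x = Sum.elim (fun _ : Unit => x 0) (fun j : Fin n => x j.succ) ∘ e := by
    funext k
    refine Fin.cases ?_ (fun j => ?_) k
    · simp [e]
    · simp [e]
  rw [h2]
  exact h1.comp_equiv e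

theorem isH1_of_isWeaklyRegular (n : ℕ) : ∀ (S : Type u) [CommRing S] (x : Fin n → S),
    IsWeaklyRegular S (List.ofFn x) → IsH1 x := by
  induction n with
  | zero =>
    intro S _ x _ a _
    have : a = 0 := Subsingleton.elim _ _
    rw [this]
    exact zero_mem _
  | succ n ih =>
    intro S _ x hx
    rw [List.ofFn_succ, isWeaklyRegular_cons_iff'] at hx
    obtain ⟨h0, h⟩ := hx
    rw [(Groth.Agent.Lib.Helper76.quotSMulTopEquivQuotSpan S (x 0)).isWeaklyRegular_congr,
      List.map_ofFn] at h
    exact isH1_cons x h0 (ih _ _ h)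

end Groth.Agent.Lib.Helper76.KosLen

namespace Groth.Agent.Lib.Helper76.KosLen

open Groth.Agent.Lib.Helper39.H1Reg IsLocalRing

universe u v

section Pres

variable {S C : Type u} [CommRing S] [CommRing C] (φ : S →+* C)
  {ι : Type v} [Fintype ι] [DecidableEq ι] (x : ι → S)

lemma map_mem_kos (a : ι → S) (ha : a ∈ kos x) : φ ∘ a ∈ kos (φ ∘ x) := by
  obtain ⟨c, hc⟩ := (mem_kos_iff _ _).1 ha
  refine (mem_kos_iff _ _).2 ⟨fun k l => φ (c k l), fun k => ?_⟩
  simp only [Function.comp_apply, hc k, map_sum, map_mul, map_sub]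

lemma exists_lift_of_mem_kos (hφ : Function.Surjective φ) (a : ι → S)
    (h : φ ∘ a ∈ kos (φ ∘ x)) : ∃ t ∈ kos x, ∀ k, a k - t k ∈ RingHom.ker φ := by
  obtain ⟨cbar, hc⟩ := (mem_kos_iff _ _).1 h
  choose c hcc using fun k l => hφ (cbar k l)
  refine ⟨fun k => ∑ j, (c k j - c j k) * x j, (mem_kos_iff _ _).2 ⟨c, fun k => rfl⟩, fun k => ?_⟩
  rw [RingHom.mem_ker, map_sub, sub_eq_zero]
  have := hc k
  simp only [Function.comp_apply] at this
  rw [this, map_sum]
  refine Finset.sum_congr rfl fun j _ => ?_
  rw [map_mul, map_sub, hcc, hcc]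

lemma exists_of_mem_mul_span (I : Ideal S) (f : S) (hf : f ∈ I * Ideal.span (Set.range x)) :
    ∃ d : ι → S, (∀ k, d k ∈ I) ∧ ∑ k, d k * x k = f := by
  rw [← smul_eq_mul, Ideal.span] at hf
  obtain ⟨a, ha, hsum⟩ := (Submodule.mem_ideal_smul_span_iff_exists_sum I x f).1 hf
  refine ⟨fun k => a k, ha, ?_⟩
  rw [← hsum, Finsupp.sum_fintype _ _ (fun i => by simp)]
  simp [smul_eq_mul]

end Pres

end Groth.Agent.Lib.Helper76.KosLen

namespace Groth.Agent.Lib.Helper76.KosLen

open Groth.Agent.Lib.Helper39.H1Reg IsLocalRing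

universe u v

section Pres

/-- length of `N/mN` is the minimal number of generators -/
theorem length_quotient_smul_top {S : Type u} [CommRing S] [IsLocalRing S] {M : Type*}
    [AddCommGroup M] [Module S M] (N : Submodule S M) (hN : N.FG) :
    Module.length S (N ⧸ (maximalIdeal S • (⊤ : Submodule S N))) = (N.spanFinrank : ℕ∞) := by
  letI : Field (S ⧸ maximalIdeal S) := Ideal.Quotient.field (maximalIdeal S)
  haveI : Module.Finite S N := Module.Finite.iff_fg.mpr hN
  haveI : Module.Finite (S ⧸ maximalIdeal S) (N ⧸ (maximalIdeal S • (⊤ : Submodule S N))) :=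
    Module.Finite.of_restrictScalars_finite S _ _
  rw [Module.length_eq_of_surjective (S := S) (R := S ⧸ maximalIdeal S)
    Ideal.Quotient.mk_surjective, Module.length_eq_finrank,
    IsLocalRing.spanFinrank_eq_finrank_quotient N hN]

end Pres

end Groth.Agent.Lib.Helper76.KosLen

namespace Groth.Agent.Lib.Helper76.KosLen

open Groth.Agent.Lib.Helper39.H1Reg IsLocalRing

universe u v

section Pres2

variable {S C : Type u} [CommRing S] [IsLocalRing S] [IsNoetherianRing S] [CommRing C]
  (φ : S →+* C) {ι : Type v} [Fintype ι] [DecidableEq ι] (x : ι → S)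

theorem ell_comp_eq_spanFinrank (hφ : Function.Surjective φ)
    (hker : RingHom.ker φ ≤ maximalIdeal S)
    (hx : Ideal.span (Set.range x) = maximalIdeal S) (hH1 : IsH1 x) :
    ell (φ ∘ x) = ((RingHom.ker φ).spanFinrank : ℕ∞) := by
  letI : Algebra S C := φ.toAlgebra
  have halg : ∀ r : S, algebraMap S C r = φ r := fun r => rfl
  -- the `S`-module of tuples with combination in the kernel
  let ZS : Submodule S (ι → S) := Submodule.comap (lc x) (RingHom.ker φ)
  have hZS : ∀ a : ι → S, a ∈ ZS ↔ ∑ i, a i * x i ∈ RingHom.ker φ := by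
    intro a
    show lc x a ∈ RingHom.ker φ ↔ _
    rw [lc_apply]
  have hred : ∀ a : ι → S, a ∈ ZS → φ ∘ a ∈ Z (φ ∘ x) := by
    intro a ha
    rw [mem_Z]
    have := (hZS a).mp ha
    rw [RingHom.mem_ker, map_sum] at this
    simpa only [Function.comp_apply, map_mul] using this
  -- first map
  let g1 : ZS →ₗ[S] (Z (φ ∘ x) ⧸ (kos (φ ∘ x)).submoduleOf (Z (φ ∘ x))) :=
    { toFun := fun a => Submodule.Quotient.mk ⟨φ ∘ (a : ι → S), hred a a.2⟩
      map_add' := by
        intro a b
        rw [← Submodule.Quotient.mk_add]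
        congr 1
        apply Subtype.ext
        funext i
        simp
      map_smul' := by
        intro r a
        rw [RingHom.id_apply, ← Submodule.Quotient.mk_smul]
        congr 1
        apply Subtype.ext
        funext i
        simp [Algebra.smul_def, halg] }
  have hg1 : ∀ a : ZS, g1 a = 0 ↔ φ ∘ (a : ι → S) ∈ kos (φ ∘ x) := by
    intro a
    show Submodule.Quotient.mk _ = 0 ↔ _
    rw [Submodule.Quotient.mk_eq_zero]
    rfl
  have hg1s : Function.Surjective g1 := by
    intro q
    obtain ⟨⟨z, hz⟩, rfl⟩ := Submodule.mkQ_surjective _ q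
    choose a ha using fun i => hφ (z i)
    have hza : φ ∘ a = z := funext ha
    have haZ : a ∈ ZS := by
      rw [hZS, RingHom.mem_ker, map_sum]
      rw [mem_Z] at hz
      rw [← hz]
      refine Finset.sum_congr rfl fun i _ => ?_
      rw [map_mul, ha]
      rfl
    refine ⟨⟨a, haZ⟩, ?_⟩
    show Submodule.Quotient.mk _ = Submodule.Quotient.mk _
    congr 1
    exact Subtype.ext hza
  -- second map
  let g2 : ZS →ₗ[S] ((RingHom.ker φ) ⧸ (maximalIdeal S • (⊤ : Submodule S (RingHom.ker φ)))) :=
    (Submodule.mkQ _).comp (((lc x).comp ZS.subtype).codRestrict (RingHom.ker φ) (fun a => a.2))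
  have hg2 : ∀ a : ZS, g2 a = 0 ↔
      ∑ i, (a : ι → S) i * x i ∈ RingHom.ker φ * Ideal.span (Set.range x) := by
    intro a
    show Submodule.mkQ _ _ = 0 ↔ _
    rw [Submodule.mkQ_apply, Submodule.Quotient.mk_eq_zero, Submodule.mem_smul_top_iff,
      smul_eq_mul, mul_comm, hx]
    show lc x (a : ι → S) ∈ RingHom.ker φ * maximalIdeal S ↔ _
    rw [lc_apply]
  have hg2s : Function.Surjective g2 := by
    intro q
    obtain ⟨⟨f, hf⟩, rfl⟩ := Submodule.mkQ_surjective _ q
    have hfm : f ∈ Ideal.span (Set.range x) := hx ▸ hker hf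
    obtain ⟨a, ha⟩ := Ideal.mem_span_range_iff_exists_fun.mp hfm
    have haZ : a ∈ ZS := by
      rw [hZS, ha]; exact hf
    refine ⟨⟨a, haZ⟩, ?_⟩
    show Submodule.mkQ _ _ = Submodule.mkQ _ _
    congr 1
    apply Subtype.ext
    show lc x a = f
    rw [lc_apply, ha]
  -- equality of kernels
  have hk : LinearMap.ker g1 = LinearMap.ker g2 := by
    ext a
    rw [LinearMap.mem_ker, LinearMap.mem_ker, hg1, hg2]
    constructor
    · intro h
      obtain ⟨t, ht, hat⟩ := exists_lift_of_mem_kos φ x hφ _ h
      have ht0 : ∑ i, t i * x i = 0 := (mem_Z x t).mp (kos_le_Z x ht)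
      have : ∑ i, (a : ι → S) i * x i = ∑ i, ((a : ι → S) i - t i) * x i := by
        simp only [sub_mul, Finset.sum_sub_distrib, ht0, sub_zero]
      rw [this]
      exact Ideal.sum_mem _ fun i _ =>
        Ideal.mul_mem_mul (hat i) (Ideal.subset_span ⟨i, rfl⟩)
    · intro h
      obtain ⟨d, hd, hsum⟩ := exists_of_mem_mul_span x _ _ h
      have hrel : (a : ι → S) - d ∈ kos x := by
        apply hH1
        simp only [Pi.sub_apply, sub_mul, Finset.sum_sub_distrib, hsum, sub_self]
      have h1 := map_mem_kos φ x _ hrel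
      have h2 : φ ∘ ((a : ι → S) - d) = φ ∘ (a : ι → S) := by
        funext i
        simp only [Function.comp_apply, Pi.sub_apply, map_sub]
        rw [(RingHom.mem_ker).mp (hd i), sub_zero]
      rwa [h2] at h1
  -- assemble
  have e1 := (g1.quotKerEquivOfSurjective hg1s).length_eq
  have e2 := (g2.quotKerEquivOfSurjective hg2s).length_eq
  rw [hk] at e1
  have hsurj : Function.Surjective (algebraMap S C) := hφ
  unfold ell
  rw [← Module.length_eq_of_surjective (S := S) (R := C) hsurj, ← e1, e2,
    length_quotient_smul_top _ (IsNoetherian.noetherian _)]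

end Pres2

end Groth.Agent.Lib.Helper76.KosLen

namespace Groth.Agent.Lib.Helper76.KosLen

open Groth.Agent.Lib.Helper39.H1Reg IsLocalRing Groth.Agent.Lib.Helper94.CILocal

universe u

section Indep

theorem map_maximalIdeal_of_surjective {S C : Type*} [CommRing S] [CommRing C] [IsLocalRing S]
    [IsLocalRing C] (φ : S →+* C) (hφ : Function.Surjective φ) :
    (maximalIdeal S).map φ = maximalIdeal C := by
  have hloc : IsLocalHom φ := hφ.isLocalHom φ
  apply le_antisymm
  · rw [Ideal.map_le_iff_le_comap]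
    intro s hs
    rw [Ideal.mem_comap, mem_maximalIdeal, mem_nonunits_iff]
    intro hu
    exact hs ((isUnit_map_iff φ s).mp hu)
  · intro c hc
    obtain ⟨s, rfl⟩ := hφ c
    refine Ideal.mem_map_of_mem φ ?_
    rw [mem_maximalIdeal, mem_nonunits_iff]
    intro hu
    exact hc (hu.map φ)

/-- a regular system of parameters indexed by `Fin n` -/
theorem exists_regular_sop (S : Type u) [CommRing S] [IsRegularLocalRing S] (n : ℕ)
    (hn : ringKrullDim S = n) :
    ∃ x : Fin n → S, Ideal.span (Set.range x) = maximalIdeal S ∧ IsH1 x := by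
  obtain ⟨s, hs, hspan⟩ := Submodule.FG.exists_span_finset_card_eq_spanFinrank
    (IsNoetherian.noetherian (maximalIdeal S))
  have h2 : ((maximalIdeal S).spanFinrank : WithBot ℕ∞) = ringKrullDim S :=
    IsRegularLocalRing.spanFinrank_maximalIdeal
  rw [hn] at h2
  have hcard : s.card = n := by
    rw [hs]; exact_mod_cast h2
  let e : s ≃ Fin n := Finset.equivFinOfCardEq hcard
  let x : Fin n → S := fun i => ((e.symm i : s) : S)
  have hrange : Set.range x = (s : Set S) := by
    have : x = (Subtype.val : s → S) ∘ e.symm := rfl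
    rw [this, EquivLike.range_comp, Subtype.range_coe_subtype]
    rfl
  have hx : Ideal.span (Set.range x) = maximalIdeal S := by
    rw [hrange]; exact hspan
  refine ⟨x, hx, ?_⟩
  exact isH1_of_isWeaklyRegular n S x
    (isRegular_of_span_range_eq_maximalIdeal S n hn x hx).toIsWeaklyRegular

/-- independence of presentation: `μ(ker) - dim` is the same for any two surjections from regular
local rings. -/
theorem spanFinrank_ker_add_eq {S B C : Type u} [CommRing S] [IsRegularLocalRing S] [CommRing B]
    [IsRegularLocalRing B] [CommRing C] [Nontrivial C] (φ : S →+* C) (ψ : B →+* C)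
    (hφ : Function.Surjective φ) (hψ : Function.Surjective ψ) (n n' : ℕ)
    (hn : ringKrullDim S = n) (hn' : ringKrullDim B = n') :
    (RingHom.ker φ).spanFinrank + n' = (RingHom.ker ψ).spanFinrank + n := by
  haveI : IsLocalRing C := IsLocalRing.of_surjective' φ hφ
  obtain ⟨x, hx, hxH⟩ := exists_regular_sop S n hn
  obtain ⟨x', hx', hxH'⟩ := exists_regular_sop B n' hn'
  have hk : RingHom.ker φ ≤ maximalIdeal S := IsLocalRing.le_maximalIdeal (RingHom.ker_ne_top φ)
  have hk' : RingHom.ker ψ ≤ maximalIdeal B := IsLocalRing.le_maximalIdeal (RingHom.ker_ne_top ψ)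
  have h1 := ell_comp_eq_spanFinrank φ x hφ hk hx hxH
  have h2 := ell_comp_eq_spanFinrank ψ x' hψ hk' hx' hxH'
  have hs1 : Ideal.span (Set.range (φ ∘ x)) = maximalIdeal C := by
    rw [Set.range_comp, ← Ideal.map_span, hx, map_maximalIdeal_of_surjective φ hφ]
  have hs2 : Ideal.span (Set.range (ψ ∘ x')) = maximalIdeal C := by
    rw [Set.range_comp, ← Ideal.map_span, hx', map_maximalIdeal_of_surjective ψ hψ]
  have h3 := ell_add_card_eq (φ ∘ x) (ψ ∘ x') (hs1 ▸ maximalIdeal.isMaximal C) (hs1.trans hs2.symm)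
  rw [h1, h2, Fintype.card_fin, Fintype.card_fin] at h3
  exact_mod_cast h3

/-- independence of presentation for complete intersections -/
theorem isRegularIdeal_ker_iff {S B C : Type u} [CommRing S] [IsRegularLocalRing S] [CommRing B]
    [IsRegularLocalRing B] [CommRing C] [Nontrivial C] (φ : S →+* C) (ψ : B →+* C)
    (hφ : Function.Surjective φ) (hψ : Function.Surjective ψ) :
    CInt.IsRegularIdeal (RingHom.ker φ) ↔ CInt.IsRegularIdeal (RingHom.ker ψ) := by
  haveI : IsLocalRing C := IsLocalRing.of_surjective' φ hφ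
  haveI : IsNoetherianRing C := isNoetherianRing_of_surjective S C φ hφ
  obtain ⟨n, hn⟩ := exists_nat_ringKrullDim S
  obtain ⟨n', hn'⟩ := exists_nat_ringKrullDim B
  obtain ⟨e, he⟩ := exists_nat_ringKrullDim C
  have hk : RingHom.ker φ ≤ maximalIdeal S := IsLocalRing.le_maximalIdeal (RingHom.ker_ne_top φ)
  have hk' : RingHom.ker ψ ≤ maximalIdeal B := IsLocalRing.le_maximalIdeal (RingHom.ker_ne_top ψ)
  have hd1 : ringKrullDim (S ⧸ RingHom.ker φ) = e := by
    rw [ringKrullDim_eq_of_ringEquiv (RingHom.quotientKerEquivOfSurjective hφ), he]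
  have hd2 : ringKrullDim (B ⧸ RingHom.ker ψ) = e := by
    rw [ringKrullDim_eq_of_ringEquiv (RingHom.quotientKerEquivOfSurjective hψ), he]
  have key := spanFinrank_ker_add_eq φ ψ hφ hψ n n' hn hn'
  rw [isRegularIdeal_iff_dim S _ hk, isRegularIdeal_iff_dim B _ hk', hd1, hd2, hn, hn']
  constructor
  · intro h
    have h' : e + (RingHom.ker φ).spanFinrank = n := by exact_mod_cast h
    have : e + (RingHom.ker ψ).spanFinrank = n' := by omega
    exact_mod_cast this
  · intro h
    have h' : e + (RingHom.ker ψ).spanFinrank = n' := by exact_mod_cast h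
    have : e + (RingHom.ker φ).spanFinrank = n := by omega
    exact_mod_cast this

end Indep

end Groth.Agent.Lib.Helper76.KosLen
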