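import Groth.Agent.Lib.Helper76.TorKosA
import Groth.Agent.Lib.Helper42.KoszulPow
import Groth.Agent.Lib.Helper75.Kz2

/-!
# helper76: Koszul-regularity is local (check at the localizations at all primes)
-/

set_option autoImplicit false
set_option linter.unusedSimpArgs false
set_option linter.unusedSectionVars false
set_option linter.unusedVariables false
universe u

open CategoryTheory CategoryTheory.Limits MonoidalCategory HomologicalComplex CochainComplex
open TensorProduct

namespace Groth.Agent.Lib.Helper76.KrL

open Groth.Agent.Lib.Helper98.KoszulEuler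

variable {A : Type u} [CommRing A]

attribute [local instance] HasDerivedCategory.standard

theorem isZero_tensor_homology_of_isZero (M : ModuleCat.{u} A) [Module.Flat A M] (l : List A)
    (i : ℤ) (h : IsZero ((CohIII.koszulCx M l).homology i)) :
    IsZero ((tensorRight M).obj ((Koszul.koszul A l).homology i)) := by
  obtain ⟨e⟩ := Groth.Agent.Lib.Helper42.KoszulPow.nonempty_CM_iso M l
  have h1 : IsZero ((CM l M).homology i) :=
    h.of_iso ((HomologicalComplex.homologyFunctor _ _ i).mapIso e)
  have e2 : (((Koszul.koszul A l).sc i).map (tensorRight M)).homology ≅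
      (tensorRight M).obj (((Koszul.koszul A l).sc i).homology) :=
    ((Koszul.koszul A l).sc i).mapHomologyIso (tensorRight M)
  exact IsZero.of_iso h1 e2.symm

/-- vanishing of the Koszul homology of `A'` (as an `A`-module) from Koszul-regularity in `A'` -/
theorem isZero_koszulCx_alg (A' : Type u) [CommRing A'] [Algebra A A'] (l : List A)
    (hl' : LCI.IsKoszulRegularSeq A' (l.map (algebraMap A A'))) (i : ℤ) (hi : i ≠ 0) :
    IsZero ((CohIII.koszulCx (ModuleCat.of A A') l).homology i) := by
  have h1 : IsZero ((CohIII.koszulCx (ModuleCat.of A' A') (l.map (algebraMap A A'))).homology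
      i) := by
    have h0 := hl' i hi
    rw [← HomologicalComplex.exactAt_iff_isZero_homology,
      Groth.Agent.Lib.Helper75.Kz.koszul_eq_koszulCx,
      HomologicalComplex.exactAt_iff_isZero_homology] at h0
    exact h0
  have h2 := (Groth.Agent.Lib.Helper75.Kz.isZero_homology_restrictScalars_iff (algebraMap A A') l
    (ModuleCat.of A' A') i).2 h1
  exact h2.of_iso ((HomologicalComplex.homologyFunctor _ _ i).mapIso
    (Groth.Agent.Lib.Helper75.Kz.kmapIso (Groth.Agent.Lib.Helper76.TorKos.ofAlgIso A') l))

/-- **Koszul-regularity is local.** -/
theorem koszulRegular_of_localization (l : List A)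
    (h : ∀ (q : Ideal A) [q.IsPrime], LCI.IsKoszulRegularSeq (Localization.AtPrime q)
      (l.map (algebraMap A (Localization.AtPrime q)))) :
    LCI.IsKoszulRegularSeq A l := by
  intro i hi
  have hsub : Subsingleton ((Koszul.koszul A l).homology i) := by
    rw [← Module.support_eq_empty_iff (R := A)]
    rw [Set.eq_empty_iff_forall_notMem]
    intro p
    rw [Module.notMem_support_iff]
    haveI : p.asIdeal.IsPrime := p.2
    have hz := isZero_koszulCx_alg (Localization.AtPrime p.asIdeal) l (h p.asIdeal) i hi
    haveI : Module.Flat A (ModuleCat.of A (Localization.AtPrime p.asIdeal)) :=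
      (inferInstance : Module.Flat A (Localization.AtPrime p.asIdeal))
    have hz2 := isZero_tensor_homology_of_isZero (ModuleCat.of A (Localization.AtPrime p.asIdeal))
      l i hz
    have hs : Subsingleton (((Koszul.koszul A l).homology i) ⊗[A]
        (Localization.AtPrime p.asIdeal)) := ModuleCat.subsingleton_of_isZero hz2
    have hs2 : Subsingleton ((Localization.AtPrime p.asIdeal) ⊗[A]
        ((Koszul.koszul A l).homology i)) :=
      (TensorProduct.comm A _ _).toEquiv.subsingleton
    exact ((LocalizedModule.isBaseChange p.asIdeal.primeCompl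
      ((Koszul.koszul A l).homology i)).equiv.symm.toEquiv).subsingleton
  exact ModuleCat.isZero_of_subsingleton _

end Groth.Agent.Lib.Helper76.KrL
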