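import Groth.Agent.Lib.Helper76.JdB
import Groth.Agent.Lib.Helper76.KrL
import Groth.Agent.Lib.Helper94.SyntH
import Groth.Agent.Lib.Helper43.KRDescent
import Groth.Agent.Lib.Helper98.KoszulLES

/-!
# helper76: quasi-finite `A[x_1..x_n]/(F_1..F_n)`: relative global complete intersection, global
Koszul-regularity of the relations, Noether different = (Jacobian).
-/

set_option autoImplicit false
set_option linter.unusedSimpArgs false
set_option linter.unusedSectionVars false
set_option linter.unusedVariables false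
universe u

open TensorProduct MvPolynomial

namespace Groth.Agent.Lib.Helper76.Jd

theorem isRelGCI_of_quasiFinite (A : Type u) [CommRing A] (n : ℕ)
    (F : Fin n → MvPolynomial (Fin n) A)
    [Algebra.QuasiFinite A (MvPolynomial (Fin n) A ⧸ Ideal.span (Set.range F))] :
    Synt.IsRelGCI A n n F := by
  intro p hnt
  refine ⟨le_rfl, ?_⟩
  haveI : p.asIdeal.IsPrime := p.2
  have hfin : Module.Finite p.asIdeal.ResidueField
      (p.asIdeal.Fiber (Synt.RelGCIRing A n n F)) :=
    Algebra.QuasiFinite.finite_fiber p.asIdeal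
  have hart : IsArtinianRing (p.asIdeal.Fiber (Synt.RelGCIRing A n n F)) :=
    IsArtinianRing.of_finite p.asIdeal.ResidueField (p.asIdeal.Fiber (Synt.RelGCIRing A n n F))
  rw [Nat.sub_self]
  have h1 : Ring.KrullDimLE 0 (p.asIdeal.Fiber (Synt.RelGCIRing A n n F)) :=
    ((isArtinianRing_iff_isNoetherianRing_krullDimLE_zero
      (R := p.asIdeal.Fiber (Synt.RelGCIRing A n n F))).mp hart).2
  have h2 := (ringKrullDimZero_iff_ringKrullDim_eq_zero
    (R := p.asIdeal.Fiber (Synt.RelGCIRing A n n F))).mp h1
  exact h2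

theorem koszulRegular_of_isRelGCI (A : Type u) [CommRing A] (n c : ℕ)
    (F : Fin c → MvPolynomial (Fin n) A) (h : Synt.IsRelGCI A n c F) :
    LCI.IsKoszulRegularSeq (MvPolynomial (Fin n) A) (List.ofFn F) := by
  apply Groth.Agent.Lib.Helper76.KrL.koszulRegular_of_localization
  intro q hq
  by_cases hle : Ideal.span (Set.range F) ≤ q
  · have h1 := (Groth.Agent.Lib.Helper94.SyntF.transRegAt_of_isRelGCI A n c F h q hle).2.1
    exact (_root_.Helper98.KoszulLES.koszul_of_weaklyRegular _ h1).1
  · apply Groth.Agent.Lib.Helper43.KRDescent.koszulRegular_of_one_mem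
    rw [Ideal.span_le] at hle
    obtain ⟨_, ⟨i, rfl⟩, hi⟩ := Set.not_subset.1 hle
    have hu : IsUnit (algebraMap (MvPolynomial (Fin n) A) (Localization.AtPrime q) (F i)) :=
      IsLocalization.map_units (Localization.AtPrime q) (⟨F i, hi⟩ : q.primeCompl)
    have hmem : algebraMap (MvPolynomial (Fin n) A) (Localization.AtPrime q) (F i) ∈
        Ideal.ofList ((List.ofFn F).map (algebraMap _ (Localization.AtPrime q))) := by
      apply Ideal.subset_span
      exact List.mem_map.2 ⟨F i, (List.mem_ofFn' _ _).2 ⟨i, rfl⟩, rfl⟩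
    rw [Ideal.eq_top_of_isUnit_mem _ hmem hu]
    exact Submodule.mem_top

end Groth.Agent.Lib.Helper76.Jd
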