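import Mathlib
import Groth.Agent.Lib.Helper24.LocalCritPow

/-!
# LC of helper55's open call for S4857 (helper76): local criterion of flatness wrapper
-/

set_option autoImplicit false
universe u
open TensorProduct
open scoped Pointwise

namespace Groth.Agent.Lib.Helper76.AdicFamLC

/-- (LC) local criterion wrapper -/
theorem flat_localized_of_forall_flat_quotient_pow
    {A : Type u} [CommRing A] [IsLocalRing A] [IsNoetherianRing A]
    {B : Type u} [CommRing B] [Algebra A B] [IsNoetherianRing B]
    {M : Type u} [AddCommGroup M] [Module B M] [Module A M] [IsScalarTower A B M] [Module.Finite B M]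
    (𝔭 : Ideal B) [𝔭.IsPrime] (h𝔭 : 𝔭.comap (algebraMap A B) = IsLocalRing.maximalIdeal A)
    (h : ∀ N : ℕ, 0 < N → Module.Flat (A ⧸ IsLocalRing.maximalIdeal A ^ N)
      ((A ⧸ IsLocalRing.maximalIdeal A ^ N) ⊗[A] LocalizedModule 𝔭.primeCompl M)) :
    Module.Flat A (LocalizedModule 𝔭.primeCompl M) := by
  refine Groth.Agent.Lib.Helper24.LocalCritPow.flat_of_forall_flat_quotient_pow A
    (Localization.AtPrime 𝔭) (LocalizedModule 𝔭.primeCompl M) (IsLocalRing.maximalIdeal A) ?_ h
  rw [IsLocalRing.jacobson_eq_maximalIdeal ⊥ bot_ne_top, Ideal.map_le_iff_le_comap]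
  intro a ha
  rw [Ideal.mem_comap, IsScalarTower.algebraMap_apply A B (Localization.AtPrime 𝔭),
    IsLocalization.AtPrime.to_map_mem_maximal_iff (Localization.AtPrime 𝔭) 𝔭]
  rw [← h𝔭] at ha
  exact ha

end Groth.Agent.Lib.Helper76.AdicFamLC
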