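import Mathlib
import Groth.Agent.Lib.Helper76.RegularLocal

/-!
# Abstract local algebra lemmas for the nodal criterion (S1631)
-/

set_option autoImplicit false
set_option linter.style.haveILetI false

namespace Groth.Agent.Lib.Helper76.Node

open IsLocalRing

universe u

section LemmaE

variable {P : Type*} [CommRing P]

theorem sup_pow_le (I J : Ideal P) (n : ℕ) : (I ⊔ J) ^ n ≤ I ⊔ J ^ n := by
  induction n with
  | zero => simp
  | succ n ih =>
    rw [pow_succ, pow_succ]
    refine le_trans (Ideal.mul_mono_left ih) ?_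
    rw [Ideal.sup_mul, Ideal.mul_sup, Ideal.mul_sup]
    refine sup_le (sup_le ?_ ?_) (sup_le ?_ ?_)
    · exact le_trans Ideal.mul_le_left le_sup_left
    · exact le_trans Ideal.mul_le_left le_sup_left
    · exact le_trans Ideal.mul_le_right le_sup_left
    · exact le_sup_right

variable [IsLocalRing P]

/-- Key lemma: if `𝔪 = (x, y)`, `f ≡ c y² mod (x) + 𝔪³` with `c` a unit, `f ∈ I ⊆ 𝔪²` and some
`t ∈ 𝔪` is a nonzerodivisor modulo `I`, then `I = (f)`. -/
theorem eq_span_of_regular [IsNoetherianRing P] (x y f c : P)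
    (hm : maximalIdeal P = Ideal.span {x, y}) (hc : IsUnit c)
    (hf : f - c * y ^ 2 ∈ Ideal.span {x} ⊔ maximalIdeal P ^ 3)
    (I : Ideal P) (hfI : f ∈ I) (hI : I ≤ maximalIdeal P ^ 2)
    (t : P) (ht : t ∈ maximalIdeal P) (hreg : ∀ z, t * z ∈ I → z ∈ I) :
    I = Ideal.span {f} := by
  have hxm : x ∈ maximalIdeal P := by rw [hm]; exact Ideal.subset_span (by simp)
  have hym : y ∈ maximalIdeal P := by rw [hm]; exact Ideal.subset_span (by simp)
  have hm' : maximalIdeal P = Ideal.span {x} ⊔ Ideal.span {y} := by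
    rw [hm, ← Ideal.span_union]; rfl
  -- 𝔪³ ≤ (x) + (y³)
  have h3 : maximalIdeal P ^ 3 ≤ Ideal.span {x} ⊔ Ideal.span {y ^ 3} := by
    rw [hm']
    refine le_trans (sup_pow_le _ _ 3) ?_
    rw [Ideal.span_singleton_pow]
  have h2 : maximalIdeal P ^ 2 ≤ Ideal.span {x} ⊔ Ideal.span {y ^ 2} := by
    rw [hm']
    refine le_trans (sup_pow_le _ _ 2) ?_
    rw [Ideal.span_singleton_pow]
  have hf' : f - c * y ^ 2 ∈ Ideal.span {x} ⊔ Ideal.span {y ^ 3} :=
    (sup_le le_sup_left h3) hf
  obtain ⟨u, hu, v, hv, huv⟩ := Submodule.mem_sup.mp hf'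
  obtain ⟨p, rfl⟩ := Ideal.mem_span_singleton'.mp hu
  obtain ⟨w, rfl⟩ := Ideal.mem_span_singleton'.mp hv
  -- y² (c + y w) = f - x p
  have hunit : IsUnit (c + w * y) := by
    by_contra hnu
    have h1 : c + w * y ∈ maximalIdeal P := (mem_maximalIdeal _).mpr hnu
    have h2 : c ∈ maximalIdeal P := by
      have : c = (c + w * y) - w * y := by ring
      rw [this]
      exact Ideal.sub_mem _ h1 (Ideal.mul_mem_left _ _ hym)
    exact (mem_maximalIdeal _).mp h2 hc
  obtain ⟨uu, huu⟩ := hunit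
  have hy2 : y ^ 2 ∈ Ideal.span {x, f} := by
    have h1 : y ^ 2 * (c + w * y) = f - p * x := by
      have : f = c * y ^ 2 + (p * x + w * y ^ 3) := by rw [huv]; ring
      rw [this]; ring
    have h2 : y ^ 2 = (f - p * x) * ((uu⁻¹ : Pˣ) : P) := by
      rw [← h1, ← huu, mul_assoc, Units.mul_inv, mul_one]
    rw [h2]
    apply Ideal.mul_mem_right
    exact Ideal.sub_mem _ (Ideal.subset_span (by simp))
      (Ideal.mul_mem_left _ _ (Ideal.subset_span (by simp)))
  have hK : maximalIdeal P ^ 2 ≤ Ideal.span {x, f} := by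
    refine le_trans h2 (sup_le ?_ ?_)
    · rw [Ideal.span_le, Set.singleton_subset_iff]; exact Ideal.subset_span (by simp)
    · rw [Ideal.span_le, Set.singleton_subset_iff]; exact hy2
  -- x is regular mod I
  have hxreg : ∀ z, x * z ∈ I → z ∈ I := by
    intro z hz
    have hKz : ∀ w ∈ Ideal.span {x, f}, w * z ∈ I := by
      intro w hw
      obtain ⟨α, β, rfl⟩ := Ideal.mem_span_pair.mp hw
      have : (α * x + β * f) * z = α * (x * z) + (β * z) * f := by ring
      rw [this]
      exact Ideal.add_mem _ (Ideal.mul_mem_left _ _ hz) (Ideal.mul_mem_left _ _ hfI)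
    have hmz : ∀ w1 ∈ maximalIdeal P, w1 * z ∈ I := by
      intro w1 hw1
      apply hreg
      have : t * (w1 * z) = (t * w1) * z := by ring
      rw [this]
      apply hKz
      apply hK
      rw [pow_two]
      exact Ideal.mul_mem_mul ht hw1
    exact hreg z (hmz t ht)
  -- I ≤ (f) + 𝔪 I
  have hle : I ≤ Ideal.span {f} ⊔ maximalIdeal P • I := by
    intro g hg
    have hgK : g ∈ Ideal.span {x, f} := hK (hI hg)
    obtain ⟨r, s, hrs⟩ := Ideal.mem_span_pair.mp hgK
    have hr : r ∈ I := by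
      apply hxreg
      have : x * r = g - s * f := by rw [← hrs]; ring
      rw [this]
      exact Ideal.sub_mem _ hg (Ideal.mul_mem_left _ _ hfI)
    rw [← hrs, add_comm]
    apply Submodule.add_mem_sup
    · exact Ideal.mul_mem_left _ _ (Ideal.subset_span rfl)
    · rw [mul_comm]
      exact Submodule.smul_mem_smul hxm hr
  apply le_antisymm
  · exact Submodule.le_of_le_smul_of_le_jacobson_bot (IsNoetherian.noetherian I)
      (IsLocalRing.jacobson_eq_maximalIdeal _ bot_ne_top).ge hle
  · rw [Ideal.span_le, Set.singleton_subset_iff]; exact hfI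

end LemmaE

section Regular

variable {R : Type*} [CommRing R] [IsLocalRing R] [IsNoetherianRing R]

/-- For a radical ideal `N ≠ 𝔪` of a Noetherian local ring there is `t ∈ 𝔪` which is a
nonzerodivisor modulo `N`. -/
theorem exists_regular_mod_radical (N : Ideal R) (hN : N.IsRadical)
    (hNm : N ≠ maximalIdeal R) :
    ∃ t ∈ maximalIdeal R, ∀ z, t * z ∈ N → z ∈ N := by
  classical
  have hfin : (N.minimalPrimes).Finite := Ideal.finite_minimalPrimes_of_isNoetherianRing R N
  have hsInf : sInf N.minimalPrimes = N := by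
    rw [Ideal.sInf_minimalPrimes]; exact hN.radical
  have hex : ∃ t ∈ maximalIdeal R, ∀ p ∈ N.minimalPrimes, t ∉ p := by
    by_contra hcon
    push Not at hcon
    have hsub : ((maximalIdeal R : Ideal R) : Set R) ⊆
        ⋃ i ∈ ((hfin.toFinset : Finset (Ideal R)) : Set (Ideal R)), (id i : Ideal R) := by
      intro x hx
      obtain ⟨p, hp, hxp⟩ := hcon x hx
      simp only [Set.Finite.coe_toFinset, id_eq, Set.mem_iUnion, SetLike.mem_coe, exists_prop]
      exact ⟨p, hp, hxp⟩
    rw [Ideal.subset_union_prime ⊤ ⊤] at hsub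
    · obtain ⟨i, hi, hle⟩ := hsub
      simp only [Set.Finite.mem_toFinset] at hi
      have hip : i.IsPrime := hi.1.1
      have hieq : i = maximalIdeal R :=
        ((maximalIdeal.isMaximal R).eq_of_le hip.ne_top hle).symm
      subst hieq
      -- every minimal prime over N equals 𝔪
      have hall : ∀ q ∈ N.minimalPrimes, q = maximalIdeal R := by
        intro q hq
        have hqp : q.IsPrime := hq.1.1
        have hqm : q ≤ maximalIdeal R := IsLocalRing.le_maximalIdeal hqp.ne_top
        exact le_antisymm hqm (hi.2 hq.1 hqm)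
      apply hNm
      rw [← hsInf]
      apply le_antisymm
      · exact sInf_le hi
      · exact le_sInf (fun q hq => (hall q hq).ge)
    · intro i hi _ _
      simp only [Set.Finite.mem_toFinset] at hi
      exact hi.1.1
  obtain ⟨t, ht, htp⟩ := hex
  refine ⟨t, ht, fun z hz => ?_⟩
  rw [← hsInf]
  rw [Ideal.mem_sInf]
  intro p hp
  have hpp : p.IsPrime := hp.1.1
  have : t * z ∈ p := hp.1.2 hz
  rcases hpp.mem_or_mem this with h | h
  · exact absurd h (htp p hp)
  · exact h

end Regular

section RadSq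

/-- In a regular local ring, if `Q ∈ 𝔪²` is not divisible by the square of a regular parameter,
then the radical of `(Q)` is contained in `𝔪²`. -/
theorem radical_le_sq (P : Type u) [CommRing P] [IsRegularLocalRing P] (Q : P)
    (hQ : Q ∈ maximalIdeal P ^ 2)
    (hns : ∀ g ∈ maximalIdeal P, g ∉ maximalIdeal P ^ 2 → ¬ g ^ 2 ∣ Q) :
    (Ideal.span {Q}).radical ≤ maximalIdeal P ^ 2 := by
  haveI : IsDomain P := isDomain_of_isRegularLocalRing P
  have hQm : Q ∈ maximalIdeal P := Ideal.pow_le_self (by norm_num) hQ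
  have hQnu : ¬ IsUnit Q := (mem_maximalIdeal _).mp hQm
  intro g hg
  by_contra hg2
  obtain ⟨n, hn⟩ := hg
  obtain ⟨h, hh⟩ := Ideal.mem_span_singleton'.mp hn
  -- hh : h * Q = g ^ n
  have hgm : g ∈ maximalIdeal P := by
    rw [mem_maximalIdeal, mem_nonunits_iff]
    intro hgu
    apply hQnu
    have : IsUnit (h * Q) := by rw [hh]; exact hgu.pow n
    exact isUnit_of_mul_isUnit_right this
  have hg0 : g ≠ 0 := by
    rintro rfl
    exact hg2 (Ideal.zero_mem _)
  obtain ⟨hreg, -⟩ := isRegularLocalRing_quotient_of_notMem_sq P g hgm hg2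
  haveI := hreg
  haveI : IsDomain (P ⧸ Ideal.span ({g} : Set P)) := isDomain_of_isRegularLocalRing _
  have hprime : (Ideal.span ({g} : Set P)).IsPrime := (Ideal.Quotient.isDomain_iff_prime _).mp ‹_›
  have hgp : Prime g := (Ideal.span_singleton_prime hg0).mp hprime
  -- g ∣ Q
  have hgQ : g ∣ Q := by
    by_contra hnd
    have h1 : g ^ n ∣ h * Q := by rw [hh]
    have h2 : g ^ n ∣ h := hgp.pow_dvd_of_dvd_mul_right n hnd h1
    obtain ⟨h', rfl⟩ := h2
    have h3 : g ^ n * (h' * Q) = g ^ n * 1 := by rw [mul_one, ← mul_assoc]; exact hh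
    have h4 : h' * Q = 1 := mul_left_cancel₀ (pow_ne_zero n hg0) h3
    exact hQnu (IsUnit.of_mul_eq_one_right h' h4)
  obtain ⟨l, rfl⟩ := hgQ
  have hlnu : ¬ IsUnit l := by
    intro hlu
    apply hg2
    obtain ⟨lu, rfl⟩ := hlu
    have : g = (g * (lu : P)) * ((lu⁻¹ : Pˣ) : P) := by
      rw [mul_assoc, Units.mul_inv, mul_one]
    rw [this]
    exact Ideal.mul_mem_right _ _ hQ
  have hn0 : n ≠ 0 := by
    rintro rfl
    apply hQnu
    rw [pow_zero] at hh
    exact IsUnit.of_mul_eq_one_right h hh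
  obtain ⟨n', rfl⟩ := Nat.exists_eq_succ_of_ne_zero hn0
  have hh' : h * l = g ^ n' := by
    have : g * (h * l) = g * g ^ n' := by rw [← pow_succ', ← hh]; ring
    exact mul_left_cancel₀ hg0 this
  have hgl : g ∣ l := by
    by_contra hnd
    have h1 : g ^ n' ∣ h * l := by rw [hh']
    have h2 : g ^ n' ∣ h := hgp.pow_dvd_of_dvd_mul_right n' hnd h1
    obtain ⟨h', rfl⟩ := h2
    have h3 : g ^ n' * (h' * l) = g ^ n' * 1 := by rw [mul_one, ← mul_assoc]; exact hh'
    have h4 : h' * l = 1 := mul_left_cancel₀ (pow_ne_zero n' hg0) h3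
    exact hlnu (IsUnit.of_mul_eq_one_right h' h4)
  obtain ⟨l', rfl⟩ := hgl
  exact hns g hgm hg2 ⟨l', by ring⟩

end RadSq

end Groth.Agent.Lib.Helper76.Node
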