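import Mathlib
import Groth.Agent.Lib.Helper76.NodeA
import Groth.Agent.Lib.Helper52.WQParam
import Groth.Agent.S11741

/-!
# Power series specifics for the nodal criterion (S1631): `K[[u,v]]/(q)` is reduced
-/

set_option autoImplicit false
set_option linter.style.haveILetI false

namespace Groth.Agent.Lib.Helper76.Node

open IsLocalRing MvPowerSeries

universe u

variable {K : Type u} [Field K]

/-- The binary quadratic form as a power series. -/
noncomputable def Qf (a b c : K) : MvPowerSeries (Fin 2) K :=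
  C a * X 0 ^ 2 + C b * X 0 * X 1 + C c * X 1 ^ 2

theorem maximalIdeal_eq_pair :
    maximalIdeal (MvPowerSeries (Fin 2) K) = Ideal.span {X 0, X 1} := by
  rw [Groth.Agent.S11741.maximalIdeal_mvPowerSeries_eq]
  congr 1
  ext z
  simp [Fin.exists_fin_two, eq_comm]

theorem X_mem_maximalIdeal (i : Fin 2) :
    (X i : MvPowerSeries (Fin 2) K) ∈ maximalIdeal (MvPowerSeries (Fin 2) K) := by
  rw [Groth.Agent.S11741.maximalIdeal_mvPowerSeries_eq]
  exact Ideal.subset_span ⟨i, rfl⟩

theorem isUnit_C {r : K} (hr : r ≠ 0) : IsUnit (C r : MvPowerSeries (Fin 2) K) :=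
  (isUnit_iff_ne_zero.mpr hr).map C

theorem Qf_mem_sq (a b c : K) : Qf a b c ∈ maximalIdeal (MvPowerSeries (Fin 2) K) ^ 2 := by
  have h0 := X_mem_maximalIdeal (K := K) 0
  have h1 := X_mem_maximalIdeal (K := K) 1
  unfold Qf
  refine Ideal.add_mem _ (Ideal.add_mem _ ?_ ?_) ?_
  · exact Ideal.mul_mem_left _ _ (Ideal.pow_mem_pow h0 2)
  · rw [mul_assoc, pow_two]
    exact Ideal.mul_mem_left _ _ (Ideal.mul_mem_mul h0 h1)
  · exact Ideal.mul_mem_left _ _ (Ideal.pow_mem_pow h1 2)

/-- Good coordinates for a nondegenerate binary quadratic form. -/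
theorem exists_coords (a b c : K) (h : 4 * a * c - b ^ 2 ≠ 0) :
    ∃ x y c' : MvPowerSeries (Fin 2) K,
      maximalIdeal (MvPowerSeries (Fin 2) K) = Ideal.span {x, y} ∧ IsUnit c' ∧
        Qf a b c - c' * y ^ 2 ∈ Ideal.span {x} := by
  by_cases hc : c = 0
  · by_cases ha : a = 0
    · have hb : b ≠ 0 := by
        rintro rfl
        apply h
        rw [ha, hc]; ring
      refine ⟨X 0 - X 1, X 1, C b, ?_, isUnit_C hb, ?_⟩
      · rw [maximalIdeal_eq_pair]
        apply le_antisymm
        · rw [Ideal.span_le]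
          rintro z (rfl | rfl)
          · exact Ideal.mem_span_pair.mpr ⟨1, 1, by ring⟩
          · exact Ideal.subset_span (by simp)
        · rw [Ideal.span_le]
          rintro z (rfl | rfl)
          · exact Ideal.mem_span_pair.mpr ⟨1, -1, by ring⟩
          · exact Ideal.subset_span (by simp)
      · rw [Ideal.mem_span_singleton']
        refine ⟨C b * X 1, ?_⟩
        unfold Qf
        rw [ha, hc]
        simp only [map_zero, zero_mul, zero_add, add_zero]
        ring
    · refine ⟨X 1, X 0, C a, ?_, isUnit_C ha, ?_⟩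
      · rw [maximalIdeal_eq_pair, Set.pair_comm]
      · rw [Ideal.mem_span_singleton']
        refine ⟨C b * X 0 + C c * X 1, ?_⟩
        unfold Qf
        ring
  · refine ⟨X 0, X 1, C c, maximalIdeal_eq_pair, isUnit_C hc, ?_⟩
    rw [Ideal.mem_span_singleton']
    refine ⟨C a * X 0 + C b * X 1, ?_⟩
    unfold Qf
    ring

theorem pderiv_zero_Qf (a b c : K) :
    pderiv K (0 : Fin 2) (Qf a b c) = 2 * C a * X 0 + C b * X 1 := by
  unfold Qf
  have h10 : pderiv K (0 : Fin 2) (X 1 : MvPowerSeries (Fin 2) K) = 0 :=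
    pderiv_X_of_ne (by decide)
  simp only [map_add, Derivation.leibniz, pderiv_C, pderiv_X_self, h10, pderiv_pow, smul_eq_mul]
  ring

theorem pderiv_one_Qf (a b c : K) :
    pderiv K (1 : Fin 2) (Qf a b c) = C b * X 0 + 2 * C c * X 1 := by
  unfold Qf
  have h01 : pderiv K (1 : Fin 2) (X 0 : MvPowerSeries (Fin 2) K) = 0 :=
    pderiv_X_of_ne (by decide)
  simp only [map_add, Derivation.leibniz, pderiv_C, pderiv_X_self, h01, pderiv_pow, smul_eq_mul]
  ring

theorem spanFinrank_maximalIdeal :
    (maximalIdeal (MvPowerSeries (Fin 2) K)).spanFinrank = 2 := by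
  haveI : IsRegularLocalRing (MvPowerSeries (Fin 2) K) :=
    Groth.Agent.Lib.Helper52.WQ.isRegularLocalRing_mvPowerSeries
  have h1 := IsRegularLocalRing.spanFinrank_maximalIdeal (R := MvPowerSeries (Fin 2) K)
  rw [Groth.Agent.Lib.Helper52.WQ.ringKrullDim_mvPowerSeries] at h1
  exact_mod_cast h1

theorem maximalIdeal_ne_span_singleton (g : MvPowerSeries (Fin 2) K) :
    maximalIdeal (MvPowerSeries (Fin 2) K) ≠ Ideal.span {g} := by
  intro heq
  have h1 := spanFinrank_maximalIdeal (K := K)
  rw [heq] at h1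
  have h2 := Submodule.spanFinrank_span_le_ncard_of_finite (R := MvPowerSeries (Fin 2) K)
    (Set.finite_singleton g)
  rw [Set.ncard_singleton] at h2
  have h3 : (Ideal.span {g}).spanFinrank = (Submodule.span (MvPowerSeries (Fin 2) K) {g}).spanFinrank :=
    rfl
  omega

theorem maximalIdeal_ne_bot : maximalIdeal (MvPowerSeries (Fin 2) K) ≠ ⊥ := by
  intro heq
  have h1 := spanFinrank_maximalIdeal (K := K)
  rw [heq, Submodule.spanFinrank_bot] at h1
  omega

/-- A nondegenerate binary quadratic form is not divisible by the square of a non-unit. -/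
theorem not_sq_dvd_Qf (a b c : K) (h : 4 * a * c - b ^ 2 ≠ 0) (g : MvPowerSeries (Fin 2) K)
    (hg : g ∈ maximalIdeal (MvPowerSeries (Fin 2) K)) : ¬ g ^ 2 ∣ Qf a b c := by
  rintro ⟨l, hl⟩
  have hl' : Qf a b c = g * (g * l) := by rw [hl]; ring
  have hd : ∀ i : Fin 2, pderiv K i (Qf a b c) ∈ Ideal.span {g} := by
    intro i
    rw [hl', Derivation.leibniz, smul_eq_mul, smul_eq_mul, Ideal.mem_span_singleton']
    exact ⟨pderiv K i (g * l) + l * pderiv K i g, by ring⟩
  have hd0 := hd 0
  have hd1 := hd 1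
  rw [pderiv_zero_Qf] at hd0
  rw [pderiv_one_Qf] at hd1
  obtain ⟨Du, hDu⟩ := isUnit_C (K := K) h
  have hD : (Du : MvPowerSeries (Fin 2) K) = 4 * C a * C c - C b ^ 2 := by
    rw [hDu]; simp only [map_sub, map_mul, map_pow, map_ofNat]
  have hX0 : (X 0 : MvPowerSeries (Fin 2) K) ∈ Ideal.span {g} := by
    have h1 : (X 0 : MvPowerSeries (Fin 2) K) * (Du : MvPowerSeries (Fin 2) K) ∈ Ideal.span {g} := by
      have : (X 0 : MvPowerSeries (Fin 2) K) * (Du : MvPowerSeries (Fin 2) K) =
          (2 * C c) * (2 * C a * X 0 + C b * X 1) - C b * (C b * X 0 + 2 * C c * X 1) := by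
        rw [hD]; ring
      rw [this]
      exact Ideal.sub_mem _ (Ideal.mul_mem_left _ _ hd0) (Ideal.mul_mem_left _ _ hd1)
    have h2 : (X 0 : MvPowerSeries (Fin 2) K) = (X 0 * (Du : MvPowerSeries (Fin 2) K)) * ((Du⁻¹ : (MvPowerSeries (Fin 2) K)ˣ) :
        MvPowerSeries (Fin 2) K) := by
      rw [mul_assoc, Units.mul_inv, mul_one]
    rw [h2]
    exact Ideal.mul_mem_right _ _ h1
  have hX1 : (X 1 : MvPowerSeries (Fin 2) K) ∈ Ideal.span {g} := by
    have h1 : (X 1 : MvPowerSeries (Fin 2) K) * (Du : MvPowerSeries (Fin 2) K) ∈ Ideal.span {g} := by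
      have : (X 1 : MvPowerSeries (Fin 2) K) * (Du : MvPowerSeries (Fin 2) K) =
          (2 * C a) * (C b * X 0 + 2 * C c * X 1) - C b * (2 * C a * X 0 + C b * X 1) := by
        rw [hD]; ring
      rw [this]
      exact Ideal.sub_mem _ (Ideal.mul_mem_left _ _ hd1) (Ideal.mul_mem_left _ _ hd0)
    have h2 : (X 1 : MvPowerSeries (Fin 2) K) = (X 1 * (Du : MvPowerSeries (Fin 2) K)) * ((Du⁻¹ : (MvPowerSeries (Fin 2) K)ˣ) :
        MvPowerSeries (Fin 2) K) := by
      rw [mul_assoc, Units.mul_inv, mul_one]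
    rw [h2]
    exact Ideal.mul_mem_right _ _ h1
  apply maximalIdeal_ne_span_singleton g
  apply le_antisymm
  · rw [maximalIdeal_eq_pair, Ideal.span_le]
    rintro z (rfl | rfl)
    · exact hX0
    · exact hX1
  · rw [Ideal.span_le, Set.singleton_subset_iff]; exact hg

theorem maximalIdeal_not_le_sq :
    ¬ maximalIdeal (MvPowerSeries (Fin 2) K) ≤ maximalIdeal (MvPowerSeries (Fin 2) K) ^ 2 := by
  intro hle
  apply maximalIdeal_ne_bot (K := K)
  apply Submodule.eq_bot_of_le_smul_of_le_jacobson_bot (maximalIdeal (MvPowerSeries (Fin 2) K))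
    (maximalIdeal (MvPowerSeries (Fin 2) K)) (IsNoetherian.noetherian _)
  · rw [smul_eq_mul, ← pow_two]; exact hle
  · exact (IsLocalRing.jacobson_eq_maximalIdeal _ bot_ne_top).ge

/-- `K[[u,v]]/(q)` is reduced for a nondegenerate binary quadratic form `q`. -/
theorem isRadical_span_Qf (a b c : K) (h : 4 * a * c - b ^ 2 ≠ 0) :
    (Ideal.span {Qf a b c}).IsRadical := by
  haveI : IsRegularLocalRing (MvPowerSeries (Fin 2) K) :=
    Groth.Agent.Lib.Helper52.WQ.isRegularLocalRing_mvPowerSeries
  have hN2 : (Ideal.span {Qf a b c}).radical ≤ maximalIdeal (MvPowerSeries (Fin 2) K) ^ 2 :=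
    radical_le_sq (MvPowerSeries (Fin 2) K) (Qf a b c) (Qf_mem_sq a b c)
      (fun g hg _ => not_sq_dvd_Qf a b c h g hg)
  have hNrad : ((Ideal.span {Qf a b c}).radical).IsRadical := Ideal.radical_isRadical _
  have hNm : (Ideal.span {Qf a b c}).radical ≠ maximalIdeal (MvPowerSeries (Fin 2) K) := by
    intro heq
    apply maximalIdeal_not_le_sq (K := K)
    rw [heq] at hN2
    exact hN2
  obtain ⟨t, ht, hreg⟩ := exists_regular_mod_radical _ hNrad hNm
  obtain ⟨x, y, c', hm, hc', hQ⟩ := exists_coords a b c h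
  have hfin := eq_span_of_regular x y (Qf a b c) c' hm hc'
    ((le_sup_left : Ideal.span {x} ≤ Ideal.span {x} ⊔ _) hQ)
    (Ideal.span {Qf a b c}).radical (Ideal.le_radical (Ideal.mem_span_singleton_self _)) hN2
    t ht hreg
  rw [← hfin]
  exact hNrad

theorem isReduced_quot (a b c : K) (h : 4 * a * c - b ^ 2 ≠ 0) :
    IsReduced (MvPowerSeries (Fin 2) K ⧸ Ideal.span {Qf a b c}) :=
  (Ideal.isRadical_iff_quotient_reduced _).mp (isRadical_span_Qf a b c h)

/-- For a surjection from `K[[u,v]]` onto a local ring with kernel in `𝔪²`, the maximal ideal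
of the target needs exactly two generators. -/
theorem spanFinrank_eq_two_of_surjective {S : Type*} [CommRing S] [IsLocalRing S]
    [IsNoetherianRing S] (φ : MvPowerSeries (Fin 2) K →+* S) (hφ : Function.Surjective φ)
    (hker : RingHom.ker φ ≤ maximalIdeal (MvPowerSeries (Fin 2) K) ^ 2) :
    (maximalIdeal S).spanFinrank = 2 := by
  classical
  have hloc : IsLocalHom φ := hφ.isLocalHom φ
  have hcomap : (maximalIdeal S).comap φ = maximalIdeal (MvPowerSeries (Fin 2) K) :=
    ((local_hom_TFAE φ).out 0 4).mp hloc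
  have hmap : maximalIdeal S = (maximalIdeal (MvPowerSeries (Fin 2) K)).map φ := by
    rw [← hcomap, Ideal.map_comap_of_surjective φ hφ]
  apply le_antisymm
  · rw [hmap, maximalIdeal_eq_pair, Ideal.map_span, Set.image_pair]
    refine le_trans (Submodule.spanFinrank_span_le_ncard_of_finite (Set.toFinite _)) ?_
    exact (Set.ncard_insert_le _ _).trans (by rw [Set.ncard_singleton])
  · by_contra hlt
    push Not at hlt
    have hfg : (maximalIdeal S).FG := IsNoetherian.noetherian _
    obtain ⟨T, hTcard, hTspan⟩ := Submodule.FG.exists_span_finset_card_eq_spanFinrank hfg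
    have hT1 : T.card ≤ 1 := by omega
    -- 𝔪_S is principal
    have hprin : ∃ s : S, maximalIdeal S = Ideal.span {s} := by
      rcases Finset.card_le_one_iff_subset_singleton.mp hT1 with ⟨s, hs⟩
      rcases Finset.subset_singleton_iff.mp hs with h0 | h1
      · refine ⟨0, ?_⟩
        rw [← hTspan, h0]
        simp
      · refine ⟨s, ?_⟩
        rw [← hTspan, h1]
        simp
    obtain ⟨s, hs⟩ := hprin
    obtain ⟨g, rfl⟩ := hφ s
    have hgm : g ∈ maximalIdeal (MvPowerSeries (Fin 2) K) := by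
      rw [← hcomap, Ideal.mem_comap, hs]
      exact Ideal.mem_span_singleton_self _
    have h1 : maximalIdeal (MvPowerSeries (Fin 2) K) = Ideal.span {g} ⊔ RingHom.ker φ := by
      rw [← hcomap, hs, ← Set.image_singleton, ← Ideal.map_span,
        Ideal.comap_map_of_surjective' φ hφ]
    apply maximalIdeal_ne_span_singleton g
    apply le_antisymm
    · apply Submodule.le_of_le_smul_of_le_jacobson_bot (I := maximalIdeal (MvPowerSeries (Fin 2) K))
        (IsNoetherian.noetherian _) (IsLocalRing.jacobson_eq_maximalIdeal _ bot_ne_top).ge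
      rw [smul_eq_mul, ← pow_two]
      conv_lhs => rw [h1]
      exact sup_le_sup_left hker _
    · rw [Ideal.span_le, Set.singleton_subset_iff]; exact hgm

end Groth.Agent.Lib.Helper76.Node
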