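import Mathlib

/-!
# Translating polynomials to the origin and expanding them as power series
-/

set_option autoImplicit false
universe u

namespace Groth.Agent.Lib.Helper76.QuadSing

open MvPolynomial

variable {k : Type u} [Field k] {N : ℕ}

/-- polynomial translation `x ↦ x + a` -/
noncomputable def tr (a : Fin N → k) : MvPolynomial (Fin N) k →ₐ[k] MvPolynomial (Fin N) k :=
  aeval (fun i => (X i + C (a i) : MvPolynomial (Fin N) k))

@[simp] theorem tr_X (a : Fin N → k) (i : Fin N) : tr a (X i) = X i + C (a i) := by
  rw [tr, aeval_X]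

@[simp] theorem tr_C (a : Fin N → k) (c : k) : tr a (C c) = C c := by
  rw [tr, aeval_C]; rfl

theorem tr_comp (a b : Fin N → k) : (tr b).comp (tr a) = tr (a + b) := by
  apply MvPolynomial.algHom_ext
  intro i
  rw [AlgHom.comp_apply, tr_X, map_add, tr_X, tr_C, tr_X, Pi.add_apply, map_add]
  ring

theorem tr_zero : tr (0 : Fin N → k) = AlgHom.id k _ := by
  apply MvPolynomial.algHom_ext
  intro i
  rw [tr_X, Pi.zero_apply, map_zero, add_zero, AlgHom.id_apply]

theorem tr_neg_tr (a : Fin N → k) (p : MvPolynomial (Fin N) k) : tr (-a) (tr a p) = p := by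
  rw [← AlgHom.comp_apply, tr_comp, add_neg_cancel, tr_zero, AlgHom.id_apply]

theorem tr_tr_neg (a : Fin N → k) (p : MvPolynomial (Fin N) k) : tr a (tr (-a) p) = p := by
  rw [← AlgHom.comp_apply, tr_comp, neg_add_cancel, tr_zero, AlgHom.id_apply]

theorem constantCoeff_tr (a : Fin N → k) (p : MvPolynomial (Fin N) k) :
    constantCoeff (tr a p) = eval a p := by
  have h : (constantCoeff : MvPolynomial (Fin N) k →+* k).comp (tr a : _ →+* _) = eval a := by
    apply MvPolynomial.ringHom_ext
    · intro c
      simp
    · intro i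
      simp
  exact RingHom.congr_fun h p

theorem pderiv_tr (a : Fin N → k) (i : Fin N) (p : MvPolynomial (Fin N) k) :
    pderiv i (tr a p) = tr a (pderiv i p) := by
  classical
  induction p using MvPolynomial.induction_on with
  | C c => simp
  | add p q hp hq => rw [map_add, map_add, hp, hq, map_add, map_add]
  | mul_X p j hp =>
    rw [map_mul, Derivation.leibniz, Derivation.leibniz, hp, tr_X, map_add, map_add,
      pderiv_C, add_zero, smul_eq_mul, smul_eq_mul, smul_eq_mul, smul_eq_mul, map_mul, map_mul,
      tr_X, pderiv_X]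
    by_cases hij : j = i
    · subst hij
      simp
    · simp [Pi.single_apply, hij]

/-- expansion of a polynomial at the point `a` as a power series -/
noncomputable def theta (a : Fin N → k) :
    MvPolynomial (Fin N) k →ₐ[k] MvPowerSeries (Fin N) k :=
  (coeToMvPowerSeries.algHom k).comp (tr a)

theorem theta_apply (a : Fin N → k) (p : MvPolynomial (Fin N) k) :
    theta a p = ((tr a p : MvPolynomial (Fin N) k) : MvPowerSeries (Fin N) k) := by
  simp [theta]

theorem theta_X (a : Fin N → k) (i : Fin N) :
    theta a (X i) = MvPowerSeries.X i + MvPowerSeries.C (a i) := by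
  rw [theta_apply, tr_X, coe_add, coe_X, coe_C]

theorem theta_C (a : Fin N → k) (c : k) : theta a (C c) = MvPowerSeries.C c := by
  rw [theta_apply, tr_C, coe_C]

theorem constantCoeff_theta (a : Fin N → k) (p : MvPolynomial (Fin N) k) :
    MvPowerSeries.constantCoeff (theta a p) = eval a p := by
  rw [theta_apply, ← MvPowerSeries.coeff_zero_eq_constantCoeff_apply, coeff_coe,
    ← constantCoeff_tr a p]
  rfl

theorem pderiv_theta (a : Fin N → k) (i : Fin N) (p : MvPolynomial (Fin N) k) :
    MvPowerSeries.pderiv k i (theta a p) = theta a (pderiv i p) := by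
  rw [theta_apply, MvPowerSeries.pderiv_coe, pderiv_tr, theta_apply]

theorem coeff_single_theta (a : Fin N → k) (i : Fin N) (p : MvPolynomial (Fin N) k) :
    MvPowerSeries.coeff (Finsupp.single i 1) (theta a p) = eval a (pderiv i p) := by
  rw [← constantCoeff_theta, ← pderiv_theta, ← MvPowerSeries.coeff_zero_eq_constantCoeff_apply,
    MvPowerSeries.coeff_pderiv, zero_add]
  simp

/-- every polynomial, viewed as a power series, is an expansion -/
theorem coe_eq_theta (a : Fin N → k) (p : MvPolynomial (Fin N) k) :
    (p : MvPowerSeries (Fin N) k) = theta a (tr (-a) p) := by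
  rw [theta_apply, tr_tr_neg]

end Groth.Agent.Lib.Helper76.QuadSing
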