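import Mathlib
import Groth.Agent.Lib.Helper76.SchlQuot
import Groth.Agent.Lib.Helper76.PowEval

/-!
# Quotients of power series rings over a field: local, complete
-/

set_option autoImplicit false
universe u

namespace Groth.Agent.Lib.Helper76.QuadSing

open Groth.Agent.Lib.Helper76

section General

variable {R : Type*} [CommRing R]

/-- precompleteness passes to quotients -/
theorem isPrecomplete_quotient (I K : Ideal R) [IsPrecomplete I R] :
    IsPrecomplete (I.map (Ideal.Quotient.mk K)) (R ⧸ K) := by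
  refine ⟨fun {f} hf => ?_⟩
  have hf' : ∀ n, f n - f (n + 1) ∈ (I.map (Ideal.Quotient.mk K)) ^ n := by
    intro n
    rw [← smodEq_pow_iff]
    exact hf (Nat.le_succ n)
  have hd : ∀ n, ∃ d : R, d ∈ I ^ n ∧ Ideal.Quotient.mk K d = f n - f (n + 1) := by
    intro n
    have := hf' n
    rw [← Ideal.map_pow] at this
    obtain ⟨d, hd, hd'⟩ := (Ideal.mem_map_iff_of_surjective _ Ideal.Quotient.mk_surjective).1 this
    exact ⟨d, hd, hd'⟩
  choose d hd₁ hd₂ using hd
  obtain ⟨g₀, hg₀⟩ := Ideal.Quotient.mk_surjective (f 0)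
  let g : ℕ → R := fun n => Nat.rec g₀ (fun i y => y - d i) n
  have hg_succ : ∀ n, g (n + 1) = g n - d n := fun n => rfl
  have hg : ∀ n, Ideal.Quotient.mk K (g n) = f n := by
    intro n
    induction n with
    | zero => exact hg₀
    | succ n ih => rw [hg_succ, map_sub, ih, hd₂, sub_sub_cancel]
  obtain ⟨L, hL⟩ := exists_adic_limit I g (fun n => by
    rw [hg_succ, sub_sub_cancel]; exact hd₁ n)
  refine ⟨Ideal.Quotient.mk K L, fun n => ?_⟩
  rw [smodEq_pow_iff, ← hg, ← map_sub, ← Ideal.map_pow]
  exact Ideal.mem_map_of_mem _ (hL n)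

end General

section PS

variable {k : Type u} [Field k] {N : ℕ}

/-- the ideal `(X)` of the power series ring -/
noncomputable def XI : Ideal (MvPowerSeries (Fin N) k) :=
  Ideal.span (Set.range (MvPowerSeries.X : Fin N → MvPowerSeries (Fin N) k))

theorem mem_XI_iff (g : MvPowerSeries (Fin N) k) :
    g ∈ (XI : Ideal (MvPowerSeries (Fin N) k)) ↔ MvPowerSeries.constantCoeff g = 0 := by
  constructor
  · intro hg
    have hle : (XI : Ideal (MvPowerSeries (Fin N) k)) ≤
        RingHom.ker (MvPowerSeries.constantCoeff (σ := Fin N) (R := k)) := by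
      rw [XI, Ideal.span_le]
      rintro _ ⟨i, rfl⟩
      rw [SetLike.mem_coe, RingHom.mem_ker, MvPowerSeries.constantCoeff_X]
    exact hle hg
  · intro hg
    have := mem_pow_span_X_of_coeff_eq_zero (σ := Fin N) 1 g (by
      intro α hα
      have : α = 0 := by
        apply (Finsupp.degree_eq_zero_iff _).1
        omega
      subst this
      rw [MvPowerSeries.coeff_zero_eq_constantCoeff_apply, hg])
    rwa [pow_one] at this

theorem isUnit_iff_notMem_XI (g : MvPowerSeries (Fin N) k) :
    IsUnit g ↔ g ∉ (XI : Ideal (MvPowerSeries (Fin N) k)) := by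
  rw [mem_XI_iff, MvPowerSeries.isUnit_iff_constantCoeff]
  exact isUnit_iff_ne_zero

theorem maximalIdeal_eq_XI :
    IsLocalRing.maximalIdeal (MvPowerSeries (Fin N) k) = XI := by
  ext g
  rw [IsLocalRing.mem_maximalIdeal, mem_nonunits_iff, isUnit_iff_notMem_XI, not_not]

variable (F : MvPowerSeries (Fin N) k)

/-- the ideal `(X)` in the quotient `k[[x]]/(F)` -/
noncomputable def JT : Ideal (MvPowerSeries (Fin N) k ⧸ Ideal.span {F}) :=
  (XI : Ideal (MvPowerSeries (Fin N) k)).map (Ideal.Quotient.mk (Ideal.span {F}))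

variable {F}

theorem span_le_XI (hF : MvPowerSeries.constantCoeff F = 0) :
    Ideal.span {F} ≤ (XI : Ideal (MvPowerSeries (Fin N) k)) := by
  rw [Ideal.span_le, Set.singleton_subset_iff]
  exact (mem_XI_iff F).2 hF

theorem mk_mem_JT_iff (hF : MvPowerSeries.constantCoeff F = 0) (g : MvPowerSeries (Fin N) k) :
    Ideal.Quotient.mk (Ideal.span {F}) g ∈ JT F ↔ MvPowerSeries.constantCoeff g = 0 := by
  rw [← mem_XI_iff, JT]
  constructor
  · intro h
    rw [Ideal.mem_map_iff_of_surjective _ Ideal.Quotient.mk_surjective] at h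
    obtain ⟨g', hg', hgg⟩ := h
    have h1 : g' - g ∈ Ideal.span {F} := Ideal.Quotient.eq.1 hgg
    have h2 : g = g' - (g' - g) := by ring
    rw [h2]
    exact Ideal.sub_mem _ hg' (span_le_XI hF h1)
  · intro h
    exact Ideal.mem_map_of_mem _ h

theorem isLocalRing_quot (hF : MvPowerSeries.constantCoeff F = 0) :
    IsLocalRing (MvPowerSeries (Fin N) k ⧸ Ideal.span {F}) := by
  haveI : Nontrivial (MvPowerSeries (Fin N) k ⧸ Ideal.span {F}) := by
    rw [Ideal.Quotient.nontrivial_iff]
    intro htop
    have h1 : (1 : MvPowerSeries (Fin N) k) ∈ (XI : Ideal (MvPowerSeries (Fin N) k)) :=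
      span_le_XI hF (htop ▸ Submodule.mem_top)
    rw [mem_XI_iff] at h1
    simp at h1
  exact IsLocalRing.of_surjective' (Ideal.Quotient.mk (Ideal.span {F}))
    Ideal.Quotient.mk_surjective

theorem maximalIdeal_quot (hF : MvPowerSeries.constantCoeff F = 0) :
    haveI := isLocalRing_quot hF
    IsLocalRing.maximalIdeal (MvPowerSeries (Fin N) k ⧸ Ideal.span {F}) = JT F := by
  haveI := isLocalRing_quot hF
  have hmax : (JT F).IsMaximal := by
    rw [JT, ← maximalIdeal_eq_XI]
    apply Ideal.IsMaximal.map_of_surjective_of_ker_le Ideal.Quotient.mk_surjective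
    rw [Ideal.mk_ker, maximalIdeal_eq_XI]
    exact span_le_XI hF
  exact (IsLocalRing.eq_maximalIdeal hmax).symm

theorem isAdicComplete_XI :
    IsAdicComplete (XI : Ideal (MvPowerSeries (Fin N) k)) (MvPowerSeries (Fin N) k) := by
  unfold XI
  infer_instance

theorem isPrecomplete_quot :
    IsPrecomplete (JT F) (MvPowerSeries (Fin N) k ⧸ Ideal.span {F}) := by
  have h1 : IsPrecomplete (XI : Ideal (MvPowerSeries (Fin N) k)) (MvPowerSeries (Fin N) k) :=
    (isAdicComplete_XI).toIsPrecomplete
  have h2 := @isPrecomplete_quotient (MvPowerSeries (Fin N) k) _ XI (Ideal.span {F}) h1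
  exact h2

set_option maxHeartbeats 400000 in
theorem isHausdorff_quot (hF : MvPowerSeries.constantCoeff F = 0) :
    IsHausdorff (JT F) (MvPowerSeries (Fin N) k ⧸ Ideal.span {F}) := by
  have hloc := isLocalRing_quot hF
  have hne : JT F ≠ ⊤ := by
    rw [← maximalIdeal_quot hF]
    exact Ideal.IsMaximal.ne_top inferInstance
  exact IsHausdorff.of_isLocalRing _ _ hne

set_option maxHeartbeats 400000 in
theorem isAdicComplete_quot (hF : MvPowerSeries.constantCoeff F = 0) :
    IsAdicComplete (JT F) (MvPowerSeries (Fin N) k ⧸ Ideal.span {F}) := by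
  have h1 := isPrecomplete_quot (F := F)
  have h2 := isHausdorff_quot hF
  exact {}

end PS

end Groth.Agent.Lib.Helper76.QuadSing
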