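import Mathlib
import Groth.Agent.Lib.Helper76.QuadSing1
import Groth.Agent.Lib.Helper76.QuadSing2
import Groth.Agent.Lib.Helper58.AdicFunct

/-!
# The completion of the local ring of a hypersurface at a rational point
-/

set_option autoImplicit false
universe u

namespace Groth.Agent.Lib.Helper76.QuadSing

open Groth.Agent.Lib.Helper76

section Trunc

variable {k : Type u} [Field k] {N : ℕ}

/-- elements of `(X)^n` have no coefficients in degree `< n` -/
theorem coeff_eq_zero_of_mem_XI_pow {n : ℕ} {g : MvPowerSeries (Fin N) k}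
    (hg : g ∈ (XI : Ideal (MvPowerSeries (Fin N) k)) ^ n) (α : Fin N →₀ ℕ) (hα : α.degree < n) :
    MvPowerSeries.coeff α g = 0 := by
  have h1 : (XI : Ideal (MvPowerSeries (Fin N) k)) ≤ bigIdeal (⊥ : Ideal k) := le_sup_right
  have h2 := pow_bigIdeal_le (σ := Fin N) (⊥ : Ideal k) n (Ideal.pow_right_mono h1 n hg)
  have h3 := (mem_coeffIdeal.1 h2) α
  have h4 : n - α.degree ≠ 0 := by omega
  rw [Ideal.bot_pow h4] at h3
  exact h3

theorem mem_XI_pow_iff {n : ℕ} {g : MvPowerSeries (Fin N) k} :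
    g ∈ (XI : Ideal (MvPowerSeries (Fin N) k)) ^ n ↔
      ∀ α : Fin N →₀ ℕ, α.degree < n → MvPowerSeries.coeff α g = 0 :=
  ⟨fun hg α hα => coeff_eq_zero_of_mem_XI_pow hg α hα,
    fun h => mem_pow_span_X_of_coeff_eq_zero n g h⟩

/-- the vanishing ideal of the point `a` -/
noncomputable def PI (a : Fin N → k) : Ideal (MvPolynomial (Fin N) k) :=
  RingHom.ker (MvPolynomial.eval a)

theorem mem_PI_iff (a : Fin N → k) (p : MvPolynomial (Fin N) k) :
    p ∈ PI a ↔ MvPolynomial.eval a p = 0 := RingHom.mem_ker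

theorem map_tr_neg_idealOfVars_le (a : Fin N → k) :
    Ideal.map (tr (-a) : MvPolynomial (Fin N) k →+* MvPolynomial (Fin N) k)
      (MvPolynomial.idealOfVars (Fin N) k) ≤ PI a := by
  rw [MvPolynomial.idealOfVars, Ideal.map_span, Ideal.span_le]
  rintro _ ⟨_, ⟨i, rfl⟩, rfl⟩
  rw [SetLike.mem_coe, mem_PI_iff]
  show MvPolynomial.eval a (tr (-a) (MvPolynomial.X i)) = 0
  rw [tr_X]
  simp

/-- a polynomial whose expansion at `a` lies in `(X)^n` lies in the `n`-th power of the
vanishing ideal of `a` -/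
theorem mem_PI_pow_of_theta_mem (a : Fin N → k) (n : ℕ) (w : MvPolynomial (Fin N) k)
    (hw : theta a w ∈ (XI : Ideal (MvPowerSeries (Fin N) k)) ^ n) : w ∈ PI a ^ n := by
  have h1 : tr a w ∈ MvPolynomial.idealOfVars (Fin N) k ^ n := by
    rw [MvPolynomial.mem_pow_idealOfVars_iff']
    intro α hα
    have := coeff_eq_zero_of_mem_XI_pow hw α hα
    rwa [theta_apply, MvPolynomial.coeff_coe] at this
  have h2 := Ideal.mem_map_of_mem
    (tr (-a) : MvPolynomial (Fin N) k →+* MvPolynomial (Fin N) k) h1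
  rw [Ideal.map_pow] at h2
  have h3 : (tr (-a) : MvPolynomial (Fin N) k →+* MvPolynomial (Fin N) k) (tr a w) = w :=
    tr_neg_tr a w
  rw [h3] at h2
  exact Ideal.pow_right_mono (map_tr_neg_idealOfVars_le a) n h2

/-- every power series is congruent to an expansion modulo `(X)^n` -/
theorem exists_theta_sub_mem (a : Fin N → k) (n : ℕ) (g : MvPowerSeries (Fin N) k) :
    ∃ p : MvPolynomial (Fin N) k, g - theta a p ∈ (XI : Ideal (MvPowerSeries (Fin N) k)) ^ n := by
  refine ⟨tr (-a) (MvPowerSeries.truncTotal n g), ?_⟩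
  rw [← coe_eq_theta]
  exact sub_truncTotal_mem_pow n g

/-- the key step: if the expansion of `p` lies in `(X)^n + (F)` then `p ∈ P^n + (f)` -/
theorem mem_sup_of_theta_mem (a : Fin N → k) (n : ℕ) (f p : MvPolynomial (Fin N) k)
    (hp : theta a p ∈ (XI : Ideal (MvPowerSeries (Fin N) k)) ^ n ⊔ Ideal.span {theta a f}) :
    p ∈ PI a ^ n ⊔ Ideal.span {f} := by
  rw [Submodule.mem_sup] at hp
  obtain ⟨h, hh, y, hy, hsum⟩ := hp
  rw [Ideal.mem_span_singleton'] at hy
  obtain ⟨u, rfl⟩ := hy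
  obtain ⟨v, hv⟩ := exists_theta_sub_mem a n u
  have hw : theta a (p - v * f) ∈ (XI : Ideal (MvPowerSeries (Fin N) k)) ^ n := by
    have e : theta a (p - v * f) = h + (u - theta a v) * theta a f := by
      rw [map_sub, map_mul, ← hsum]
      ring
    rw [e]
    exact Ideal.add_mem _ hh (Ideal.mul_mem_right _ _ hv)
  have h1 := mem_PI_pow_of_theta_mem a n _ hw
  have e2 : p = (p - v * f) + v * f := by ring
  rw [e2]
  exact Ideal.add_mem _ (Ideal.mem_sup_left h1)
    (Ideal.mem_sup_right (Ideal.mul_mem_left _ _ (Ideal.subset_span rfl)))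

end Trunc

end Groth.Agent.Lib.Helper76.QuadSing
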