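import Mathlib
import Groth.Agent.Lib.Helper76.NodeB
import Groth.Agent.Lib.Helper76.QuadSing3
import Groth.Agent.S16230

/-!
# Nodal criterion (S1631): Morse step in two variables
-/

set_option autoImplicit false
set_option linter.style.haveILetI false

namespace Groth.Agent.Lib.Helper76.Node

open IsLocalRing MvPowerSeries

universe u

variable {K : Type u} [Field K]

/-- coefficient table of a binary quadratic form -/
def qtab (a b c : K) : Fin 2 → Fin 2 → K := fun i j => ![![a, b], ![0, c]] i j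

theorem quadPoly_qtab (a b c : K) :
    ((VanCyc.quadPoly (qtab a b c) + MvPolynomial.C 0 : MvPolynomial (Fin 2) K) :
      MvPowerSeries (Fin 2) K) = Qf a b c := by
  unfold VanCyc.quadPoly Qf qtab
  simp only [Fin.sum_univ_two, Fin.isValue, le_refl, if_true, Fin.zero_le,
    Matrix.cons_val_zero, Matrix.cons_val_one, map_zero, add_zero]
  have h10 : ¬ ((1 : Fin 2) ≤ 0) := by decide
  simp only [h10, if_false, zero_add, MvPolynomial.coe_add, MvPolynomial.coe_mul,
    MvPolynomial.coe_C, MvPolynomial.coe_X]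
  ring

theorem quadNondeg_qtab (a b c : K) (h : 4 * a * c - b ^ 2 ≠ 0) :
    VanCyc.QuadNondeg (qtab a b c) := by
  unfold VanCyc.QuadNondeg
  rw [Matrix.det_fin_two]
  apply isUnit_iff_ne_zero.mpr
  have h01 : ((0 : Fin 2) < 1) := by decide
  have h10 : ¬ ((1 : Fin 2) < 0) := by decide
  have hne : ((0 : Fin 2) ≠ 1) := by decide
  have hne' : ((1 : Fin 2) ≠ 0) := by decide
  simp only [VanCyc.polarMatrix, qtab, if_true, hne, hne', if_false, h01, h10,
    Matrix.cons_val_zero, Matrix.cons_val_one]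
  intro h0
  apply h
  rw [← h0]; ring

/-- Morse lemma in two variables over a field. -/
theorem nonempty_equiv_of_sub_mem_cube (a b c : K) (h : 4 * a * c - b ^ 2 ≠ 0)
    (f : MvPowerSeries (Fin 2) K)
    (hf : f - Qf a b c ∈ maximalIdeal (MvPowerSeries (Fin 2) K) ^ 3) :
    Nonempty ((MvPowerSeries (Fin 2) K ⧸ Ideal.span {f}) ≃ₐ[K]
      (MvPowerSeries (Fin 2) K ⧸ Ideal.span {Qf a b c})) := by
  have hF : ∀ e : Fin 2 →₀ ℕ, e.degree ≤ 2 →
      MvPowerSeries.coeff e f = MvPowerSeries.coeff e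
        ((VanCyc.quadPoly (qtab a b c) + MvPolynomial.C 0 : MvPolynomial (Fin 2) K) :
          MvPowerSeries (Fin 2) K) := by
    intro e he
    rw [quadPoly_qtab]
    rw [Groth.Agent.Lib.Helper76.QuadSing.maximalIdeal_eq_XI] at hf
    have := Groth.Agent.Lib.Helper76.QuadSing.coeff_eq_zero_of_mem_XI_pow hf e (by omega)
    rw [map_sub, sub_eq_zero] at this
    exact this
  obtain ⟨-, -, -, -, ⟨E⟩⟩ := Groth.Agent.S16230.result K 2 2 le_rfl (qtab a b c)
    (quadNondeg_qtab a b c h) 0 f hF
  rw [quadPoly_qtab] at E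
  exact ⟨E⟩

end Groth.Agent.Lib.Helper76.Node
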