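import Mathlib
import Groth.Agent.Lib.Helper76.NodeB

/-!
# Nodal criterion (S1631): from the completion to the algebraic conditions
-/

set_option autoImplicit false
set_option linter.style.haveILetI false

namespace Groth.Agent.Lib.Helper76.Node

open IsLocalRing MvPowerSeries

universe u

section Completion

variable (A : Type u) [CommRing A] [IsLocalRing A] [IsNoetherianRing A]

local notation "Â" => AdicCompletion (maximalIdeal A) A

theorem mem_maxIdeal_pow_iff_eval (n : ℕ) (z : Â) :
    z ∈ maximalIdeal Â ^ n ↔ AdicCompletion.eval (maximalIdeal A) A n z = 0 := by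
  have fg : (maximalIdeal A).FG := IsNoetherian.noetherian _
  rw [AdicCompletion.maximalIdeal_eq_map, ← Ideal.map_pow,
    ← Submodule.restrictScalars_mem A, ← Ideal.smul_top_eq_map,
    AdicCompletion.pow_smul_top_eq_ker_eval fg, LinearMap.mem_ker]

theorem algebraMap_mem_pow_iff (n : ℕ) (z : A) :
    algebraMap A Â z ∈ maximalIdeal Â ^ n ↔ z ∈ maximalIdeal A ^ n := by
  rw [mem_maxIdeal_pow_iff_eval, AdicCompletion.algebraMap_apply, Algebra.algebraMap_self,
    RingHom.id_apply, AdicCompletion.eval_of, Submodule.mkQ_apply, Submodule.Quotient.mk_eq_zero,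
    smul_eq_mul, Ideal.mul_top]

theorem exists_approx (n : ℕ) (z : Â) :
    ∃ w : A, z - algebraMap A Â w ∈ maximalIdeal Â ^ n := by
  obtain ⟨w, hw⟩ := Submodule.Quotient.mk_surjective _
    (AdicCompletion.eval (maximalIdeal A) A n z)
  refine ⟨w, ?_⟩
  rw [mem_maxIdeal_pow_iff_eval, map_sub, AdicCompletion.algebraMap_apply,
    Algebra.algebraMap_self, RingHom.id_apply, AdicCompletion.eval_of, Submodule.mkQ_apply, hw,
    sub_self]

theorem algebraMap_injective : Function.Injective (algebraMap A Â) := by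
  intro z w hzw
  rw [AdicCompletion.algebraMap_apply, AdicCompletion.algebraMap_apply] at hzw
  exact AdicCompletion.of_injective (maximalIdeal A) A hzw

end Completion

section Main

variable {R : Type*} [CommRing R]

theorem mul_mem_sq (M : Ideal R) {p q : R} (hp : p ∈ M) (hq : q ∈ M) : p * q ∈ M ^ 2 := by
  rw [pow_two]; exact Ideal.mul_mem_mul hp hq

theorem mul_mem_cube (M : Ideal R) {p q : R} (hp : p ∈ M) (hq : q ∈ M ^ 2) : p * q ∈ M ^ 3 := by
  rw [pow_succ' M 2]; exact Ideal.mul_mem_mul hp hq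

theorem mul_mem_cube' (M : Ideal R) {p q : R} (hp : p ∈ M ^ 2) (hq : q ∈ M) : p * q ∈ M ^ 3 := by
  rw [pow_succ M 2]; exact Ideal.mul_mem_mul hp hq

end Main

section Direction

variable (A : Type u) [CommRing A] [IsLocalRing A] [IsNoetherianRing A]
variable {K : Type u} [Field K]

local notation "Â" => AdicCompletion (maximalIdeal A) A

/-- From an isomorphism `Â ≅ K[[u,v]]/(q)` with `q` nondegenerate to the algebraic conditions. -/
theorem algebraic_of_completion (a' b' c' : K) (h : 4 * a' * c' - b' ^ 2 ≠ 0)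
    (e : Â ≃+* (MvPowerSeries (Fin 2) K ⧸ Ideal.span {Qf a' b' c'})) :
    IsReduced A ∧ Module.finrank (ResidueField A) (CotangentSpace A) = 2 ∧
      ∃ x y a b c : A, x ∈ maximalIdeal A ∧ y ∈ maximalIdeal A ∧
        Ideal.span {x, y} ⊔ maximalIdeal A ^ 2 = maximalIdeal A ∧
        residue A (4 * a * c - b ^ 2) ≠ 0 ∧
        a * x ^ 2 + b * x * y + c * y ^ 2 ∈ maximalIdeal A ^ 3 := by
  classical
  let P := MvPowerSeries (Fin 2) K
  let φ : P →+* Â := (e.symm : _ →+* Â).comp (Ideal.Quotient.mk (Ideal.span {Qf a' b' c'}))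
  have hφs : Function.Surjective φ :=
    e.symm.surjective.comp Ideal.Quotient.mk_surjective
  have hφ0 : ∀ z : P, φ z = 0 ↔ z ∈ Ideal.span {Qf a' b' c'} := by
    intro z
    show e.symm (Ideal.Quotient.mk _ z) = 0 ↔ _
    rw [map_eq_zero_iff e.symm e.symm.injective, Ideal.Quotient.eq_zero_iff_mem]
  have hker : RingHom.ker φ ≤ maximalIdeal P ^ 2 := by
    intro z hz
    rw [RingHom.mem_ker, hφ0] at hz
    have : Ideal.span {Qf a' b' c'} ≤ maximalIdeal P ^ 2 := by
      rw [Ideal.span_le, Set.singleton_subset_iff]; exact Qf_mem_sq a' b' c'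
    exact this hz
  haveI : IsNoetherianRing Â := isNoetherianRing_of_surjective P Â φ hφs
  have hloc : IsLocalHom φ := hφs.isLocalHom φ
  have hcomap : (maximalIdeal Â).comap φ = maximalIdeal P :=
    ((local_hom_TFAE φ).out 0 4).mp hloc
  have hmap : maximalIdeal Â = (maximalIdeal P).map φ := by
    rw [← hcomap, Ideal.map_comap_of_surjective φ hφs]
  -- reducedness
  haveI hredq : IsReduced (MvPowerSeries (Fin 2) K ⧸ Ideal.span {Qf a' b' c'}) :=
    isReduced_quot a' b' c' h
  haveI hredc : IsReduced Â := isReduced_of_injective e.toRingHom e.injective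
  have hred : IsReduced A := isReduced_of_injective (algebraMap A Â) (algebraMap_injective A)
  -- cotangent dimension
  have hfr : Module.finrank (ResidueField A) (CotangentSpace A) = 2 := by
    rw [← IsLocalRing.spanFinrank_maximalIdeal_eq_finrank_cotangentSpace,
      ← AdicCompletion.spanFinrank_maximalIdeal_eq]
    exact spanFinrank_eq_two_of_surjective φ hφs hker
  refine ⟨hred, hfr, ?_⟩
  -- the elements
  set uh : Â := φ (X 0) with huh
  set vh : Â := φ (X 1) with hvh
  set A' : Â := φ (C a') with hA'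
  set B' : Â := φ (C b') with hB'
  set C' : Â := φ (C c') with hC'
  have huhm : uh ∈ maximalIdeal Â := by
    rw [hmap]; exact Ideal.mem_map_of_mem _ (X_mem_maximalIdeal 0)
  have hvhm : vh ∈ maximalIdeal Â := by
    rw [hmap]; exact Ideal.mem_map_of_mem _ (X_mem_maximalIdeal 1)
  have hpair : maximalIdeal Â = Ideal.span {uh, vh} := by
    rw [hmap, maximalIdeal_eq_pair, Ideal.map_span, Set.image_pair]
  have hQ0 : A' * uh ^ 2 + B' * uh * vh + C' * vh ^ 2 = 0 := by
    have : φ (Qf a' b' c') = 0 := (hφ0 _).mpr (Ideal.mem_span_singleton_self _)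
    rw [← this]
    unfold Qf
    simp only [map_add, map_mul, map_pow, huh, hvh, hA', hB', hC']
  have hdisc : IsUnit (4 * A' * C' - B' ^ 2) := by
    have : φ (C (4 * a' * c' - b' ^ 2)) = 4 * A' * C' - B' ^ 2 := by
      simp only [map_sub, map_mul, map_pow, map_ofNat, hA', hB', hC']
    rw [← this]
    exact (isUnit_C h).map φ
  obtain ⟨x, hx⟩ := exists_approx A 2 uh
  obtain ⟨y, hy⟩ := exists_approx A 2 vh
  obtain ⟨a, ha⟩ := exists_approx A 1 A'
  obtain ⟨b, hb⟩ := exists_approx A 1 B'
  obtain ⟨c, hc⟩ := exists_approx A 1 C'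
  rw [pow_one] at ha hb hc
  set ι := algebraMap A Â with hι
  have hsq_le : maximalIdeal Â ^ 2 ≤ maximalIdeal Â := Ideal.pow_le_self (by norm_num)
  have hιx : ι x ∈ maximalIdeal Â := by
    have : ι x = uh - (uh - ι x) := by ring
    rw [this]; exact Ideal.sub_mem _ huhm (hsq_le hx)
  have hιy : ι y ∈ maximalIdeal Â := by
    have : ι y = vh - (vh - ι y) := by ring
    rw [this]; exact Ideal.sub_mem _ hvhm (hsq_le hy)
  have hxm : x ∈ maximalIdeal A := by
    rw [← pow_one (maximalIdeal A), ← algebraMap_mem_pow_iff, pow_one]; exact hιx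
  have hym : y ∈ maximalIdeal A := by
    rw [← pow_one (maximalIdeal A), ← algebraMap_mem_pow_iff, pow_one]; exact hιy
  refine ⟨x, y, a, b, c, hxm, hym, ?_, ?_, ?_⟩
  · apply le_antisymm
    · refine sup_le ?_ (Ideal.pow_le_self (by norm_num))
      rw [Ideal.span_le]
      rintro z (rfl | rfl)
      · exact hxm
      · exact hym
    · intro z hz
      have hιz : ι z ∈ maximalIdeal Â := by
        rw [← pow_one (maximalIdeal Â), algebraMap_mem_pow_iff, pow_one]; exact hz
      rw [hpair] at hιz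
      obtain ⟨α, β, hαβ⟩ := Ideal.mem_span_pair.mp hιz
      obtain ⟨α0, hα0⟩ := exists_approx A 1 α
      obtain ⟨β0, hβ0⟩ := exists_approx A 1 β
      rw [pow_one] at hα0 hβ0
      have hmem : z - (α0 * x + β0 * y) ∈ maximalIdeal A ^ 2 := by
        rw [← algebraMap_mem_pow_iff]
        have : algebraMap A Â (z - (α0 * x + β0 * y)) =
            (α - ι α0) * uh + ι α0 * (uh - ι x) + (β - ι β0) * vh + ι β0 * (vh - ι y) := by
          rw [map_sub, map_add, map_mul, map_mul, ← hι, ← hαβ]; ring
        rw [this]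
        refine Ideal.add_mem _ (Ideal.add_mem _ (Ideal.add_mem _ ?_ ?_) ?_) ?_
        · exact mul_mem_sq _ hα0 huhm
        · exact Ideal.mul_mem_left _ _ hx
        · exact mul_mem_sq _ hβ0 hvhm
        · exact Ideal.mul_mem_left _ _ hy
      have : z = (α0 * x + β0 * y) + (z - (α0 * x + β0 * y)) := by ring
      rw [this]
      apply Submodule.add_mem_sup _ hmem
      exact Ideal.mem_span_pair.mpr ⟨α0, β0, rfl⟩
  · intro hres
    have h1 : 4 * a * c - b ^ 2 ∈ maximalIdeal A := (residue_eq_zero_iff _).mp hres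
    have h2 : ι (4 * a * c - b ^ 2) ∈ maximalIdeal Â := by
      rw [← pow_one (maximalIdeal Â), algebraMap_mem_pow_iff, pow_one]; exact h1
    have h3 : 4 * A' * C' - B' ^ 2 ∈ maximalIdeal Â := by
      have : 4 * A' * C' - B' ^ 2 = ι (4 * a * c - b ^ 2) +
          (4 * ((A' - ι a) * C' + ι a * (C' - ι c)) - (B' - ι b) * (B' + ι b)) := by
        rw [map_sub, map_mul, map_mul, map_pow, map_ofNat]; ring
      rw [this]
      refine Ideal.add_mem _ h2 (Ideal.sub_mem _ (Ideal.mul_mem_left _ _ (Ideal.add_mem _ ?_ ?_)) ?_)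
      · exact Ideal.mul_mem_right _ _ ha
      · exact Ideal.mul_mem_left _ _ hc
      · exact Ideal.mul_mem_right _ _ hb
    exact (mem_maximalIdeal _).mp h3 hdisc
  · rw [← algebraMap_mem_pow_iff]
    have : algebraMap A Â (a * x ^ 2 + b * x * y + c * y ^ 2) =
        (A' * uh ^ 2 + B' * uh * vh + C' * vh ^ 2) -
          ((A' - ι a) * (ι x * ι x) + (uh - ι x) * (ι x + uh) * A' +
           (B' - ι b) * (ι x * ι y) + ((uh - ι x) * ι y + (vh - ι y) * uh) * B' +
           (C' - ι c) * (ι y * ι y) + (vh - ι y) * (ι y + vh) * C') := by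
      simp only [map_add, map_mul, map_pow, ← hι]; ring
    rw [this, hQ0, zero_sub, neg_mem_iff]
    refine Ideal.add_mem _ (Ideal.add_mem _ (Ideal.add_mem _ (Ideal.add_mem _
      (Ideal.add_mem _ ?_ ?_) ?_) ?_) ?_) ?_
    · exact mul_mem_cube _ ha (mul_mem_sq _ hιx hιx)
    · exact Ideal.mul_mem_right _ _ (mul_mem_cube' _ hx (Ideal.add_mem _ hιx huhm))
    · exact mul_mem_cube _ hb (mul_mem_sq _ hιx hιy)
    · apply Ideal.mul_mem_right
      exact Ideal.add_mem _ (mul_mem_cube' _ hx hιy) (mul_mem_cube' _ hy huhm)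
    · exact mul_mem_cube _ hc (mul_mem_sq _ hιy hιy)
    · exact Ideal.mul_mem_right _ _ (mul_mem_cube' _ hy (Ideal.add_mem _ hιy hvhm))

end Direction

end Groth.Agent.Lib.Helper76.Node
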