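import Mathlib
import Groth.Agent.Lib.Helper76.NodeD
import Groth.Agent.Lib.Helper61.PSEval
import Groth.Agent.S11740
import Groth.Agent.S0543

/-!
# Nodal criterion (S1631): coefficient field and presentation of the completion
-/

set_option autoImplicit false
set_option linter.style.haveILetI false

namespace Groth.Agent.Lib.Helper76.Node

open IsLocalRing MvPowerSeries

universe u

section

variable (k : Type u) [Field k] (A : Type u) [CommRing A] [IsLocalRing A] [IsNoetherianRing A]
  [Algebra k A]

local notation "Â" => AdicCompletion (maximalIdeal A) A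
local notation "κ" => ResidueField A

theorem exists_coeffField [Algebra.IsSeparable k κ] :
    ∃ s : κ →ₐ[k] Â, ∀ c, residue Â (s c) = ResidueField.map (algebraMap A Â) c := by
  haveI : Algebra.FormallyEtale k κ := Algebra.FormallyEtale.of_isSeparable k κ
  haveI : Algebra.FormallySmooth k κ := inferInstance
  let f₀ : κ →+* Â ⧸ maximalIdeal Â := ResidueField.map (algebraMap A Â)
  let f : κ →ₐ[k] Â ⧸ maximalIdeal Â :=
    { f₀ with
      commutes' := by
        intro c
        show ResidueField.map (algebraMap A Â) (residue A (algebraMap k A c)) = _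
        rw [ResidueField.map_residue]
        rfl }
  obtain ⟨s, hs⟩ := Algebra.FormallySmooth.exists_mkₐ_comp_eq_of_isAdicComplete
    (I := maximalIdeal Â) f
  exact ⟨s, fun c => congrArg (fun h => h c) hs⟩

end

section

variable (A : Type u) [CommRing A] [IsLocalRing A] [IsNoetherianRing A]

local notation "Â" => AdicCompletion (maximalIdeal A) A
local notation "κ" => ResidueField A

theorem exists_presentation (s : κ →+* Â)
    (hs : ∀ c, residue Â (s c) = ResidueField.map (algebraMap A Â) c)
    (hfr : Module.finrank κ (CotangentSpace A) = 2)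
    (x y : A) (hx : x ∈ maximalIdeal A) (hy : y ∈ maximalIdeal A)
    (hspan : Ideal.span {x, y} ⊔ maximalIdeal A ^ 2 = maximalIdeal A) :
    ∃ ψ : MvPowerSeries (Fin 2) κ →+* Â, Function.Surjective ψ ∧ (∀ r, ψ (C r) = s r) ∧
      ψ (X 0) = algebraMap A Â x ∧ ψ (X 1) = algebraMap A Â y ∧
      RingHom.ker ψ ≤ maximalIdeal (MvPowerSeries (Fin 2) κ) ^ 2 := by
  classical
  haveI : IsNoetherianRing Â := Groth.Agent.S0543.result A _
  letI : Algebra κ Â := s.toAlgebra
  have hR : Function.Surjective ((residue Â).comp (algebraMap κ Â)) := by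
    have : ⇑((residue Â).comp (algebraMap κ Â)) = ResidueField.map (algebraMap A Â) :=
      funext hs
    rw [this]
    exact (AdicCompletion.residueField_map_bijective A).2
  set ι := algebraMap A Â with hι
  have hιm : ∀ z ∈ maximalIdeal A, ι z ∈ maximalIdeal Â := by
    intro z hz
    rw [AdicCompletion.maximalIdeal_eq_map]
    exact Ideal.mem_map_of_mem _ hz
  let b : Fin 2 → Â := ![ι x, ι y]
  have hb0 : b 0 = ι x := rfl
  have hb1 : b 1 = ι y := rfl
  have hbm : ∀ i, b i ∈ maximalIdeal Â := by
    intro i
    fin_cases i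
    · exact hιm x hx
    · exact hιm y hy
  have hrange : Set.range b = {ι x, ι y} := by
    ext z
    simp only [Set.mem_range, Fin.exists_fin_two, hb0, hb1, Set.mem_insert_iff,
      Set.mem_singleton_iff, eq_comm]
  have hspan' : Ideal.span (Set.range b) = maximalIdeal Â := by
    rw [hrange]
    apply le_antisymm
    · rw [Ideal.span_le]
      rintro z (rfl | rfl)
      · exact hιm x hx
      · exact hιm y hy
    · have h1 : maximalIdeal Â = Ideal.span {ι x, ι y} ⊔ maximalIdeal Â ^ 2 := by
        have h0 : (maximalIdeal A).map ι = (Ideal.span {x, y} ⊔ maximalIdeal A ^ 2).map ι :=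
          congrArg (Ideal.map ι) hspan.symm
        rw [Ideal.map_sup, Ideal.map_span, Set.image_pair, Ideal.map_pow] at h0
        rw [AdicCompletion.maximalIdeal_eq_map]
        exact h0
      apply Submodule.le_of_le_smul_of_le_jacobson_bot (I := maximalIdeal Â)
        (IsNoetherian.noetherian _) (IsLocalRing.jacobson_eq_maximalIdeal _ bot_ne_top).ge
      rw [smul_eq_mul, ← pow_two]
      exact h1.le
  haveI : IsAdicComplete (Ideal.span (Set.range b)) Â := by
    rw [hspan']; infer_instance
  obtain ⟨ψ, hψ⟩ := Groth.Agent.Lib.Helper61.PSEval.exists_eval κ Â b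
  have hψm : ∀ i, ψ (X i) ∈ maximalIdeal Â := fun i => by rw [hψ]; exact hbm i
  have hsp : Submodule.span (ResidueField Â) (Set.range (fun i : Fin 2 =>
      (maximalIdeal Â).toCotangent ⟨ψ (X i), hψm i⟩)) = ⊤ := by
    let b' : Fin 2 → maximalIdeal Â := fun i => ⟨ψ (X i), hψm i⟩
    have h1 : Submodule.span Â (Set.range b') = ⊤ := by
      apply Submodule.map_injective_of_injective (Submodule.injective_subtype (maximalIdeal Â))
      rw [Submodule.map_span, Submodule.map_top, Submodule.range_subtype, ← Set.range_comp]
      have : (⇑(Submodule.subtype (maximalIdeal Â)) ∘ b') = b := funext (fun i => hψ i)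
      rw [this]
      exact hspan'
    have h2 := IsLocalRing.CotangentSpace.span_image_eq_top_iff.mpr h1
    rw [← Set.range_comp] at h2
    exact h2
  have hb : LinearIndependent (ResidueField Â) (fun i : Fin 2 =>
      (maximalIdeal Â).toCotangent ⟨ψ (X i), hψm i⟩) := by
    apply linearIndependent_of_top_le_span_of_card_eq_finrank hsp.ge
    rw [Fintype.card_fin, ← IsLocalRing.spanFinrank_maximalIdeal_eq_finrank_cotangentSpace,
      AdicCompletion.spanFinrank_maximalIdeal_eq,
      IsLocalRing.spanFinrank_maximalIdeal_eq_finrank_cotangentSpace, hfr]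
  obtain ⟨hsurj, hker⟩ := Groth.Agent.S11740.result κ Â hR 2 ψ hψm hb hsp
  refine ⟨ψ.toRingHom, hsurj, ?_, hψ 0, hψ 1, hker⟩
  intro r
  have := ψ.commutes r
  rwa [MvPowerSeries.algebraMap_apply, Algebra.algebraMap_self, RingHom.id_apply] at this

end

end Groth.Agent.Lib.Helper76.Node
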