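import Mathlib
import Groth.Prelude.Def_QuadSing
import Groth.Agent.Lib.Helper76.PowEval
import Groth.Agent.Lib.Helper99.Morse

/-!
# Translations `x ↦ x + c` of a power series ring over an adically complete ring

For `c ∈ 𝔪ⁿ` with `A` `𝔪`-adically complete, `trans 𝔪 c` is the continuous `A`-algebra automorphism
of `A[[x]]` with `X i ↦ X i + c i`.  We prove the group law, and a second order Taylor estimate
for the coefficients of degree `≤ 2` of `trans 𝔪 d G` when `d ∈ Iⁿ`.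
-/

set_option autoImplicit false

namespace Groth.Agent.Lib.Helper76.MorseLin

open MvPowerSeries
open Groth.Agent.Lib.Helper76
open Groth.Agent.Lib.Helper99.Morse

section Trans

variable {A : Type*} [CommRing A] {n : ℕ} (𝔪 : Ideal A)

theorem X_add_C_mem_bigIdeal (I : Ideal A) (d : Fin n → A) (hd : ∀ i, d i ∈ I) (i : Fin n) :
    (X i + C (d i) : MvPowerSeries (Fin n) A) ∈
      (bigIdeal I : Ideal (MvPowerSeries (Fin n) A)) := by
  apply Ideal.add_mem
  · exact Ideal.mem_sup_right (Ideal.subset_span ⟨i, rfl⟩)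
  · exact Ideal.mem_sup_left (Ideal.mem_map_of_mem _ (hd i))

variable [IsAdicComplete 𝔪 A]

theorem exists_trans (c : Fin n → A) (hc : ∀ i, c i ∈ 𝔪) :
    ∃ τ : MvPowerSeries (Fin n) A →+* MvPowerSeries (Fin n) A,
      ∀ p : MvPolynomial (Fin n) A, τ (p : MvPowerSeries (Fin n) A) =
        MvPolynomial.aeval (fun i => (X i + C (c i) : MvPowerSeries (Fin n) A)) p := by
  have := isAdicComplete_bigIdeal (σ := Fin n) 𝔪
  exact exists_mvPowerSeries_eval' (Q := A)
    (fun i => (X i + C (c i) : MvPowerSeries (Fin n) A))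
    (bigIdeal 𝔪) (X_add_C_mem_bigIdeal 𝔪 c hc)

open Classical in
/-- the translation `x ↦ x + c` -/
noncomputable def trans (c : Fin n → A) :
    MvPowerSeries (Fin n) A →+* MvPowerSeries (Fin n) A :=
  if h : ∀ i, c i ∈ 𝔪 then (exists_trans 𝔪 c h).choose else RingHom.id _

theorem trans_coe {c : Fin n → A} (hc : ∀ i, c i ∈ 𝔪) (p : MvPolynomial (Fin n) A) :
    trans 𝔪 c (p : MvPowerSeries (Fin n) A) =
      MvPolynomial.aeval (fun i => (X i + C (c i) : MvPowerSeries (Fin n) A)) p := by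
  rw [trans, dif_pos hc]
  exact (exists_trans 𝔪 c hc).choose_spec p

theorem trans_C {c : Fin n → A} (hc : ∀ i, c i ∈ 𝔪) (r : A) :
    trans 𝔪 c (C r) = C r := by
  have h := trans_coe 𝔪 hc (MvPolynomial.C r)
  rw [MvPolynomial.coe_C, MvPolynomial.aeval_C] at h
  rw [h, c_eq_algebraMap]

theorem trans_X {c : Fin n → A} (hc : ∀ i, c i ∈ 𝔪) (i : Fin n) :
    trans 𝔪 c (X i) = X i + C (c i) := by
  have h := trans_coe 𝔪 hc (MvPolynomial.X i)
  rwa [MvPolynomial.coe_X, MvPolynomial.aeval_X] at h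

theorem trans_comp {c d : Fin n → A} (hc : ∀ i, c i ∈ 𝔪) (hd : ∀ i, d i ∈ 𝔪) :
    (trans 𝔪 d).comp (trans 𝔪 c) = trans 𝔪 (c + d) := by
  have := isAdicComplete_bigIdeal (σ := Fin n) 𝔪
  have hcd : ∀ i, (c + d) i ∈ 𝔪 := fun i => Ideal.add_mem _ (hc i) (hd i)
  apply mvPowerSeries_ringHom_ext (bigIdeal 𝔪)
  · intro r
    rw [RingHom.comp_apply, trans_C 𝔪 hc, trans_C 𝔪 hd, trans_C 𝔪 hcd]
  · intro i
    rw [RingHom.comp_apply, trans_X 𝔪 hc, map_add, trans_X 𝔪 hd, trans_C 𝔪 hd, trans_X 𝔪 hcd,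
      Pi.add_apply, map_add]
    ring
  · intro i
    rw [RingHom.comp_apply, trans_X 𝔪 hc, map_add, trans_X 𝔪 hd, trans_C 𝔪 hd]
    exact Ideal.add_mem _ (X_add_C_mem_bigIdeal 𝔪 d hd i)
      (Ideal.mem_sup_left (Ideal.mem_map_of_mem _ (hc i)))

theorem trans_comp_apply {c d : Fin n → A} (hc : ∀ i, c i ∈ 𝔪) (hd : ∀ i, d i ∈ 𝔪)
    (f : MvPowerSeries (Fin n) A) :
    trans 𝔪 d (trans 𝔪 c f) = trans 𝔪 (c + d) f := by
  rw [← trans_comp 𝔪 hc hd, RingHom.comp_apply]

theorem trans_zero : trans 𝔪 (0 : Fin n → A) = RingHom.id _ := by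
  have := isAdicComplete_bigIdeal (σ := Fin n) 𝔪
  have h0 : ∀ i, (0 : Fin n → A) i ∈ 𝔪 := fun i => Ideal.zero_mem _
  apply mvPowerSeries_ringHom_ext (bigIdeal 𝔪)
  · intro r
    rw [trans_C 𝔪 h0, RingHom.id_apply]
  · intro i
    rw [trans_X 𝔪 h0, RingHom.id_apply, Pi.zero_apply, map_zero, add_zero]
  · intro i
    rw [trans_X 𝔪 h0]
    exact X_add_C_mem_bigIdeal 𝔪 0 h0 i

/-- the translation as an algebra automorphism -/
noncomputable def transEquiv {c : Fin n → A} (hc : ∀ i, c i ∈ 𝔪) :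
    MvPowerSeries (Fin n) A ≃ₐ[A] MvPowerSeries (Fin n) A :=
  AlgEquiv.ofRingEquiv (f := RingEquiv.ofRingHom (trans 𝔪 c) (trans 𝔪 (-c))
    (by
      have hc' : ∀ i, (-c) i ∈ 𝔪 := fun i => Ideal.neg_mem_iff _ |>.2 (hc i)
      rw [trans_comp 𝔪 hc' hc, neg_add_cancel, trans_zero])
    (by
      have hc' : ∀ i, (-c) i ∈ 𝔪 := fun i => Ideal.neg_mem_iff _ |>.2 (hc i)
      rw [trans_comp 𝔪 hc hc', add_neg_cancel, trans_zero]))
    (by
      intro r
      rw [← c_eq_algebraMap]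
      exact trans_C 𝔪 hc r)

theorem transEquiv_apply {c : Fin n → A} (hc : ∀ i, c i ∈ 𝔪) (f : MvPowerSeries (Fin n) A) :
    transEquiv 𝔪 hc f = trans 𝔪 c f := rfl

theorem trans_mem_coeffIdeal (I : Ideal A) (hI : I ≤ 𝔪) {d : Fin n → A} (hd : ∀ i, d i ∈ I)
    (N : ℕ) {f : MvPowerSeries (Fin n) A} (hf : f ∈ coeffIdeal I N) :
    trans 𝔪 d f ∈ coeffIdeal I N := by
  have hd' : ∀ i, d i ∈ 𝔪 := fun i => hI (hd i)
  rw [← pow_bigIdeal_eq] at hf ⊢
  have h1 : Ideal.map (trans 𝔪 d) (bigIdeal I : Ideal (MvPowerSeries (Fin n) A)) ≤ bigIdeal I := by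
    rw [Ideal.map_le_iff_le_comap]
    show (bigIdeal I : Ideal (MvPowerSeries (Fin n) A)) ≤ _
    unfold bigIdeal
    rw [sup_le_iff]
    constructor
    · rw [Ideal.map_le_iff_le_comap]
      intro r hr
      rw [Ideal.mem_comap, Ideal.mem_comap, trans_C 𝔪 hd']
      exact Ideal.mem_sup_left (Ideal.mem_map_of_mem _ hr)
    · rw [Ideal.span_le]
      rintro _ ⟨i, rfl⟩
      rw [SetLike.mem_coe, Ideal.mem_comap, trans_X 𝔪 hd']
      exact X_add_C_mem_bigIdeal I d hd i
  have h2 := Ideal.mem_map_of_mem (trans 𝔪 d) hf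
  rw [Ideal.map_pow] at h2
  exact Ideal.pow_right_mono h1 N h2

end Trans

section Low

variable {A : Type*} [CommRing A] {n : ℕ}

/-- the polynomial `a0 + Σ g_i x_i + Q(x)` -/
noncomputable def lowPoly (a0 : A) (g : Fin n → A) (q : Fin n → Fin n → A) :
    MvPolynomial (Fin n) A :=
  MvPolynomial.C a0 + ∑ i, MvPolynomial.C (g i) * MvPolynomial.X i + VanCyc.quadPoly q

theorem isHomogeneous_linPoly (g : Fin n → A) :
    (∑ i, MvPolynomial.C (g i) * MvPolynomial.X i : MvPolynomial (Fin n) A).IsHomogeneous 1 := by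
  apply MvPolynomial.IsHomogeneous.sum
  intro i _
  have h := (MvPolynomial.isHomogeneous_C (Fin n) (g i)).mul (MvPolynomial.isHomogeneous_X A i)
  simpa using h

variable (a0 : A) (g : Fin n → A) (q : Fin n → Fin n → A)

theorem coeff_zero_lowPoly : MvPolynomial.coeff 0 (lowPoly a0 g q) = a0 := by
  rw [lowPoly, MvPolynomial.coeff_add, MvPolynomial.coeff_add, MvPolynomial.coeff_C, if_pos rfl,
    (isHomogeneous_linPoly g).coeff_eq_zero (by simp),
    (isHomogeneous_quadPoly q).coeff_eq_zero (by simp), add_zero, add_zero]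

theorem coeff_single_lowPoly (l : Fin n) :
    MvPolynomial.coeff (Finsupp.single l 1) (lowPoly a0 g q) = g l := by
  classical
  rw [lowPoly, MvPolynomial.coeff_add, MvPolynomial.coeff_add,
    (MvPolynomial.isHomogeneous_C (Fin n) a0).coeff_eq_zero (by simp),
    (isHomogeneous_quadPoly q).coeff_eq_zero (by simp), MvPolynomial.coeff_sum, zero_add, add_zero]
  rw [Finset.sum_eq_single l]
  · rw [MvPolynomial.coeff_C_mul, MvPolynomial.coeff_X, if_pos rfl, mul_one]
  · intro i _ hi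
    rw [MvPolynomial.coeff_C_mul, MvPolynomial.coeff_X, if_neg, mul_zero]
    intro h
    exact hi (Finsupp.single_left_injective one_ne_zero h)
  · intro h
    exact absurd (Finset.mem_univ _) h

theorem coeff_pair_lowPoly (i j : Fin n) (hij : i ≤ j) :
    MvPolynomial.coeff (Finsupp.single i 1 + Finsupp.single j 1) (lowPoly a0 g q) = q i j := by
  rw [lowPoly, MvPolynomial.coeff_add, MvPolynomial.coeff_add,
    (MvPolynomial.isHomogeneous_C (Fin n) a0).coeff_eq_zero (by simp),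
    (isHomogeneous_linPoly g).coeff_eq_zero (by simp),
    coeff_quadPoly_single_add_single q i j hij, zero_add, zero_add]

end Low

end Groth.Agent.Lib.Helper76.MorseLin
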