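import Mathlib
import Groth.Agent.Lib.Helper76.MorseLin1

/-!
# Second order Taylor estimate for translations of power series
-/

set_option autoImplicit false

namespace Groth.Agent.Lib.Helper76.MorseLin

open MvPowerSeries
open Groth.Agent.Lib.Helper76
open Groth.Agent.Lib.Helper99.Morse

section Aeval

variable {A : Type*} [CommRing A] {n : ℕ}

theorem aeval_quadPoly' {S : Type*} [CommRing S] [Algebra A S] (q : Fin n → Fin n → A)
    (y : Fin n → S) :
    MvPolynomial.aeval y (VanCyc.quadPoly q) = quad (fun i j => algebraMap A S (q i j)) y := by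
  unfold VanCyc.quadPoly quad
  rw [map_sum]
  apply Finset.sum_congr rfl; intro i _
  rw [map_sum]
  apply Finset.sum_congr rfl; intro j _
  split_ifs
  · rw [map_mul, map_mul, MvPolynomial.aeval_C, MvPolynomial.aeval_X, MvPolynomial.aeval_X]
  · rw [map_zero]

theorem quad_C (q : Fin n → Fin n → A) (d : Fin n → A) :
    quad (fun i j => (MvPolynomial.C (q i j) : MvPolynomial (Fin n) A))
      (fun i => MvPolynomial.C (d i)) = MvPolynomial.C (quad q d) := by
  unfold quad
  rw [map_sum]
  apply Finset.sum_congr rfl; intro i _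
  rw [map_sum]
  apply Finset.sum_congr rfl; intro j _
  split_ifs
  · rw [map_mul, map_mul]
  · rw [map_zero]

theorem pol_C (q : Fin n → Fin n → A) (i j : Fin n) :
    pol (fun i j => (MvPolynomial.C (q i j) : MvPolynomial (Fin n) A)) i j =
      MvPolynomial.C (pol q i j) := by
  unfold pol
  split_ifs
  · rw [map_mul, map_ofNat]
  · rfl
  · rfl

theorem quad_X (q : Fin n → Fin n → A) :
    quad (fun i j => (MvPolynomial.C (q i j) : MvPolynomial (Fin n) A))
      (fun i => MvPolynomial.X i) = VanCyc.quadPoly q := by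
  have h := aeval_quadPoly' (S := MvPolynomial (Fin n) A) q (fun i => MvPolynomial.X i)
  rw [MvPolynomial.aeval_X_left_apply] at h
  rw [h]
  rfl

theorem aeval_lowPoly (a0 : A) (g : Fin n → A) (q : Fin n → Fin n → A) (d : Fin n → A) :
    MvPolynomial.aeval
      (fun i => (MvPolynomial.X i + MvPolynomial.C (d i) : MvPolynomial (Fin n) A))
      (lowPoly a0 g q) =
      lowPoly (a0 + ∑ i, g i * d i + quad q d) (fun l => g l + ∑ i, d i * pol q i l) q := by
  have hq : MvPolynomial.aeval
      (fun i => (MvPolynomial.X i + MvPolynomial.C (d i) : MvPolynomial (Fin n) A))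
      (VanCyc.quadPoly q) = VanCyc.quadPoly q +
        (∑ i, MvPolynomial.C (d i) * ∑ j, MvPolynomial.C (pol q i j) * MvPolynomial.X j) +
        MvPolynomial.C (quad q d) := by
    rw [aeval_quadPoly']
    have h := quad_add (fun i j => (MvPolynomial.C (q i j) : MvPolynomial (Fin n) A))
      (fun i => MvPolynomial.X i) (fun i => MvPolynomial.C (d i))
    simp only [pol_C, quad_C, quad_X] at h
    rw [← h]
    rfl
  have hT1 : (∑ i, MvPolynomial.C (g i) *
      (MvPolynomial.X i + MvPolynomial.C (d i)) : MvPolynomial (Fin n) A) =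
      ∑ i, MvPolynomial.C (g i) * MvPolynomial.X i + MvPolynomial.C (∑ i, g i * d i) := by
    simp only [mul_add, Finset.sum_add_distrib, map_sum, map_mul]
  have hT2 : (∑ i, MvPolynomial.C (d i) *
      ∑ j, MvPolynomial.C (pol q i j) * MvPolynomial.X j : MvPolynomial (Fin n) A) =
      ∑ l, MvPolynomial.C (∑ i, d i * pol q i l) * MvPolynomial.X l := by
    simp only [Finset.mul_sum, map_sum, map_mul, Finset.sum_mul]
    rw [Finset.sum_comm]
    apply Finset.sum_congr rfl; intro l _
    apply Finset.sum_congr rfl; intro i _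
    ring
  unfold lowPoly
  rw [map_add, map_add, MvPolynomial.aeval_C, map_sum, hq]
  simp only [map_mul, MvPolynomial.aeval_C, MvPolynomial.aeval_X, MvPolynomial.algebraMap_eq]
  rw [hT1, hT2]
  simp only [map_add, add_mul, Finset.sum_add_distrib]
  ring

end Aeval

section Decomp

variable {A : Type*} [CommRing A] {n : ℕ}

theorem exists_single_of_degree_eq_one (e : Fin n →₀ ℕ) (he : e.degree = 1) :
    ∃ i : Fin n, e = Finsupp.single i 1 := by
  obtain ⟨i, hi⟩ := exists_ne_zero_of_degree_pos e (by omega)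
  have h1 := tsub_single_add_single e i hi
  have hd' : (e - Finsupp.single i 1).degree = 0 := by
    have := he
    rw [← h1, map_add, Finsupp.degree_single] at this
    omega
  have h0 : e - Finsupp.single i 1 = 0 := (Finsupp.degree_eq_zero_iff _).1 hd'
  refine ⟨i, ?_⟩
  rw [← h1, h0, zero_add]

theorem quadPart_of_le (G : MvPowerSeries (Fin n) A) (i j : Fin n) (hij : i ≤ j) :
    VanCyc.quadPart G i j = coeff (Finsupp.single i 1 + Finsupp.single j 1) G := by
  unfold VanCyc.quadPart
  by_cases h : i = j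
  · subst h
    rw [if_pos rfl, ← Finsupp.single_add]
  · rw [if_neg h, if_pos (lt_of_le_of_ne hij h)]

theorem coeff_eq_coeff_lowPoly (G : MvPowerSeries (Fin n) A) (α : Fin n →₀ ℕ)
    (hα : α.degree < 3) :
    coeff α G = MvPolynomial.coeff α
      (lowPoly (coeff 0 G) (fun i => coeff (Finsupp.single i 1) G) (VanCyc.quadPart G)) := by
  have h3 : α.degree = 0 ∨ α.degree = 1 ∨ α.degree = 2 := by omega
  rcases h3 with h | h | h
  · have : α = 0 := (Finsupp.degree_eq_zero_iff _).1 h
    subst this
    rw [coeff_zero_lowPoly]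
  · obtain ⟨l, rfl⟩ := exists_single_of_degree_eq_one α h
    rw [coeff_single_lowPoly]
  · obtain ⟨i, j, hij, rfl⟩ := exists_single_add_single_of_degree_eq_two α h
    rw [coeff_pair_lowPoly _ _ _ i j hij, quadPart_of_le G i j hij]

end Decomp

section Taylor

variable {A : Type*} [CommRing A] {n : ℕ} (𝔪 : Ideal A) [IsAdicComplete 𝔪 A]

theorem taylor (I : Ideal A) (hI : I ≤ 𝔪) {d : Fin n → A} (hd : ∀ i, d i ∈ I)
    (G : MvPowerSeries (Fin n) A) (a0 : A) (g : Fin n → A) (q : Fin n → Fin n → A)
    (hlow : ∀ α : Fin n →₀ ℕ, α.degree < 3 →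
      coeff α G = MvPolynomial.coeff α (lowPoly a0 g q)) :
    trans 𝔪 d G - ((lowPoly (a0 + ∑ i, g i * d i + quad q d)
      (fun l => g l + ∑ i, d i * pol q i l) q : MvPolynomial (Fin n) A) :
        MvPowerSeries (Fin n) A) ∈ coeffIdeal I 3 := by
  have hd' : ∀ i, d i ∈ 𝔪 := fun i => hI (hd i)
  have h1 : G - ((lowPoly a0 g q : MvPolynomial (Fin n) A) : MvPowerSeries (Fin n) A) ∈
      coeffIdeal I 3 := by
    rw [← pow_bigIdeal_eq]
    apply Ideal.pow_right_mono (le_sup_right : _ ≤ bigIdeal I) 3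
    apply mem_pow_span_X_of_coeff_eq_zero
    intro α hα
    rw [map_sub, MvPolynomial.coeff_coe, hlow α hα, sub_self]
  have h2 := trans_mem_coeffIdeal 𝔪 I hI hd 3 h1
  rw [map_sub, trans_coe 𝔪 hd'] at h2
  have h3 : MvPolynomial.aeval (fun i => (X i + C (d i) : MvPowerSeries (Fin n) A))
      (lowPoly a0 g q) =
      ((MvPolynomial.aeval
        (fun i => (MvPolynomial.X i + MvPolynomial.C (d i) : MvPolynomial (Fin n) A))
        (lowPoly a0 g q) : MvPolynomial (Fin n) A) : MvPowerSeries (Fin n) A) := by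
    have := MvPolynomial.comp_aeval_apply
      (f := fun i => (MvPolynomial.X i + MvPolynomial.C (d i) : MvPolynomial (Fin n) A))
      (MvPolynomial.coeToMvPowerSeries.algHom (σ := Fin n) (R := A) A) (lowPoly a0 g q)
    simp only [MvPolynomial.coeToMvPowerSeries.algHom_apply, Algebra.algebraMap_self,
      MvPowerSeries.map_id, RingHom.id_apply, MvPolynomial.coe_add, MvPolynomial.coe_X,
      MvPolynomial.coe_C] at this
    exact this.symm
  rw [h3, aeval_lowPoly] at h2
  exact h2

variable (I : Ideal A) (hI : I ≤ 𝔪) {d : Fin n → A} (hd : ∀ i, d i ∈ I)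
    (G : MvPowerSeries (Fin n) A) (a0 : A) (g : Fin n → A) (q : Fin n → Fin n → A)
    (hlow : ∀ α : Fin n →₀ ℕ, α.degree < 3 →
      coeff α G = MvPolynomial.coeff α (lowPoly a0 g q))

include hI hd hlow in
theorem taylor_coeff_zero :
    coeff 0 (trans 𝔪 d G) - (a0 + ∑ i, g i * d i + quad q d) ∈ I ^ 3 := by
  have h := (mem_coeffIdeal.1 (taylor 𝔪 I hI hd G a0 g q hlow)) 0
  rw [map_sub, MvPolynomial.coeff_coe, coeff_zero_lowPoly] at h
  simpa using h

include hI hd hlow in
theorem taylor_coeff_single (l : Fin n) :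
    coeff (Finsupp.single l 1) (trans 𝔪 d G) - (g l + ∑ i, d i * pol q i l) ∈ I ^ 2 := by
  have h := (mem_coeffIdeal.1 (taylor 𝔪 I hI hd G a0 g q hlow)) (Finsupp.single l 1)
  rw [map_sub, MvPolynomial.coeff_coe, coeff_single_lowPoly] at h
  simpa using h

include hI hd hlow in
theorem taylor_coeff_pair (i j : Fin n) (hij : i ≤ j) :
    coeff (Finsupp.single i 1 + Finsupp.single j 1) (trans 𝔪 d G) - q i j ∈ I := by
  have h := (mem_coeffIdeal.1 (taylor 𝔪 I hI hd G a0 g q hlow))
    (Finsupp.single i 1 + Finsupp.single j 1)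
  rw [map_sub, MvPolynomial.coeff_coe, coeff_pair_lowPoly _ _ _ i j hij] at h
  simpa using h

end Taylor

end Groth.Agent.Lib.Helper76.MorseLin
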