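import Mathlib
import Groth.Agent.Lib.Helper76.MorseLin2

/-!
# Newton iteration: a critical point of a power series with non-degenerate quadratic part
-/

set_option autoImplicit false

namespace Groth.Agent.Lib.Helper76.MorseLin

open MvPowerSeries
open Groth.Agent.Lib.Helper76
open Groth.Agent.Lib.Helper99.Morse

section Det

variable {A : Type*} [CommRing A] [IsLocalRing A] {n : ℕ}

theorem quadNondeg_of_sub_mem {q q' : Fin n → Fin n → A}
    (h : ∀ i j, i ≤ j → q' i j - q i j ∈ IsLocalRing.maximalIdeal A)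
    (hq : VanCyc.QuadNondeg q) : VanCyc.QuadNondeg q' := by
  set π := Ideal.Quotient.mk (IsLocalRing.maximalIdeal A) with hπ
  have key : ∀ i j, i ≤ j → π (q' i j) = π (q i j) := fun i j hij =>
    Ideal.Quotient.eq.2 (h i j hij)
  have hmap : π.mapMatrix (VanCyc.polarMatrix q') = π.mapMatrix (VanCyc.polarMatrix q) := by
    ext i j
    simp only [RingHom.mapMatrix_apply, Matrix.map_apply]
    unfold VanCyc.polarMatrix
    split_ifs with h1 h2
    · subst h1
      rw [map_mul, map_mul, key _ _ le_rfl]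
    · exact key i j h2.le
    · exact key j i (not_lt.1 h2)
  have hdet : π (VanCyc.polarMatrix q').det = π (VanCyc.polarMatrix q).det := by
    rw [RingHom.map_det, RingHom.map_det, hmap]
  unfold VanCyc.QuadNondeg at hq ⊢
  by_contra hnu
  have h1 : (VanCyc.polarMatrix q').det ∈ IsLocalRing.maximalIdeal A :=
    (IsLocalRing.mem_maximalIdeal _).2 hnu
  have h2 : π (VanCyc.polarMatrix q).det = 0 := by
    rw [← hdet]
    exact Ideal.Quotient.eq_zero_iff_mem.2 h1
  have h3 : (VanCyc.polarMatrix q).det ∈ IsLocalRing.maximalIdeal A :=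
    Ideal.Quotient.eq_zero_iff_mem.1 h2
  exact (IsLocalRing.mem_maximalIdeal _).1 h3 hq

end Det

section Newton

variable {A : Type*} [CommRing A] [IsLocalRing A]
  [IsAdicComplete (IsLocalRing.maximalIdeal A) A] {n : ℕ}

local notation "𝔪" => IsLocalRing.maximalIdeal A

/-- the linear coefficients -/
noncomputable def lin (G : MvPowerSeries (Fin n) A) : Fin n → A :=
  fun l => coeff (Finsupp.single l 1) G

theorem nondeg_trans (F : MvPowerSeries (Fin n) A) (a0 : A) (g : Fin n → A)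
    (q : Fin n → Fin n → A)
    (hlow : ∀ α : Fin n →₀ ℕ, α.degree < 3 →
      coeff α F = MvPolynomial.coeff α (lowPoly a0 g q))
    (hq : VanCyc.QuadNondeg q) {c : Fin n → A} (hc : ∀ i, c i ∈ 𝔪) :
    VanCyc.QuadNondeg (VanCyc.quadPart (trans 𝔪 c F)) := by
  apply quadNondeg_of_sub_mem _ hq
  intro i j hij
  rw [quadPart_of_le _ i j hij]
  exact taylor_coeff_pair 𝔪 𝔪 le_rfl hc F a0 g q hlow i j hij

theorem newton_step (G : MvPowerSeries (Fin n) A)
    (hG : VanCyc.QuadNondeg (VanCyc.quadPart G)) (k : ℕ) (hk : 1 ≤ k)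
    (hlin : ∀ l, lin G l ∈ 𝔪 ^ k) :
    ∃ d : Fin n → A, (∀ i, d i ∈ 𝔪 ^ k) ∧ ∀ l, lin (trans 𝔪 d G) l ∈ 𝔪 ^ (k + 1) := by
  classical
  set P := VanCyc.polarMatrix (VanCyc.quadPart G) with hP
  set d : Fin n → A := Matrix.vecMul (fun l => -lin G l) P⁻¹ with hd
  have hdmem : ∀ i, d i ∈ 𝔪 ^ k := by
    intro i
    rw [hd]
    simp only [Matrix.vecMul, dotProduct]
    apply Ideal.sum_mem
    intro j _
    exact Ideal.mul_mem_right _ _ ((Ideal.neg_mem_iff _).2 (hlin j))
  have hPd : ∀ l, ∑ i, d i * pol (VanCyc.quadPart G) i l = -lin G l := by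
    intro l
    have h1 : Matrix.vecMul d P = fun l => -lin G l := by
      rw [hd, Matrix.vecMul_vecMul, Matrix.nonsing_inv_mul P hG, Matrix.vecMul_one]
    have h2 := congrFun h1 l
    simp only [Matrix.vecMul, dotProduct] at h2
    exact h2
  refine ⟨d, hdmem, ?_⟩
  intro l
  have hI : 𝔪 ^ k ≤ 𝔪 := Ideal.pow_le_self (by omega)
  have h := taylor_coeff_single 𝔪 (𝔪 ^ k) hI hdmem G (coeff 0 G)
    (fun i => coeff (Finsupp.single i 1) G) (VanCyc.quadPart G)
    (coeff_eq_coeff_lowPoly G) l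
  rw [hPd l] at h
  have h0 : coeff (Finsupp.single l 1) G + -lin G l = 0 := by
    rw [lin]; ring
  rw [h0, sub_zero, ← pow_mul] at h
  exact Ideal.pow_le_pow_right (by nlinarith) h

theorem exists_critical (F : MvPowerSeries (Fin n) A) (a0 : A) (g : Fin n → A)
    (q : Fin n → Fin n → A)
    (hlow : ∀ α : Fin n →₀ ℕ, α.degree < 3 →
      coeff α F = MvPolynomial.coeff α (lowPoly a0 g q))
    (hq : VanCyc.QuadNondeg q) (hg : ∀ l, g l ∈ 𝔪) :
    ∃ c : Fin n → A, (∀ i, c i ∈ 𝔪) ∧ ∀ l, lin (trans 𝔪 c F) l = 0 := by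
  classical
  let St : ℕ → Type _ := fun k =>
    {c : Fin n → A // (∀ i, c i ∈ 𝔪) ∧ ∀ l, lin (trans 𝔪 c F) l ∈ 𝔪 ^ (k + 1)}
  have hlinF : ∀ l, lin F l = g l := by
    intro l
    rw [lin, hlow _ (by simp), coeff_single_lowPoly]
  let s0 : St 0 := ⟨0, fun i => Ideal.zero_mem _, fun l => by
    rw [trans_zero, RingHom.id_apply, hlinF, zero_add, pow_one]
    exact hg l⟩
  have step : ∀ k (s : St k), ∃ s' : St (k + 1), ∀ i, s'.1 i - s.1 i ∈ 𝔪 ^ (k + 1) := by
    intro k s
    obtain ⟨d, hd, hd2⟩ := newton_step (trans 𝔪 s.1 F)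
      (nondeg_trans F a0 g q hlow hq s.2.1) (k + 1) (by omega) s.2.2
    have hd' : ∀ i, d i ∈ 𝔪 := fun i => Ideal.pow_le_self (by omega) (hd i)
    refine ⟨⟨s.1 + d, fun i => Ideal.add_mem _ (s.2.1 i) (hd' i), ?_⟩, ?_⟩
    · intro l
      rw [← trans_comp_apply 𝔪 s.2.1 hd']
      exact hd2 l
    · intro i
      have : (s.1 + d) i - s.1 i = d i := by
        rw [Pi.add_apply]; ring
      rw [this]
      exact hd i
  choose next hnext using step
  let seq : ∀ k, St k := fun k => Nat.rec s0 (fun k s => next k s) k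
  have hseq_succ : ∀ k, seq (k + 1) = next k (seq k) := fun k => rfl
  have hdiff : ∀ k i, (seq (k + 1)).1 i - (seq k).1 i ∈ 𝔪 ^ (k + 1) := by
    intro k i
    rw [hseq_succ]
    exact hnext k (seq k) i
  have hcauchy : ∀ i (m k : ℕ), m ≤ k → (seq k).1 i - (seq m).1 i ∈ 𝔪 ^ m := by
    intro i m k hmk
    induction k, hmk using Nat.le_induction with
    | base => rw [sub_self]; exact Ideal.zero_mem _
    | succ k hmk ih =>
      have e : (seq (k + 1)).1 i - (seq m).1 i =
          ((seq (k + 1)).1 i - (seq k).1 i) + ((seq k).1 i - (seq m).1 i) := by ring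
      rw [e]
      exact Ideal.add_mem _ (Ideal.pow_le_pow_right (by omega) (hdiff k i)) ih
  have hP : IsPrecomplete 𝔪 A := inferInstance
  have hH : IsHausdorff 𝔪 A := inferInstance
  have hlim : ∀ i, ∃ L : A, ∀ k, (seq k).1 i ≡ L [SMOD (𝔪 ^ k • ⊤ : Submodule A A)] := by
    intro i
    apply hP.prec'
    intro m k hmk
    rw [SModEq.sub_mem, smul_eq_mul, Ideal.mul_top]
    have := hcauchy i m k hmk
    rw [← Ideal.neg_mem_iff] at this
    simpa using this
  choose c hcL using hlim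
  have hsub : ∀ k i, c i - (seq k).1 i ∈ 𝔪 ^ k := by
    intro k i
    have := hcL i k
    rw [SModEq.sub_mem, smul_eq_mul, Ideal.mul_top] at this
    rw [← Ideal.neg_mem_iff] at this
    simpa using this
  have hcm : ∀ i, c i ∈ 𝔪 := by
    intro i
    have h1 := hsub 1 i
    rw [pow_one] at h1
    have e : c i = (c i - (seq 1).1 i) + (seq 1).1 i := by ring
    rw [e]
    exact Ideal.add_mem _ h1 ((seq 1).2.1 i)
  refine ⟨c, hcm, ?_⟩
  intro l
  apply hH.haus'
  intro k
  rw [SModEq.zero, smul_eq_mul, Ideal.mul_top]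
  rcases Nat.eq_zero_or_pos k with hk | hk
  · subst hk
    rw [pow_zero, Ideal.one_eq_top]
    exact Submodule.mem_top
  · set e : Fin n → A := fun i => c i - (seq k).1 i with he
    have hemem : ∀ i, e i ∈ 𝔪 ^ k := fun i => hsub k i
    have hI : 𝔪 ^ k ≤ 𝔪 := Ideal.pow_le_self (by omega)
    have hem : ∀ i, e i ∈ 𝔪 := fun i => hI (hemem i)
    have hce : c = (seq k).1 + e := by
      funext i
      rw [Pi.add_apply, he]; ring
    set G := trans 𝔪 (seq k).1 F with hG
    have hGc : trans 𝔪 c F = trans 𝔪 e G := by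
      rw [hG, trans_comp_apply 𝔪 (seq k).2.1 hem, ← hce]
    have h := taylor_coeff_single 𝔪 (𝔪 ^ k) hI hemem G (coeff 0 G)
      (fun i => coeff (Finsupp.single i 1) G) (VanCyc.quadPart G)
      (coeff_eq_coeff_lowPoly G) l
    have h1 : coeff (Finsupp.single l 1) G ∈ 𝔪 ^ k :=
      Ideal.pow_le_pow_right (by omega) ((seq k).2.2 l)
    have h2 : ∑ i, e i * pol (VanCyc.quadPart G) i l ∈ 𝔪 ^ k := by
      apply Ideal.sum_mem
      intro i _
      exact Ideal.mul_mem_right _ _ (hemem i)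
    have h3 : coeff (Finsupp.single l 1) (trans 𝔪 e G) ∈ 𝔪 ^ k := by
      have e3 : coeff (Finsupp.single l 1) (trans 𝔪 e G) =
          (coeff (Finsupp.single l 1) (trans 𝔪 e G) -
            (coeff (Finsupp.single l 1) G + ∑ i, e i * pol (VanCyc.quadPart G) i l)) +
          (coeff (Finsupp.single l 1) G + ∑ i, e i * pol (VanCyc.quadPart G) i l) := by ring
      rw [e3]
      refine Ideal.add_mem _ ?_ (Ideal.add_mem _ h1 h2)
      rw [← pow_mul] at h
      exact Ideal.pow_le_pow_right (by nlinarith) h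
    rw [lin, hGc]
    exact h3

end Newton

end Groth.Agent.Lib.Helper76.MorseLin
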