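import Mathlib
import Groth.Prelude.Def_Pi1
import Groth.Agent.S3869

set_option autoImplicit false
universe u

namespace Groth.Agent.Lib.Helper76.CITransport

open IsLocalRing

theorem complMap_id {S : Type u} [CommRing S] (I : Ideal S) (h : I.map (RingHom.id S) ≤ I)
    (y : AdicCompletion I S) : FSch.complMap I I (RingHom.id S) h y = y := by
  apply AdicCompletion.ext_evalₐ
  intro n
  rw [Groth.Agent.S3869.evalₐ_complMap]
  obtain ⟨w, hw⟩ := Ideal.Quotient.mk_surjective (AdicCompletion.evalₐ I n y)
  rw [← hw]
  simp only [Ideal.quotientMap_mk, RingHom.id_apply]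

/-- completions of isomorphic local rings are isomorphic -/
noncomputable def cplEquiv {A A' : Type u} [CommRing A] [CommRing A'] [IsLocalRing A]
    [IsLocalRing A'] (e : A ≃+* A') :
    AdicCompletion (maximalIdeal A) A ≃+* AdicCompletion (maximalIdeal A') A' :=
  have h1 : (maximalIdeal A).map (e : A →+* A') ≤ maximalIdeal A' := by
    rw [Ideal.map_le_iff_le_comap]
    intro a ha
    rw [Ideal.mem_comap, mem_maximalIdeal, mem_nonunits_iff]
    intro hu
    exact ha ((isUnit_map_iff (e : A →+* A') a).mp hu)
  have h2 : (maximalIdeal A').map (e.symm : A' →+* A) ≤ maximalIdeal A := by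
    rw [Ideal.map_le_iff_le_comap]
    intro a ha
    rw [Ideal.mem_comap, mem_maximalIdeal, mem_nonunits_iff]
    intro hu
    exact ha ((isUnit_map_iff (e.symm : A' →+* A) a).mp hu)
  RingEquiv.ofRingHom (FSch.complMap _ _ (e : A →+* A') h1) (FSch.complMap _ _ (e.symm : A' →+* A) h2)
    (by
      ext y
      have h3 : (maximalIdeal A').map (((e : A →+* A')).comp (e.symm : A' →+* A)) ≤
          maximalIdeal A' := by
        rw [RingEquiv.comp_symm, Ideal.map_id]
      rw [RingHom.comp_apply, Groth.Agent.S3869.complMap_comp _ _ _ _ _ h2 h1 h3,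
        Groth.Agent.S3869.complMap_congr _ _ (RingEquiv.comp_symm e) h3
          (by rw [Ideal.map_id]), complMap_id, RingHom.id_apply])
    (by
      ext y
      have h3 : (maximalIdeal A).map (((e.symm : A' →+* A)).comp (e : A →+* A')) ≤
          maximalIdeal A := by
        rw [RingEquiv.symm_comp, Ideal.map_id]
      rw [RingHom.comp_apply, Groth.Agent.S3869.complMap_comp _ _ _ _ _ h1 h2 h3,
        Groth.Agent.S3869.complMap_congr _ _ (RingEquiv.symm_comp e) h3
          (by rw [Ideal.map_id]), complMap_id, RingHom.id_apply])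

theorem isCompleteIntersection_of_ringEquiv {A A' : Type u} [CommRing A] [CommRing A']
    [IsLocalRing A] [IsLocalRing A'] (e : A ≃+* A') (h : Pi1.IsCompleteIntersection A) :
    Pi1.IsCompleteIntersection A' := by
  obtain ⟨B, _, hB, rs, hmem, hreg, ⟨ε⟩⟩ := h
  exact ⟨B, inferInstance, hB, rs, hmem, hreg, ⟨(cplEquiv e).symm.trans ε⟩⟩

end Groth.Agent.Lib.Helper76.CITransport
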