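import Mathlib
import Groth.Agent.Lib.Helper76.ComplFacts

set_option autoImplicit false
universe u

namespace Groth.Agent.Lib.Helper76.CIDescent

open IsLocalRing

/-- the number of generators of an ideal does not drop in the completion -/
theorem spanFinrank_le_spanFinrank_map_completion (R : Type u) [CommRing R] [IsLocalRing R]
    [IsNoetherianRing R] (I : Ideal R) :
    I.spanFinrank ≤
      (I.map (algebraMap R (AdicCompletion (maximalIdeal R) R))).spanFinrank := by
  classical
  set R' := AdicCompletion (maximalIdeal R) R with hR'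
  set φ : R →+* R' := algebraMap R R' with hφ
  have hmfg : (maximalIdeal R).FG := IsNoetherian.noetherian _
  have hIfg : (I.map φ).FG := Ideal.FG.map (IsNoetherian.noetherian I) φ
  have hm' : maximalIdeal R' = (maximalIdeal R).map φ := AdicCompletion.maximalIdeal_eq_map
  -- approximation of elements of `I R'` by elements of `I`
  have happrox : ∀ g ∈ I.map φ, ∃ g' ∈ I, g - φ g' ∈ maximalIdeal R' * I.map φ := by
    intro g hg
    rw [Ideal.map, Ideal.span] at hg
    induction hg using Submodule.span_induction with
    | mem x hx =>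
      obtain ⟨f, hf, rfl⟩ := hx
      exact ⟨f, hf, by rw [sub_self]; exact zero_mem _⟩
    | zero => exact ⟨0, zero_mem _, by rw [map_zero, sub_zero]; exact zero_mem _⟩
    | add x y _ _ hx hy =>
      obtain ⟨x', hx', hxd⟩ := hx
      obtain ⟨y', hy', hyd⟩ := hy
      refine ⟨x' + y', add_mem hx' hy', ?_⟩
      have : x + y - φ (x' + y') = (x - φ x') + (y - φ y') := by rw [map_add]; ring
      rw [this]
      exact add_mem hxd hyd
    | smul a x hxI hx =>
      obtain ⟨x', hx', hxd⟩ := hx
      obtain ⟨r, hr⟩ := Groth.Agent.Lib.Helper76.ComplFacts.exists_sub_mem (maximalIdeal R) hmfg 1 a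
      rw [pow_one, ← hm'] at hr
      refine ⟨r * x', Ideal.mul_mem_left _ _ hx', ?_⟩
      have hxI' : x ∈ I.map φ := hxI
      have : a • x - φ (r * x') = (a - φ r) * x + φ r * (x - φ x') := by
        rw [smul_eq_mul, map_mul]; ring
      rw [this]
      exact add_mem (Ideal.mul_mem_mul hr hxI') (Ideal.mul_mem_left _ _ hxd)
  obtain ⟨s, hs, hspan⟩ := Submodule.FG.exists_span_finset_card_eq_spanFinrank hIfg
  have hsI : ∀ g ∈ s, g ∈ I.map φ := fun g hg => by
    rw [← hspan]; exact Submodule.subset_span hg
  choose! g' hg'I hg'd using happrox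
  let t : Finset R := s.image g'
  have htI : Ideal.span (t : Set R) ≤ I := by
    rw [Ideal.span_le]
    intro y hy
    obtain ⟨g, hg, rfl⟩ := Finset.mem_image.1 (Finset.mem_coe.1 hy)
    exact hg'I g (hsI g hg)
  have hle : I.map φ ≤ (Ideal.span (t : Set R)).map φ := by
    refine Submodule.le_of_le_smul_of_le_jacobson_bot (I := maximalIdeal R') hIfg ?_ ?_
    · rw [IsLocalRing.jacobson_eq_maximalIdeal ⊥ bot_ne_top]
    · rw [← hspan]
      refine Submodule.span_le.mpr ?_
      intro g hg
      have hgs : g ∈ s := Finset.mem_coe.1 hg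
      have hdecomp : g = φ (g' g) + (g - φ (g' g)) := by ring
      rw [hdecomp]
      refine Submodule.add_mem_sup ?_ ?_
      · exact Ideal.mem_map_of_mem φ (Ideal.subset_span
          (Finset.mem_coe.2 (Finset.mem_image_of_mem g' hgs)))
      · rw [hspan, smul_eq_mul]
        exact hg'd g (hsI g hgs)
  haveI : Module.FaithfullyFlat R R' := Module.FaithfullyFlat.of_flat_of_isLocalHom
  have heq : I = Ideal.span (t : Set R) := by
    apply le_antisymm _ htI
    rw [← Ideal.comap_map_eq_self_of_faithfullyFlat (B := R') I,
      ← Ideal.comap_map_eq_self_of_faithfullyFlat (B := R') (Ideal.span (t : Set R))]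
    exact Ideal.comap_mono hle
  calc I.spanFinrank = (Ideal.span (t : Set R)).spanFinrank := by rw [← heq]
    _ ≤ (t : Set R).ncard := Submodule.spanFinrank_span_le_ncard_of_finite t.finite_toSet
    _ = t.card := Set.ncard_coe_finset t
    _ ≤ s.card := Finset.card_image_le
    _ = _ := hs

end Groth.Agent.Lib.Helper76.CIDescent
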