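import Mathlib
import Groth.Prelude.Def_Pi1
import Groth.Agent.Lib.Helper56.CplQuot
import Groth.Agent.S0548

set_option autoImplicit false
universe u

namespace Groth.Agent.Lib.Helper76.CIQuot

open IsLocalRing RingTheory.Sequence Groth.Agent.Lib.Helper56 EGA4

/-- quotient of a regular local ring by a regular sequence in the maximal ideal is a complete
intersection (in the completion sense). -/
theorem isCompleteIntersection_quotient_of_isRegular (A : Type u) [CommRing A]
    [IsRegularLocalRing A] (rs : List A) (hmem : ∀ r ∈ rs, r ∈ maximalIdeal A)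
    (hreg : IsWeaklyRegular A rs) (J : Ideal A) (hJ : Ideal.ofList rs = J)
    [IsLocalRing (A ⧸ J)] :
    Pi1.IsCompleteIntersection (A ⧸ J) := by
  subst hJ
  haveI hregB : IsRegularLocalRing (AdicCompletion (maximalIdeal A) A) :=
    (Groth.Agent.S0548.result A).mp inferInstance
  have hwr : IsWeaklyRegular (AdicCompletion (maximalIdeal A) A)
      (rs.map (algebraMap A (AdicCompletion (maximalIdeal A) A))) := hreg.of_flat
  have hmem' : ∀ r ∈ rs.map (algebraMap A (AdicCompletion (maximalIdeal A) A)),
      r ∈ maximalIdeal (AdicCompletion (maximalIdeal A) A) := by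
    intro r hr
    obtain ⟨a, ha, rfl⟩ := List.mem_map.mp hr
    rw [AdicCompletion.maximalIdeal_eq_map]
    exact Ideal.mem_map_of_mem _ (hmem a ha)
  have hreg' : IsRegular (AdicCompletion (maximalIdeal A) A)
      (rs.map (algebraMap A (AdicCompletion (maximalIdeal A) A))) :=
    (IsLocalRing.isRegular_iff_isWeaklyRegular_of_subset_maximalIdeal hmem').mpr hwr
  haveI : Nontrivial (A ⧸ Ideal.ofList rs) := inferInstance
  refine ⟨AdicCompletion (maximalIdeal A) A, inferInstance, hregB,
    rs.map (algebraMap A (AdicCompletion (maximalIdeal A) A)), hmem', hreg', ?_⟩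
  have hsurj := cplMap_quot_surjective A (Ideal.ofList rs)
  have hker := ker_cplMap_quot A (Ideal.ofList rs)
  have hspan : Ideal.span {r | r ∈ rs.map (algebraMap A (AdicCompletion (maximalIdeal A) A))} =
      RingHom.ker (cplMap A (A ⧸ Ideal.ofList rs)) := by
    rw [hker, ← Ideal.ofList, ← Ideal.map_ofList]
  refine ⟨RingEquiv.symm ?_⟩
  exact (Ideal.quotEquivOfEq hspan).trans
    (RingHom.quotientKerEquivOfSurjective hsurj)

end Groth.Agent.Lib.Helper76.CIQuot
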