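import Mathlib
import Groth.Agent.Lib.Helper77.FlatDepth
import Groth.Agent.Lib.Helper6.FlatRegular

set_option autoImplicit false
universe u

namespace Groth.Agent.Lib.Helper76.TransReg

open IsLocalRing RingTheory.Sequence TensorProduct Groth.Agent.Lib.Helper77.FlatDepth
open scoped Pointwise

section

variable {A C : Type u} [CommRing A] [CommRing C] [IsLocalRing A] [IsLocalRing C]
  [IsNoetherianRing C] [Algebra A C] [IsLocalHom (algebraMap A C)]

/-- flatness of `N ⧸ ⊥ • ⊤` -/
theorem flat_quot_nil (N : Type u) [AddCommGroup N] [Module A N] [Module C N]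
    [IsScalarTower A C N] [Module.Flat A N] :
    Module.Flat A (N ⧸ (Ideal.ofList ([] : List C)) • (⊤ : Submodule C N)) := by
  have h : (Ideal.ofList ([] : List C)) • (⊤ : Submodule C N) = ⊥ := by
    rw [Ideal.ofList_nil, Submodule.bot_smul]
  exact Module.Flat.of_linearEquiv
    ((Submodule.quotEquivOfEqBot _ h).restrictScalars A)

/-- lifting regular sequences from the closed fibre, with flatness of all partial quotients -/
theorem isWeaklyRegular_of_fib (rs : List C) : ∀ (N : Type u) [AddCommGroup N] [Module A N]
    [Module C N] [IsScalarTower A C N] [Module.Finite C N] [Module.Flat A N],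
    IsWeaklyRegular (N ⧸ ((maximalIdeal A).map (algebraMap A C)) • (⊤ : Submodule C N)) rs →
    IsWeaklyRegular N rs ∧ ∀ j ≤ rs.length,
      Module.Flat A (N ⧸ (Ideal.ofList (rs.take j)) • (⊤ : Submodule C N)) := by
  induction rs with
  | nil =>
    intro N _ _ _ _ _ _ _
    refine ⟨IsWeaklyRegular.nil C N, fun j _ => ?_⟩
    rw [List.take_nil]
    exact flat_quot_nil N
  | cons y rs ih =>
    intro N _ _ _ _ _ _ h
    rw [isWeaklyRegular_cons_iff] at h
    obtain ⟨hy, hrs⟩ := h
    obtain ⟨h1, h2⟩ := regular_of_regular_fib N y hy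
    haveI : Module.Flat A (QuotSMulTop y N) := h2
    have hrs' : IsWeaklyRegular ((QuotSMulTop y N) ⧸ ((maximalIdeal A).map (algebraMap A C)) •
        (⊤ : Submodule C (QuotSMulTop y N))) rs :=
      (LinearEquiv.isWeaklyRegular_congr
        (fibQuotEquiv ((maximalIdeal A).map (algebraMap A C)) y N) rs).mpr hrs
    obtain ⟨h3, h4⟩ := ih (QuotSMulTop y N) hrs'
    refine ⟨(isWeaklyRegular_cons_iff N y rs).mpr ⟨h1, h3⟩, fun j hj => ?_⟩
    cases j with
    | zero =>
      rw [List.take_zero]
      exact flat_quot_nil N
    | succ j =>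
      rw [List.take_succ_cons]
      have hj' : j ≤ rs.length := by simpa using hj
      haveI := h4 j hj'
      exact Module.Flat.of_linearEquiv
        ((Submodule.quotOfListConsSMulTopEquivQuotSMulTopInner N y (rs.take j)).restrictScalars A)

/-- descending regular sequences to the closed fibre when all partial quotients are flat -/
theorem isWeaklyRegular_fib_of_flat (rs : List C) : ∀ (N : Type u) [AddCommGroup N] [Module A N]
    [Module C N] [IsScalarTower A C N],
    IsWeaklyRegular N rs →
    (∀ j ≤ rs.length, Module.Flat A (N ⧸ (Ideal.ofList (rs.take j)) • (⊤ : Submodule C N))) →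
    IsWeaklyRegular (N ⧸ ((maximalIdeal A).map (algebraMap A C)) • (⊤ : Submodule C N)) rs := by
  induction rs with
  | nil =>
    intro N _ _ _ _ _ _
    exact IsWeaklyRegular.nil C _
  | cons y rs ih =>
    intro N _ _ _ _ h hF
    rw [isWeaklyRegular_cons_iff] at h
    obtain ⟨hy, hrs⟩ := h
    -- flatness of `N/yN`
    have hflat1 : Module.Flat A (QuotSMulTop y N) := by
      haveI := hF 1 (by simp)
      have hbot : (Ideal.ofList ([] : List C)) • (⊤ : Submodule C (QuotSMulTop y N)) = ⊥ := by
        rw [Ideal.ofList_nil, Submodule.bot_smul]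
      have e := (Submodule.quotOfListConsSMulTopEquivQuotSMulTopInner N y []).trans
        (Submodule.quotEquivOfEqBot _ hbot)
      have h1 : (y :: rs).take 1 = [y] := by simp
      rw [h1] at this
      exact Module.Flat.of_linearEquiv (e.symm.restrictScalars A)
    -- regularity on the fibre
    have hyfib : IsSMulRegular
        (N ⧸ ((maximalIdeal A).map (algebraMap A C)) • (⊤ : Submodule C N)) y := by
      set u : N →ₗ[A] N := (LinearMap.lsmul C N y).restrictScalars A with hu
      set π : N →ₗ[A] QuotSMulTop y N :=
        (Submodule.mkQ (y • (⊤ : Submodule C N))).restrictScalars A with hπ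
      have huinj : Function.Injective u := hy
      have hex : Function.Exact u π := by
        intro n
        show (Submodule.mkQ (y • (⊤ : Submodule C N))) n = 0 ↔ n ∈ Set.range u
        rw [Submodule.mkQ_apply, Submodule.Quotient.mk_eq_zero,
          Submodule.mem_smul_pointwise_iff_exists]
        constructor
        · rintro ⟨b, -, rfl⟩
          exact ⟨b, rfl⟩
        · rintro ⟨b, rfl⟩
          exact ⟨b, trivial, rfl⟩
      have hπs : Function.Surjective π := fun q => Submodule.mkQ_surjective _ q
      have hinj : Function.Injective (u.lTensor (A ⧸ maximalIdeal A)) :=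
        Groth.Agent.Lib.Helper6.FlatRegular.lTensor_injective_of_exact_of_flat u π
          huinj hex hπs (A ⧸ maximalIdeal A)
      intro a b hab
      obtain ⟨n₁, rfl⟩ := Submodule.Quotient.mk_surjective _ a
      obtain ⟨n₂, rfl⟩ := Submodule.Quotient.mk_surjective _ b
      simp only at hab
      rw [← Submodule.Quotient.mk_smul, ← Submodule.Quotient.mk_smul, Submodule.Quotient.eq,
        ← smul_sub, mem_map_smul_top_iff (B := C)] at hab
      rw [Submodule.Quotient.eq, mem_map_smul_top_iff (B := C)]
      apply hinj
      rw [map_zero]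
      exact hab
    refine (isWeaklyRegular_cons_iff
      (N ⧸ ((maximalIdeal A).map (algebraMap A C)) • (⊤ : Submodule C N)) y rs).mpr ⟨hyfib, ?_⟩
    haveI := hflat1
    have hF' : ∀ j ≤ rs.length, Module.Flat A
        ((QuotSMulTop y N) ⧸ (Ideal.ofList (rs.take j)) • (⊤ : Submodule C (QuotSMulTop y N))) := by
      intro j hj
      haveI := hF (j + 1) (by simpa using hj)
      have h1 : (y :: rs).take (j + 1) = y :: rs.take j := List.take_succ_cons
      rw [h1] at this
      exact Module.Flat.of_linearEquiv
        ((Submodule.quotOfListConsSMulTopEquivQuotSMulTopInner N y (rs.take j)).symm.restrictScalars A)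
    have h5 := ih (QuotSMulTop y N) hrs hF'
    exact (LinearEquiv.isWeaklyRegular_congr
      (fibQuotEquiv ((maximalIdeal A).map (algebraMap A C)) y N) rs).mp h5

end

end Groth.Agent.Lib.Helper76.TransReg
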