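import Mathlib
import Groth.Prelude.Def_Found
import Groth.Agent.Lib.Helper49.GRingFT
import Groth.Agent.Lib.Helper58.ExcellentLoc

/-!
# [GA] of helper34's open call for S7202 (helper76)

The local ring at a prime of a finite type `Λ₀`-algebra, lying over a prime `r` of `Λ₀` such that
`(Λ₀)_r` is a G-ring, is a G-ring.
-/

set_option autoImplicit false
universe u
open IsLocalRing CategoryTheory AlgebraicGeometry

namespace Groth.Agent.Lib.Helper76.AA7202GA

theorem ga {Λ₀ A₀ : Type u} [CommRing Λ₀] [CommRing A₀] [Algebra Λ₀ A₀]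
    [IsNoetherianRing Λ₀] [Algebra.FiniteType Λ₀ A₀]
    (p : Ideal A₀) [p.IsPrime] (r : Ideal Λ₀) [r.IsPrime]
    (Λ : Type u) [CommRing Λ] [Algebra Λ₀ Λ] [IsLocalization.AtPrime Λ r] (hG : CAlg.IsGRing Λ)
    (A : Type u) [CommRing A] [IsLocalRing A] [Algebra A₀ A] [IsLocalization.AtPrime A p]
    (ρ : Λ →+* A) [IsLocalHom ρ]
    (hρ : ∀ l : Λ₀, ρ (algebraMap Λ₀ Λ l) = algebraMap A₀ A (algebraMap Λ₀ A₀ l)) :
    CAlg.IsGRing A := by
  let f : Λ₀ →+* A₀ := algebraMap Λ₀ A₀
  let M : Submonoid Λ₀ := r.primeCompl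
  -- the image of `Λ₀ \ r` avoids `p`
  have hle : M.map f ≤ p.primeCompl := by
    rintro _ ⟨l, hl, rfl⟩
    have h1 : IsUnit (algebraMap Λ₀ Λ l) := IsLocalization.map_units Λ (⟨l, hl⟩ : r.primeCompl)
    have h2 : IsUnit (algebraMap A₀ A (f l)) := by
      rw [← hρ l]; exact h1.map ρ
    exact (IsLocalization.AtPrime.isUnit_to_map_iff A p (f l)).1 h2
  -- `A₁ = (Λ₀ \ r)⁻¹ A₀` is a finite type `Λ`-algebra
  let A₁ := Localization (M.map f)
  let g : Λ →+* A₁ := IsLocalization.map A₁ f (Submonoid.le_comap_map M)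
  have hg : g.FiniteType :=
    RingHom.finiteType_localizationPreserves f M Λ A₁
      (RingHom.finiteType_algebraMap.2 inferInstance)
  letI : Algebra Λ A₁ := g.toAlgebra
  haveI : Algebra.FiniteType Λ A₁ := hg
  have hA₁ : CAlg.IsGRing A₁ := Groth.Agent.Lib.Helper49.GRingFT.isGRing_of_finiteType Λ hG A₁
  -- `A` is a localization of `A₁`
  letI : Algebra A₁ A := IsLocalization.localizationAlgebraOfSubmonoidLe A₁ A (M.map f)
    p.primeCompl hle
  haveI : IsScalarTower A₀ A₁ A :=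
    IsLocalization.localization_isScalarTower_of_submonoid_le A₁ A (M.map f) p.primeCompl hle
  haveI : IsLocalization (p.primeCompl.map (algebraMap A₀ A₁)) A :=
    IsLocalization.isLocalization_of_submonoid_le A₁ A (M.map f) p.primeCompl hle
  exact Groth.Agent.Lib.Helper58.ExcellentLoc.isGRing_localization A₁ hA₁
    (p.primeCompl.map (algebraMap A₀ A₁)) A

end Groth.Agent.Lib.Helper76.AA7202GA
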