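import Groth.Prelude.Def_ArtFun3
import Mathlib.RingTheory.Artinian.Ring
import Mathlib.RingTheory.HopkinsLevitzki
import Mathlib.RingTheory.Nakayama
import Mathlib.RingTheory.Ideal.Quotient.Operations
import Mathlib.Order.Cover

/-!
# Basic structure of the category `ArtFun.Art Λ k`

Kernel of a morphism lies in the maximal ideal, isomorphisms are the bijective morphisms,
quotient objects, covering ideals give small extensions, and the induction principle
"a property of morphisms true for isomorphisms and small extensions and stable under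
composition is true for all surjections".
-/

set_option autoImplicit false
universe u v

open CategoryTheory ArtFun ArtFun.Art

namespace Groth.Agent.Lib.Helper76

variable {Λ : Type u} {k : Type u} [CommRing Λ] [Field k] [Algebra Λ k]

/-- The kernel of a morphism of `Art Λ k` is contained in the maximal ideal. -/
theorem ker_le_maximalIdeal {B A : Art Λ k} (p : B ⟶ A) :
    RingHom.ker p.toAlgHom ≤ IsLocalRing.maximalIdeal B := by
  intro x hx
  rw [Art.mem_maximalIdeal_iff, ← Art.res_app p x]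
  have : p.toAlgHom x = 0 := hx
  show A.res (p.toAlgHom x) = 0
  rw [this, map_zero]

/-- A bijective morphism is an isomorphism. -/
theorem isIso_of_bijective {B A : Art Λ k} (p : B ⟶ A) (hp : Function.Bijective p) : IsIso p := by
  let e : B ≃ₐ[Λ] A := AlgEquiv.ofBijective p.toAlgHom hp
  refine ⟨⟨⟨e.symm.toAlgHom, ?_⟩, ?_, ?_⟩⟩
  · apply AlgHom.ext
    intro a
    obtain ⟨b, rfl⟩ := hp.2 a
    show B.res (e.symm (e b)) = A.res (p b)
    rw [AlgEquiv.symm_apply_apply, Art.res_app]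
  · apply Art.hom_ext
    apply AlgHom.ext
    intro b
    show e.symm (e b) = b
    exact e.symm_apply_apply b
  · apply Art.hom_ext
    apply AlgHom.ext
    intro a
    show e (e.symm a) = a
    exact e.apply_symm_apply a

theorem bijective_of_isIso {B A : Art Λ k} (p : B ⟶ A) [IsIso p] : Function.Bijective p := by
  constructor
  · intro x y h
    have := congrArg (inv p) h
    rwa [← Art.comp_apply, ← Art.comp_apply, IsIso.hom_inv_id] at this
  · intro a
    refine ⟨inv p a, ?_⟩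
    rw [← Art.comp_apply, IsIso.inv_hom_id]
    rfl

section Quot

variable (B : Art Λ k)

theorem quotMk_eq_zero_iff (J : Ideal B) (hJ : J ≤ IsLocalRing.maximalIdeal B) (b : B) :
    quotMk B J hJ b = 0 ↔ b ∈ J :=
  Ideal.Quotient.eq_zero_iff_mem

theorem quotMk_eq_iff (J : Ideal B) (hJ : J ≤ IsLocalRing.maximalIdeal B) (b₁ b₂ : B) :
    quotMk B J hJ b₁ = quotMk B J hJ b₂ ↔ b₁ - b₂ ∈ J :=
  Ideal.Quotient.eq

theorem ker_quotMk (J : Ideal B) (hJ : J ≤ IsLocalRing.maximalIdeal B) :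
    RingHom.ker (quotMk B J hJ).toAlgHom = J := by
  ext x
  rw [RingHom.mem_ker]
  exact quotMk_eq_zero_iff B J hJ x

theorem quotFactor_quotMk {A : Art Λ k} {J : Ideal B} (hJ : J ≤ IsLocalRing.maximalIdeal B)
    (p : B ⟶ A) (hp : J ≤ RingHom.ker p.toAlgHom) (b : B) :
    quotFactor hJ p hp (quotMk B J hJ b) = p b := rfl

/-- The canonical morphism `B/J' ⟶ B/J` for `J' ≤ J`. -/
noncomputable def quotTrans {J' J : Ideal B} (hJ : J ≤ IsLocalRing.maximalIdeal B) (h : J' ≤ J) :
    quot B J' (h.trans hJ) ⟶ quot B J hJ :=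
  quotFactor (h.trans hJ) (quotMk B J hJ) (by rw [ker_quotMk]; exact h)

theorem quotTrans_quotMk {J' J : Ideal B} (hJ : J ≤ IsLocalRing.maximalIdeal B) (h : J' ≤ J)
    (b : B) : quotTrans B hJ h (quotMk B J' (h.trans hJ) b) = quotMk B J hJ b := rfl

theorem quotMk_quotTrans {J' J : Ideal B} (hJ : J ≤ IsLocalRing.maximalIdeal B) (h : J' ≤ J) :
    quotMk B J' (h.trans hJ) ≫ quotTrans B hJ h = quotMk B J hJ :=
  quotMk_quotFactor _ _ _

theorem quotTrans_surjective {J' J : Ideal B} (hJ : J ≤ IsLocalRing.maximalIdeal B) (h : J' ≤ J) :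
    Function.Surjective (quotTrans B hJ h) := by
  intro y
  obtain ⟨b, rfl⟩ := quotMk_surjective B J hJ y
  exact ⟨quotMk B J' (h.trans hJ) b, rfl⟩

theorem mem_map_quotMk_iff {J' : Ideal B} (hJ' : J' ≤ IsLocalRing.maximalIdeal B) (I : Ideal B)
    (hI : J' ≤ I) (b : B) :
    quotMk B J' hJ' b ∈ I.map (quotMk B J' hJ').toAlgHom ↔ b ∈ I := by
  constructor
  · intro hb
    rw [Ideal.mem_map_iff_of_surjective _ (quotMk_surjective B J' hJ')] at hb
    obtain ⟨c, hc, hcb⟩ := hb
    have : c - b ∈ J' := (quotMk_eq_iff B J' hJ' c b).mp hcb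
    have hb' : b = c - (c - b) := by ring
    rw [hb']
    exact I.sub_mem hc (hI this)
  · intro hb
    exact Ideal.mem_map_of_mem _ hb

theorem ker_quotTrans {J' J : Ideal B} (hJ : J ≤ IsLocalRing.maximalIdeal B) (h : J' ≤ J) :
    RingHom.ker (quotTrans B hJ h).toAlgHom = J.map (quotMk B J' (h.trans hJ)).toAlgHom := by
  ext y
  obtain ⟨b, rfl⟩ := quotMk_surjective B J' (h.trans hJ) y
  rw [RingHom.mem_ker, mem_map_quotMk_iff B (h.trans hJ) J h]
  exact quotMk_eq_zero_iff B J hJ b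

theorem quotTrans_comp_quotFactor {A : Art Λ k} {J' J : Ideal B}
    (hJ : J ≤ IsLocalRing.maximalIdeal B) (h : J' ≤ J) (p : B ⟶ A)
    (hp : J ≤ RingHom.ker p.toAlgHom) :
    quotTrans B hJ h ≫ quotFactor hJ p hp = quotFactor (h.trans hJ) p (h.trans hp) := by
  apply Art.hom_ext
  apply AlgHom.ext
  intro y
  obtain ⟨b, rfl⟩ := quotMk_surjective B J' (h.trans hJ) y
  rfl

theorem maximalIdeal_quot (J : Ideal B) (hJ : J ≤ IsLocalRing.maximalIdeal B) :
    IsLocalRing.maximalIdeal (quot B J hJ) =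
      (IsLocalRing.maximalIdeal B).map (quotMk B J hJ).toAlgHom := by
  ext y
  obtain ⟨b, rfl⟩ := quotMk_surjective B J hJ y
  rw [Art.mem_maximalIdeal_iff, Art.res_app, ← Art.mem_maximalIdeal_iff,
    mem_map_quotMk_iff B hJ _ hJ]

/-- Below a nonzero ideal `J` of an Artinian local ring there is an ideal `J'` containing `𝔪 J`
with `J = J' + (x)`. -/
theorem exists_lt_sup_span (J : Ideal B) (hJ0 : J ≠ ⊥) :
    ∃ (J' : Ideal B) (x : B), J' < J ∧ x ∈ J ∧ x ∉ J' ∧ J' ⊔ Ideal.span {x} = J ∧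
      IsLocalRing.maximalIdeal B * J ≤ J' := by
  have hN : IsNoetherianRing B := inferInstance
  have hwf : WellFoundedGT (Ideal B) := inferInstance
  obtain ⟨J', hJ'lt, hmax⟩ := hwf.wf.has_min {I : Ideal B | I < J} ⟨⊥, bot_lt_iff_ne_bot.mpr hJ0⟩
  have hJ'lt' : J' < J := hJ'lt
  obtain ⟨x, hxJ, hxJ'⟩ := SetLike.exists_of_lt hJ'lt'
  have hsup : J' ⊔ Ideal.span {x} = J := by
    have hle : J' ⊔ Ideal.span {x} ≤ J :=
      sup_le hJ'lt'.le ((Ideal.span_singleton_le_iff_mem _).mpr hxJ)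
    by_contra hne
    have hlt : J' ⊔ Ideal.span {x} < J := lt_of_le_of_ne hle hne
    have hgt : J' < J' ⊔ Ideal.span {x} := by
      refine lt_of_le_of_ne le_sup_left (fun h => hxJ' ?_)
      rw [h]
      exact Ideal.mem_sup_right (Ideal.mem_span_singleton_self x)
    exact hmax _ hlt hgt
  refine ⟨J', x, hJ'lt', hxJ, hxJ', hsup, ?_⟩
  -- Nakayama
  by_contra hnot
  have hle : J' ⊔ IsLocalRing.maximalIdeal B * J ≤ J :=
    sup_le hJ'lt'.le Ideal.mul_le_right
  have hgt : J' < J' ⊔ IsLocalRing.maximalIdeal B * J :=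
    lt_of_le_of_ne le_sup_left (fun h => hnot (h ▸ le_sup_right))
  have heq : J' ⊔ IsLocalRing.maximalIdeal B * J = J := by
    by_contra hne
    exact hmax _ (lt_of_le_of_ne hle hne) hgt
  have hfg : (J : Submodule B B).FG := IsNoetherian.noetherian J
  have hjac : IsLocalRing.maximalIdeal B ≤ Ideal.jacobson ⊥ := by
    rw [IsLocalRing.jacobson_eq_maximalIdeal ⊥ bot_ne_top]
  have : J ≤ J' := by
    apply Submodule.le_of_le_smul_of_le_jacobson_bot hfg hjac
    rw [Ideal.smul_eq_mul]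
    exact heq.ge
  exact (lt_irrefl _ (lt_of_le_of_lt this hJ'lt'))

/-- The small extension `B/J' ⟶ B/J` attached to a covering pair of ideals. -/
theorem isSmallExt_quotTrans {J' J : Ideal B} (hJ : J ≤ IsLocalRing.maximalIdeal B) (h : J' ≤ J)
    (x : B) (hxJ' : x ∉ J') (hsup : J' ⊔ Ideal.span {x} = J)
    (hm : IsLocalRing.maximalIdeal B * J ≤ J') :
    IsSmallExt (quotTrans B hJ h) := by
  subst hsup
  have hJ'm : J' ≤ IsLocalRing.maximalIdeal B := h.trans hJ
  have hbot : J'.map (quotMk B J' hJ'm).toAlgHom = ⊥ := by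
    rw [eq_bot_iff]
    rw [Ideal.map_le_iff_le_comap]
    intro c hc
    rw [Ideal.mem_comap, Ideal.mem_bot]
    exact (quotMk_eq_zero_iff B J' hJ'm c).mpr hc
  have hker : RingHom.ker (quotTrans B hJ h).toAlgHom =
      Ideal.span {quotMk B J' hJ'm x} := by
    rw [ker_quotTrans, Ideal.map_sup, hbot, bot_sup_eq, Ideal.map_span,
      Set.image_singleton]
  refine ⟨quotTrans_surjective B hJ h, ?_, ?_, ?_⟩
  · rw [hker, Ne, Ideal.span_singleton_eq_bot, quotMk_eq_zero_iff]
    exact hxJ'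
  · rw [hker]
    exact ⟨⟨_, rfl⟩⟩
  · rw [ker_quotTrans, maximalIdeal_quot, ← Ideal.map_mul, eq_bot_iff]
    exact (Ideal.map_mono hm).trans hbot.le

end Quot

/-- **Induction principle**: a property of morphisms of `Art Λ k` which holds for isomorphisms and
small extensions and is stable under composition holds for every surjective morphism. -/
theorem surjective_induction
    (P : ∀ ⦃A B : Art Λ k⦄, (B ⟶ A) → Prop)
    (hiso : ∀ ⦃A B : Art Λ k⦄ (e : B ⟶ A), IsIso e → P e)
    (hsmall : ∀ ⦃A B : Art Λ k⦄ (p : B ⟶ A), IsSmallExt p → P p)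
    (hcomp : ∀ ⦃A B C : Art Λ k⦄ (p : C ⟶ B) (q : B ⟶ A), P p → P q → P (p ≫ q))
    ⦃A B : Art Λ k⦄ (f : B ⟶ A) (hf : Function.Surjective f) : P f := by
  have hkm := ker_le_maximalIdeal f
  let S : Set (Ideal B) := {J | ∃ (hJ : J ≤ RingHom.ker f.toAlgHom),
    P (quotFactor (hJ.trans hkm) f hJ)}
  have hker : RingHom.ker f.toAlgHom ∈ S := by
    refine ⟨le_rfl, hiso _ (isIso_of_bijective _ ⟨?_, ?_⟩)⟩
    · intro y₁ y₂ h
      obtain ⟨b₁, rfl⟩ := quotMk_surjective B _ hkm y₁
      obtain ⟨b₂, rfl⟩ := quotMk_surjective B _ hkm y₂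
      have h' : f b₁ = f b₂ := h
      rw [quotMk_eq_iff, RingHom.mem_ker, map_sub]
      exact sub_eq_zero.mpr h'
    · intro a
      obtain ⟨b, rfl⟩ := hf a
      exact ⟨quotMk B _ hkm b, rfl⟩
  have hwf : WellFoundedLT (Ideal B) := inferInstance
  obtain ⟨J, ⟨hJ, hPJ⟩, hmin⟩ := hwf.wf.has_min S ⟨_, hker⟩
  have hJm : J ≤ IsLocalRing.maximalIdeal B := hJ.trans hkm
  by_cases hJ0 : J = ⊥
  · subst hJ0
    have hiso' : IsIso (quotMk B ⊥ hJm) := by
      apply isIso_of_bijective
      refine ⟨?_, quotMk_surjective B ⊥ hJm⟩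
      intro b₁ b₂ h
      rw [quotMk_eq_iff, Ideal.mem_bot] at h
      exact sub_eq_zero.mp h
    have := hcomp _ _ (hiso _ hiso') hPJ
    rwa [quotMk_quotFactor] at this
  · exfalso
    obtain ⟨J', x, hlt, hxJ, hxJ', hsup, hm⟩ := exists_lt_sup_span B J hJ0
    have hsm := isSmallExt_quotTrans B hJm hlt.le x hxJ' hsup hm
    have := hcomp _ _ (hsmall _ hsm) hPJ
    rw [quotTrans_comp_quotFactor] at this
    exact hmin J' ⟨hlt.le.trans hJ, this⟩ hlt

end Groth.Agent.Lib.Helper76
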