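import Groth.Agent.Lib.Helper76.ArtBasic
import Mathlib.RingTheory.LocalRing.Pullback
import Mathlib.RingTheory.HopkinsLevitzki
import Mathlib.RingTheory.Noetherian.Basic
import Mathlib.RingTheory.Ideal.Quotient.Operations

/-!
# Fibre products in `ArtFun.Art Λ k`

For `Λ` Noetherian and `Λ → k` finite, every object of `Art Λ k` is a finite `Λ`-module; the
set-theoretic fibre product `A₁ ×_A A₂` with `A₂ → A` surjective is again an object.  We also give
the universal property of a pinned fibre product square (`IsFibreProd`) and the pasting lemma.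
-/

set_option autoImplicit false
universe u v

open CategoryTheory ArtFun ArtFun.Art

namespace Groth.Agent.Lib.Helper76

variable {Λ : Type u} {k : Type u} [CommRing Λ] [Field k] [Algebra Λ k]

section Finite

variable [Module.Finite Λ k]

/-- Objects of `Art Λ k` are finite `Λ`-modules when `k` is. -/
theorem finite_carrier (A : Art Λ k) : Module.Finite Λ A := by
  have e : (A ⧸ RingHom.ker (A.res : A →+* k)) ≃ₐ[Λ] k :=
    Ideal.quotientKerAlgEquivOfSurjective (f := A.res) A.res_surjective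
  have hker : RingHom.ker (A.res : A →+* k) = Ring.jacobson A := by
    rw [IsLocalRing.ringJacobson_eq_maximalIdeal]
    ext a
    rw [RingHom.mem_ker, Art.mem_maximalIdeal_iff]
    rfl
  have : Module.Finite Λ (A ⧸ Ring.jacobson A) := by
    rw [← hker]
    exact Module.Finite.equiv e.symm.toLinearEquiv
  exact IsSemiprimaryRing.finite_of_isArtinian Λ A A

end Finite

section Pullback

variable [IsNoetherianRing Λ] [Module.Finite Λ k]
variable {A A₁ A₂ : Art Λ k} (f₁ : A₁ ⟶ A) (f₂ : A₂ ⟶ A)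

/-- The set-theoretic fibre product as a subalgebra. -/
abbrev pb : Subalgebra Λ (A₁ × A₂) := AlgHom.pullback f₁.toAlgHom f₂.toAlgHom

theorem mem_pb_iff (x : A₁ × A₂) : x ∈ pb f₁ f₂ ↔ f₁ x.1 = f₂ x.2 := Iff.rfl

instance isLocalRing_pb : IsLocalRing (pb f₁ f₂) :=
  haveI := Art.isLocalHom f₂
  AlgHom.isLocalRing_pullback f₁.toAlgHom f₂.toAlgHom

theorem isNoetherianRing_pb : IsNoetherianRing (pb f₁ f₂) := by
  have h1 := finite_carrier A₁
  have h2 := finite_carrier A₂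
  have : IsNoetherian Λ (A₁ × A₂) := isNoetherian_of_isNoetherianRing_of_finite Λ (A₁ × A₂)
  have : IsNoetherian Λ (pb f₁ f₂) :=
    isNoetherian_of_injective (Subalgebra.toSubmodule (pb f₁ f₂)).subtype Subtype.val_injective
  exact isNoetherian_of_tower Λ this

theorem fst_mem_maximalIdeal_of_mem (x : pb f₁ f₂)
    (hx : x ∈ IsLocalRing.maximalIdeal (pb f₁ f₂)) :
    (x : A₁ × A₂).1 ∈ IsLocalRing.maximalIdeal A₁ := by
  rw [IsLocalRing.mem_maximalIdeal, mem_nonunits_iff] at hx ⊢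
  intro hu
  apply hx
  have hu2 : IsUnit (x : A₁ × A₂).2 := by
    haveI := Art.isLocalHom f₂
    apply isUnit_of_map_unit f₂.toAlgHom
    have := x.2
    rw [mem_pb_iff] at this
    show IsUnit (f₂ (x : A₁ × A₂).2)
    rw [← this]
    exact hu.map f₁.toAlgHom
  have := (AlgHom.isUnit_pullback_mk_iff f₁.toAlgHom f₂.toAlgHom x.2).mpr ⟨hu, hu2⟩
  exact this

theorem snd_mem_maximalIdeal_of_mem (x : pb f₁ f₂)
    (hx : x ∈ IsLocalRing.maximalIdeal (pb f₁ f₂)) :
    (x : A₁ × A₂).2 ∈ IsLocalRing.maximalIdeal A₂ := by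
  have h1 := fst_mem_maximalIdeal_of_mem f₁ f₂ x hx
  rw [Art.mem_maximalIdeal_iff] at h1 ⊢
  have := x.2
  rw [mem_pb_iff] at this
  rw [← Art.res_app f₂, ← this, Art.res_app f₁, h1]

theorem isNilpotent_maximalIdeal_pb : IsNilpotent (IsLocalRing.maximalIdeal (pb f₁ f₂)) := by
  obtain ⟨n₁, hn₁⟩ := IsArtinianRing.isNilpotent_jacobson_bot (R := A₁)
  obtain ⟨n₂, hn₂⟩ := IsArtinianRing.isNilpotent_jacobson_bot (R := A₂)
  rw [IsLocalRing.jacobson_eq_maximalIdeal ⊥ bot_ne_top] at hn₁ hn₂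
  refine ⟨n₁ + n₂, ?_⟩
  rw [Ideal.zero_eq_bot, eq_bot_iff]
  have hle1 : IsLocalRing.maximalIdeal (pb f₁ f₂) ≤
      (IsLocalRing.maximalIdeal A₁).comap (AlgHom.pullbackFst f₁.toAlgHom f₂.toAlgHom) :=
    fun x hx => fst_mem_maximalIdeal_of_mem f₁ f₂ x hx
  have hle2 : IsLocalRing.maximalIdeal (pb f₁ f₂) ≤
      (IsLocalRing.maximalIdeal A₂).comap (AlgHom.pullbackSnd f₁.toAlgHom f₂.toAlgHom) :=
    fun x hx => snd_mem_maximalIdeal_of_mem f₁ f₂ x hx
  intro x hx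
  have hx1 : x ∈ IsLocalRing.maximalIdeal (pb f₁ f₂) ^ n₁ :=
    Ideal.pow_le_pow_right (Nat.le_add_right n₁ n₂) hx
  have hx2 : x ∈ IsLocalRing.maximalIdeal (pb f₁ f₂) ^ n₂ :=
    Ideal.pow_le_pow_right (Nat.le_add_left n₂ n₁) hx
  have h1 : (x : A₁ × A₂).1 = 0 := by
    have := (Ideal.pow_right_mono hle1 n₁).trans (Ideal.le_comap_pow _ n₁) hx1
    rw [Ideal.mem_comap, hn₁] at this
    exact this
  have h2 : (x : A₁ × A₂).2 = 0 := by
    have := (Ideal.pow_right_mono hle2 n₂).trans (Ideal.le_comap_pow _ n₂) hx2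
    rw [Ideal.mem_comap, hn₂] at this
    exact this
  rw [Ideal.mem_bot]
  exact Subtype.ext (Prod.ext h1 h2)

theorem isArtinianRing_pb : IsArtinianRing (pb f₁ f₂) := by
  haveI := isNoetherianRing_pb f₁ f₂
  rw [isArtinianRing_iff_isNilpotent_maximalIdeal]
  exact isNilpotent_maximalIdeal_pb f₁ f₂

/-- The fibre product `A₁ ×_A A₂` as an object of `Art Λ k`, when `A₂ → A` is surjective. -/
noncomputable def fibreProd (hf₂ : Function.Surjective f₂) : Art Λ k :=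
  { carrier := pb f₁ f₂
    isLocalRing := isLocalRing_pb f₁ f₂
    isArtinianRing := isArtinianRing_pb f₁ f₂
    res := A₁.res.comp (AlgHom.pullbackFst f₁.toAlgHom f₂.toAlgHom)
    res_surjective := fun c => by
      obtain ⟨a₁, ha₁⟩ := A₁.res_surjective c
      obtain ⟨a₂, ha₂⟩ := hf₂ (f₁ a₁)
      exact ⟨⟨(a₁, a₂), ha₂.symm⟩, ha₁⟩ }

/-- First projection. -/
noncomputable def fibreProdFst (hf₂ : Function.Surjective f₂) : fibreProd f₁ f₂ hf₂ ⟶ A₁ :=
  ⟨AlgHom.pullbackFst f₁.toAlgHom f₂.toAlgHom, rfl⟩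

/-- Second projection. -/
noncomputable def fibreProdSnd (hf₂ : Function.Surjective f₂) : fibreProd f₁ f₂ hf₂ ⟶ A₂ :=
  ⟨AlgHom.pullbackSnd f₁.toAlgHom f₂.toAlgHom, by
    apply AlgHom.ext
    rintro ⟨⟨a₁, a₂⟩, hx⟩
    show A₂.res a₂ = A₁.res a₁
    rw [mem_pb_iff] at hx
    rw [← Art.res_app f₂, ← hx, Art.res_app f₁]⟩

theorem isFibreProd_fibreProd (hf₂ : Function.Surjective f₂) :
    IsFibreProd (fibreProdFst f₁ f₂ hf₂) (fibreProdSnd f₁ f₂ hf₂) f₁ f₂ where
  w := by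
    apply Art.hom_ext
    apply AlgHom.ext
    intro x
    exact x.2
  inj b₁ b₂ h₁ h₂ := Subtype.ext (Prod.ext h₁ h₂)
  surj a' a'' h := ⟨⟨(a', a''), h⟩, rfl, rfl⟩

end Pullback

section Universal

variable {B A A' A'' : Art Λ k} {p' : B ⟶ A'} {p'' : B ⟶ A''} {f' : A' ⟶ A} {f'' : A'' ⟶ A}

/-- The comparison equivalence of a pinned fibre product with the set-theoretic one. -/
noncomputable def fp_equiv (h : IsFibreProd p' p'' f' f'') :
    B ≃ₐ[Λ] AlgHom.pullback f'.toAlgHom f''.toAlgHom :=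
  AlgEquiv.ofBijective
    ((AlgHom.prod p'.toAlgHom p''.toAlgHom).codRestrict _ (fun b => h.w_apply b))
    ⟨fun b₁ b₂ hb => h.inj b₁ b₂ (congrArg (fun t => (Subtype.val t).1) hb)
        (congrArg (fun t => (Subtype.val t).2) hb),
      fun x => by
        obtain ⟨b, hb₁, hb₂⟩ := h.surj _ _ x.2
        exact ⟨b, Subtype.ext (Prod.ext hb₁ hb₂)⟩⟩

theorem fp_equiv_apply_fst (h : IsFibreProd p' p'' f' f'') (b : B) :
    (((fp_equiv h) b : AlgHom.pullback f'.toAlgHom f''.toAlgHom) : A' × A'').1 = p' b := rfl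

theorem fp_equiv_apply_snd (h : IsFibreProd p' p'' f' f'') (b : B) :
    (((fp_equiv h) b : AlgHom.pullback f'.toAlgHom f''.toAlgHom) : A' × A'').2 = p'' b := rfl

theorem fp_fst_equiv_symm (h : IsFibreProd p' p'' f' f'')
    (x : AlgHom.pullback f'.toAlgHom f''.toAlgHom) : p' ((fp_equiv h).symm x) = (x : A' × A'').1 := by
  conv_rhs => rw [← (fp_equiv h).apply_symm_apply x]
  rfl

theorem fp_snd_equiv_symm (h : IsFibreProd p' p'' f' f'')
    (x : AlgHom.pullback f'.toAlgHom f''.toAlgHom) : p'' ((fp_equiv h).symm x) = (x : A' × A'').2 := by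
  conv_rhs => rw [← (fp_equiv h).apply_symm_apply x]
  rfl

/-- Algebra maps into a fibre product. -/
noncomputable def fp_liftAlgHom (h : IsFibreProd p' p'' f' f'') {R : Type u} [CommRing R]
    [Algebra Λ R] (φ' : R →ₐ[Λ] A') (φ'' : R →ₐ[Λ] A'')
    (hφ : f'.toAlgHom.comp φ' = f''.toAlgHom.comp φ'') : R →ₐ[Λ] B :=
  ((fp_equiv h).symm : AlgHom.pullback f'.toAlgHom f''.toAlgHom →ₐ[Λ] B).comp
    ((AlgHom.prod φ' φ'').codRestrict _ (fun r => AlgHom.congr_fun hφ r))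

theorem fp_fst_liftAlgHom (h : IsFibreProd p' p'' f' f'') {R : Type u} [CommRing R]
    [Algebra Λ R] (φ' : R →ₐ[Λ] A') (φ'' : R →ₐ[Λ] A'')
    (hφ : f'.toAlgHom.comp φ' = f''.toAlgHom.comp φ'') :
    p'.toAlgHom.comp (fp_liftAlgHom h φ' φ'' hφ) = φ' := by
  apply AlgHom.ext
  intro r
  exact fp_fst_equiv_symm h _

theorem fp_snd_liftAlgHom (h : IsFibreProd p' p'' f' f'') {R : Type u} [CommRing R]
    [Algebra Λ R] (φ' : R →ₐ[Λ] A') (φ'' : R →ₐ[Λ] A'')
    (hφ : f'.toAlgHom.comp φ' = f''.toAlgHom.comp φ'') :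
    p''.toAlgHom.comp (fp_liftAlgHom h φ' φ'' hφ) = φ'' := by
  apply AlgHom.ext
  intro r
  exact fp_snd_equiv_symm h _

/-- Morphisms of `Art Λ k` into a fibre product. -/
noncomputable def fp_lift (h : IsFibreProd p' p'' f' f'') {C : Art Λ k}
    (g' : C ⟶ A') (g'' : C ⟶ A'') (hg : g' ≫ f' = g'' ≫ f'') : C ⟶ B :=
  ⟨fp_liftAlgHom h g'.toAlgHom g''.toAlgHom (congrArg Art.Hom.toAlgHom hg), by
    rw [← p'.res_comp, AlgHom.comp_assoc, fp_fst_liftAlgHom h, g'.res_comp]⟩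

theorem fp_lift_fst (h : IsFibreProd p' p'' f' f'') {C : Art Λ k}
    (g' : C ⟶ A') (g'' : C ⟶ A'') (hg : g' ≫ f' = g'' ≫ f'') : fp_lift h g' g'' hg ≫ p' = g' :=
  Art.hom_ext (fp_fst_liftAlgHom h _ _ (congrArg Art.Hom.toAlgHom hg))

theorem fp_lift_snd (h : IsFibreProd p' p'' f' f'') {C : Art Λ k}
    (g' : C ⟶ A') (g'' : C ⟶ A'') (hg : g' ≫ f' = g'' ≫ f'') : fp_lift h g' g'' hg ≫ p'' = g'' :=
  Art.hom_ext (fp_snd_liftAlgHom h _ _ (congrArg Art.Hom.toAlgHom hg))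

theorem fp_hom_ext (h : IsFibreProd p' p'' f' f'') {C : Art Λ k} {g₁ g₂ : C ⟶ B}
    (h' : g₁ ≫ p' = g₂ ≫ p') (h'' : g₁ ≫ p'' = g₂ ≫ p'') : g₁ = g₂ := by
  apply Art.hom_ext
  apply AlgHom.ext
  intro c
  apply h.inj
  · exact congrArg (fun (t : C ⟶ A') => t c) h'
  · exact congrArg (fun (t : C ⟶ A'') => t c) h''

/-- Elements of `h_R` of a fibre product. -/
noncomputable def fp_liftHomSet (h : IsFibreProd p' p'' f' f'') {R : Type u} [CommRing R]
    [Algebra Λ R] {resR : R →ₐ[Λ] k} (φ' : HomSet R resR A') (φ'' : HomSet R resR A'')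
    (hφ : HomSet.map f' φ' = HomSet.map f'' φ'') : HomSet R resR B :=
  ⟨fp_liftAlgHom h φ'.1 φ''.1 (congrArg Subtype.val hφ), by
    rw [← p'.res_comp, AlgHom.comp_assoc, fp_fst_liftAlgHom h, φ'.2]⟩

theorem fp_map_fst_liftHomSet (h : IsFibreProd p' p'' f' f'') {R : Type u} [CommRing R]
    [Algebra Λ R] {resR : R →ₐ[Λ] k} (φ' : HomSet R resR A') (φ'' : HomSet R resR A'')
    (hφ : HomSet.map f' φ' = HomSet.map f'' φ'') :
    HomSet.map p' (fp_liftHomSet h φ' φ'' hφ) = φ' :=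
  Subtype.ext (fp_fst_liftAlgHom h _ _ (congrArg Subtype.val hφ))

theorem fp_map_snd_liftHomSet (h : IsFibreProd p' p'' f' f'') {R : Type u} [CommRing R]
    [Algebra Λ R] {resR : R →ₐ[Λ] k} (φ' : HomSet R resR A') (φ'' : HomSet R resR A'')
    (hφ : HomSet.map f' φ' = HomSet.map f'' φ'') :
    HomSet.map p'' (fp_liftHomSet h φ' φ'' hφ) = φ'' :=
  Subtype.ext (fp_snd_liftAlgHom h _ _ (congrArg Subtype.val hφ))

/-- If `f''` is surjective then so is the projection `p'`. -/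
theorem fp_fst_surjective (h : IsFibreProd p' p'' f' f'')
    (hf'' : Function.Surjective f'') : Function.Surjective p' := by
  intro a'
  obtain ⟨a'', ha''⟩ := hf'' (f' a')
  obtain ⟨b, hb, -⟩ := h.surj a' a'' ha''.symm
  exact ⟨b, hb⟩

/-- The kernel of `p'` maps isomorphically onto the kernel of `f''`. -/
theorem fp_map_ker_fst (h : IsFibreProd p' p'' f' f'') :
    (RingHom.ker p'.toAlgHom).map p''.toAlgHom = RingHom.ker f''.toAlgHom := by
  apply le_antisymm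
  · rw [Ideal.map_le_iff_le_comap]
    intro b hb
    rw [Ideal.mem_comap, RingHom.mem_ker]
    have := h.w_apply b
    rw [RingHom.mem_ker] at hb
    have hb' : p' b = 0 := hb
    rw [hb', map_zero] at this
    exact this.symm
  · intro a'' ha''
    rw [RingHom.mem_ker] at ha''
    have ha : f' 0 = f'' a'' := by rw [map_zero]; exact ha''.symm
    obtain ⟨b, hb', hb''⟩ := h.surj 0 a'' ha
    rw [← hb'']
    exact Ideal.mem_map_of_mem _ (RingHom.mem_ker.mpr hb')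

theorem fp_eq_zero_of_mem_ker (h : IsFibreProd p' p'' f' f'') {b : B}
    (hb' : p' b = 0) (hb'' : p'' b = 0) : b = 0 :=
  h.inj b 0 (by rw [hb', map_zero]) (by rw [hb'', map_zero])

/-- **Pasting**: if `B = A' ×_A A''` and `A'' → A` factors as `A'' → C → A`, and `B₁ = A' ×_A C`,
then `B = B₁ ×_C A''`. -/
theorem fp_paste (h : IsFibreProd p' p'' f' f'') {C B₁ : Art Λ k} (r : A'' ⟶ C) (q : C ⟶ A)
    (hrq : r ≫ q = f'') {s' : B₁ ⟶ A'} {s'' : B₁ ⟶ C} (h₁ : IsFibreProd s' s'' f' q)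
    (t : B ⟶ B₁) (ht' : t ≫ s' = p') (ht'' : t ≫ s'' = p'' ≫ r) :
    IsFibreProd t p'' s'' r where
  w := ht''
  inj b₁ b₂ e₁ e₂ := by
    apply h.inj _ _ _ e₂
    rw [← ht']
    show s' (t b₁) = s' (t b₂)
    rw [e₁]
  surj b a'' hb := by
    have hfa : f' (s' b) = f'' a'' := by
      rw [h₁.w_apply b, hb, ← hrq]
      rfl
    obtain ⟨b₀, hb₀', hb₀''⟩ := h.surj (s' b) a'' hfa
    refine ⟨b₀, ?_, hb₀''⟩
    apply h₁.inj
    · have : s' (t b₀) = p' b₀ := by rw [← ht']; rfl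
      rw [this, hb₀']
    · have : s'' (t b₀) = r (p'' b₀) := by
        have := congrArg (fun (g : B ⟶ C) => g b₀) ht''
        exact this
      rw [this, hb₀'', hb]

end Universal

end Groth.Agent.Lib.Helper76
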