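import Mathlib
import Groth.Prelude.Def_ArtFun5
import Groth.Agent.Lib.Helper76.ArtFibre
import Groth.Agent.Lib.Helper76.ArtBasic

set_option autoImplicit false
universe u v

namespace Groth.Agent.Lib.Helper76

open ArtFun ArtFun.Art CategoryTheory

section Factor

variable {Λ k : Type u} [CommRing Λ] [Field k] [Algebra Λ k]
variable {R : Type u} [CommRing R] [Algebra Λ R] {resR : R →ₐ[Λ] k}

/-- factor an element of `h_R(A)` through a surjective element of `h_R(A')` -/
noncomputable def homOfKerLe {A' A : Art Λ k} (π' : HomSet R resR A') (hπ' : Function.Surjective π'.1)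
    (π : HomSet R resR A) (h : RingHom.ker (π'.1 : R →+* A') ≤ RingHom.ker (π.1 : R →+* A)) : A' ⟶ A :=
  ⟨AlgHom.liftOfSurjective π'.1 hπ' π.1 h, by
    apply AlgHom.ext
    intro a'
    obtain ⟨r, rfl⟩ := hπ' a'
    rw [AlgHom.comp_apply, AlgHom.liftOfSurjective_apply]
    exact (DFunLike.congr_fun π.2 r).trans (DFunLike.congr_fun π'.2 r).symm⟩

theorem homOfKerLe_apply {A' A : Art Λ k} (π' : HomSet R resR A') (hπ' : Function.Surjective π'.1)
    (π : HomSet R resR A) (h : RingHom.ker (π'.1 : R →+* A') ≤ RingHom.ker (π.1 : R →+* A)) (r : R) :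
    homOfKerLe π' hπ' π h (π'.1 r) = π.1 r :=
  AlgHom.liftOfSurjective_apply _ _ _ _ _

theorem map_homOfKerLe {A' A : Art Λ k} (π' : HomSet R resR A') (hπ' : Function.Surjective π'.1)
    (π : HomSet R resR A) (h : RingHom.ker (π'.1 : R →+* A') ≤ RingHom.ker (π.1 : R →+* A)) :
    HomSet.map (homOfKerLe π' hπ' π h) π' = π :=
  Subtype.ext (AlgHom.ext fun r => homOfKerLe_apply π' hπ' π h r)

/-- morphisms out of a surjective element are determined by the composite -/
theorem hom_ext_of_surjective {A' A : Art Λ k} (π' : HomSet R resR A') (hπ' : Function.Surjective π'.1)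
    {f g : A' ⟶ A} (h : HomSet.map f π' = HomSet.map g π') : f = g := by
  apply Art.hom_ext
  apply AlgHom.ext
  intro a'
  obtain ⟨r, rfl⟩ := hπ' a'
  exact AlgHom.congr_fun (congrArg Subtype.val h) r

theorem homSet_map_comp' {A B C : Art Λ k} (f : A ⟶ B) (g : B ⟶ C) (φ : HomSet R resR A) :
    HomSet.map (f ≫ g) φ = HomSet.map g (HomSet.map f φ) :=
  Subtype.ext (AlgHom.ext fun _ => rfl)

theorem homSet_map_id' {A : Art Λ k} (φ : HomSet R resR A) : HomSet.map (𝟙 A) φ = φ :=
  Subtype.ext (AlgHom.ext fun _ => rfl)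

end Factor

section StageDefs

variable {Λ k : Type u} [CommRing Λ] [Field k] [Algebra Λ k]

/-- a quotient of the coefficient ring `S` in `Art` together with an element of `F` over it -/
structure Stage (S : CRing Λ k) (F : Art Λ k ⥤ Type v) where
  A : Art Λ k
  π : HomSet S.carrier S.res A
  surj : Function.Surjective π.1
  ξ : F.obj A

namespace Stage

variable {S : CRing Λ k} {F : Art Λ k ⥤ Type v}

/-- the underlying algebra map of a stage -/
def hom (T : Stage S F) : S.carrier →ₐ[Λ] T.A.carrier := T.π.1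

theorem hom_surjective (T : Stage S F) : Function.Surjective T.hom := T.surj

theorem res_hom (T : Stage S F) (s : S.carrier) : T.A.res (T.hom s) = S.res s :=
  DFunLike.congr_fun T.π.2 s

/-- the kernel of a stage, an ideal of `S` -/
def ker (T : Stage S F) : Ideal S.carrier := RingHom.ker (T.hom : S.carrier →+* T.A.carrier)

theorem mem_ker (T : Stage S F) (s : S.carrier) : s ∈ T.ker ↔ T.hom s = 0 := Iff.rfl

/-- `T'` dominates `T` -/
def Dom (T' T : Stage S F) : Prop :=
  ∃ ρ : T'.A ⟶ T.A, HomSet.map ρ T'.π = T.π ∧ F.map ρ T'.ξ = T.ξ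

theorem Dom.refl (T : Stage S F) : Dom T T :=
  ⟨𝟙 _, homSet_map_id' _, by rw [Functor.map_id_apply]⟩

theorem Dom.trans {T'' T' T : Stage S F} (h₁ : Dom T'' T') (h₂ : Dom T' T) : Dom T'' T := by
  obtain ⟨ρ₁, h₁a, h₁b⟩ := h₁
  obtain ⟨ρ₂, h₂a, h₂b⟩ := h₂
  refine ⟨ρ₁ ≫ ρ₂, ?_, ?_⟩
  · rw [homSet_map_comp', h₁a, h₂a]
  · rw [Functor.map_comp_apply, h₁b, h₂b]

theorem Dom.hom_apply {T' T : Stage S F} {ρ : T'.A ⟶ T.A} (hρ : HomSet.map ρ T'.π = T.π)
    (s : S.carrier) : ρ (T'.hom s) = T.hom s :=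
  AlgHom.congr_fun (congrArg Subtype.val hρ) s

theorem Dom.ker_le {T' T : Stage S F} (h : Dom T' T) : T'.ker ≤ T.ker := by
  obtain ⟨ρ, hρ, -⟩ := h
  intro s hs
  rw [mem_ker] at hs ⊢
  rw [← Dom.hom_apply hρ, hs, map_zero]

theorem mem_maximalIdeal_iff_hom (T : Stage S F) (s : S.carrier) :
    s ∈ IsLocalRing.maximalIdeal S.carrier ↔ T.hom s ∈ IsLocalRing.maximalIdeal T.A.carrier := by
  rw [CRing.mem_maximalIdeal_iff, Art.mem_maximalIdeal_iff, res_hom]

theorem ker_le_maximalIdeal (T : Stage S F) : T.ker ≤ IsLocalRing.maximalIdeal S.carrier := by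
  intro s hs
  rw [mem_maximalIdeal_iff_hom T, (mem_ker T s).1 hs]
  exact Ideal.zero_mem _

/-- candidates for the next stage over `T`, dominating the fixed stage `Tstar` -/
def Cand (T Tstar T' : Stage S F) : Prop :=
  Dom T' T ∧ IsLocalRing.maximalIdeal S.carrier * T.ker ≤ T'.ker ∧ Dom T' Tstar

/-- a candidate with minimal kernel -/
def IsMin (T Tstar T' : Stage S F) : Prop :=
  Cand T Tstar T' ∧ ∀ T'', Cand T Tstar T'' → T''.ker ≤ T'.ker → T'.ker ≤ T''.ker

end Stage

end StageDefs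

end Groth.Agent.Lib.Helper76
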