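import Mathlib
import Groth.Prelude.Def_ArtFun5
import Groth.Agent.Lib.Helper76.ArtFibre
import Groth.Agent.Lib.Helper76.ArtBasic
import Groth.Agent.Lib.Helper94.ArtFun
import Groth.Agent.S12250
import Groth.Agent.Lib.Helper76.SchlStage

/-!
# Schlessinger's construction: minimal stages

Existence of minimal candidates, their lifting property, and strictness of towers of minimal
stages.
-/

set_option autoImplicit false
universe u v

namespace Groth.Agent.Lib.Helper76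

open ArtFun ArtFun.Art CategoryTheory

namespace Stage

variable {Λ k : Type u} [CommRing Λ] [Field k] [Algebra Λ k]
variable {S : CRing Λ k} {F : Art Λ k ⥤ Type v}

theorem exists_mpow_le_ker (T : Stage S F) : ∃ n : ℕ, CRing.mpow S n ≤ T.ker :=
  Groth.Agent.S12250.exists_le_ker S T.π

theorem comap_map_mk_eq {I K : Ideal S.carrier} (h : I ≤ K) :
    (K.map (Ideal.Quotient.mk I)).comap (Ideal.Quotient.mk I) = K := by
  rw [Ideal.comap_map_of_surjective _ Ideal.Quotient.mk_surjective, ← RingHom.ker_eq_comap_bot,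
    Ideal.mk_ker, sup_eq_left]
  exact h

/-- a minimal candidate exists as soon as there is a candidate -/
theorem min_exists (T Tstar : Stage S F) (h : ∃ T', Cand T Tstar T') : ∃ T', IsMin T Tstar T' := by
  obtain ⟨N, hN⟩ := exists_mpow_le_ker T
  -- every candidate kernel contains `m^(N+2)`
  have hI₀ : ∀ T', Cand T Tstar T' → CRing.mpow S (N + 1) ≤ T'.ker := by
    intro T' hT'
    refine le_trans ?_ hT'.2.1
    show IsLocalRing.maximalIdeal S.carrier ^ (N + 1 + 1) ≤ _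
    rw [pow_succ']
    exact Ideal.mul_mono_right hN
  have : IsArtinianRing (S.carrier ⧸ CRing.mpow S (N + 1)) := CRing.isArtinianRing_quot_mpow S (N + 1)
  let 𝒦 : Set (Ideal (S.carrier ⧸ CRing.mpow S (N + 1))) :=
    {J | ∃ T', Cand T Tstar T' ∧ J = T'.ker.map (Ideal.Quotient.mk (CRing.mpow S (N + 1)))}
  have hne : 𝒦.Nonempty := by
    obtain ⟨T', hT'⟩ := h
    exact ⟨_, T', hT', rfl⟩
  obtain ⟨J₀, ⟨T₀, hT₀, rfl⟩, hmin⟩ := IsArtinian.set_has_minimal 𝒦 hne
  refine ⟨T₀, hT₀, ?_⟩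
  intro T'' hT'' hle
  have h1 : T''.ker.map (Ideal.Quotient.mk (CRing.mpow S (N + 1))) ≤
      T₀.ker.map (Ideal.Quotient.mk (CRing.mpow S (N + 1))) := Ideal.map_mono hle
  have h2 := hmin _ ⟨T'', hT'', rfl⟩
  have h3 : T''.ker.map (Ideal.Quotient.mk (CRing.mpow S (N + 1))) =
      T₀.ker.map (Ideal.Quotient.mk (CRing.mpow S (N + 1))) := eq_of_le_of_not_lt h1 h2
  have h4 := congrArg (Ideal.comap (Ideal.Quotient.mk (CRing.mpow S (N + 1)))) h3
  rw [comap_map_mk_eq (hI₀ _ hT''), comap_map_mk_eq (hI₀ _ hT₀)] at h4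
  exact h4.symm.le

/-- **The lifting property of a minimal stage.** -/
theorem IsMin.lifting (hS : IsSmoothFunctor (hR S.carrier S.res)) (h1 : S1 F)
    {T Tstar T' : Stage S F} (hmin : IsMin T Tstar T')
    (μ : T'.A ⟶ T.A) (hμπ : HomSet.map μ T'.π = T.π) (hμξ : F.map μ T'.ξ = T.ξ)
    {C : Art Λ k} (c₁ : C ⟶ T.A) (hc₁ : IsSmallExt c₁) (z : F.obj C) (hz : F.map c₁ z = T.ξ) :
    ∃ ν : T'.A ⟶ C, ν ≫ c₁ = μ := by
  obtain ⟨tC, htC0, hkerC, hmC⟩ := Helper94.smallExt_exists_generator hc₁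
  -- the fibre product
  let D := Helper94.fibreProd μ c₁ hc₁.1
  let d₁ : D ⟶ T'.A := Helper94.fibreProdFst μ c₁ hc₁.1
  let d₂ : D ⟶ C := Helper94.fibreProdSnd μ c₁ hc₁.1
  have hD : IsFibreProd d₁ d₂ μ c₁ := Helper94.isFibreProd_fibreProd μ c₁ hc₁.1
  have hd₁ : Function.Surjective d₁ := fp_fst_surjective hD hc₁.1
  obtain ⟨ζ, hζ⟩ := h1 d₁ d₂ μ c₁ hD hc₁.1 ⟨(T'.ξ, z), hμξ.trans hz.symm⟩
  have hζ₁ : F.map d₁ ζ = T'.ξ := congrArg (fun t => t.1.1) hζ
  obtain ⟨(w : HomSet S.carrier S.res D), hw⟩ := hS d₁ hd₁ T'.π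
  have hw' : HomSet.map d₁ w = T'.π := hw
  obtain ⟨wh, hwh⟩ : ∃ wh : S.carrier →ₐ[Λ] D.carrier, wh = w.1 := ⟨_, rfl⟩
  have hw₁ : ∀ s, d₁ (wh s) = T'.hom s := fun s => by
    rw [hwh]; exact AlgHom.congr_fun (congrArg Subtype.val hw') s
  have hμπ' : ∀ s, μ (T'.hom s) = T.hom s := fun s => Dom.hom_apply hμπ s
  have hreswh : ∀ s, D.res (wh s) = S.res s := fun s => by
    rw [hwh]; exact DFunLike.congr_fun w.2 s
  -- elements of `ker c₁`
  have hkerC' : ∀ c : C, c₁ c = 0 → ∃ a : C, c = a * tC := by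
    intro c hc
    have : c ∈ RingHom.ker c₁.toAlgHom := hc
    rw [hkerC, Ideal.mem_span_singleton'] at this
    obtain ⟨a, ha⟩ := this
    exact ⟨a, ha.symm⟩
  by_cases hcase : ∃ s₀, wh s₀ ≠ 0 ∧ T'.hom s₀ = 0
  · -- impossible by minimality
    exfalso
    obtain ⟨s₀, hs₀, hs₀'⟩ := hcase
    have hd₂s₀ : c₁ (d₂ (wh s₀)) = 0 := by
      rw [← hD.w_apply, hw₁, hs₀', map_zero]
    obtain ⟨c₀, hc₀⟩ := hkerC' _ hd₂s₀
    have hd₂ne : d₂ (wh s₀) ≠ 0 := by
      intro h0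
      exact hs₀ (fp_eq_zero_of_mem_ker hD (by rw [hw₁, hs₀']) h0)
    have hc₀u : C.res c₀ ≠ 0 := by
      intro h0
      apply hd₂ne
      rw [hc₀]
      exact hmC c₀ ((C.mem_maximalIdeal_iff c₀).2 h0)
    -- `w` is surjective
    have hwsurj : Function.Surjective wh := by
      intro e
      obtain ⟨s₁, hs₁⟩ := T'.hom_surjective (d₁ e)
      have he' : c₁ (d₂ (e - wh s₁)) = 0 := by
        rw [← hD.w_apply, map_sub, hw₁, hs₁, sub_self, map_zero]
      obtain ⟨c, hc⟩ := hkerC' _ he'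
      obtain ⟨s₃, hs₃⟩ := S.res_surjective (C.res c / C.res c₀)
      refine ⟨s₁ + s₃ * s₀, ?_⟩
      have key : wh s₃ * wh s₀ = e - wh s₁ := by
        apply hD.inj
        · rw [map_mul, hw₁ s₀, hs₀', mul_zero, map_sub, hw₁, hs₁, sub_self]
        · rw [hc, map_mul, hc₀, ← mul_assoc, ← sub_eq_zero, ← sub_mul]
          apply hmC
          rw [C.mem_maximalIdeal_iff, map_sub, map_mul, Art.res_app, hreswh, hs₃,
            div_mul_cancel₀ _ hc₀u, sub_self]
      rw [map_add, map_mul, key, add_sub_cancel]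
    let TD : Stage S F := ⟨D, w, by rw [← hwh]; exact hwsurj, ζ⟩
    have hDomD' : Dom TD T' := ⟨d₁, hw', hζ₁⟩
    have hCand : Cand T Tstar TD := by
      refine ⟨hDomD'.trans ⟨μ, hμπ, hμξ⟩, ?_, hDomD'.trans hmin.1.2.2⟩
      rw [Ideal.mul_le]
      intro a ha b hb
      show w.1 (a * b) = 0
      rw [← hwh]
      apply fp_eq_zero_of_mem_ker hD
      · rw [hw₁]
        exact hmin.1.2.1 (Ideal.mul_mem_mul ha hb)
      · have hb' : c₁ (d₂ (wh b)) = 0 := by
          rw [← hD.w_apply, hw₁, hμπ']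
          exact hb
        obtain ⟨c, hc⟩ := hkerC' _ hb'
        rw [map_mul, map_mul, hc, mul_left_comm]
        rw [hmC _ ?_, mul_zero]
        rw [C.mem_maximalIdeal_iff, Art.res_app, hreswh]
        exact (CRing.mem_maximalIdeal_iff S a).1 ha
    have hle := hmin.2 TD hCand hDomD'.ker_le
    have : w.1 s₀ = 0 := hle hs₀'
    rw [← hwh] at this
    exact hs₀ this
  · -- `w` factors through `T'.A`
    have hker : RingHom.ker (T'.π.1 : S.carrier →+* T'.A) ≤ RingHom.ker (w.1 : S.carrier →+* D) := by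
      intro s hs
      by_contra hne
      apply hcase
      refine ⟨s, ?_, hs⟩
      rw [hwh]; exact hne
    let σ : T'.A ⟶ D := homOfKerLe T'.π T'.surj w hker
    have hσ : HomSet.map σ T'.π = w := map_homOfKerLe _ _ _ _
    refine ⟨σ ≫ d₂, ?_⟩
    apply hom_ext_of_surjective T'.π T'.surj
    rw [Category.assoc, ← hD.w, ← Category.assoc, homSet_map_comp', homSet_map_comp', hσ, hw']

theorem map_pow_le_maximalIdeal (T : Stage S F) {n : ℕ} (hn : n ≠ 0) :
    (IsLocalRing.maximalIdeal S.carrier ^ n).map (T.hom : S.carrier →+* T.A.carrier) ≤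
      IsLocalRing.maximalIdeal T.A.carrier := by
  rw [Ideal.map_le_iff_le_comap]
  intro s hs
  rw [Ideal.mem_comap]
  exact (mem_maximalIdeal_iff_hom T s).1 (Ideal.pow_le_self hn hs)

/-- the truncation of a stage modulo `m_S^n` -/
noncomputable def trunc (T : Stage S F) (n : ℕ) (hn : n ≠ 0) : Stage S F where
  A := Art.quot T.A _ (map_pow_le_maximalIdeal T hn)
  π := HomSet.map (quotMk T.A _ (map_pow_le_maximalIdeal T hn)) T.π
  surj := (quotMk_surjective T.A _ (map_pow_le_maximalIdeal T hn)).comp T.surj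
  ξ := F.map (quotMk T.A _ (map_pow_le_maximalIdeal T hn)) T.ξ

theorem ker_trunc (T : Stage S F) (n : ℕ) (hn : n ≠ 0) :
    (T.trunc n hn).ker = T.ker ⊔ IsLocalRing.maximalIdeal S.carrier ^ n := by
  ext s
  have h1 : s ∈ (T.trunc n hn).ker ↔
      T.hom s ∈ (IsLocalRing.maximalIdeal S.carrier ^ n).map (T.hom : S.carrier →+* T.A.carrier) := by
    show Ideal.Quotient.mk _ (T.hom s) = 0 ↔ _
    rw [Ideal.Quotient.eq_zero_iff_mem]
  constructor
  · intro h
    obtain ⟨s', hs', hs's⟩ := (Ideal.mem_map_iff_of_surjective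
      (T.hom : S.carrier →+* T.A.carrier) T.hom_surjective).1 (h1.1 h)
    have h2 : s - s' ∈ T.ker := by
      rw [mem_ker, map_sub, sub_eq_zero]
      exact hs's.symm
    have h3 : s - s' + s' ∈ T.ker ⊔ IsLocalRing.maximalIdeal S.carrier ^ n :=
      Ideal.add_mem _ (Ideal.mem_sup_left h2) (Ideal.mem_sup_right hs')
    rwa [sub_add_cancel] at h3
  · intro h
    rw [h1]
    obtain ⟨a, ha, b, hb, rfl⟩ := Submodule.mem_sup.1 h
    rw [map_add, (mem_ker T a).1 ha, zero_add]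
    exact Ideal.mem_map_of_mem _ hb

theorem dom_trunc_self (T : Stage S F) (n : ℕ) (hn : n ≠ 0) : Dom T (T.trunc n hn) :=
  ⟨quotMk T.A _ (map_pow_le_maximalIdeal T hn), rfl, rfl⟩

/-- a truncation still dominates stages killed by `m_S^n` -/
theorem dom_trunc {T T₀ : Stage S F} (h : Dom T T₀) (n : ℕ) (hn : n ≠ 0)
    (hle : IsLocalRing.maximalIdeal S.carrier ^ n ≤ T₀.ker) : Dom (T.trunc n hn) T₀ := by
  obtain ⟨ρ, hρπ, hρξ⟩ := h
  have hK : (IsLocalRing.maximalIdeal S.carrier ^ n).map (T.hom : S.carrier →+* T.A.carrier) ≤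
      RingHom.ker ρ.toAlgHom := by
    rw [Ideal.map_le_iff_le_comap]
    intro s hs
    rw [Ideal.mem_comap, RingHom.mem_ker]
    exact (Dom.hom_apply hρπ s).trans (hle hs)
  obtain ⟨q, hq⟩ : ∃ q : T.A ⟶ Art.quot T.A _ (map_pow_le_maximalIdeal T hn),
    q = quotMk T.A _ (map_pow_le_maximalIdeal T hn) := ⟨_, rfl⟩
  obtain ⟨r, hr⟩ : ∃ r : Art.quot T.A _ (map_pow_le_maximalIdeal T hn) ⟶ T₀.A,
    r = quotFactor (map_pow_le_maximalIdeal T hn) ρ hK := ⟨_, rfl⟩
  have e : q ≫ r = ρ := by rw [hq, hr]; exact quotMk_quotFactor _ _ _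
  have key : ∃ ρ' : Art.quot T.A _ (map_pow_le_maximalIdeal T hn) ⟶ T₀.A,
      HomSet.map ρ' (HomSet.map q T.π) = T₀.π ∧ F.map ρ' (F.map q T.ξ) = T₀.ξ := by
    refine ⟨r, ?_, ?_⟩
    · rw [← homSet_map_comp', e, hρπ]
    · rw [← Functor.map_comp_apply, e, hρξ]
  rw [hq] at key
  exact key

/-- **Strictness** of a tower of minimal stages. -/
theorem IsMin.strict {T₀ T₁ T₂ Tstar : Stage S F} (hmin : IsMin T₀ Tstar T₁)
    (hc : Cand T₁ Tstar T₂) (a : ℕ)
    (hlo : IsLocalRing.maximalIdeal S.carrier ^ a ≤ T₀.ker)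
    (hhi : T₀.ker ≤ T₁.ker ⊔ IsLocalRing.maximalIdeal S.carrier ^ a)
    (hstar : IsLocalRing.maximalIdeal S.carrier ^ 2 ≤ Tstar.ker) (ha : 1 ≤ a) :
    IsLocalRing.maximalIdeal S.carrier ^ (a + 1) ≤ T₁.ker ∧
      T₁.ker ≤ T₂.ker ⊔ IsLocalRing.maximalIdeal S.carrier ^ (a + 1) := by
  have h1 : IsLocalRing.maximalIdeal S.carrier ^ (a + 1) ≤ T₁.ker := by
    rw [pow_succ']
    exact (Ideal.mul_mono_right hlo).trans hmin.1.2.1
  refine ⟨h1, ?_⟩
  have hcand : Cand T₀ Tstar (T₂.trunc (a + 1) (Nat.succ_ne_zero a)) := by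
    refine ⟨dom_trunc (hc.1.trans hmin.1.1) _ _ ((Ideal.pow_le_pow_right (Nat.le_succ a)).trans hlo),
      ?_, dom_trunc hc.2.2 _ _ ((Ideal.pow_le_pow_right (by omega)).trans hstar)⟩
    rw [ker_trunc]
    calc IsLocalRing.maximalIdeal S.carrier * T₀.ker
        ≤ IsLocalRing.maximalIdeal S.carrier * (T₁.ker ⊔ IsLocalRing.maximalIdeal S.carrier ^ a) :=
          Ideal.mul_mono_right hhi
      _ = IsLocalRing.maximalIdeal S.carrier * T₁.ker ⊔ IsLocalRing.maximalIdeal S.carrier ^ (a + 1) := by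
          rw [Ideal.mul_sup, pow_succ']
      _ ≤ T₂.ker ⊔ IsLocalRing.maximalIdeal S.carrier ^ (a + 1) := sup_le_sup_right hc.2.1 _
  have hle : (T₂.trunc (a + 1) (Nat.succ_ne_zero a)).ker ≤ T₁.ker := by
    rw [ker_trunc]
    exact sup_le hc.1.ker_le h1
  have := hmin.2 _ hcand hle
  rwa [ker_trunc] at this

end Stage

end Groth.Agent.Lib.Helper76
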