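import Mathlib
import Groth.Prelude.Def_ArtFun5
import Groth.Agent.Lib.Helper76.SchlMin
import Groth.Agent.Lib.Helper76.SchlQuot

set_option autoImplicit false
universe u v

namespace Groth.Agent.Lib.Helper76

open ArtFun ArtFun.Art CategoryTheory

section Tower

variable {Λ k : Type u} [CommRing Λ] [Field k] [Algebra Λ k]
variable {S : CRing Λ k} {F : Art Λ k ⥤ Type v}

/-- the bottom stage: the residue field -/
noncomputable def baseStage (S : CRing Λ k) (F : Art Λ k ⥤ Type v) (x₀ : F.obj (base Λ k)) : Stage S F where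
  A := base Λ k
  π := ⟨S.res, AlgHom.id_comp _⟩
  surj := S.res_surjective
  ξ := x₀

theorem baseStage_ker (x₀ : F.obj (base Λ k)) :
    (baseStage S F x₀).ker = IsLocalRing.maximalIdeal S.carrier := by
  ext s
  rw [CRing.mem_maximalIdeal_iff]
  rfl

open Classical in
/-- one step of the tower -/
noncomputable def nextStage (Tstar T : Stage S F) : Stage S F :=
  if h : ∃ T', Stage.IsMin T Tstar T' then Classical.choose h else T

/-- the tower of minimal stages -/
noncomputable def tower (Tstar : Stage S F) (x₀ : F.obj (base Λ k)) : ℕ → Stage S F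
  | 0 => baseStage S F x₀
  | n + 1 => nextStage Tstar (tower Tstar x₀ n)

variable (h0 : H0 F) (Tstar : Stage S F)
  (hstar : IsLocalRing.maximalIdeal S.carrier ^ 2 ≤ Tstar.ker) (x₀ : F.obj (base Λ k))

include h0 hstar in
theorem cand_baseStage : Stage.Cand (baseStage S F x₀) Tstar Tstar := by
  refine ⟨⟨toBase _, Subtype.ext Tstar.π.2, h0.2.elim _ _⟩, ?_, Stage.Dom.refl _⟩
  rw [baseStage_ker, ← sq]
  exact hstar

include h0 hstar in
theorem tower_isMin (n : ℕ) :
    Stage.IsMin (tower Tstar x₀ n) Tstar (tower Tstar x₀ (n + 1)) := by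
  have key : ∀ n, ∃ T', Stage.Cand (tower Tstar x₀ n) Tstar T' := by
    intro n
    induction n with
    | zero => exact ⟨Tstar, cand_baseStage h0 Tstar hstar x₀⟩
    | succ n ih =>
      have hmin := Stage.min_exists _ _ ih
      have : Stage.IsMin (tower Tstar x₀ n) Tstar (tower Tstar x₀ (n + 1)) := by
        show Stage.IsMin _ _ (nextStage Tstar (tower Tstar x₀ n))
        unfold nextStage
        rw [dif_pos hmin]
        exact Classical.choose_spec hmin
      exact ⟨_, Stage.Dom.refl _, Ideal.mul_le_right, this.1.2.2⟩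
  have hmin := Stage.min_exists _ _ (key n)
  show Stage.IsMin _ _ (nextStage Tstar (tower Tstar x₀ n))
  unfold nextStage
  rw [dif_pos hmin]
  exact Classical.choose_spec hmin

include h0 hstar in
theorem tower_strict (n : ℕ) :
    IsLocalRing.maximalIdeal S.carrier ^ (n + 1) ≤ (tower Tstar x₀ n).ker ∧
      (tower Tstar x₀ n).ker ≤
        (tower Tstar x₀ (n + 1)).ker ⊔ IsLocalRing.maximalIdeal S.carrier ^ (n + 1) := by
  induction n with
  | zero =>
    have : (tower Tstar x₀ 0).ker = IsLocalRing.maximalIdeal S.carrier := baseStage_ker x₀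
    rw [this, zero_add, pow_one]
    exact ⟨le_rfl, le_sup_right⟩
  | succ n ih =>
    exact (tower_isMin h0 Tstar hstar x₀ n).strict (tower_isMin h0 Tstar hstar x₀ (n + 1)).1
      (n + 1) ih.1 ih.2 hstar (by omega)

include h0 hstar in
theorem tower_ker_antitone (n m : ℕ) (h : n ≤ m) :
    (tower Tstar x₀ m).ker ≤ (tower Tstar x₀ n).ker := by
  induction m, h using Nat.le_induction with
  | base => exact le_rfl
  | succ m _ ih => exact (tower_isMin h0 Tstar hstar x₀ m).1.1.ker_le.trans ih

/-- the intersection of the kernels of the tower -/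
noncomputable def towerKer (Tstar : Stage S F) (x₀ : F.obj (base Λ k)) : Ideal S.carrier :=
  ⨅ n, (tower Tstar x₀ n).ker

theorem towerKer_le (n : ℕ) : towerKer Tstar x₀ ≤ (tower Tstar x₀ n).ker := iInf_le _ n

theorem towerKer_le_maximalIdeal : towerKer Tstar x₀ ≤ IsLocalRing.maximalIdeal S.carrier :=
  (towerKer_le Tstar x₀ 0).trans (Stage.ker_le_maximalIdeal _)

include h0 hstar in
/-- the kernels of the tower are cofinal with the powers of the maximal ideal modulo the
intersection -/
theorem tower_ker_le_sup (q : ℕ) :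
    (tower Tstar x₀ q).ker ≤ towerKer Tstar x₀ ⊔ IsLocalRing.maximalIdeal S.carrier ^ (q + 1) := by
  intro x hx
  have : IsPrecomplete (IsLocalRing.maximalIdeal S.carrier) S.carrier := S.isAdicComplete.toIsPrecomplete
  -- the decomposition step
  have hdec : ∀ (n : ℕ) (y : S.carrier), ∃ y' : S.carrier, y ∈ (tower Tstar x₀ n).ker →
      y' ∈ (tower Tstar x₀ (n + 1)).ker ∧ y - y' ∈ IsLocalRing.maximalIdeal S.carrier ^ (n + 1) := by
    intro n y
    by_cases hy : y ∈ (tower Tstar x₀ n).ker
    · obtain ⟨a, ha, b, hb, hab⟩ := Submodule.mem_sup.1 ((tower_strict h0 Tstar hstar x₀ n).2 hy)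
      refine ⟨a, fun _ => ⟨ha, ?_⟩⟩
      rw [← hab, add_sub_cancel_left]
      exact hb
    · exact ⟨0, fun h => absurd h hy⟩
  choose g hg using hdec
  let f : ℕ → S.carrier := fun i => Nat.rec x (fun i y => g (q + i) y) i
  have hf_succ : ∀ i, f (i + 1) = g (q + i) (f i) := fun i => rfl
  have hf_mem : ∀ i, f i ∈ (tower Tstar x₀ (q + i)).ker := by
    intro i
    induction i with
    | zero => exact hx
    | succ i ih => rw [hf_succ]; exact (hg (q + i) (f i) ih).1
  have hf_sub : ∀ i, f i - f (i + 1) ∈ IsLocalRing.maximalIdeal S.carrier ^ (q + i + 1) := by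
    intro i
    rw [hf_succ]
    exact (hg (q + i) (f i) (hf_mem i)).2
  obtain ⟨L, hL⟩ := exists_adic_limit (IsLocalRing.maximalIdeal S.carrier) f (fun i =>
    Ideal.pow_le_pow_right (by omega) (hf_sub i))
  have htail := sub_mem_pow_of_succ (IsLocalRing.maximalIdeal S.carrier) f (fun i => q + i + 1)
    (fun a b hab => by simp only; omega) hf_sub
  -- `L` lies in every kernel
  have hLK : L ∈ towerKer Tstar x₀ := by
    rw [towerKer, Ideal.mem_iInf]
    intro j
    have h1 : f (j + 1) ∈ (tower Tstar x₀ j).ker :=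
      tower_ker_antitone h0 Tstar hstar x₀ j (q + (j + 1)) (by omega) (hf_mem (j + 1))
    have h2 : f (j + 1) - L ∈ (tower Tstar x₀ j).ker :=
      (tower_strict h0 Tstar hstar x₀ j).1 (hL (j + 1))
    have := Ideal.sub_mem _ h1 h2
    rwa [sub_sub_cancel] at this
  have hxL : x - L ∈ IsLocalRing.maximalIdeal S.carrier ^ (q + 1) := by
    have h1 : f 0 - f (q + 1) ∈ IsLocalRing.maximalIdeal S.carrier ^ (q + 0 + 1) :=
      htail 0 (q + 1) (by omega)
    have h2 : f (q + 1) - L ∈ IsLocalRing.maximalIdeal S.carrier ^ (q + 1) := hL (q + 1)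
    have : x - L = (f 0 - f (q + 1)) + (f (q + 1) - L) := by
      show x - L = (x - f (q + 1)) + (f (q + 1) - L)
      ring
    rw [this]
    exact Ideal.add_mem _ h1 h2
  have : x = L + (x - L) := by ring
  rw [this]
  exact Ideal.add_mem _ (Ideal.mem_sup_left hLK) (Ideal.mem_sup_right hxL)

end Tower

end Groth.Agent.Lib.Helper76
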