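import Mathlib
import Groth.Prelude.Def_ArtFun5
import Groth.Agent.Lib.Helper76.SchlTower
import Groth.Agent.S12728

set_option autoImplicit false
universe u v

namespace Groth.Agent.Lib.Helper76

open ArtFun ArtFun.Art CategoryTheory

section Pre

variable {Λ k : Type u} [CommRing Λ] [Field k] [Algebra Λ k]
variable {S R : Type u} [CommRing S] [Algebra Λ S] [CommRing R] [Algebra Λ R]
  {resS : S →ₐ[Λ] k} {resR : R →ₐ[Λ] k}

/-- precomposition with an augmented algebra map -/
def homSetPre (g : S →ₐ[Λ] R) (hg : resR.comp g = resS) {A : Art Λ k} (ψ : HomSet R resR A) :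
    HomSet S resS A :=
  ⟨ψ.1.comp g, by rw [← AlgHom.comp_assoc, ψ.2, hg]⟩

theorem homSetPre_map (g : S →ₐ[Λ] R) (hg : resR.comp g = resS) {A B : Art Λ k} (f : A ⟶ B)
    (ψ : HomSet R resR A) : homSetPre g hg (HomSet.map f ψ) = HomSet.map f (homSetPre g hg ψ) :=
  Subtype.ext (AlgHom.ext fun _ => rfl)

theorem homSetPre_injective (g : S →ₐ[Λ] R) (hg : resR.comp g = resS) (hsurj : Function.Surjective g)
    {A : Art Λ k} : Function.Injective (homSetPre g hg (A := A)) := by
  intro ψ₁ ψ₂ h
  apply Subtype.ext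
  apply AlgHom.ext
  intro r
  obtain ⟨s, rfl⟩ := hsurj r
  exact AlgHom.congr_fun (congrArg Subtype.val h) s

theorem homSetPre_apply (g : S →ₐ[Λ] R) (hg : resR.comp g = resS) {A : Art Λ k}
    (ψ : HomSet R resR A) (s : S) : (homSetPre g hg ψ).1 s = ψ.1 (g s) := rfl

end Pre

section OfFormal

variable {Λ k : Type u} [CommRing Λ] [Field k] [Algebra Λ k]
variable (R : CRing Λ k) {F : Art Λ k ⥤ Type v}

theorem ofFormal_truncHom (u : FormalElt F R) (n : ℕ) :
    (Groth.Agent.S12250.ofFormal R u).app _ (R.truncHom n) = u.elt n := by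
  show F.map (Groth.Agent.S12250.fac R (R.truncHom n) _ _) (u.elt _) = u.elt n
  rw [Groth.Agent.S12250.val_indep R u (R.truncHom n) _ n _ (Groth.Agent.S12250.truncHom_le_ker R n),
    Groth.Agent.S12250.fac_truncHom, Functor.map_id_apply]

end OfFormal

end Groth.Agent.Lib.Helper76
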