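import Mathlib
import Groth.Prelude.Def_ArtFun5
import Groth.Agent.Lib.Helper76.ArtFibre

set_option autoImplicit false
universe u v

namespace Groth.Agent.Lib.Helper76

open ArtFun ArtFun.Art CategoryTheory

section Der

variable {Λ : Type u} {k : Type u} [CommRing Λ] [Field k] [Algebra Λ k]
variable {R : Type u} [CommRing R] [Algebra Λ R] [Algebra R k] [IsScalarTower Λ R k]

/-- The derivation attached to a map `R → k[ε]`. -/
noncomputable def derOfAlgHom (φ : R →ₐ[Λ] TrivSqZeroExt k k)
    (hφ : ∀ r, TrivSqZeroExt.fst (φ r) = algebraMap R k r) : Derivation Λ R k where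
  toFun r := TrivSqZeroExt.snd (φ r)
  map_add' x y := by
    rw [map_add, TrivSqZeroExt.snd_add]
  map_smul' c x := by
    rw [map_smul, TrivSqZeroExt.snd_smul]
    rfl
  map_one_eq_zero' := by
    show TrivSqZeroExt.snd (φ 1) = 0
    rw [map_one, TrivSqZeroExt.snd_one]
  leibniz' a b := by
    show TrivSqZeroExt.snd (φ (a * b)) = a • TrivSqZeroExt.snd (φ b) + b • TrivSqZeroExt.snd (φ a)
    rw [map_mul, TrivSqZeroExt.snd_mul, hφ, hφ, Algebra.smul_def a, Algebra.smul_def b,
      MulOpposite.smul_eq_mul_unop, MulOpposite.unop_op, smul_eq_mul,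
      mul_comm (TrivSqZeroExt.snd (φ a))]

/-- The algebra map `R → k[ε]` attached to a derivation. -/
noncomputable def algHomOfDer (D : Derivation Λ R k) : R →ₐ[Λ] TrivSqZeroExt k k where
  toFun r := (algebraMap R k r, D r)
  map_one' := by
    apply TrivSqZeroExt.ext
    · show algebraMap R k 1 = 1
      rw [map_one]
    · show D 1 = 0
      exact D.map_one_eq_zero
  map_mul' a b := by
    apply TrivSqZeroExt.ext
    · show algebraMap R k (a * b) = algebraMap R k a * algebraMap R k b
      rw [map_mul]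
    · show D (a * b) = algebraMap R k a • D b + MulOpposite.op (algebraMap R k b) • D a
      rw [D.leibniz, Algebra.smul_def a, Algebra.smul_def b, MulOpposite.smul_eq_mul_unop,
        MulOpposite.unop_op, smul_eq_mul, mul_comm (D a)]
  map_zero' := by
    apply TrivSqZeroExt.ext
    · show algebraMap R k 0 = 0
      rw [map_zero]
    · show D 0 = 0
      rw [map_zero]
  map_add' a b := by
    apply TrivSqZeroExt.ext
    · show algebraMap R k (a + b) = algebraMap R k a + algebraMap R k b
      rw [map_add]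
    · show D (a + b) = D a + D b
      rw [map_add]
  commutes' c := by
    apply TrivSqZeroExt.ext
    · show algebraMap R k (algebraMap Λ R c) = TrivSqZeroExt.fst (algebraMap Λ (TrivSqZeroExt k k) c)
      rw [TrivSqZeroExt.algebraMap_eq_inl', TrivSqZeroExt.fst_inl, ← IsScalarTower.algebraMap_apply]
    · show D (algebraMap Λ R c) = TrivSqZeroExt.snd (algebraMap Λ (TrivSqZeroExt k k) c)
      rw [TrivSqZeroExt.algebraMap_eq_inl', TrivSqZeroExt.snd_inl, D.map_algebraMap]

theorem fst_algHomOfDer (D : Derivation Λ R k) (r : R) :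
    TrivSqZeroExt.fst (algHomOfDer D r) = algebraMap R k r := rfl

theorem snd_algHomOfDer (D : Derivation Λ R k) (r : R) :
    TrivSqZeroExt.snd (algHomOfDer D r) = D r := rfl

variable {resR : R →ₐ[Λ] k} (hres : ∀ r, resR r = algebraMap R k r)

/-- The derivation attached to an element of `h_R(k[ε])`. -/
noncomputable def derOf (θ : HomSet R resR (dual Λ k)) : Derivation Λ R k :=
  derOfAlgHom (θ.1 : R →ₐ[Λ] TrivSqZeroExt k k) (fun r => by
    rw [← hres]
    exact AlgHom.congr_fun θ.2 r)

theorem derOf_apply (θ : HomSet R resR (dual Λ k)) (r : R) :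
    derOf hres θ r = TrivSqZeroExt.snd ((θ.1 : R →ₐ[Λ] TrivSqZeroExt k k) r) := rfl

/-- The element of `h_R(k[ε])` attached to a derivation. -/
noncomputable def homSetOfDer (D : Derivation Λ R k) : HomSet R resR (dual Λ k) :=
  ⟨algHomOfDer D, AlgHom.ext fun r => (hres r).symm⟩

theorem derOf_homSetOfDer (D : Derivation Λ R k) : derOf hres (homSetOfDer hres D) = D :=
  Derivation.ext fun _ => rfl

theorem derOf_injective : Function.Injective (derOf (Λ := Λ) hres) := by
  intro θ₁ θ₂ h
  apply Subtype.ext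
  apply AlgHom.ext
  intro r
  apply TrivSqZeroExt.ext
  · exact (AlgHom.congr_fun θ₁.2 r).trans (AlgHom.congr_fun θ₂.2 r).symm
  · exact DFunLike.congr_fun h r

theorem homSetOfDer_derOf (θ : HomSet R resR (dual Λ k)) : homSetOfDer hres (derOf hres θ) = θ :=
  derOf_injective hres (derOf_homSetOfDer hres _)

theorem homSet_base_eq' {R : Type u} [CommRing R] [Algebra Λ R] {resR : R →ₐ[Λ] k}
    (φ ψ : HomSet R resR (base Λ k)) : φ = ψ := by
  apply Subtype.ext
  have e1 : φ.1 = resR := (AlgHom.id_comp _).symm.trans φ.2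
  have e2 : ψ.1 = resR := (AlgHom.id_comp _).symm.trans ψ.2
  exact e1.trans e2.symm

theorem homSetOfDer_add (D D' : Derivation Λ R k) :
    ∃ χ : HomSet R resR (dual2 Λ k), HomSet.map pr₁ χ = homSetOfDer hres D ∧
      HomSet.map pr₂ χ = homSetOfDer hres D' ∧ HomSet.map plus χ = homSetOfDer hres (D + D') := by
  let χ : HomSet R resR (dual2 Λ k) :=
    fp_liftHomSet isFibreProd_dual2 (homSetOfDer hres D) (homSetOfDer hres D') (homSet_base_eq' _ _)
  have h₁ : HomSet.map pr₁ χ = homSetOfDer hres D := fp_map_fst_liftHomSet _ _ _ _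
  have h₂ : HomSet.map pr₂ χ = homSetOfDer hres D' := fp_map_snd_liftHomSet _ _ _ _
  refine ⟨χ, h₁, h₂, ?_⟩
  apply derOf_injective hres
  rw [derOf_homSetOfDer]
  apply Derivation.ext
  intro r
  have e₁ : derOf hres (HomSet.map pr₁ χ) r = D r := by rw [h₁, derOf_homSetOfDer]
  have e₂ : derOf hres (HomSet.map pr₂ χ) r = D' r := by rw [h₂, derOf_homSetOfDer]
  show derOf hres (HomSet.map pr₁ χ) r + derOf hres (HomSet.map pr₂ χ) r = D r + D' r
  rw [e₁, e₂]

theorem homSetOfDer_smul (c : k) (D : Derivation Λ R k) :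
    HomSet.map (scale c) (homSetOfDer hres D) = homSetOfDer (resR := resR) hres (c • D) := by
  apply derOf_injective hres
  rw [derOf_homSetOfDer]
  apply Derivation.ext
  intro r
  rfl

/-- the tangent map of a family, as a linear map on derivations -/
noncomputable def tangentLin {F : Art Λ k ⥤ Type v} [TangentStr F] (ξ : Family R resR F) :
    Derivation Λ R k →ₗ[k] TangentSpace F where
  toFun D := ξ.app (dual Λ k) (homSetOfDer hres D)
  map_add' D D' := by
    obtain ⟨χ, h₁, h₂, h₃⟩ := homSetOfDer_add hres D D'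
    have := TangentStr.add_eq (F := F) (ξ.app _ χ)
    rw [← ξ.natural, ← ξ.natural, ← ξ.natural, h₁, h₂, h₃] at this
    exact this.symm
  map_smul' c D := by
    have := TangentStr.smul_eq (F := F) c (ξ.app (dual Λ k) (homSetOfDer hres D))
    rw [← ξ.natural, homSetOfDer_smul] at this
    exact this.symm

theorem tangentLin_apply {F : Art Λ k ⥤ Type v} [TangentStr F] (ξ : Family R resR F)
    (D : Derivation Λ R k) : tangentLin hres ξ D = ξ.app (dual Λ k) (homSetOfDer hres D) := rfl

end Der

end Groth.Agent.Lib.Helper76
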