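import Mathlib
import Groth.Prelude.Def_ArtFun5
import Groth.Agent.Lib.Helper76.SchlDer
import Groth.Agent.Lib.Helper94.ArtFun

set_option autoImplicit false
universe u v

namespace Groth.Agent.Lib.Helper76

open ArtFun ArtFun.Art CategoryTheory

section Modify

variable {Λ : Type u} {k : Type u} [CommRing Λ] [Field k] [Algebra Λ k]
variable {R : Type u} [CommRing R] [Algebra Λ R] [Algebra R k] [IsScalarTower Λ R k]
variable {resR : R →ₐ[Λ] k} (hres : ∀ r, resR r = algebraMap R k r)

include hres in
/-- **Modification of a lift by a derivation**: for `t` in the socle of `B` and a derivation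
`D : R → k`, the map `r ↦ ψ r + D(r) t` is again an element of `h_R(B)`. -/
theorem exists_modify {B : Art Λ k} (t : B.carrier)
    (ht : ∀ b : B.carrier, b ∈ IsLocalRing.maximalIdeal B.carrier → b * t = 0)
    (htm : t ∈ IsLocalRing.maximalIdeal B.carrier)
    (ψ : HomSet R resR B) (D : Derivation Λ R k) :
    ∃ ψ' : HomSet R resR B, ∀ r : R, ∀ b : B.carrier, B.res b = D r → ψ'.1 r = ψ.1 r + b * t := by
  obtain ⟨ψh, hψh⟩ : ∃ ψh : R →ₐ[Λ] B.carrier, ψh = ψ.1 := ⟨_, rfl⟩
  have hresψ : ∀ r, B.res (ψh r) = algebraMap R k r := fun r => by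
    rw [hψh, ← hres]; exact DFunLike.congr_fun ψ.2 r
  let β : k → B.carrier := Function.surjInv B.res_surjective
  have hβ : ∀ c, B.res (β c) = c := Function.surjInv_eq B.res_surjective
  have key : ∀ b b' : B.carrier, B.res b = B.res b' → b * t = b' * t := by
    intro b b' h
    rw [← sub_eq_zero, ← sub_mul]
    apply ht
    rw [Art.mem_maximalIdeal_iff, map_sub, h, sub_self]
  have ht2 : t * t = 0 := ht t htm
  have hrest : B.res t = 0 := (Art.mem_maximalIdeal_iff B t).1 htm
  let ψ'h : R →ₐ[Λ] B.carrier :=
    { toFun := fun r => ψh r + β (D r) * t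
      map_one' := by
        rw [map_one, D.map_one_eq_zero, key (β 0) 0 (by rw [hβ, map_zero]), zero_mul, add_zero]
      map_mul' := fun a b => by
        have h1 : β (D (a * b)) * t = (ψh a * β (D b) + ψh b * β (D a)) * t := by
          apply key
          rw [hβ, D.leibniz, map_add B.res, map_mul B.res, map_mul B.res, hβ, hβ, hresψ, hresψ,
            Algebra.smul_def, Algebra.smul_def]
        rw [map_mul, h1]
        have : (ψh a + β (D a) * t) * (ψh b + β (D b) * t) =
            ψh a * ψh b + (ψh a * β (D b) + ψh b * β (D a)) * t + β (D a) * β (D b) * (t * t) := by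
          ring
        rw [this, ht2, mul_zero, add_zero]
      map_zero' := by
        rw [map_zero, map_zero, key (β 0) 0 (by rw [hβ, map_zero]), zero_mul, add_zero]
      map_add' := fun a b => by
        have h1 : β (D (a + b)) * t = (β (D a) + β (D b)) * t := by
          apply key
          rw [hβ, map_add D, map_add B.res, hβ, hβ]
        rw [map_add, h1]
        ring
      commutes' := fun c => by
        show ψh (algebraMap Λ R c) + β (D (algebraMap Λ R c)) * t = _
        rw [D.map_algebraMap, key (β 0) 0 (by rw [hβ, map_zero]), zero_mul, add_zero, ψh.commutes] }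
  refine ⟨⟨ψ'h, ?_⟩, ?_⟩
  · apply AlgHom.ext
    intro r
    show B.res (ψh r + β (D r) * t) = resR r
    rw [map_add, map_mul, hrest, mul_zero, add_zero, hresψ, hres]
  · intro r b hb
    show ψh r + β (D r) * t = ψ.1 r + b * t
    rw [hψh, key (β (D r)) b (by rw [hβ, hb])]

end Modify

end Groth.Agent.Lib.Helper76
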