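import Mathlib
import Groth.Prelude.Def_ArtFun5
import Groth.Agent.Lib.Helper76.SchlDer
import Groth.Agent.Lib.Helper76.SchlModify
import Groth.Agent.Lib.Helper76.SchlQuot
import Groth.Agent.Lib.Helper76.SchlAux2
import Groth.Agent.Lib.Helper94.ArtFun
import Groth.Agent.S12715
import Groth.Agent.S12727
import Groth.Agent.S12728

set_option autoImplicit false
universe u v

namespace Groth.Agent.Lib.Helper76

open ArtFun ArtFun.Art CategoryTheory

section QuotLift

variable {Λ k : Type u} [CommRing Λ] [Field k] [Algebra Λ k]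
variable (S : CRing Λ k) (K : Ideal S.carrier) (hK : K ≤ IsLocalRing.maximalIdeal S.carrier)

/-- maps out of a quotient coefficient ring -/
theorem quotCRing_lift {A : Art Λ k} (φ : HomSet S.carrier S.res A)
    (hφ : ∀ s ∈ K, φ.1 s = 0) :
    ∃ φ₁ : HomSet (quotCRing S K hK).carrier (quotCRing S K hK).res A,
      homSetPre (quotCRingMk S K hK) (quotCRing_res_comp S K hK) φ₁ = φ := by
  refine ⟨⟨Ideal.Quotient.liftₐ K φ.1 (fun a ha => hφ a ha), ?_⟩, ?_⟩
  · apply AlgHom.ext
    intro r
    obtain ⟨s, rfl⟩ := quotCRingMk_surjective S K hK r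
    exact DFunLike.congr_fun φ.2 s
  · exact Subtype.ext (AlgHom.ext fun s => rfl)

end QuotLift

section DerComp

variable {Λ k : Type u} [CommRing Λ] [Field k] [Algebra Λ k]
variable {R R₁ : Type u} [CommRing R] [Algebra Λ R] [Algebra R k] [IsScalarTower Λ R k]
  [CommRing R₁] [Algebra Λ R₁] [Algebra R₁ k] [IsScalarTower Λ R₁ k]

/-- restriction of derivations along an augmented algebra map -/
noncomputable def derComp (q : R →ₐ[Λ] R₁) (hq : ∀ r, algebraMap R₁ k (q r) = algebraMap R k r) :
    Derivation Λ R₁ k →ₗ[k] Derivation Λ R k where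
  toFun D :=
    { toLinearMap := D.toLinearMap.comp q.toLinearMap
      map_one_eq_zero' := by
        show D (q 1) = 0
        rw [map_one, D.map_one_eq_zero]
      leibniz' := fun a b => by
        show D (q (a * b)) = a • D (q b) + b • D (q a)
        rw [map_mul, D.leibniz, Algebra.smul_def, Algebra.smul_def, Algebra.smul_def, Algebra.smul_def,
          hq, hq] }
  map_add' D D' := Derivation.ext fun _ => rfl
  map_smul' c D := Derivation.ext fun _ => rfl

theorem derComp_apply (q : R →ₐ[Λ] R₁) (hq : ∀ r, algebraMap R₁ k (q r) = algebraMap R k r)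
    (D : Derivation Λ R₁ k) (r : R) : derComp q hq D r = D (q r) := rfl

theorem derComp_injective (q : R →ₐ[Λ] R₁) (hq : ∀ r, algebraMap R₁ k (q r) = algebraMap R k r)
    (hsurj : Function.Surjective q) : Function.Injective (derComp q hq) := by
  intro D D' h
  apply Derivation.ext
  intro r₁
  obtain ⟨r, rfl⟩ := hsurj r₁
  exact DFunLike.congr_fun h r

end DerComp

end Groth.Agent.Lib.Helper76
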