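import Mathlib
import Groth.Prelude.Def_ArtFun5
import Groth.Agent.Lib.Helper76.ArtFibre
import Groth.Agent.Lib.Helper94.ArtFun

set_option autoImplicit false
universe u v

namespace Groth.Agent.Lib.Helper76

open ArtFun ArtFun.Art CategoryTheory

section TangentObj

variable {Λ k : Type u} [CommRing Λ] [Field k] [Algebra Λ k]
variable {F : Art Λ k ⥤ Type v}

theorem tsze_mul_eq_zero {K : Type*} [Field K] (x y : TrivSqZeroExt K K)
    (hx : TrivSqZeroExt.fst x = 0) (hy : TrivSqZeroExt.fst y = 0) : x * y = 0 := by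
  apply TrivSqZeroExt.ext
  · rw [TrivSqZeroExt.fst_mul, hx, zero_mul, TrivSqZeroExt.fst_zero]
  · rw [TrivSqZeroExt.snd_mul, hx, hy, zero_smul, MulOpposite.op_zero, zero_smul, add_zero,
      TrivSqZeroExt.snd_zero]

theorem dual_mul_eq_zero (x y : (dual Λ k).carrier)
    (hx : x ∈ IsLocalRing.maximalIdeal (dual Λ k).carrier)
    (hy : y ∈ IsLocalRing.maximalIdeal (dual Λ k).carrier) : x * y = 0 := by
  rw [Art.mem_maximalIdeal_iff] at hx hy
  exact tsze_mul_eq_zero (K := k) x y hx hy

/-- the set of tangent vectors reached from an element `ξ ∈ F(A)` -/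
def reached (A : Art Λ k) (ξ : F.obj A) : Set (F.obj (dual Λ k)) :=
  {v | ∃ θ : A ⟶ dual Λ k, F.map θ ξ = v}

variable [TangentStr F]

theorem reached_add (A : Art Λ k) (ξ : F.obj A) {v w : TangentSpace F}
    (hv : v ∈ reached A ξ) (hw : w ∈ reached A ξ) : v + w ∈ reached A ξ := by
  obtain ⟨θ, rfl⟩ := hv
  obtain ⟨θ', rfl⟩ := hw
  have h : θ ≫ toBase (dual Λ k) = θ' ≫ toBase (dual Λ k) := by
    rw [eq_toBase (θ ≫ toBase _), eq_toBase (θ' ≫ toBase _)]
  let χ : A ⟶ dual2 Λ k := fp_lift isFibreProd_dual2 θ θ' h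
  have h₁ : χ ≫ pr₁ = θ := fp_lift_fst _ _ _ _
  have h₂ : χ ≫ pr₂ = θ' := fp_lift_snd _ _ _ _
  refine ⟨χ ≫ plus, ?_⟩
  have := TangentStr.add_eq (F := F) (F.map χ ξ)
  rw [← Functor.map_comp_apply, ← Functor.map_comp_apply, ← Functor.map_comp_apply, h₁, h₂] at this
  exact this.symm

theorem reached_smul (A : Art Λ k) (ξ : F.obj A) (c : k) {v : TangentSpace F}
    (hv : v ∈ reached A ξ) : c • v ∈ reached A ξ := by
  obtain ⟨θ, rfl⟩ := hv
  refine ⟨θ ≫ scale c, ?_⟩
  rw [Functor.map_comp_apply]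
  exact (TangentStr.smul_eq (F := F) c _).symm

theorem reached_zero (A : Art Λ k) (ξ : F.obj A) : (0 : TangentSpace F) ∈ reached A ξ := by
  have h : F.map (toBase A ≫ baseToDual) ξ ∈ reached A ξ := ⟨_, rfl⟩
  have := reached_smul A ξ 0 h
  rwa [zero_smul] at this

theorem span_le_reached (A : Art Λ k) (ξ : F.obj A) (s : Set (TangentSpace F))
    (hs : s ⊆ reached A ξ) : (Submodule.span k s : Set (TangentSpace F)) ⊆ reached A ξ := by
  intro v hv
  induction hv using Submodule.span_induction with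
  | mem x hx => exact hs hx
  | zero => exact reached_zero A ξ
  | add x y _ _ hx hy => exact reached_add A ξ hx hy
  | smul c x _ hx => exact reached_smul A ξ c hx

/-- **A tangent-surjective object**: under `H0`, `S1` and `Hfin` there is an object `A` with
`m_A² = 0` and `ξ ∈ F(A)` from which every tangent vector is reached. -/
theorem exists_tangent_surjective (h0 : H0 F) (h1 : S1 F) (h3 : Hfin F) :
    ∃ (A : Art Λ k) (ξ : F.obj A),
      (∀ x y : A.carrier, x ∈ IsLocalRing.maximalIdeal A.carrier →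
        y ∈ IsLocalRing.maximalIdeal A.carrier → x * y = 0) ∧
      ∀ v : F.obj (dual Λ k), ∃ θ : A ⟶ dual Λ k, F.map θ ξ = v := by
  classical
  obtain ⟨x₀⟩ := h0.1
  have hfin : Module.Finite k (TangentSpace F) := h3
  obtain ⟨s, hs⟩ := hfin.fg_top
  -- the main induction over finite sets of tangent vectors
  have key : ∀ s : Finset (TangentSpace F), ∃ (A : Art Λ k) (ξ : F.obj A),
      (∀ x y : A.carrier, x ∈ IsLocalRing.maximalIdeal A.carrier →
        y ∈ IsLocalRing.maximalIdeal A.carrier → x * y = 0) ∧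
      (s : Set (TangentSpace F)) ⊆ reached A ξ := by
    intro s
    induction s using Finset.induction_on with
    | empty =>
      refine ⟨base Λ k, x₀, ?_, by simp⟩
      intro x y hx _
      rw [Art.mem_maximalIdeal_iff] at hx
      have : x = 0 := hx
      rw [this, zero_mul]
    | insert v₀ s _ ih =>
      obtain ⟨A', ξ', hA', hξ'⟩ := ih
      have hsurj : Function.Surjective (toBase (dual Λ k)) := (dual Λ k).res_surjective
      let A := Helper94.fibreProd (toBase A') (toBase (dual Λ k)) hsurj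
      let p' : A ⟶ A' := Helper94.fibreProdFst _ _ hsurj
      let p'' : A ⟶ dual Λ k := Helper94.fibreProdSnd _ _ hsurj
      have hA : IsFibreProd p' p'' (toBase A') (toBase (dual Λ k)) :=
        Helper94.isFibreProd_fibreProd _ _ hsurj
      obtain ⟨ξ, hξ⟩ := h1 p' p'' _ _ hA hsurj ⟨(ξ', v₀), h0.2.elim _ _⟩
      have hξ₁ : F.map p' ξ = ξ' := congrArg (fun t => t.1.1) hξ
      have hξ₂ : F.map p'' ξ = v₀ := congrArg (fun t => t.1.2) hξ
      refine ⟨A, ξ, ?_, ?_⟩
      · intro x y hx hy
        apply fp_eq_zero_of_mem_ker hA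
        · rw [map_mul]
          apply hA'
          · rw [Art.mem_maximalIdeal_iff, Art.res_app]; exact (Art.mem_maximalIdeal_iff A x).1 hx
          · rw [Art.mem_maximalIdeal_iff, Art.res_app]; exact (Art.mem_maximalIdeal_iff A y).1 hy
        · rw [map_mul]
          apply dual_mul_eq_zero
          · rw [Art.mem_maximalIdeal_iff, Art.res_app]; exact (Art.mem_maximalIdeal_iff A x).1 hx
          · rw [Art.mem_maximalIdeal_iff, Art.res_app]; exact (Art.mem_maximalIdeal_iff A y).1 hy
      · intro v hv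
        rw [Finset.coe_insert, Set.mem_insert_iff] at hv
        rcases hv with rfl | hv
        · exact ⟨p'', hξ₂⟩
        · obtain ⟨θ, hθ⟩ := hξ' hv
          exact ⟨p' ≫ θ, by rw [Functor.map_comp_apply, hξ₁, hθ]⟩
  obtain ⟨A, ξ, hA, hξ⟩ := key s
  refine ⟨A, ξ, hA, fun v => ?_⟩
  have := span_le_reached A ξ _ hξ
  rw [hs] at this
  exact this (Submodule.mem_top)

end TangentObj

end Groth.Agent.Lib.Helper76
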