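import Mathlib
import Groth.Prelude.Def_ArtFun5
import Groth.Agent.Lib.Helper76.SchlTower
import Groth.Agent.S12728

set_option autoImplicit false
universe u v

namespace Groth.Agent.Lib.Helper76

open ArtFun ArtFun.Art CategoryTheory

section SmallBaseChange

variable {Λ k : Type u} [CommRing Λ] [Field k] [Algebra Λ k]
variable {B A A' A'' : Art Λ k} {p' : B ⟶ A'} {p'' : B ⟶ A''} {f' : A' ⟶ A} {f'' : A'' ⟶ A}

/-- the base change of a small extension is a small extension -/
theorem isSmallExt_fst (h : IsFibreProd p' p'' f' f'') (hf'' : IsSmallExt f'') : IsSmallExt p' := by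
  obtain ⟨t, ht0, hker, hm⟩ := Helper94.smallExt_exists_generator hf''
  have htker : f'' t = 0 := by
    have : t ∈ RingHom.ker f''.toAlgHom := by rw [hker]; exact Ideal.subset_span rfl
    exact this
  obtain ⟨b₀, hb₀', hb₀''⟩ := h.surj 0 t (by rw [map_zero, htker])
  have hb₀ne : b₀ ≠ 0 := by
    rintro rfl
    rw [map_zero] at hb₀''
    exact ht0 hb₀''.symm
  have hkerp : RingHom.ker p'.toAlgHom = Ideal.span {b₀} := by
    apply le_antisymm
    · intro b hb
      have hb' : p' b = 0 := hb
      have h1 : p'' b ∈ RingHom.ker f''.toAlgHom := by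
        rw [RingHom.mem_ker]
        have := h.w_apply b
        rw [hb', map_zero] at this
        exact this.symm
      rw [hker, Ideal.mem_span_singleton'] at h1
      obtain ⟨a, ha⟩ := h1
      obtain ⟨b₁, hb₁⟩ := B.res_surjective (A''.res a)
      rw [Ideal.mem_span_singleton']
      refine ⟨b₁, ?_⟩
      apply h.inj
      · rw [map_mul, hb₀', mul_zero, hb']
      · rw [map_mul, hb₀'', ← ha, ← sub_eq_zero, ← sub_mul]
        apply hm
        rw [Art.mem_maximalIdeal_iff, map_sub, Art.res_app, hb₁, sub_self]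
    · rw [Ideal.span_singleton_le_iff_mem]
      exact hb₀'
  refine ⟨fp_fst_surjective h hf''.1, ?_, ⟨b₀, hkerp⟩, ?_⟩
  · rw [hkerp]
    intro h0
    apply hb₀ne
    have : b₀ ∈ (⊥ : Ideal B) := by rw [← h0]; exact Ideal.subset_span rfl
    exact this
  · rw [eq_bot_iff, Ideal.mul_le]
    intro x hx b hb
    have hb' : p' b = 0 := hb
    rw [Ideal.mem_bot]
    apply fp_eq_zero_of_mem_ker h
    · rw [map_mul, hb', mul_zero]
    · have h1 : p'' b ∈ RingHom.ker f''.toAlgHom := by
        rw [RingHom.mem_ker]
        have := h.w_apply b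
        rw [hb', map_zero] at this
        exact this.symm
      rw [hker, Ideal.mem_span_singleton'] at h1
      obtain ⟨a, ha⟩ := h1
      rw [map_mul, ← ha, mul_left_comm, hm _ ?_, mul_zero]
      rw [Art.mem_maximalIdeal_iff, Art.res_app]
      exact (Art.mem_maximalIdeal_iff B x).1 hx

end SmallBaseChange

end Groth.Agent.Lib.Helper76
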