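import Mathlib
import Groth.Prelude.Def_ArtFun5
import Groth.Agent.Lib.Helper76.SchlTower
import Groth.Agent.S12728
import Groth.Agent.Lib.Helper76.SchlAux1
import Groth.Agent.Lib.Helper76.SchlAux2

set_option autoImplicit false
universe u v

namespace Groth.Agent.Lib.Helper76

open ArtFun ArtFun.Art CategoryTheory

section Main

variable {Λ k : Type u} [CommRing Λ] [Field k] [Algebra Λ k]
variable {S : CRing Λ k} {F : Art Λ k ⥤ Type v}

/-- **Schlessinger's construction**: a versal family from a smooth coefficient ring `S` and a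
tangent-surjective stage `Tstar` over the residue field. -/
theorem exists_versal_of_stage (hS : IsSmoothFunctor (hR S.carrier S.res))
    (h0 : H0 F) (h1 : S1 F) (h2 : Heps F) (Tstar : Stage S F)
    (hstar : IsLocalRing.maximalIdeal S.carrier ^ 2 ≤ Tstar.ker)
    (hts : ∀ v : F.obj (dual Λ k), ∃ θ : Tstar.A ⟶ dual Λ k, F.map θ Tstar.ξ = v) :
    ∃ (R : CRing Λ k) (ξ : Family R.carrier R.res F) (g : S.carrier →ₐ[Λ] R.carrier)
      (hg : R.res.comp g = S.res),
      IsVersal ξ ∧ Function.Surjective g ∧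
        ∃ ρ' : HomSet R.carrier R.res Tstar.A, homSetPre g hg ρ' = Tstar.π ∧ ξ.app _ ρ' = Tstar.ξ := by
  obtain ⟨x₀⟩ := h0.1
  let tw := tower Tstar x₀
  have hmin : ∀ n, Stage.IsMin (tw n) Tstar (tw (n + 1)) := tower_isMin h0 Tstar hstar x₀
  have hstrict := tower_strict h0 Tstar hstar x₀
  let K := towerKer Tstar x₀
  have hK : K ≤ IsLocalRing.maximalIdeal S.carrier := towerKer_le_maximalIdeal Tstar x₀
  let R := quotCRing S K hK
  let g : S.carrier →ₐ[Λ] R.carrier := quotCRingMk S K hK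
  have hgsurj : Function.Surjective g := quotCRingMk_surjective S K hK
  have hg : R.res.comp g = S.res := quotCRing_res_comp S K hK
  have hg0 : ∀ s, g s = 0 ↔ s ∈ K := quotCRingMk_eq_zero_iff S K hK
  -- the transition maps
  have hμ : ∀ n, ∃ μ : (tw (n + 1)).A ⟶ (tw n).A, HomSet.map μ (tw (n + 1)).π = (tw n).π ∧
      F.map μ (tw (n + 1)).ξ = (tw n).ξ := fun n => (hmin n).1.1
  choose μ hμπ hμξ using hμ
  -- the projections `R → A_n`
  have hpb : ∀ n, ∃ pb : HomSet R.carrier R.res (tw n).A, homSetPre g hg pb = (tw n).π := by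
    intro n
    have hle : K ≤ RingHom.ker ((tw n).hom : S.carrier →+* (tw n).A.carrier) := towerKer_le Tstar x₀ n
    refine ⟨⟨Ideal.Quotient.liftₐ K (tw n).hom (fun a ha => hle ha), ?_⟩, ?_⟩
    · apply AlgHom.ext
      intro r
      obtain ⟨s, rfl⟩ := hgsurj r
      exact (tw n).res_hom s
    · exact Subtype.ext (AlgHom.ext fun s => rfl)
  choose pb hpb using hpb
  have hpbμ : ∀ n, HomSet.map (μ n) (pb (n + 1)) = pb n := by
    intro n
    apply homSetPre_injective g hg hgsurj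
    rw [homSetPre_map, hpb, hpb, hμπ]
  -- powers of the maximal ideal of `R`
  have hmR : ∀ n, CRing.mpow R n = (IsLocalRing.maximalIdeal S.carrier ^ (n + 1)).map (g : S.carrier →+* R.carrier) := by
    intro n
    show IsLocalRing.maximalIdeal R.carrier ^ (n + 1) = _
    rw [Ideal.map_pow]
    congr 1
    exact quotCRing_maximalIdeal S K hK
  -- `θ_n : A_n → R/m^(n+1)`
  let φ : ∀ n, HomSet S.carrier S.res (R.trunc n) := fun n => homSetPre g hg (R.truncHom n)
  have hφker : ∀ n, RingHom.ker ((tw n).π.1 : S.carrier →+* (tw n).A) ≤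
      RingHom.ker ((φ n).1 : S.carrier →+* (R.trunc n)) := by
    intro n s hs
    have hs' : s ∈ (tw n).ker := hs
    obtain ⟨a, ha, b, hb, rfl⟩ := Submodule.mem_sup.1 (tower_ker_le_sup h0 Tstar hstar x₀ n hs')
    rw [RingHom.mem_ker]
    show (R.truncHom n).1 (g (a + b)) = 0
    rw [map_add, (hg0 a).2 ha, zero_add]
    have : g b ∈ CRing.mpow R n := by
      rw [hmR]
      exact Ideal.mem_map_of_mem _ hb
    exact Ideal.Quotient.eq_zero_iff_mem.2 this
  let θ : ∀ n, (tw n).A ⟶ R.trunc n := fun n => homOfKerLe (tw n).π (tw n).surj (φ n) (hφker n)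
  have hθ : ∀ n, HomSet.map (θ n) (tw n).π = φ n := fun n => map_homOfKerLe _ _ _ _
  have hθpb : ∀ n, HomSet.map (θ n) (pb n) = R.truncHom n := by
    intro n
    apply homSetPre_injective g hg hgsurj
    rw [homSetPre_map, hpb, hθ]
  -- `σ_n : R/m^(n+1) → A_n`
  have hσker : ∀ n, CRing.mpow R n ≤ RingHom.ker ((pb n).1 : R.carrier →+* (tw n).A) := by
    intro n
    rw [hmR, Ideal.map_le_iff_le_comap]
    intro s hs
    rw [Ideal.mem_comap, RingHom.mem_ker]
    have h1 : (pb n).1 (g s) = (tw n).hom s := AlgHom.congr_fun (congrArg Subtype.val (hpb n)) s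
    exact h1.trans ((hstrict n).1 hs)
  let σ : ∀ n, R.trunc n ⟶ (tw n).A := fun n => Groth.Agent.S12250.fac R (pb n) n (hσker n)
  have hσ : ∀ n, HomSet.map (σ n) (R.truncHom n) = pb n :=
    fun n => Groth.Agent.S12250.map_fac_truncHom R (pb n) n (hσker n)
  have hθσ : ∀ n, θ n ≫ σ n = 𝟙 _ := by
    intro n
    apply hom_ext_of_surjective (tw n).π (tw n).surj
    rw [homSet_map_comp', hθ, homSet_map_id', ← hpb n, ← homSetPre_map, hσ]
  -- the formal element
  have hcompat : ∀ n, θ (n + 1) ≫ R.truncMap n = μ n ≫ θ n := by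
    intro n
    apply hom_ext_of_surjective (tw (n + 1)).π (tw (n + 1)).surj
    rw [homSet_map_comp', homSet_map_comp', hθ, hμπ, hθ]
    show HomSet.map (R.truncMap n) (homSetPre g hg (R.truncHom (n + 1))) = homSetPre g hg (R.truncHom n)
    rw [← homSetPre_map, CRing.truncMap_truncHom]
  let u : FormalElt F R :=
    { elt := fun n => F.map (θ n) (tw n).ξ
      compat := fun n => by
        rw [← Functor.map_comp_apply, hcompat, Functor.map_comp_apply, hμξ] }
  let ξ : Family R.carrier R.res F := Groth.Agent.S12250.ofFormal R u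
  have hξtrunc : ∀ n, ξ.app _ (R.truncHom n) = F.map (θ n) (tw n).ξ := fun n => ofFormal_truncHom R u n
  have hξpb : ∀ n, ξ.app _ (pb n) = (tw n).ξ := by
    intro n
    rw [← hσ n, ξ.natural, hξtrunc, ← Functor.map_comp_apply, hθσ, Functor.map_id_apply]
  -- domination of `Tstar`
  obtain ⟨ρ, hρπ, hρξ⟩ := (hmin 0).1.2.2
  refine ⟨R, ξ, g, hg, ?_, hgsurj, HomSet.map ρ (pb 1), ?_, ?_⟩
  · -- versality
    apply Groth.Agent.S12728.versal_of_conditions h1 h2 ξ
    · intro v
      obtain ⟨θv, hθv⟩ := hts v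
      refine ⟨HomSet.map (ρ ≫ θv) (pb 1), ?_⟩
      show ξ.app _ (HomSet.map (ρ ≫ θv) (pb 1)) = v
      rw [ξ.natural, hξpb, Functor.map_comp_apply, hρξ, hθv]
    · intro B A μBA hμBA ψ y hy
      obtain ⟨n, hn⟩ := Groth.Agent.S12250.exists_le_ker R ψ
      let ψn : R.trunc n ⟶ A := Groth.Agent.S12250.fac R ψ n hn
      have hψn : HomSet.map ψn (R.truncHom n) = ψ := Groth.Agent.S12250.map_fac_truncHom R ψ n hn
      let f : (tw n).A ⟶ A := θ n ≫ ψn
      have hf : HomSet.map f (pb n) = ψ := by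
        rw [homSet_map_comp', hθpb, hψn]
      have hξψ : ξ.app A ψ = F.map f (tw n).ξ := by
        rw [← hf, ξ.natural, hξpb]
      let C := Helper94.fibreProd f μBA hμBA.1
      let c₁ : C ⟶ (tw n).A := Helper94.fibreProdFst f μBA hμBA.1
      let c₂ : C ⟶ B := Helper94.fibreProdSnd f μBA hμBA.1
      have hC : IsFibreProd c₁ c₂ f μBA := Helper94.isFibreProd_fibreProd f μBA hμBA.1
      have hc₁ : IsSmallExt c₁ := isSmallExt_fst hC hμBA
      obtain ⟨z, hz⟩ := h1 c₁ c₂ f μBA hC hμBA.1 ⟨((tw n).ξ, y), by rw [hy, hξψ]⟩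
      have hz₁ : F.map c₁ z = (tw n).ξ := congrArg (fun t => t.1.1) hz
      obtain ⟨ν, hν⟩ := (hmin n).lifting hS h1 (μ n) (hμπ n) (hμξ n) c₁ hc₁ z hz₁
      refine ⟨HomSet.map (ν ≫ c₂) (pb (n + 1)), ?_⟩
      rw [← homSet_map_comp', Category.assoc, ← hC.w, ← Category.assoc, hν, homSet_map_comp',
        hpbμ, hf]
  · rw [homSetPre_map, hpb, hρπ]
  · rw [ξ.natural, hξpb, hρξ]

end Main

end Groth.Agent.Lib.Helper76

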