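import Mathlib
import Groth.Prelude.Def_ArtFun5
import Groth.Agent.Lib.Helper76.SchlVersal
import Groth.Agent.Lib.Helper76.SchlTangent
import Groth.Agent.Lib.Helper76.SchlCompl

set_option autoImplicit false
universe u v

namespace Groth.Agent.Lib.Helper76

open ArtFun ArtFun.Art CategoryTheory

section Exist

variable {Λ k : Type u} [CommRing Λ] [Field k] [Algebra Λ k]

/-- every object of `Art Λ k` is a quotient of a polynomial ring in finitely many variables -/
theorem exists_mvPolynomial_surjective [Module.Finite Λ k] (A : Art Λ k) :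
    ∃ (n : ℕ) (φ : MvPolynomial (Fin n) Λ →ₐ[Λ] A.carrier), Function.Surjective φ := by
  classical
  have hfinA : Module.Finite Λ A.carrier := finite_carrier A
  obtain ⟨s, hs⟩ := hfinA.fg_top
  let a : Fin s.card → A.carrier := fun i => (s.equivFin.symm i : A.carrier)
  have ha : Set.range a = (s : Set A.carrier) := by
    ext x
    constructor
    · rintro ⟨i, rfl⟩
      exact (s.equivFin.symm i).2
    · intro hx
      exact ⟨s.equivFin ⟨x, hx⟩, by simp [a]⟩
  refine ⟨s.card, MvPolynomial.aeval a, ?_⟩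
  rw [← AlgHom.range_eq_top, ← Algebra.adjoin_range_eq_range_aeval, ha, eq_top_iff]
  intro x _
  have hx : x ∈ Submodule.span Λ (s : Set A.carrier) := by rw [hs]; exact Submodule.mem_top
  exact Algebra.span_le_adjoin Λ _ hx

variable [IsNoetherianRing Λ] [Module.Finite Λ k]

/-- **Schlessinger**: existence of a versal family. -/
theorem exists_versal {F : Art Λ k ⥤ Type v} [TangentStr F]
    (h0 : H0 F) (h1 : S1 F) (h2 : Heps F) (h3 : Hfin F) :
    ∃ (R : CRing Λ k) (ξ : Family R.carrier R.res F), IsVersal ξ := by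
  obtain ⟨A, ξA, hA, hts⟩ := exists_tangent_surjective h0 h1 h3
  obtain ⟨n, φ, hφ⟩ := exists_mvPolynomial_surjective A
  let resP : MvPolynomial (Fin n) Λ →ₐ[Λ] k := A.res.comp φ
  have hres : Function.Surjective resP := A.res_surjective.comp hφ
  let S := complCRing (MvPolynomial (Fin n) Λ) resP hres
  have hS : IsSmoothFunctor (hR S.carrier S.res) :=
    compl_isSmoothFunctor hres (mvPolynomial_isSmoothFunctor (Fin n) resP)
  obtain ⟨ψ, hψ⟩ := compl_exists_ext hres A ⟨φ, rfl⟩
  have hψsurj : Function.Surjective ψ.1 := by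
    intro x
    obtain ⟨p, rfl⟩ := hφ x
    exact ⟨complOf _ resP hres p, AlgHom.congr_fun hψ p⟩
  let Tstar : Stage S F := ⟨A, ψ, hψsurj, ξA⟩
  have hstar : IsLocalRing.maximalIdeal S.carrier ^ 2 ≤ Tstar.ker := by
    rw [sq, Ideal.mul_le]
    intro x hx y hy
    rw [Stage.mem_ker, map_mul]
    exact hA _ _ ((Stage.mem_maximalIdeal_iff_hom Tstar x).1 hx)
      ((Stage.mem_maximalIdeal_iff_hom Tstar y).1 hy)
  obtain ⟨R, ξ, g, hg, hv, -, -⟩ := exists_versal_of_stage hS h0 h1 h2 Tstar hstar hts
  exact ⟨R, ξ, hv⟩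

end Exist

end Groth.Agent.Lib.Helper76
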