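import Mathlib
import Groth.Prelude.Def_ArtFun5
import Groth.Agent.Lib.Helper76.ArtLimit
import Groth.Agent.Lib.Helper76.SchlExist
import Groth.Agent.Lib.Helper76.SchlDerComp

set_option autoImplicit false
universe u v

namespace Groth.Agent.Lib.Helper76

open IsLocalRing ArtFun ArtFun.Art CategoryTheory


section LimitProps

variable {Λ k : Type u} [CommRing Λ] [Field k] [Algebra Λ k]

theorem cring_ker_res (S : CRing Λ k) : RingHom.ker S.res = maximalIdeal S.carrier := by
  ext x
  rw [RingHom.mem_ker, CRing.mem_maximalIdeal_iff]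

/-- properties of a coefficient ring mapping compatibly, surjectively and jointly injectively to a
surjective system of Artinian rings -/
theorem limit_props (S : CRing Λ k) (A : ℕ → Art Λ k) (f : ∀ n, A (n + 1) ⟶ A n)
    (π : ∀ n, HomSet S.carrier S.res (A n))
    (hπ : ∀ n, HomSet.map (f n) (π (n + 1)) = π n)
    (hsurj : ∀ n, Function.Surjective (π n).1)
    (hinj : ∀ s : S.carrier, (∀ n, (π n).1 s = 0) → s = 0) :
    (∀ a : ∀ n, A n, (∀ n, f n (a (n + 1)) = a n) → ∃! s : S.carrier, ∀ n, (π n).1 s = a n) ∧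
      (∀ n, ∃ N, RingHom.ker (π N).1 ≤ IsLocalRing.maximalIdeal S.carrier ^ n) ∧
      (∀ n, ∃ N, IsLocalRing.maximalIdeal S.carrier ^ N ≤ RingHom.ker (π n).1) := by
  have hcomp : ∀ n (s : S.carrier), f n ((π (n + 1)).1 s) = (π n).1 s := fun n s =>
    congrArg (fun φ : HomSet S.carrier S.res (A n) => φ.1 s) (hπ n)
  have hopen : ∀ n, ∃ N, maximalIdeal S.carrier ^ N ≤ RingHom.ker (π n).1 := by
    intro n
    obtain ⟨N, hN⟩ := exists_pow_le_ker (A n) (π n)
    rw [cring_ker_res] at hN
    exact ⟨N + 1, hN⟩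
  have hanti : Antitone (fun n => RingHom.ker (π n).1) := by
    apply antitone_nat_of_succ_le
    intro n x hx
    rw [RingHom.mem_ker] at hx ⊢
    rw [← hcomp, hx, map_zero]
  have hcomplete : IsAdicComplete (maximalIdeal S.carrier) S.carrier := S.isAdicComplete
  have hchev : ∀ j, ∃ N, RingHom.ker (π N).1 ≤ maximalIdeal S.carrier ^ j :=
    chevalley (fun n => RingHom.ker (π n).1) hanti hopen (fun x hx => hinj x hx)
  refine ⟨fun a ha => ?_, hchev, hopen⟩
  -- compatibility over several steps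
  have multi : ∀ n m, n ≤ m → ∀ s : S.carrier, (π m).1 s = a m → (π n).1 s = a n := by
    intro n m hnm
    induction m, hnm using Nat.le_induction with
    | base => exact fun s hs => hs
    | succ m hnm ih =>
      intro s hs
      apply ih
      rw [← hcomp, hs, ha]
  choose s hs using fun n => hsurj n (a n)
  choose N hN using hchev
  let M : ℕ → ℕ := fun j => max (max (N j) (N (j + 1))) j
  have hprec : IsPrecomplete (maximalIdeal S.carrier) S.carrier := IsAdicComplete.toIsPrecomplete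
  obtain ⟨L, hL⟩ := exists_adic_limit (maximalIdeal S.carrier) (fun j => s (M j)) (fun j => by
    have h1 : (π (N (j + 1))).1 (s (M j)) = a (N (j + 1)) :=
      multi _ (M j) (le_trans (le_max_right _ _) (le_max_left _ _)) _ (hs _)
    have h2 : (π (N (j + 1))).1 (s (M (j + 1))) = a (N (j + 1)) :=
      multi _ (M (j + 1)) (le_trans (le_max_left _ _) (le_max_left _ _)) _ (hs _)
    have h3 : s (M j) - s (M (j + 1)) ∈ RingHom.ker (π (N (j + 1))).1 := by
      rw [RingHom.mem_ker, map_sub, h1, h2, sub_self]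
    exact Ideal.pow_le_pow_right (Nat.le_succ j) (hN (j + 1) h3))
  have hLa : ∀ n, (π n).1 L = a n := by
    intro n
    obtain ⟨M₀, hM₀⟩ := hopen n
    have h1 : (π n).1 (s (M (max M₀ n))) = a n :=
      multi n _ (le_trans (le_max_right M₀ n) (le_max_right _ _)) _ (hs _)
    have h2 : s (M (max M₀ n)) - L ∈ RingHom.ker (π n).1 :=
      hM₀ (Ideal.pow_le_pow_right (le_max_left M₀ n) (hL _))
    rw [RingHom.mem_ker, map_sub, h1, sub_eq_zero] at h2
    exact h2.symm
  refine ⟨L, hLa, fun s' hs' => ?_⟩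
  rw [← sub_eq_zero]
  apply hinj
  intro n
  rw [map_sub, hs', hLa, sub_self]

end LimitProps



section Core

variable {Λ k : Type u} [CommRing Λ] [Field k] [Algebra Λ k]

theorem art_exists_pow_eq_bot (B : Art Λ k) : ∃ N, maximalIdeal B.carrier ^ N = ⊥ := by
  obtain ⟨N, hN⟩ := IsArtinianRing.isNilpotent_jacobson_bot (R := B.carrier)
  rw [IsLocalRing.jacobson_eq_maximalIdeal ⊥ bot_ne_top] at hN
  exact ⟨N, hN⟩

/-- lifting surjectivity along a surjection with kernel in the square of the maximal ideal -/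
theorem surjective_of_comp_surjective {P : Type*} [CommRing P] [Algebra Λ P] {B A : Art Λ k}
    (f : B ⟶ A) (hker : RingHom.ker f.toAlgHom ≤ maximalIdeal B.carrier ^ 2)
    (φ : P →ₐ[Λ] B.carrier) (h : Function.Surjective (f.toAlgHom.comp φ)) :
    Function.Surjective φ := by
  have : φ.range = ⊤ := by
    apply subalgebra_eq_top_of_sq (art_exists_pow_eq_bot B)
    intro b
    obtain ⟨p, hp⟩ := h (f b)
    refine ⟨φ p, ⟨p, rfl⟩, hker ?_⟩
    rw [RingHom.mem_ker, map_sub, sub_eq_zero]
    exact hp.symm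
  intro b
  have hb : b ∈ φ.range := by rw [this]; exact Algebra.mem_top
  exact hb

variable [Module.Finite Λ k] [IsNoetherianRing Λ]

/-- the case where all the kernels lie in the square of the maximal ideal -/
theorem limit_core (A : ℕ → Art Λ k) (f : ∀ n, A (n + 1) ⟶ A n)
    (hf : ∀ n, Function.Surjective (f n))
    (hker : ∀ n, RingHom.ker (f n).toAlgHom ≤ maximalIdeal (A (n + 1)).carrier ^ 2) :
    ∃ (S : CRing Λ k) (π : ∀ n, HomSet S.carrier S.res (A n)),
      (∀ n, HomSet.map (f n) (π (n + 1)) = π n) ∧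
      (∀ n, Function.Surjective (π n).1) ∧
      (∀ a : ∀ n, A n, (∀ n, f n (a (n + 1)) = a n) → ∃! s : S.carrier, ∀ n, (π n).1 s = a n) ∧
      (∀ n, ∃ N, RingHom.ker (π N).1 ≤ IsLocalRing.maximalIdeal S.carrier ^ n) ∧
      (∀ n, ∃ N, IsLocalRing.maximalIdeal S.carrier ^ N ≤ RingHom.ker (π n).1) := by
  obtain ⟨m, φ₀, hφ₀⟩ := exists_mvPolynomial_surjective (A 0)
  -- compatible lifts
  obtain ⟨φ, hφ0, hφs⟩ : ∃ φ : ∀ n, MvPolynomial (Fin m) Λ →ₐ[Λ] (A n).carrier,
      φ 0 = φ₀ ∧ ∀ n, (f n).toAlgHom.comp (φ (n + 1)) = φ n := by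
    refine ⟨fun n => Nat.rec (motive := fun n => MvPolynomial (Fin m) Λ →ₐ[Λ] (A n).carrier) φ₀
      (fun n φn => MvPolynomial.aeval (fun i => (hf n (φn (MvPolynomial.X i))).choose)) n,
      rfl, fun n => ?_⟩
    apply MvPolynomial.algHom_ext
    intro i
    rw [AlgHom.comp_apply]
    show (f n) (MvPolynomial.aeval _ (MvPolynomial.X i)) = _
    rw [MvPolynomial.aeval_X]
    exact (hf n _).choose_spec
  have hφsurj : ∀ n, Function.Surjective (φ n) := by
    intro n
    induction n with
    | zero => rw [hφ0]; exact hφ₀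
    | succ n ih =>
      apply surjective_of_comp_surjective (f n) (hker n)
      rw [hφs]
      exact ih
  let resP : MvPolynomial (Fin m) Λ →ₐ[Λ] k := (A 0).res.comp (φ 0)
  have hresφ : ∀ n, (A n).res.comp (φ n) = resP := by
    intro n
    induction n with
    | zero => rfl
    | succ n ih => rw [← ih, ← hφs n, ← AlgHom.comp_assoc, (f n).res_comp]
  have hres : Function.Surjective resP := (A 0).res_surjective.comp (hφsurj 0)
  let C := complCRing (MvPolynomial (Fin m) Λ) resP hres
  choose ψ hψ using fun n => compl_exists_ext hres (A n) ⟨φ n, hresφ n⟩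
  have hψcompat : ∀ n, HomSet.map (f n) (ψ (n + 1)) = ψ n := by
    intro n
    apply compl_homSet_ext hres
    show ((f n).toAlgHom.comp (ψ (n + 1)).1).comp (complOf _ resP hres) = _
    rw [AlgHom.comp_assoc, hψ, hψ]
    exact hφs n
  have hψsurj : ∀ n, Function.Surjective (ψ n).1 := by
    intro n x
    obtain ⟨p, rfl⟩ := hφsurj n x
    exact ⟨complOf _ resP hres p, AlgHom.congr_fun (hψ n) p⟩
  let K : Ideal C.carrier := ⨅ n, RingHom.ker (ψ n).1
  have hK : K ≤ maximalIdeal C.carrier := by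
    intro x hx
    have h0 : x ∈ RingHom.ker (ψ 0).1 := (iInf_le _ 0 : K ≤ _) hx
    rw [CRing.mem_maximalIdeal_iff, ← (ψ 0).2, AlgHom.comp_apply, RingHom.mem_ker.1 h0, map_zero]
  let S := quotCRing C K hK
  choose π hπ using fun n => quotCRing_lift C K hK (ψ n) (fun s hs =>
    RingHom.mem_ker.1 ((iInf_le _ n : K ≤ _) hs))
  have hπmk : ∀ n (c : C.carrier), (π n).1 (quotCRingMk C K hK c) = (ψ n).1 c := fun n c =>
    congrArg (fun φ : HomSet C.carrier C.res (A n) => φ.1 c) (hπ n)
  have hπcompat : ∀ n, HomSet.map (f n) (π (n + 1)) = π n := by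
    intro n
    apply homSetPre_injective (quotCRingMk C K hK) (quotCRing_res_comp C K hK)
      (quotCRingMk_surjective C K hK)
    rw [homSetPre_map, hπ, hπ, hψcompat]
  have hπsurj : ∀ n, Function.Surjective (π n).1 := by
    intro n x
    obtain ⟨c, rfl⟩ := hψsurj n x
    exact ⟨quotCRingMk C K hK c, hπmk n c⟩
  have hinj : ∀ s : S.carrier, (∀ n, (π n).1 s = 0) → s = 0 := by
    intro s hs
    obtain ⟨c, rfl⟩ := quotCRingMk_surjective C K hK s
    rw [quotCRingMk_eq_zero_iff]
    refine (Ideal.mem_iInf).2 fun n => ?_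
    rw [RingHom.mem_ker, ← hπmk]
    exact hs n
  exact ⟨S, π, hπcompat, hπsurj, limit_props S A f π hπcompat hπsurj hinj⟩

end Core



section Shift

variable {Λ k : Type u} [CommRing Λ] [Field k] [Algebra Λ k]

/-- the conclusion of the theorem on limits of surjective systems -/
def LimitConcl (A : ℕ → Art Λ k) (f : ∀ n, A (n + 1) ⟶ A n) : Prop :=
  ∃ (S : CRing Λ k) (π : ∀ n, HomSet S.carrier S.res (A n)),
    (∀ n, HomSet.map (f n) (π (n + 1)) = π n) ∧
    (∀ n, Function.Surjective (π n).1) ∧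
    (∀ a : ∀ n, A n, (∀ n, f n (a (n + 1)) = a n) → ∃! s : S.carrier, ∀ n, (π n).1 s = a n) ∧
    (∀ n, ∃ N, RingHom.ker (π N).1 ≤ IsLocalRing.maximalIdeal S.carrier ^ n) ∧
    (∀ n, ∃ N, IsLocalRing.maximalIdeal S.carrier ^ N ≤ RingHom.ker (π n).1)

theorem limit_shift (A : ℕ → Art Λ k) (f : ∀ n, A (n + 1) ⟶ A n)
    (hf0 : Function.Surjective (f 0))
    (h : LimitConcl (fun n => A (n + 1)) (fun n => f (n + 1))) : LimitConcl A f := by
  obtain ⟨S, π', h1, h2, h3, h4, h5⟩ := h
  let π : ∀ n, HomSet S.carrier S.res (A n) := fun n =>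
    Nat.casesOn (motive := fun n => HomSet S.carrier S.res (A n)) n
      (HomSet.map (f 0) (π' 0)) (fun n => π' n)
  have hπ0 : ∀ s, (π 0).1 s = f 0 ((π' 0).1 s) := fun s => rfl
  refine ⟨S, π, ?_, ?_, ?_, ?_, ?_⟩
  · intro n
    cases n with
    | zero => rfl
    | succ n => exact h1 n
  · intro n
    cases n with
    | zero => exact hf0.comp (h2 0)
    | succ n => exact h2 n
  · intro a ha
    obtain ⟨s, hs, huniq⟩ := h3 (fun n => a (n + 1)) (fun n => ha (n + 1))
    refine ⟨s, fun n => ?_, fun s' hs' => huniq s' (fun n => hs' (n + 1))⟩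
    cases n with
    | zero => rw [hπ0, hs 0, ha 0]
    | succ n => exact hs n
  · intro n
    obtain ⟨N, hN⟩ := h4 n
    exact ⟨N + 1, hN⟩
  · intro n
    cases n with
    | zero =>
      obtain ⟨N, hN⟩ := h5 0
      refine ⟨N, hN.trans ?_⟩
      intro x hx
      rw [RingHom.mem_ker] at hx ⊢
      rw [hπ0, hx, map_zero]
    | succ n => exact h5 n

variable [Module.Finite Λ k] [IsNoetherianRing Λ]

theorem limit_of_eventually (N₀ : ℕ) : ∀ (A : ℕ → Art Λ k) (f : ∀ n, A (n + 1) ⟶ A n)
    (_ : ∀ n, Function.Surjective (f n))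
    (_ : ∀ n, N₀ ≤ n → RingHom.ker (f n).toAlgHom ≤ maximalIdeal (A (n + 1)).carrier ^ 2),
    LimitConcl A f := by
  induction N₀ with
  | zero =>
    intro A f hf hker
    exact limit_core A f hf (fun n => hker n (Nat.zero_le n))
  | succ N₀ ih =>
    intro A f hf hker
    exact limit_shift A f (hf 0) (ih (fun n => A (n + 1)) (fun n => f (n + 1))
      (fun n => hf (n + 1)) (fun n hn => hker (n + 1) (Nat.succ_le_succ hn)))

/-- the theorem on limits of surjective systems with bounded embedding dimension -/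
theorem limit_of_bounded (A : ℕ → Art Λ k) (f : ∀ n, A (n + 1) ⟶ A n)
    (hf : ∀ n, Function.Surjective (f n)) (d : ℕ)
    (hd : ∀ n, Module.finrank (IsLocalRing.ResidueField (A n)) (IsLocalRing.CotangentSpace (A n)) ≤ d) :
    LimitConcl A f := by
  let e : ℕ → ℕ := fun n => (maximalIdeal (A n).carrier).spanFinrank
  have he_le : ∀ n, e n ≤ d := by
    intro n
    show (maximalIdeal (A n).carrier).spanFinrank ≤ d
    rw [IsLocalRing.spanFinrank_maximalIdeal_eq_finrank_cotangentSpace]
    exact hd n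
  have hmono : ∀ n, e n ≤ e (n + 1) := by
    intro n
    have h1 : (maximalIdeal (A (n + 1)).carrier).map ((f n).toAlgHom : (A (n + 1)).carrier →+* (A n).carrier) =
        maximalIdeal (A n).carrier :=
      map_maximalIdeal_of_surjective _ (hf n)
    show (maximalIdeal (A n).carrier).spanFinrank ≤ _
    rw [← h1]
    exact Ideal.spanFinrank_map_le_of_fg _ (Ideal.fg_of_isNoetherianRing _)
  let a : ℕ →o Fin (d + 1) :=
    ⟨fun n => ⟨e n, Nat.lt_succ_of_le (he_le n)⟩, monotone_nat_of_le_succ (fun n => hmono n)⟩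
  obtain ⟨N₀, hN₀⟩ := WellFoundedGT.monotone_chain_condition a
  have hstab : ∀ n, N₀ ≤ n → e n = e N₀ := fun n hn =>
    (congrArg Fin.val (hN₀ n hn)).symm
  apply limit_of_eventually N₀ A f hf
  intro n hn
  apply ker_le_sq_of_spanFinrank_le ((f n).toAlgHom : (A (n + 1)).carrier →+* (A n).carrier) (hf n)
  show e (n + 1) ≤ e n
  rw [hstab n hn, hstab (n + 1) (Nat.le_succ_of_le hn)]

end Shift

end Groth.Agent.Lib.Helper76
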