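import Groth.Agent.Lib.Helper3.NormalFlat
import Mathlib

/-!
# Associated primes and regular sequences: a local-to-global criterion (helper76)

* `exists_assPrime_quotSMulTop`: `x ∈ rad B` regular on a finite module `E`, `p₀ ∈ Ass E` ⇒ some
  `p ∈ Ass (E/xE)` contains `p₀`.
* `exists_assPrime_sup_ofList`: iterated version for `B/K` and a weakly regular sequence.
* `assPrimes_subset_of_ec`: a finite module flat over `B/K` has `Ass ⊆ Ass (B/K)`.
* `isSMulRegular_of_local`: torsion argument.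
* `isWeaklyRegular_of_local`: the core lemma.
-/

set_option autoImplicit false
set_option linter.unusedSectionVars false
universe u v
open Pointwise

namespace Groth.Agent.Lib.Helper76.AssCore

open Groth.Agent.Lib.Helper3.EC RingTheory.Sequence

variable {B : Type u} [CommRing B] [IsNoetherianRing B]

theorem exists_assPrime_quotSMulTop {E : Type v} [AddCommGroup E] [Module B E] [Module.Finite B E]
    (x : B) (hx : x ∈ (⊥ : Ideal B).jacobson) (hreg : IsSMulRegular E x)
    (p₀ : Ideal B) (hp₀ : p₀ ∈ associatedPrimes B E) :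
    ∃ p ∈ associatedPrimes B (QuotSMulTop x E), p₀ ≤ p := by
  obtain ⟨hprime, e₀, he₀⟩ := (isAssociatedPrime_iff).mp hp₀
  let J : Submodule B E := Submodule.torsionBySet B E p₀
  have he₀J : e₀ ∈ J := by
    rw [Submodule.mem_torsionBySet_iff]
    rintro ⟨a, ha⟩
    have h1 : a ∈ Submodule.colon (⊥ : Submodule B E) {e₀} := he₀ ▸ ha
    rwa [Submodule.mem_colon_singleton, Submodule.mem_bot] at h1
  have he₀0 : e₀ ≠ 0 := by
    rintro rfl
    apply hprime.ne_top
    rw [he₀]
    ext a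
    simp [Submodule.mem_colon_singleton]
  have hJ : ¬ J ≤ x • (⊤ : Submodule B E) := by
    intro hle
    have h1 : J ≤ (Ideal.span {x}) • J := by
      intro e he
      obtain ⟨e', -, rfl⟩ := (Submodule.mem_smul_pointwise_iff_exists _ _ _).mp (hle he)
      rw [Submodule.ideal_span_singleton_smul]
      refine Submodule.smul_mem_pointwise_smul _ _ _ ?_
      rw [Submodule.mem_torsionBySet_iff] at he ⊢
      intro a
      apply hreg
      change x • ((a : B) • e') = x • (0 : E)
      rw [smul_zero, smul_comm]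
      exact he a
    have h2 := Submodule.eq_bot_of_le_smul_of_le_jacobson_bot (Ideal.span {x}) J
      (IsNoetherian.noetherian J) h1 (by rwa [Ideal.span_singleton_le_iff_mem])
    exact he₀0 ((Submodule.eq_bot_iff _).mp h2 e₀ he₀J)
  obtain ⟨e, heJ, hex⟩ := SetLike.not_le_iff_exists.mp hJ
  have hne : (Submodule.Quotient.mk e : QuotSMulTop x E) ≠ 0 := by
    rwa [Ne, Submodule.Quotient.mk_eq_zero]
  obtain ⟨P, hP, hle⟩ := exists_le_isAssociatedPrime_of_isNoetherianRing B _ hne
  refine ⟨P, hP, fun a ha => hle ?_⟩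
  rw [Submodule.mem_colon_singleton, Submodule.mem_bot, ← Submodule.Quotient.mk_smul]
  rw [Submodule.mem_torsionBySet_iff] at heJ
  rw [heJ ⟨a, ha⟩, Submodule.Quotient.mk_zero]

theorem exists_assPrime_sup_ofList : ∀ (rs : List B) (K : Ideal B),
    (∀ r ∈ rs, r ∈ (⊥ : Ideal B).jacobson) → IsWeaklyRegular (B ⧸ K) rs →
    ∀ p₀ ∈ associatedPrimes B (B ⧸ K),
      ∃ p ∈ associatedPrimes B (B ⧸ (K ⊔ Ideal.ofList rs)), p₀ ≤ p
  | [], K, _, _, p₀, hp₀ => by
    refine ⟨p₀, ?_, le_rfl⟩
    have h1 : K ⊔ Ideal.ofList ([] : List B) = K := by rw [Ideal.ofList_nil, sup_bot_eq]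
    rw [h1]
    exact hp₀
  | x :: rs, K, hjac, hWR, p₀, hp₀ => by
    rw [isWeaklyRegular_cons_iff] at hWR
    obtain ⟨hxK, hWR'⟩ := hWR
    have hWR'' : IsWeaklyRegular (B ⧸ (K ⊔ Ideal.span {x})) rs :=
      (LinearEquiv.isWeaklyRegular_congr (quotSMulTopQuotEquiv K x) rs).mp hWR'
    obtain ⟨p₁, hp₁, hle₁⟩ :=
      exists_assPrime_quotSMulTop x (hjac x List.mem_cons_self) hxK p₀ hp₀
    have hp₁' : p₁ ∈ associatedPrimes B (B ⧸ (K ⊔ Ideal.span {x})) :=
      (LinearEquiv.isAssociatedPrime_iff (quotSMulTopQuotEquiv K x)).mp hp₁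
    obtain ⟨p, hp, hle⟩ := exists_assPrime_sup_ofList rs (K ⊔ Ideal.span {x})
      (fun r hr => hjac r (List.mem_cons_of_mem _ hr)) hWR'' p₁ hp₁'
    refine ⟨p, ?_, hle₁.trans hle⟩
    have h3 : K ⊔ Ideal.ofList (x :: rs) = K ⊔ Ideal.span {x} ⊔ Ideal.ofList rs := by
      rw [Ideal.ofList_cons, sup_assoc]
    rw [h3]
    exact hp

theorem assPrimes_subset_of_ec (K : Ideal B) (N : Type u) [AddCommGroup N] [Module B N]
    [Module.Finite B N] (hKN : Module.IsTorsionBySet B N K) (hEC : EC K N) :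
    associatedPrimes B N ⊆ associatedPrimes B (B ⧸ K) := by
  letI : Module (B ⧸ K) N := hKN.module
  haveI : IsScalarTower B (B ⧸ K) N := hKN.isScalarTower
  haveI : Module.Flat (B ⧸ K) N := (flat_quotient_iff_ec K N).mpr hEC
  haveI : Module.Finite (B ⧸ K) N := Module.Finite.of_restrictScalars_finite B (B ⧸ K) N
  haveI : Module.FinitePresentation (B ⧸ K) N := Module.finitePresentation_of_finite (B ⧸ K) N
  haveI : Module.Projective (B ⧸ K) N := Module.Flat.projective_of_finitePresentation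
  obtain ⟨m, f, g, -, hg, -⟩ := Module.Finite.exists_comp_eq_id_of_projective (B ⧸ K) N
  intro P hP
  obtain ⟨hprime, t, ht⟩ := (isAssociatedPrime_iff).mp hP
  have key : ∀ b : B, b ∈ P ↔ ∀ j, b • (g t j) = 0 := by
    intro b
    rw [ht, Submodule.mem_colon_singleton, Submodule.mem_bot]
    constructor
    · intro h j
      have h1 : g (b • t) = 0 := by rw [h, map_zero]
      rw [LinearMap.map_smul_of_tower] at h1
      exact congrFun h1 j
    · intro h
      apply hg
      rw [LinearMap.map_smul_of_tower, map_zero]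
      funext j
      exact h j
  have hex : ∃ j, ∀ b : B, b • (g t j) = 0 → b ∈ P := by
    by_contra hcon
    push Not at hcon
    choose s hs hsP using hcon
    have h1 : ∏ j, s j ∈ P := by
      rw [key]
      intro j
      rw [← Finset.prod_erase_mul _ _ (Finset.mem_univ j), mul_smul, hs j, smul_zero]
    rw [hprime.prod_mem_iff] at h1
    obtain ⟨j, -, hj⟩ := h1
    exact hsP j hj
  obtain ⟨j, hj⟩ := hex
  refine (isAssociatedPrime_iff).mpr ⟨hprime, g t j, ?_⟩
  ext b
  rw [Submodule.mem_colon_singleton, Submodule.mem_bot]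
  exact ⟨fun h => (key b).mp h j, hj b⟩

theorem isSMulRegular_of_local (x : B) (hx : x ∈ (⊥ : Ideal B).jacobson) (K₁ : Ideal B)
    (N : Type u) [AddCommGroup N] [Module B N] [Module.Finite B N]
    (hK₁ : Module.IsTorsionBySet B (QuotSMulTop x N) K₁) (hEC : EC K₁ (QuotSMulTop x N))
    (hloc : ∀ P ∈ associatedPrimes B (B ⧸ K₁), ∀ t : N, x • t = 0 → ∃ s ∉ P, s • t = 0) :
    IsSMulRegular N x := by
  let T : Submodule B N :=
    { carrier := {t | ∃ j : ℕ, x ^ j • t = 0}
      zero_mem' := ⟨0, smul_zero _⟩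
      add_mem' := by
        rintro a b ⟨i, hi⟩ ⟨j, hj⟩
        refine ⟨i + j, ?_⟩
        have h1 : x ^ (i + j) • a = 0 := by rw [pow_add, mul_comm, mul_smul, hi, smul_zero]
        have h2 : x ^ (i + j) • b = 0 := by rw [pow_add, mul_smul, hj, smul_zero]
        rw [smul_add, h1, h2, add_zero]
      smul_mem' := by
        rintro c t ⟨j, hj⟩
        exact ⟨j, by rw [smul_comm, hj, smul_zero]⟩ }
  have hloc' : ∀ P ∈ associatedPrimes B (B ⧸ K₁), ∀ (j : ℕ) (t : N), x ^ j • t = 0 →
      ∃ s ∉ P, s • t = 0 := by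
    intro P hP j
    have hprime : P.IsPrime := hP.isPrime
    induction j with
    | zero =>
      intro t ht
      rw [pow_zero, one_smul] at ht
      exact ⟨1, fun h => hprime.ne_top ((Ideal.eq_top_iff_one P).mpr h), by rw [ht, smul_zero]⟩
    | succ j ih =>
      intro t ht
      rw [pow_succ', mul_smul] at ht
      obtain ⟨s, hs, hst⟩ := hloc P hP _ ht
      rw [smul_comm] at hst
      obtain ⟨s', hs', hst'⟩ := ih (s • t) hst
      refine ⟨s' * s, fun h => ?_, by rw [mul_smul]; exact hst'⟩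
      rcases hprime.mem_or_mem h with h | h
      · exact hs' h
      · exact hs h
  have hT : T = ⊥ := by
    by_contra hne
    have hnle : ¬ T ≤ x • (⊤ : Submodule B N) := by
      intro hle
      have h1 : T ≤ (Ideal.span {x}) • T := by
        intro t ht
        obtain ⟨n, -, rfl⟩ := (Submodule.mem_smul_pointwise_iff_exists _ _ _).mp (hle ht)
        rw [Submodule.ideal_span_singleton_smul]
        refine Submodule.smul_mem_pointwise_smul _ _ _ ?_
        obtain ⟨j, hj⟩ := ht
        exact ⟨j + 1, by rw [pow_succ, mul_smul]; exact hj⟩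
      exact hne (Submodule.eq_bot_of_le_smul_of_le_jacobson_bot (Ideal.span {x}) T
        (IsNoetherian.noetherian T) h1 (by rwa [Ideal.span_singleton_le_iff_mem]))
    obtain ⟨t, htT, htx⟩ := SetLike.not_le_iff_exists.mp hnle
    have hne' : (Submodule.Quotient.mk t : QuotSMulTop x N) ≠ 0 := by
      rwa [Ne, Submodule.Quotient.mk_eq_zero]
    obtain ⟨P, hP, hle⟩ := exists_le_isAssociatedPrime_of_isNoetherianRing B _ hne'
    have hP' : P ∈ associatedPrimes B (B ⧸ K₁) :=
      assPrimes_subset_of_ec K₁ (QuotSMulTop x N) hK₁ hEC hP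
    obtain ⟨j, hj⟩ := htT
    obtain ⟨s, hs, hst⟩ := hloc' P hP' j t hj
    apply hs
    apply hle
    rw [Submodule.mem_colon_singleton, Submodule.mem_bot, ← Submodule.Quotient.mk_smul, hst,
      Submodule.Quotient.mk_zero]
  intro a b hab
  have h1 : a - b ∈ T := ⟨1, by rw [pow_one, smul_sub]; exact sub_eq_zero.mpr hab⟩
  rw [hT, Submodule.mem_bot] at h1
  exact sub_eq_zero.mp h1

theorem mk_mem_smul_top_iff {N : Type v} [AddCommGroup N] [Module B N] (x : B) (J : Ideal B)
    (n : N) :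
    (Submodule.Quotient.mk n : QuotSMulTop x N) ∈ J • (⊤ : Submodule B (QuotSMulTop x N)) ↔
      n ∈ (Ideal.span {x} ⊔ J) • (⊤ : Submodule B N) := by
  have h1 : J • (⊤ : Submodule B (QuotSMulTop x N)) =
      (J • (⊤ : Submodule B N)).map (Submodule.mkQ (x • (⊤ : Submodule B N))) := by
    rw [Submodule.map_smul'', Submodule.map_top, Submodule.range_mkQ]
  rw [h1, ← Submodule.mkQ_apply, ← Submodule.mem_comap, Submodule.comap_map_mkQ, Submodule.sup_smul,
    Submodule.ideal_span_singleton_smul]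

theorem isWeaklyRegular_of_local : ∀ (rs : List B) (K : Ideal B) (N : Type u) [AddCommGroup N]
    [Module B N] [Module.Finite B N],
    Module.IsTorsionBySet B N K → (∀ r ∈ rs, r ∈ (⊥ : Ideal B).jacobson) →
    IsWeaklyRegular (B ⧸ K) rs →
    EC (K ⊔ Ideal.ofList rs) (N ⧸ Ideal.ofList rs • (⊤ : Submodule B N)) →
    (∀ P ∈ associatedPrimes B (B ⧸ (K ⊔ Ideal.ofList rs)), ∀ (i : ℕ) (hi : i < rs.length) (t : N),
      rs[i] • t ∈ Ideal.ofList (rs.take i) • (⊤ : Submodule B N) →
      ∃ s ∉ P, s • t ∈ Ideal.ofList (rs.take i) • (⊤ : Submodule B N)) →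
    IsWeaklyRegular N rs
  | [], K, N, _, _, _, _, _, _, _, _ => IsWeaklyRegular.nil B N
  | x :: rs, K, N, _, _, _, hKN, hjac, hWR, hEC, hloc => by
    rw [isWeaklyRegular_cons_iff] at hWR ⊢
    obtain ⟨hxK, hWR'⟩ := hWR
    have hWR'' : IsWeaklyRegular (B ⧸ (K ⊔ Ideal.span {x})) rs :=
      (LinearEquiv.isWeaklyRegular_congr (quotSMulTopQuotEquiv K x) rs).mp hWR'
    have h3 : K ⊔ Ideal.ofList (x :: rs) = K ⊔ Ideal.span {x} ⊔ Ideal.ofList rs := by
      rw [Ideal.ofList_cons, sup_assoc]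
    rw [h3] at hEC hloc
    have hjac' : ∀ r ∈ rs, r ∈ (⊥ : Ideal B).jacobson :=
      fun r hr => hjac r (List.mem_cons_of_mem _ hr)
    have hEC₁ : EC (K ⊔ Ideal.span {x} ⊔ Ideal.ofList rs)
        (QuotSMulTop x N ⧸ Ideal.ofList rs • (⊤ : Submodule B (QuotSMulTop x N))) :=
      ec_congr (Submodule.quotOfListConsSMulTopEquivQuotSMulTopInner N x rs) hEC
    have hloc₁ : ∀ P ∈ associatedPrimes B (B ⧸ (K ⊔ Ideal.span {x} ⊔ Ideal.ofList rs)),
        ∀ (i : ℕ) (hi : i < rs.length) (t : QuotSMulTop x N),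
        rs[i] • t ∈ Ideal.ofList (rs.take i) • (⊤ : Submodule B (QuotSMulTop x N)) →
        ∃ s ∉ P, s • t ∈ Ideal.ofList (rs.take i) • (⊤ : Submodule B (QuotSMulTop x N)) := by
      intro P hP i hi tb htb
      obtain ⟨t, rfl⟩ := Submodule.Quotient.mk_surjective _ tb
      have htake : Ideal.ofList ((x :: rs).take (i + 1)) =
          Ideal.span {x} ⊔ Ideal.ofList (rs.take i) := by
        rw [List.take_succ_cons, Ideal.ofList_cons]
      rw [← Submodule.Quotient.mk_smul, mk_mem_smul_top_iff, ← htake] at htb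
      obtain ⟨s, hs, hst⟩ := hloc P hP (i + 1) (by simpa using hi) t (by simpa using htb)
      refine ⟨s, hs, ?_⟩
      rw [← Submodule.Quotient.mk_smul, mk_mem_smul_top_iff, ← htake]
      exact hst
    have htors := isTorsionBySet_quotSMulTop K x N hKN
    have hreg₁ : IsWeaklyRegular (QuotSMulTop x N) rs :=
      isWeaklyRegular_of_local rs (K ⊔ Ideal.span {x}) (QuotSMulTop x N) htors hjac' hWR''
        hEC₁ hloc₁
    have hEC₁' : EC (K ⊔ Ideal.span {x}) (QuotSMulTop x N) :=
      (main rs (K ⊔ Ideal.span {x}) (QuotSMulTop x N) htors hjac' hWR'').mpr ⟨hEC₁, hreg₁⟩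
    refine ⟨?_, hreg₁⟩
    apply isSMulRegular_of_local x (hjac x List.mem_cons_self) (K ⊔ Ideal.span {x}) N htors hEC₁'
    intro P₀ hP₀ t ht
    obtain ⟨P, hP, hle⟩ := exists_assPrime_sup_ofList rs (K ⊔ Ideal.span {x}) hjac' hWR'' P₀ hP₀
    obtain ⟨s, hs, hst⟩ := hloc P hP 0 (by simp) t (by simp [ht])
    refine ⟨s, fun h => hs (hle h), ?_⟩
    simpa using hst

end Groth.Agent.Lib.Helper76.AssCore
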