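import Mathlib
import Groth.Agent.Lib.Helper66.TruncPolyQ
import Groth.Agent.Lib.Helper76.PowEval

/-!
# T3 of helper77's open call for S13405 (helper76)

Every power series `y ∈ R[[x_1..x_n]]` is congruent, modulo the ideal `(x_i^(q i))`, to a
polynomial supported on the reduced exponents `redSet q = {d | ∀ i, d i < q i}`.
-/

set_option autoImplicit false
universe u v
open TensorProduct IsLocalRing
open Groth.Agent.Lib.Helper66.TruncPolyQ

namespace Groth.Agent.Lib.Helper76.CFFT3

section
variable {R : Type u} [CommRing R] {n : ℕ}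

/-- one-variable truncation step: `z = (part with d i < m) + X_i^m * h`. -/
theorem exists_trunc_step (i : Fin n) (m : ℕ) (z : MvPowerSeries (Fin n) R) :
    ∃ h : MvPowerSeries (Fin n) R, ∀ d : Fin n →₀ ℕ,
      MvPowerSeries.coeff d (z - (MvPowerSeries.X i : MvPowerSeries (Fin n) R) ^ m * h) =
        if d i < m then MvPowerSeries.coeff d z else 0 := by
  classical
  refine ⟨fun d => MvPowerSeries.coeff (d + Finsupp.single i m) z, fun d => ?_⟩
  rw [map_sub, MvPowerSeries.X_pow_eq, MvPowerSeries.coeff_monomial_mul]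
  have hle : Finsupp.single i m ≤ d ↔ m ≤ d i := by
    constructor
    · intro h
      simpa using h i
    · intro h j
      by_cases hj : j = i
      · subst hj; simpa using h
      · simp [Ne.symm hj]
  by_cases hm : m ≤ d i
  · rw [if_pos (hle.2 hm), if_neg (not_lt.2 hm), one_mul]
    have h1 : MvPowerSeries.coeff (d - Finsupp.single i m)
        ((fun d => MvPowerSeries.coeff (d + Finsupp.single i m) z) :
          MvPowerSeries (Fin n) R) = MvPowerSeries.coeff d z := by
      rw [MvPowerSeries.coeff_apply, tsub_add_cancel_of_le (hle.2 hm)]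
    rw [h1, sub_self]
  · rw [if_neg (fun h => hm (hle.1 h)), if_pos (not_le.1 hm), sub_zero]

theorem exists_trunc_finset (q : Fin n → ℕ) (y : MvPowerSeries (Fin n) R) (S : Finset (Fin n)) :
    ∃ c : MvPowerSeries (Fin n) R,
      (∀ d : Fin n →₀ ℕ, MvPowerSeries.coeff d c =
        if ∀ i ∈ S, d i < q i then MvPowerSeries.coeff d y else 0) ∧
      y - c ∈ Ideal.span (Set.range fun i =>
        (MvPowerSeries.X i : MvPowerSeries (Fin n) R) ^ q i) := by
  classical
  induction S using Finset.induction_on with
  | empty => exact ⟨y, fun d => by simp, by simp⟩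
  | insert i S hi ih =>
    obtain ⟨c, hc, hyc⟩ := ih
    obtain ⟨h, hh⟩ := exists_trunc_step i (q i) c
    refine ⟨c - (MvPowerSeries.X i : MvPowerSeries (Fin n) R) ^ q i * h, fun d => ?_, ?_⟩
    · rw [hh d, hc d]
      by_cases h1 : d i < q i
      · by_cases h2 : ∀ j ∈ S, d j < q j
        · rw [if_pos h1, if_pos h2, if_pos]
          intro j hj
          rcases Finset.mem_insert.1 hj with rfl | hj
          · exact h1
          · exact h2 j hj
        · rw [if_pos h1, if_neg h2, if_neg]
          intro h3
          exact h2 fun j hj => h3 j (Finset.mem_insert_of_mem hj)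
      · rw [if_neg h1, if_neg]
        intro h3
        exact h1 (h3 i (Finset.mem_insert_self i S))
    · have : y - (c - (MvPowerSeries.X i : MvPowerSeries (Fin n) R) ^ q i * h) =
          (y - c) + h * (MvPowerSeries.X i : MvPowerSeries (Fin n) R) ^ q i := by ring
      rw [this]
      exact add_mem hyc (Ideal.mul_mem_left _ _ (Ideal.subset_span ⟨i, rfl⟩))

end

/-- **T3**. -/
theorem exists_restrict_sub_mem {R : Type u} [CommRing R] {n : ℕ} (q : Fin n → ℕ)
    (y : MvPowerSeries (Fin n) R) :
    ∃ c : MvPolynomial (Fin n) R, c ∈ MvPolynomial.restrictSupport R (redSet q) ∧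
      y - (c : MvPowerSeries (Fin n) R) ∈ Ideal.span (Set.range fun i =>
        (MvPowerSeries.X i : MvPowerSeries (Fin n) R) ^ q i) := by
  classical
  obtain ⟨c', hc', hyc'⟩ := exists_trunc_finset q y Finset.univ
  have hfin : (redSet q).Finite := Set.toFinite _
  refine ⟨∑ d ∈ hfin.toFinset, MvPolynomial.monomial d (MvPowerSeries.coeff d y), ?_, ?_⟩
  · refine Submodule.sum_mem _ fun d hd => ?_
    rw [MvPolynomial.monomial_mem_restrictSupport]
    exact Or.inl (hfin.mem_toFinset.1 hd)
  · have heq : ((∑ d ∈ hfin.toFinset, MvPolynomial.monomial d (MvPowerSeries.coeff d y) :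
        MvPolynomial (Fin n) R) : MvPowerSeries (Fin n) R) = c' := by
      ext d
      rw [MvPolynomial.coeff_coe, hc' d, MvPolynomial.coeff_sum]
      simp only [MvPolynomial.coeff_monomial]
      rw [Finset.sum_ite_eq' hfin.toFinset d]
      have hiff : d ∈ hfin.toFinset ↔ ∀ i ∈ (Finset.univ : Finset (Fin n)), d i < q i := by
        rw [hfin.mem_toFinset]
        exact ⟨fun h i _ => h i, fun h i => h i (Finset.mem_univ i)⟩
      by_cases hd : d ∈ hfin.toFinset
      · rw [if_pos hd, if_pos (hiff.1 hd)]
      · rw [if_neg hd, if_neg (fun h => hd (hiff.2 h))]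
    rw [heq]
    exact hyc'

end Groth.Agent.Lib.Helper76.CFFT3
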