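/-
Rings all of whose local rings are complete intersections: transport along isomorphisms,
localizations, and quotients by a regular element (helper76).
-/
import Mathlib
import Groth.Prelude.Def_Pi1
import Groth.Agent.Lib.Helper56.CplLocal
import Groth.Agent.Lib.Helper56.Normal1
import Groth.Agent.Lib.Helper76.CITransport
import Groth.Agent.Lib.Helper76.CIQuot

set_option autoImplicit false
set_option linter.unusedSectionVars false
set_option linter.style.haveILetI false
universe u

namespace Groth.Agent.Lib.Helper76.CIBase

open IsLocalRing RingTheory.Sequence Groth.Agent.Lib.Helper56 EGA4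
open Groth.Agent.Lib.Helper76.CITransport

/-- all local rings are complete intersections -/
def CILocal (S : Type u) [CommRing S] : Prop :=
  ∀ (P : Ideal S) [P.IsPrime], Pi1.IsCompleteIntersection (Localization.AtPrime P)

theorem ciLocal_of_ringEquiv {S S' : Type u} [CommRing S] [CommRing S'] (e : S ≃+* S')
    (h : CILocal S) : CILocal S' := by
  intro P' _
  haveI : (P'.comap (e : S →+* S')).IsPrime := Ideal.comap_isPrime _ _
  have H : (P'.comap (e : S →+* S')).primeCompl.map e.toMonoidHom = P'.primeCompl := by
    ext x
    constructor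
    · rintro ⟨y, hy, rfl⟩
      exact hy
    · intro hx
      refine ⟨e.symm x, ?_, e.apply_symm_apply x⟩
      show e.symm x ∉ P'.comap (e : S →+* S')
      rw [Ideal.mem_comap]
      simpa using hx
  exact isCompleteIntersection_of_ringEquiv
    (IsLocalization.ringEquivOfRingEquiv (Localization.AtPrime (P'.comap (e : S →+* S')))
      (Localization.AtPrime P') e H) (h _)

theorem ciLocal_of_isLocalization {S S' : Type u} [CommRing S] [CommRing S'] [Algebra S S']
    (M : Submonoid S) [IsLocalization M S'] (h : CILocal S) : CILocal S' := by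
  intro P' _
  haveI : (P'.comap (algebraMap S S')).IsPrime := Ideal.comap_isPrime _ _
  haveI : IsScalarTower S S' (Localization.AtPrime P') := inferInstance
  haveI : IsLocalization.AtPrime (Localization.AtPrime P') (P'.comap (algebraMap S S')) :=
    IsLocalization.isLocalization_isLocalization_atPrime_isLocalization M
      (Localization.AtPrime P') P'
  exact isCompleteIntersection_of_ringEquiv
    (IsLocalization.algEquiv (P'.comap (algebraMap S S')).primeCompl
      (Localization.AtPrime (P'.comap (algebraMap S S'))) (Localization.AtPrime P')).toRingEquiv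
    (h _)

/-- a complete intersection modulo a regular element is a complete intersection -/
theorem isCI_quotient_span_singleton (A : Type u) [CommRing A] [IsLocalRing A]
    [IsNoetherianRing A] (hA : Pi1.IsCompleteIntersection A) (g : A) (hgm : g ∈ maximalIdeal A)
    (hg : IsSMulRegular A g) [IsLocalRing (A ⧸ Ideal.span {g})] :
    Pi1.IsCompleteIntersection (A ⧸ Ideal.span {g}) := by
  obtain ⟨B, _, hB, rs, hmem, hreg, ⟨e⟩⟩ := hA
  haveI : Nontrivial (A ⧸ Ideal.span {g}) := inferInstance
  have hsurj := cplMap_quot_surjective A (Ideal.span {g})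
  have hker := ker_cplMap_quot A (Ideal.span {g})
  set gh : Cpl A := algebraMap A (Cpl A) g with hgh
  have hker' : RingHom.ker (cplMap A (A ⧸ Ideal.span {g})) = Ideal.span {gh} := by
    rw [hker, Ideal.map_span, Set.image_singleton]
  have hghreg : IsSMulRegular (Cpl A) gh := hg.of_flat
  have hghm : gh ∈ maximalIdeal (Cpl A) := by
    rw [AdicCompletion.maximalIdeal_eq_map]
    exact Ideal.mem_map_of_mem _ hgm
  obtain ⟨gt, hgt⟩ := Ideal.Quotient.mk_surjective (e gh)
  have hgtm : gt ∈ maximalIdeal B := by
    rw [mem_maximalIdeal, mem_nonunits_iff]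
    intro hu
    have h1 : IsUnit (e gh) := by rw [← hgt]; exact hu.map _
    have h2 : IsUnit gh := by
      have := h1.map e.symm
      simpa using this
    exact hghm h2
  have hJ : Ideal.ofList rs = Ideal.span {r | r ∈ rs} := rfl
  -- regularity of `gt` on `B ⧸ J`
  have hreg1 : IsSMulRegular (B ⧸ Ideal.span {r | r ∈ rs}) gt := by
    intro x y hxy
    obtain ⟨x', rfl⟩ := e.surjective x
    obtain ⟨y', rfl⟩ := e.surjective y
    have h1 : e (gh * x') = e (gh * y') := by
      rw [map_mul, map_mul, ← hgt]
      simpa [Algebra.smul_def] using hxy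
    have h2 := e.injective h1
    exact congrArg e (hghreg h2)
  have hwr : IsWeaklyRegular B (rs ++ [gt]) := by
    rw [isWeaklyRegular_append_iff]
    refine ⟨hreg.toIsWeaklyRegular, ?_⟩
    have h3 : (Ideal.ofList rs • ⊤ : Submodule B B) = Ideal.span {r | r ∈ rs} := by
      rw [smul_eq_mul, Ideal.mul_top]
    rw [(Submodule.quotEquivOfEq _ _ h3).isWeaklyRegular_congr, isWeaklyRegular_singleton_iff]
    exact hreg1
  have hmem' : ∀ r ∈ rs ++ [gt], r ∈ maximalIdeal B := by
    intro r hr
    rcases List.mem_append.mp hr with h | h
    · exact hmem r h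
    · rw [List.mem_singleton] at h
      rw [h]; exact hgtm
  have hreg' : IsRegular B (rs ++ [gt]) :=
    (IsLocalRing.isRegular_iff_isWeaklyRegular_of_subset_maximalIdeal hmem').mpr hwr
  refine ⟨B, inferInstance, hB, rs ++ [gt], hmem', hreg', ?_⟩
  have hspan : Ideal.span {r | r ∈ rs ++ [gt]} = Ideal.span {r | r ∈ rs} ⊔ Ideal.span {gt} := by
    rw [← hJ, ← Ideal.ofList_singleton, ← Ideal.ofList_append]
  have h4 : (Ideal.span {gh}).map (e : Cpl A →+* _) =
      (Ideal.span {gt}).map (Ideal.Quotient.mk (Ideal.span {r | r ∈ rs})) := by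
    rw [Ideal.map_span, Ideal.map_span, Set.image_singleton, Set.image_singleton, hgt]
    rfl
  exact ⟨(RingHom.quotientKerEquivOfSurjective hsurj).symm.trans
    ((Ideal.quotEquivOfEq hker').trans
      ((Ideal.quotientEquiv _ _ e h4.symm).trans
        ((DoubleQuot.quotQuotEquivQuotSup _ _).trans (Ideal.quotEquivOfEq hspan.symm))))⟩

theorem ciLocal_quotient_span_singleton (S : Type u) [CommRing S] [IsNoetherianRing S] (g : S)
    (hg : IsSMulRegular S g) (h : CILocal S) : CILocal (S ⧸ Ideal.span {g}) := by
  set I : Ideal S := Ideal.span {g} with hI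
  intro Q _
  set P : Ideal S := Q.comap (Ideal.Quotient.mk I) with hP
  haveI : P.IsPrime := Ideal.comap_isPrime _ _
  have hIP : I ≤ P := by
    intro x hx
    rw [hP, Ideal.mem_comap, Ideal.Quotient.eq_zero_iff_mem.mpr hx]
    exact zero_mem _
  have hPQ : P.map (Ideal.Quotient.mk I) = Q :=
    Ideal.map_comap_of_surjective _ Ideal.Quotient.mk_surjective Q
  have key : ∀ (Q' : Ideal (S ⧸ I)) [Q'.IsPrime], Q' = P.map (Ideal.Quotient.mk I) →
      Pi1.IsCompleteIntersection (Localization.AtPrime Q') := by
    intro Q' _ hQ'
    subst hQ'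
    obtain ⟨ε⟩ := nonempty_quotLocEquiv I P hIP
    have hmap : I.map (algebraMap S (Localization.AtPrime P)) =
        Ideal.span {algebraMap S (Localization.AtPrime P) g} := by
      rw [hI, Ideal.map_span, Set.image_singleton]
    have hgm : algebraMap S (Localization.AtPrime P) g ∈ maximalIdeal (Localization.AtPrime P) :=
      (IsLocalization.AtPrime.to_map_mem_maximal_iff (Localization.AtPrime P) P g).mpr
        (hIP (Ideal.subset_span rfl))
    have hgreg : IsSMulRegular (Localization.AtPrime P) (algebraMap S (Localization.AtPrime P) g) :=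
      hg.of_flat
    haveI : IsNoetherianRing (Localization.AtPrime P) :=
      IsLocalization.isNoetherianRing P.primeCompl _ inferInstance
    have hne : Ideal.span {algebraMap S (Localization.AtPrime P) g} ≠ ⊤ := by
      intro htop
      have : Ideal.span {algebraMap S (Localization.AtPrime P) g} ≤
          maximalIdeal (Localization.AtPrime P) := by
        rw [Ideal.span_singleton_le_iff_mem]; exact hgm
      rw [htop] at this
      exact (maximalIdeal.isMaximal _).ne_top (top_le_iff.mp this)
    haveI : Nontrivial (Localization.AtPrime P ⧸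
        Ideal.span {algebraMap S (Localization.AtPrime P) g}) :=
      Ideal.Quotient.nontrivial_iff.mpr hne
    haveI : IsLocalRing (Localization.AtPrime P ⧸
        Ideal.span {algebraMap S (Localization.AtPrime P) g}) :=
      IsLocalRing.of_surjective' (Ideal.Quotient.mk _) Ideal.Quotient.mk_surjective
    have h1 := isCI_quotient_span_singleton (Localization.AtPrime P) (h P) _ hgm hgreg
    haveI : Nontrivial (Localization.AtPrime P ⧸ I.map (algebraMap S (Localization.AtPrime P))) := by
      rw [hmap]; infer_instance
    haveI : IsLocalRing (Localization.AtPrime P ⧸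
        I.map (algebraMap S (Localization.AtPrime P))) :=
      IsLocalRing.of_surjective' (Ideal.Quotient.mk _) Ideal.Quotient.mk_surjective
    exact isCompleteIntersection_of_ringEquiv ((Ideal.quotEquivOfEq hmap.symm).trans ε) h1
  exact key Q hPQ.symm

end Groth.Agent.Lib.Helper76.CIBase
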