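/-
Polynomial ascent of the complete intersection property, step 1: passing to the completion of the
base (helper76).
-/
import Groth.Agent.Lib.Helper76.CIBase1

set_option autoImplicit false
set_option linter.unusedSectionVars false
set_option linter.style.haveILetI false
universe u

namespace Groth.Agent.Lib.Helper76.CIBase

open IsLocalRing RingTheory.Sequence Groth.Agent.Lib.Helper56 EGA4 Polynomial
open Groth.Agent.Lib.Helper76.CITransport

attribute [local instance] Polynomial.algebra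

section poly

variable (A : Type u) [CommRing A] [IsLocalRing A] [IsNoetherianRing A] (Q : Ideal A[X])
  [Q.IsPrime] (hQ : (maximalIdeal A).map C ≤ Q)

/-- `Â → A[X]/Q` -/
noncomputable def rho0 : Cpl A →+* A[X] ⧸ Q :=
  (Ideal.Quotient.lift (maximalIdeal A) ((Ideal.Quotient.mk Q).comp C) (by
    intro a ha
    exact Ideal.Quotient.eq_zero_iff_mem.mpr (hQ (Ideal.mem_map_of_mem _ ha)))).comp
    (AdicCompletion.evalOneₐ (maximalIdeal A)).toRingHom

theorem rho0_algebraMap (a : A) :
    rho0 A Q hQ (algebraMap A (Cpl A) a) = Ideal.Quotient.mk Q (C a) := by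
  unfold rho0
  rw [RingHom.comp_apply]
  have : (AdicCompletion.evalOneₐ (maximalIdeal A)).toRingHom (algebraMap A (Cpl A) a) =
      Ideal.Quotient.mk (maximalIdeal A) a := (AdicCompletion.evalOneₐ (maximalIdeal A)).commutes a
  rw [this, Ideal.Quotient.lift_mk]
  rfl

/-- `Â[X] → A[X]/Q` -/
noncomputable def rho : (Cpl A)[X] →+* A[X] ⧸ Q :=
  Polynomial.eval₂RingHom (rho0 A Q hQ) (Ideal.Quotient.mk Q X)

theorem rho_map (p : A[X]) :
    rho A Q hQ (p.map (algebraMap A (Cpl A))) = Ideal.Quotient.mk Q p := by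
  unfold rho
  rw [Polynomial.coe_eval₂RingHom, Polynomial.eval₂_map]
  have h1 : (rho0 A Q hQ).comp (algebraMap A (Cpl A)) = (Ideal.Quotient.mk Q).comp C :=
    RingHom.ext fun a => rho0_algebraMap A Q hQ a
  rw [h1, ← Polynomial.hom_eval₂, Polynomial.eval₂_C_X]

include hQ

theorem C_mem_map (d : Cpl A) (hd : d ∈ (maximalIdeal A).map (algebraMap A (Cpl A))) :
    C d ∈ Q.map (algebraMap A[X] (Cpl A)[X]) := by
  have h1 : C d ∈ ((maximalIdeal A).map (algebraMap A (Cpl A))).map C := Ideal.mem_map_of_mem _ hd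
  have h2 : ((maximalIdeal A).map (algebraMap A (Cpl A))).map (C : Cpl A →+* (Cpl A)[X]) =
      ((maximalIdeal A).map (C : A →+* A[X])).map (algebraMap A[X] (Cpl A)[X]) := by
    rw [Ideal.map_map, Ideal.map_map]
    congr 1
    ext a
    simp
  rw [h2] at h1
  exact Ideal.map_mono hQ h1

theorem exists_sub_mem (ph : (Cpl A)[X]) :
    ∃ a : A[X], ph - a.map (algebraMap A (Cpl A)) ∈ Q.map (algebraMap A[X] (Cpl A)[X]) := by
  induction ph using Polynomial.induction_on' with
  | add p q hp hq =>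
    obtain ⟨a, ha⟩ := hp
    obtain ⟨b, hb⟩ := hq
    refine ⟨a + b, ?_⟩
    rw [Polynomial.map_add]
    have : p + q - (a.map (algebraMap A (Cpl A)) + b.map (algebraMap A (Cpl A))) =
      (p - a.map (algebraMap A (Cpl A))) + (q - b.map (algebraMap A (Cpl A))) := by ring
    rw [this]
    exact add_mem ha hb
  | monomial n c =>
    obtain ⟨a, ha⟩ := exists_sub_mem_map A (maximalIdeal A) c
    refine ⟨monomial n a, ?_⟩
    rw [Polynomial.map_monomial, ← map_sub, ← Polynomial.C_mul_X_pow_eq_monomial]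
    exact Ideal.mul_mem_right _ _ (C_mem_map A Q hQ _ ha)

theorem ker_rho : RingHom.ker (rho A Q hQ) = Q.map (algebraMap A[X] (Cpl A)[X]) := by
  have hle : Q.map (algebraMap A[X] (Cpl A)[X]) ≤ RingHom.ker (rho A Q hQ) := by
    rw [Ideal.map_le_iff_le_comap]
    intro q hq
    rw [Ideal.mem_comap, RingHom.mem_ker]
    change rho A Q hQ (q.map (algebraMap A (Cpl A))) = 0
    rw [rho_map]
    exact Ideal.Quotient.eq_zero_iff_mem.mpr hq
  apply le_antisymm _ hle
  intro ph hph
  obtain ⟨a, ha⟩ := exists_sub_mem A Q hQ ph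
  have h1 : rho A Q hQ (ph - a.map (algebraMap A (Cpl A))) = 0 := hle ha
  rw [map_sub, RingHom.mem_ker.mp hph, zero_sub, neg_eq_zero, rho_map] at h1
  have h2 : a ∈ Q := Ideal.Quotient.eq_zero_iff_mem.mp h1
  have h3 : a.map (algebraMap A (Cpl A)) ∈ Q.map (algebraMap A[X] (Cpl A)[X]) :=
    Ideal.mem_map_of_mem (algebraMap A[X] (Cpl A)[X]) h2
  have : ph = (ph - a.map (algebraMap A (Cpl A))) + a.map (algebraMap A (Cpl A)) := by ring
  rw [this]
  exact add_mem ha h3

theorem isPrime_map : (Q.map (algebraMap A[X] (Cpl A)[X])).IsPrime := by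
  rw [← ker_rho A Q hQ]
  exact RingHom.ker_isPrime _

theorem comap_map : (Q.map (algebraMap A[X] (Cpl A)[X])).comap (algebraMap A[X] (Cpl A)[X]) = Q := by
  ext x
  rw [Ideal.mem_comap, ← ker_rho A Q hQ, RingHom.mem_ker]
  change rho A Q hQ (x.map (algebraMap A (Cpl A))) = 0 ↔ _
  rw [rho_map]
  exact Ideal.Quotient.eq_zero_iff_mem

end poly

theorem flat_polynomial_cpl (A : Type u) [CommRing A] [IsLocalRing A] [IsNoetherianRing A] :
    Module.Flat A[X] (Cpl A)[X] :=
  Module.Flat.isBaseChange A A[X] (Cpl A) (Cpl A)[X]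
    (Algebra.IsPushout.out (R := A) (S := A[X]) (R' := Cpl A) (S' := (Cpl A)[X]))

end Groth.Agent.Lib.Helper76.CIBase
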