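/-
Polynomial ascent of the complete intersection property (helper76).
-/
import Groth.Agent.Lib.Helper76.CIBase2
import Groth.Agent.Lib.Helper77.RegularLocalization
import Groth.Agent.S2165

set_option autoImplicit false
set_option linter.unusedSectionVars false
set_option linter.style.haveILetI false
universe u

namespace Groth.Agent.Lib.Helper76.CIBase

open IsLocalRing RingTheory.Sequence Groth.Agent.Lib.Helper56 EGA4 Polynomial
open Groth.Agent.Lib.Helper76.CITransport

attribute [local instance] Polynomial.algebra

/-- descent of the complete intersection property along a flat local homomorphism inducing an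
isomorphism of completions -/
theorem isCI_of_flat_local {R R' : Type u} [CommRing R] [CommRing R'] (ψ : R →+* R')
    (hψ : ψ.Flat) [IsNoetherianRing R] [IsNoetherianRing R'] (Q : Ideal R) [Q.IsPrime]
    (Q' : Ideal R') [Q'.IsPrime] (hcomap : Q = Q'.comap ψ) (hmap : Q.map ψ = Q')
    (hsurj : ∀ x' : R', ∃ x : R, x' - ψ x ∈ Q')
    (h : Pi1.IsCompleteIntersection (Localization.AtPrime Q')) :
    Pi1.IsCompleteIntersection (Localization.AtPrime Q) := by
  letI : Algebra (Localization.AtPrime Q) (Localization.AtPrime Q') :=
    (Localization.localRingHom Q Q' ψ hcomap).toAlgebra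
  haveI : IsLocalHom (algebraMap (Localization.AtPrime Q) (Localization.AtPrime Q')) :=
    Localization.isLocalHom_localRingHom Q Q' ψ hcomap
  haveI : Module.Flat (Localization.AtPrime Q) (Localization.AtPrime Q') :=
    hψ.localRingHom Q' Q hcomap
  haveI : IsNoetherianRing (Localization.AtPrime Q) :=
    IsLocalization.isNoetherianRing Q.primeCompl _ inferInstance
  haveI : IsNoetherianRing (Localization.AtPrime Q') :=
    IsLocalization.isNoetherianRing Q'.primeCompl _ inferInstance
  have hφ : ∀ z, algebraMap (Localization.AtPrime Q) (Localization.AtPrime Q') z =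
      Localization.localRingHom Q Q' ψ hcomap z := fun _ => rfl
  have h1 : (maximalIdeal (Localization.AtPrime Q)).map
      (algebraMap (Localization.AtPrime Q) (Localization.AtPrime Q')) =
      maximalIdeal (Localization.AtPrime Q') := by
    rw [← Localization.AtPrime.map_eq_maximalIdeal, ← Localization.AtPrime.map_eq_maximalIdeal,
      Ideal.map_map]
    have : (algebraMap (Localization.AtPrime Q) (Localization.AtPrime Q')).comp
        (algebraMap R (Localization.AtPrime Q)) =
        (algebraMap R' (Localization.AtPrime Q')).comp ψ :=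
      RingHom.ext fun x => Localization.localRingHom_to_map Q Q' ψ hcomap x
    rw [this, ← Ideal.map_map, hmap]
  have h2 : ∀ s : Localization.AtPrime Q', ∃ r : Localization.AtPrime Q,
      s - algebraMap (Localization.AtPrime Q) (Localization.AtPrime Q') r ∈
        maximalIdeal (Localization.AtPrime Q') := by
    intro s
    obtain ⟨x', t', rfl⟩ := IsLocalization.exists_mk'_eq Q'.primeCompl s
    obtain ⟨x, hx⟩ := hsurj x'
    obtain ⟨t, ht⟩ := hsurj (t' : R')
    have htQ : t ∈ Q.primeCompl := by
      intro htQ
      apply t'.2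
      have h3 : ψ t ∈ Q' := by
        rw [hcomap] at htQ
        exact htQ
      have : (t' : R') = ((t' : R') - ψ t) + ψ t := by ring
      rw [this]
      exact add_mem ht h3
    refine ⟨IsLocalization.mk' _ x ⟨t, htQ⟩, ?_⟩
    rw [hφ, Localization.localRingHom_mk', ← IsLocalization.mk'_sub,
      IsLocalization.AtPrime.mk'_mem_maximal_iff (Localization.AtPrime Q') Q']
    have : x' * ψ t - ψ x * (t' : R') = (x' - ψ x) * ψ t - ψ x * ((t' : R') - ψ t) := by ring
    show x' * ψ t - ψ x * (t' : R') ∈ Q'
    rw [this]
    exact sub_mem (Ideal.mul_mem_right _ _ hx) (Ideal.mul_mem_left _ _ ht)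
  have hbij := cplMap_bijective_of (Localization.AtPrime Q) (Localization.AtPrime Q') h1 h2
  obtain ⟨B, _, hB, rs, hmem, hreg, ⟨ε⟩⟩ := h
  exact ⟨B, inferInstance, hB, rs, hmem, hreg, ⟨(RingEquiv.ofBijective _ hbij).trans ε⟩⟩

/-- quotients of a regular ring by a regular sequence have complete intersection local rings -/
theorem ciLocal_quotient_regular (R : Type u) [CommRing R] [IsRegularRing R] (rs : List R)
    (hreg : IsWeaklyRegular R rs) : CILocal (R ⧸ Ideal.ofList rs) := by
  set I : Ideal R := Ideal.ofList rs with hI
  intro Q _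
  set P : Ideal R := Q.comap (Ideal.Quotient.mk I) with hP
  haveI : P.IsPrime := Ideal.comap_isPrime _ _
  have hIP : I ≤ P := by
    intro x hx
    rw [hP, Ideal.mem_comap, Ideal.Quotient.eq_zero_iff_mem.mpr hx]
    exact zero_mem _
  have hPQ : P.map (Ideal.Quotient.mk I) = Q :=
    Ideal.map_comap_of_surjective _ Ideal.Quotient.mk_surjective Q
  have key : ∀ (Q' : Ideal (R ⧸ I)) [Q'.IsPrime], Q' = P.map (Ideal.Quotient.mk I) →
      Pi1.IsCompleteIntersection (Localization.AtPrime Q') := by
    intro Q' _ hQ'
    subst hQ'
    obtain ⟨ε⟩ := nonempty_quotLocEquiv I P hIP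
    have hmem : ∀ r ∈ rs, r ∈ P := fun r hr => hIP (Ideal.subset_span hr)
    have hreg' : IsRegular R rs := by
      refine ⟨hreg, ?_⟩
      intro htop
      have h1 : (Ideal.ofList rs • ⊤ : Submodule R R) = Ideal.ofList rs := by
        rw [smul_eq_mul, Ideal.mul_top]
      rw [h1] at htop
      have : (⊤ : Ideal R) ≤ P := by
        rw [show (⊤ : Ideal R) = Ideal.ofList rs from htop]
        exact hIP
      exact (Ideal.IsPrime.ne_top inferInstance) (top_le_iff.mp this)
    have hne : I.map (algebraMap R (Localization.AtPrime P)) ≠ ⊤ := by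
      intro htop
      have : I.map (algebraMap R (Localization.AtPrime P)) ≤
          maximalIdeal (Localization.AtPrime P) := by
        rw [← Localization.AtPrime.map_eq_maximalIdeal]
        exact Ideal.map_mono hIP
      rw [htop] at this
      exact (maximalIdeal.isMaximal _).ne_top (top_le_iff.mp this)
    haveI : Nontrivial (Localization.AtPrime P ⧸ I.map (algebraMap R (Localization.AtPrime P))) :=
      Ideal.Quotient.nontrivial_iff.mpr hne
    haveI : IsLocalRing (Localization.AtPrime P ⧸
        I.map (algebraMap R (Localization.AtPrime P))) :=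
      IsLocalRing.of_surjective' (Ideal.Quotient.mk _) Ideal.Quotient.mk_surjective
    exact isCompleteIntersection_of_ringEquiv ε (Groth.Agent.S2165.result P rs hmem hreg')
  exact key Q hPQ.symm

/-- `Â[X]` has complete intersection local rings if `A` is a complete intersection -/
theorem ciLocal_polynomial_cpl (A : Type u) [CommRing A] [IsLocalRing A]
    (hA : Pi1.IsCompleteIntersection A) : CILocal (Cpl A)[X] := by
  obtain ⟨B, _, hB, rs, hmem, hreg, ⟨e⟩⟩ := hA
  haveI : IsRegularRing B :=
    Groth.Agent.Lib.Helper77.RegularLocalization.isRegularRing_of_isRegularLocalRing B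
  have h1 : CILocal (B[X] ⧸ Ideal.ofList (rs.map (C : B →+* B[X]))) :=
    ciLocal_quotient_regular B[X] (rs.map C) hreg.toIsWeaklyRegular.of_flat
  have h2 : (Ideal.span {r | r ∈ rs}).map (C : B →+* B[X]) = Ideal.ofList (rs.map C) :=
    Ideal.map_ofList _ _
  exact ciLocal_of_ringEquiv
    ((Ideal.quotEquivOfEq h2.symm).trans
      ((Ideal.polynomialQuotientEquivQuotientPolynomial _).symm.trans
        (Polynomial.mapEquiv e).symm)) h1

/-- polynomial ascent, local form -/
theorem isCI_polynomial_atPrime (A : Type u) [CommRing A] [IsLocalRing A] [IsNoetherianRing A]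
    (hA : Pi1.IsCompleteIntersection A) (Q : Ideal A[X]) [Q.IsPrime]
    (hQ : (maximalIdeal A).map C ≤ Q) : Pi1.IsCompleteIntersection (Localization.AtPrime Q) := by
  haveI := isPrime_map A Q hQ
  haveI : IsNoetherianRing (Cpl A) := Groth.Agent.S0543.result _ _
  have hflat : (algebraMap A[X] (Cpl A)[X]).Flat :=
    RingHom.flat_algebraMap_iff.mpr (flat_polynomial_cpl A)
  exact isCI_of_flat_local (algebraMap A[X] (Cpl A)[X]) hflat Q
    (Q.map (algebraMap A[X] (Cpl A)[X])) (comap_map A Q hQ).symm rfl
    (exists_sub_mem A Q hQ) (ciLocal_polynomial_cpl A hA _)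

end Groth.Agent.Lib.Helper76.CIBase
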