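/-
Polynomial ascent of the complete intersection property, global form (helper76).
-/
import Groth.Agent.Lib.Helper76.CIBase3

set_option autoImplicit false
set_option linter.unusedSectionVars false
set_option linter.style.haveILetI false
universe u

namespace Groth.Agent.Lib.Helper76.CIBase

open IsLocalRing RingTheory.Sequence Groth.Agent.Lib.Helper56 EGA4 Polynomial
open Groth.Agent.Lib.Helper76.CITransport

attribute [local instance] Polynomial.algebra

theorem isCI_atPrime_comap_of_isLocalization {S S' : Type u} [CommRing S] [CommRing S']
    [Algebra S S'] (M : Submonoid S) [IsLocalization M S'] (P' : Ideal S') [P'.IsPrime]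
    (P : Ideal S) [P.IsPrime] (hP : P = P'.comap (algebraMap S S'))
    (h : Pi1.IsCompleteIntersection (Localization.AtPrime P')) :
    Pi1.IsCompleteIntersection (Localization.AtPrime P) := by
  subst hP
  haveI : IsScalarTower S S' (Localization.AtPrime P') := inferInstance
  haveI : IsLocalization.AtPrime (Localization.AtPrime P') (P'.comap (algebraMap S S')) :=
    IsLocalization.isLocalization_isLocalization_atPrime_isLocalization M
      (Localization.AtPrime P') P'
  exact isCompleteIntersection_of_ringEquiv
    (IsLocalization.algEquiv (P'.comap (algebraMap S S')).primeCompl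
      (Localization.AtPrime (P'.comap (algebraMap S S')))
      (Localization.AtPrime P')).symm.toRingEquiv h

/-- polynomial ascent -/
theorem ciLocal_polynomial (T : Type u) [CommRing T] [IsNoetherianRing T] (h : CILocal T) :
    CILocal T[X] := by
  intro Q _
  set p : Ideal T := Q.comap C with hp
  haveI : p.IsPrime := Ideal.comap_isPrime _ _
  haveI : IsLocalization (p.primeCompl.map (C : T →+* T[X])) (Localization.AtPrime p)[X] :=
    Polynomial.isLocalization p.primeCompl (Localization.AtPrime p)
  have hdisj : Disjoint ((p.primeCompl.map (C : T →+* T[X]) : Submonoid T[X]) : Set T[X])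
      (Q : Set T[X]) := by
    rw [Set.disjoint_left]
    rintro _ ⟨t, ht, rfl⟩ hQ
    exact ht hQ
  haveI hQ'prime : (Q.map (algebraMap T[X] (Localization.AtPrime p)[X])).IsPrime :=
    IsLocalization.isPrime_of_isPrime_disjoint (p.primeCompl.map C) _ Q inferInstance hdisj
  have hcomap : (Q.map (algebraMap T[X] (Localization.AtPrime p)[X])).comap
      (algebraMap T[X] (Localization.AtPrime p)[X]) = Q :=
    IsLocalization.under_map_of_isPrime_disjoint (p.primeCompl.map C) _ inferInstance hdisj
  have hmQ' : (maximalIdeal (Localization.AtPrime p)).map C ≤
      Q.map (algebraMap T[X] (Localization.AtPrime p)[X]) := by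
    rw [← Localization.AtPrime.map_eq_maximalIdeal, Ideal.map_map]
    have : (C : Localization.AtPrime p →+* (Localization.AtPrime p)[X]).comp
        (algebraMap T (Localization.AtPrime p)) =
        (algebraMap T[X] (Localization.AtPrime p)[X]).comp C := by
      ext a
      simp
    rw [this, ← Ideal.map_map]
    exact Ideal.map_mono Ideal.map_comap_le
  haveI : IsNoetherianRing (Localization.AtPrime p) :=
    IsLocalization.isNoetherianRing p.primeCompl _ inferInstance
  have h1 := isCI_polynomial_atPrime (Localization.AtPrime p) (h p) _ hmQ'
  exact isCI_atPrime_comap_of_isLocalization (p.primeCompl.map (C : T →+* T[X])) _ Q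
    hcomap.symm h1

end Groth.Agent.Lib.Helper76.CIBase
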