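/-
Complete intersection property under simple field extensions of the base (helper76).
-/
import Groth.Agent.Lib.Helper76.CIBase4

set_option autoImplicit false
set_option linter.unusedSectionVars false
set_option linter.style.haveILetI false
universe u

namespace Groth.Agent.Lib.Helper76.CIBase

open IsLocalRing Polynomial IntermediateField
open scoped TensorProduct

/-- Noetherian with all local rings complete intersections -/
def Good (S : Type u) [CommRing S] : Prop := IsNoetherianRing S ∧ CILocal S

theorem good_of_ringEquiv {S S' : Type u} [CommRing S] [CommRing S'] (e : S ≃+* S')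
    (h : Good S) : Good S' :=
  ⟨@isNoetherianRing_of_ringEquiv S _ S' _ e h.1, ciLocal_of_ringEquiv e h.2⟩

theorem good_polynomial (T : Type u) [CommRing T] (h : Good T) : Good T[X] := by
  haveI := h.1
  exact ⟨inferInstance, ciLocal_polynomial T h.2⟩

theorem good_quotient_regular (S : Type u) [CommRing S] (g : S) (hg : IsSMulRegular S g)
    (h : Good S) : Good (S ⧸ Ideal.span {g}) := by
  haveI := h.1
  exact ⟨inferInstance, ciLocal_quotient_span_singleton S g hg h.2⟩

theorem good_of_isLocalization {S S' : Type u} [CommRing S] [CommRing S'] [Algebra S S']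
    (M : Submonoid S) [IsLocalization M S'] (h : Good S) : Good S' := by
  haveI := h.1
  exact ⟨IsLocalization.isNoetherianRing M S' inferInstance, ciLocal_of_isLocalization M h.2⟩

theorem good_tensor_adjoinRoot (F T : Type u) [Field F] [CommRing T] [Algebra F T]
    (hT : Good T) (μ : F[X]) (hμ : μ.Monic) : Good (T ⊗[F] AdjoinRoot μ) := by
  set q : (T ⊗[F] F)[X] :=
    μ.map (Algebra.TensorProduct.includeRight : F →ₐ[F] T ⊗[F] F).toRingHom with hq
  have e := AdjoinRoot.tensorAlgEquiv (R := F) (S := F) (T := T) μ q rfl
  have hqm : q.Monic := hμ.map _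
  have h1 : Good (T ⊗[F] F) :=
    good_of_ringEquiv (Algebra.TensorProduct.rid F F T).symm.toRingEquiv hT
  have h2 : Good (T ⊗[F] F)[X] := good_polynomial _ h1
  have h3 : Good (AdjoinRoot q) :=
    good_quotient_regular _ q (hqm.isRegular.left.isSMulRegular) h2
  exact good_of_ringEquiv e.symm.toRingEquiv h3

theorem good_tensor_localization (F T : Type u) [Field F] [CommRing T] [Algebra F T]
    (hT : Good T) (E : Type u) [CommRing E] [Algebra F E] [Algebra F[X] E]
    [IsScalarTower F F[X] E] (M : Submonoid F[X]) [IsLocalization M E] :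
    Good (E ⊗[F] T) := by
  letI alg : Algebra (F[X] ⊗[F] T) (E ⊗[F] T) :=
    (Algebra.TensorProduct.map (IsScalarTower.toAlgHom F F[X] E)
      (AlgHom.id F T)).toRingHom.toAlgebra
  haveI : IsScalarTower F[X] (F[X] ⊗[F] T) (E ⊗[F] T) :=
    @IsScalarTower.of_algebraMap_eq F[X] (F[X] ⊗[F] T) (E ⊗[F] T) _ _ _ _ alg _ (fun a => by
      simp [RingHom.algebraMap_toAlgebra, Algebra.TensorProduct.algebraMap_apply])
  haveI := IsLocalization.tensorProduct_tensorProduct F T M E (by
    ext t
    simp [RingHom.algebraMap_toAlgebra])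
  have h1 : Good T[X] := good_polynomial T hT
  have h2 : Good (F[X] ⊗[F] T) :=
    good_of_ringEquiv ((polyEquivTensor F T).toRingEquiv.trans
      (Algebra.TensorProduct.comm F T F[X]).toRingEquiv) h1
  exact good_of_isLocalization (Algebra.algebraMapSubmonoid (F[X] ⊗[F] T) M) h2

theorem good_tensor_adjoin_simple (F T : Type u) [Field F] [CommRing T] [Algebra F T]
    (hT : Good T) (L : Type u) [Field L] [Algebra F L] (α : L) :
    Good (↥F⟮α⟯ ⊗[F] T) := by
  by_cases hα : IsIntegral F α
  · have e1 : AdjoinRoot (minpoly F α) ≃ₐ[F] F⟮α⟯ :=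
      IntermediateField.adjoinRootEquivAdjoin F hα
    have h1 := good_tensor_adjoinRoot F T hT (minpoly F α) (minpoly.monic hα)
    exact good_of_ringEquiv ((Algebra.TensorProduct.comm F T _).trans
      (Algebra.TensorProduct.congr e1 AlgEquiv.refl)).toRingEquiv h1
  · letI : Algebra F[X] F⟮α⟯ := (aeval (AdjoinSimple.gen F α)).toRingHom.toAlgebra
    haveI : IsScalarTower F F[X] F⟮α⟯ :=
      .of_algebraMap_eq' (by
        ext a
        simp [RingHom.algebraMap_toAlgebra])
    have hval : ∀ p : F[X], ((aeval (AdjoinSimple.gen F α) p : F⟮α⟯) : L) = aeval α p := by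
      intro p
      have := Polynomial.aeval_algHom_apply (F⟮α⟯.val) (AdjoinSimple.gen F α) p
      simpa using this.symm
    have hinj : Function.Injective (algebraMap F[X] F⟮α⟯) := by
      have htr : Transcendental F α := fun h => hα (isAlgebraic_iff_isIntegral.mp h)
      rw [transcendental_iff_injective] at htr
      intro p p' hpp'
      apply htr
      rw [← hval, ← hval]
      exact congrArg _ hpp'
    haveI : FaithfulSMul F[X] F⟮α⟯ := (faithfulSMul_iff_algebraMap_injective _ _).mpr hinj
    haveI : IsFractionRing F[X] F⟮α⟯ := by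
      apply IsFractionRing.of_field
      intro z
      obtain ⟨r, s, hrs⟩ := (mem_adjoin_simple_iff F (z : L)).mp z.2
      refine ⟨r, s, ?_⟩
      apply Subtype.ext
      rw [hrs]
      simp [RingHom.algebraMap_toAlgebra, hval]
    exact good_tensor_localization F T hT F⟮α⟯ (nonZeroDivisors F[X])

end Groth.Agent.Lib.Helper76.CIBase
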