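/-
Complete intersection property under finitely generated field extensions of the base (helper76).
-/
import Groth.Agent.Lib.Helper76.CIBase5

set_option autoImplicit false
set_option linter.unusedSectionVars false
set_option linter.style.haveILetI false
universe u

namespace Groth.Agent.Lib.Helper76.CIBase

open IsLocalRing Polynomial IntermediateField
open scoped TensorProduct

theorem good_tensor_of_fin (n : ℕ) : ∀ (k K R : Type u) [Field k] [Field K] [Algebra k K]
    [CommRing R] [Algebra k R] (s : Fin n → K),
    IntermediateField.adjoin k (Set.range s) = ⊤ → Good R → Good (K ⊗[k] R) := by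
  induction n with
  | zero =>
    intro k K R _ _ _ _ _ s hs hR
    have hbot : (⊥ : IntermediateField k K) = ⊤ := by
      rw [← hs]
      have : Set.range s = ∅ := Set.range_eq_empty s
      rw [this, IntermediateField.adjoin_empty]
    have hsurj : Function.Surjective (algebraMap k K) := by
      intro x
      have : x ∈ (⊥ : IntermediateField k K) := hbot ▸ IntermediateField.mem_top
      exact IntermediateField.mem_bot.mp this
    let e : k ≃ₐ[k] K :=
      AlgEquiv.ofBijective (Algebra.ofId k K) ⟨(algebraMap k K).injective, hsurj⟩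
    exact good_of_ringEquiv (((Algebra.TensorProduct.lid k R).symm).trans
      (Algebra.TensorProduct.congr e AlgEquiv.refl)).toRingEquiv hR
  | succ n ih =>
    intro k K R _ _ _ _ _ s hs hR
    have h1 : Good (↥k⟮s 0⟯ ⊗[k] R) := good_tensor_adjoin_simple k R hR K (s 0)
    have hs' : IntermediateField.adjoin ↥k⟮s 0⟯ (Set.range (s ∘ Fin.succ)) = ⊤ := by
      apply IntermediateField.restrictScalars_injective k
      rw [IntermediateField.adjoin_adjoin_left, IntermediateField.restrictScalars_top, ← hs]
      congr 1
      ext x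
      constructor
      · rintro (hx | ⟨j, rfl⟩)
        · exact ⟨0, hx.symm⟩
        · exact ⟨Fin.succ j, rfl⟩
      · rintro ⟨i, rfl⟩
        refine Fin.cases ?_ (fun j => ?_) i
        · exact Or.inl rfl
        · exact Or.inr ⟨j, rfl⟩
    have h2 := ih ↥k⟮s 0⟯ K (↥k⟮s 0⟯ ⊗[k] R) (s ∘ Fin.succ) hs' h1
    exact good_of_ringEquiv
      (Algebra.TensorProduct.cancelBaseChange k ↥k⟮s 0⟯ ↥k⟮s 0⟯ K R).toRingEquiv h2

theorem good_tensor_of_finset (k K R : Type u) [Field k] [Field K] [Algebra k K]
    [CommRing R] [Algebra k R]
    (hK : ∃ s : Finset K, IntermediateField.adjoin k (s : Set K) = ⊤) (hR : Good R) :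
    Good (K ⊗[k] R) := by
  obtain ⟨s, hs⟩ := hK
  refine good_tensor_of_fin s.card k K R (fun i => (s.equivFin.symm i : K)) ?_ hR
  rw [← hs]
  congr 1
  ext x
  constructor
  · rintro ⟨i, rfl⟩
    exact (s.equivFin.symm i).2
  · intro hx
    exact ⟨s.equivFin ⟨x, hx⟩, by simp⟩

end Groth.Agent.Lib.Helper76.CIBase
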