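import Mathlib
import Groth.Prelude.Def_ArtFun5
import Groth.Agent.Lib.Helper76.ArtFibre
import Groth.Agent.Lib.Helper76.ArtBasic
import Groth.Agent.Lib.Helper76.SchlStage
import Groth.Agent.Lib.Helper94.ArtFun2
import Groth.Agent.S12727

set_option autoImplicit false
universe u v

namespace Groth.Agent.Lib.Helper76

open ArtFun ArtFun.Art CategoryTheory

section Prorep

variable {Λ k : Type u} [CommRing Λ] [Field k] [Algebra Λ k]
variable {F : Art Λ k ⥤ Type v}
variable {R : Type u} [CommRing R] [Algebra Λ R] {resR : R →ₐ[Λ] k}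

/-- elements of `h_R` of a fibre product are determined by their projections -/
theorem fp_homSet_ext {B A A' A'' : Art Λ k} {p' : B ⟶ A'} {p'' : B ⟶ A''} {f' : A' ⟶ A}
    {f'' : A'' ⟶ A} (h : IsFibreProd p' p'' f' f'') {χ₁ χ₂ : HomSet R resR B}
    (h' : HomSet.map p' χ₁ = HomSet.map p' χ₂) (h'' : HomSet.map p'' χ₁ = HomSet.map p'' χ₂) :
    χ₁ = χ₂ := by
  apply Subtype.ext
  apply AlgHom.ext
  intro r
  apply h.inj
  · exact AlgHom.congr_fun (congrArg Subtype.val h') r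
  · exact AlgHom.congr_fun (congrArg Subtype.val h'') r

/-- a universal family makes the functor left exact -/
theorem isLeftExact_of_isUniversal (ξ : Family R resR F) (hξ : IsUniversal ξ) : IsLeftExact F := by
  intro B A A' A'' p' p'' f' f'' h
  constructor
  · intro z₁ z₂ hz
    obtain ⟨χ₁, rfl⟩ := (hξ B).2 z₁
    obtain ⟨χ₂, rfl⟩ := (hξ B).2 z₂
    have hz' : F.map p' (ξ.app B χ₁) = F.map p' (ξ.app B χ₂) := congrArg (fun t => t.1.1) hz
    have hz'' : F.map p'' (ξ.app B χ₁) = F.map p'' (ξ.app B χ₂) := congrArg (fun t => t.1.2) hz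
    rw [← ξ.natural, ← ξ.natural] at hz' hz''
    rw [fp_homSet_ext h ((hξ A').1 hz') ((hξ A'').1 hz'')]
  · intro y
    obtain ⟨φ', hφ'⟩ := (hξ A').2 y.1.1
    obtain ⟨φ'', hφ''⟩ := (hξ A'').2 y.1.2
    have hy := y.2
    rw [← hφ', ← hφ'', ← ξ.natural, ← ξ.natural] at hy
    have hφ := (hξ A).1 hy
    refine ⟨ξ.app B (fp_liftHomSet h φ' φ'' hφ), ?_⟩
    apply FibProd.ext
    · show F.map p' (ξ.app B _) = y.1.1
      rw [← ξ.natural, fp_map_fst_liftHomSet, hφ']
    · show F.map p'' (ξ.app B _) = y.1.2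
      rw [← ξ.natural, fp_map_snd_liftHomSet, hφ'']

/-- a universal family is versal -/
theorem isVersal_of_isUniversal (ξ : Family R resR F) (hξ : IsUniversal ξ) : IsVersal ξ := by
  intro B A μ _ φ y hy
  obtain ⟨ψ, rfl⟩ := (hξ B).2 y
  rw [← ξ.natural] at hy
  exact ⟨ψ, (hξ A).1 hy, rfl⟩

theorem isMiniversal_of_isUniversal (ξ : Family R resR F) (hξ : IsUniversal ξ) : IsMiniversal ξ :=
  ⟨isVersal_of_isUniversal ξ hξ, hξ _⟩

/-- `F(k)` is a point for a functor with a universal family -/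
theorem h0_of_isUniversal (ξ : Family R resR F) (hξ : IsUniversal ξ) : H0 F := by
  let r₀ : HomSet R resR (base Λ k) := ⟨resR, AlgHom.id_comp _⟩
  refine ⟨⟨ξ.app _ r₀⟩, ⟨fun x y => ?_⟩⟩
  obtain ⟨φ, rfl⟩ := (hξ _).2 x
  obtain ⟨ψ, rfl⟩ := (hξ _).2 y
  have e1 : φ.1 = resR := (AlgHom.id_comp _).symm.trans φ.2
  have e2 : ψ.1 = resR := (AlgHom.id_comp _).symm.trans ψ.2
  rw [show φ = ψ from Subtype.ext (e1.trans e2.symm)]

/-- `σ ↦ F(σ)(x₀)` is injective for a functor with a universal family over an augmented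
algebra with surjective augmentation -/
theorem injective_map_base_of_isUniversal (ξ : Family R resR F) (hξ : IsUniversal ξ)
    (hres : Function.Surjective resR) (x₀ : F.obj (base Λ k)) :
    Function.Injective (fun σ : base Λ k ⟶ dual Λ k => F.map σ x₀) := by
  let r₀ : HomSet R resR (base Λ k) := ⟨resR, AlgHom.id_comp _⟩
  have hx₀ : x₀ = ξ.app _ r₀ := (h0_of_isUniversal ξ hξ).2.elim _ _
  intro σ σ' h
  have h' : F.map σ x₀ = F.map σ' x₀ := h
  rw [hx₀, ← ξ.natural, ← ξ.natural] at h'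
  exact hom_ext_of_surjective r₀ hres ((hξ _).1 h')

/-- **A hull of a functor satisfying the injectivity half of `HSq` is universal.** -/
theorem isUniversal_of_isMiniversal (h0 : H0 F)
    (hsq : ∀ ⦃B A A' : Art Λ k⦄ (p₁ p₂ : B ⟶ A') (f : A' ⟶ A) (h : IsFibreProd p₁ p₂ f f),
      IsSmallExt f → Function.Injective (cmp F h))
    (ξ : Family R resR F) (hξ : IsMiniversal ξ) : IsUniversal ξ := by
  intro A
  refine ⟨?_, Groth.Agent.S12727.versal_surjective h0 ξ hξ.1 A⟩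
  have key := surjective_induction (Λ := Λ) (k := k)
    (fun A B μ => Function.Injective (ξ.app A) → Function.Injective (ξ.app B)) ?_ ?_ ?_
    (toBase A) A.res_surjective
  · apply key
    intro φ ψ _
    have e1 : φ.1 = resR := (AlgHom.id_comp _).symm.trans φ.2
    have e2 : ψ.1 = resR := (AlgHom.id_comp _).symm.trans ψ.2
    exact Subtype.ext (e1.trans e2.symm)
  · -- isomorphisms
    intro A B e he hA ψ₁ ψ₂ hψ
    have h1 : ξ.app A (HomSet.map e ψ₁) = ξ.app A (HomSet.map e ψ₂) := by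
      rw [ξ.natural, ξ.natural, hψ]
    have h2 := hA h1
    have h3 := congrArg (HomSet.map (inv e)) h2
    rwa [← homSet_map_comp', ← homSet_map_comp', IsIso.hom_inv_id, homSet_map_id',
      homSet_map_id'] at h3
  · -- small extensions
    intro A B μ hμ hA ψ₁ ψ₂ hψ
    have hP := Helper94.isFibreProd_fibreProd μ μ hμ.1
    obtain ⟨q, hq, hdiag⟩ := Helper94.smallExt_exists_dual hμ
    let Δ : B ⟶ Helper94.fibreProd μ μ hμ.1 := fp_lift hP (𝟙 B) (𝟙 B) rfl
    have hΔ₁ : Δ ≫ Helper94.fibreProdFst μ μ hμ.1 = 𝟙 B := fp_lift_fst hP _ _ rfl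
    have hΔ₂ : Δ ≫ Helper94.fibreProdSnd μ μ hμ.1 = 𝟙 B := fp_lift_snd hP _ _ rfl
    -- (1)
    have h1 : HomSet.map μ ψ₁ = HomSet.map μ ψ₂ := by
      apply hA
      rw [ξ.natural, ξ.natural, hψ]
    -- (2)
    let χ : HomSet R resR (Helper94.fibreProd μ μ hμ.1) := fp_liftHomSet hP ψ₁ ψ₂ h1
    have hχ₁ : HomSet.map (Helper94.fibreProdFst μ μ hμ.1) χ = ψ₁ := fp_map_fst_liftHomSet _ _ _ _
    have hχ₂ : HomSet.map (Helper94.fibreProdSnd μ μ hμ.1) χ = ψ₂ := fp_map_snd_liftHomSet _ _ _ _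
    let χ' : HomSet R resR (Helper94.fibreProd μ μ hμ.1) := HomSet.map Δ ψ₁
    have hχ'₁ : HomSet.map (Helper94.fibreProdFst μ μ hμ.1) χ' = ψ₁ := by
      show HomSet.map _ (HomSet.map Δ ψ₁) = ψ₁
      rw [← homSet_map_comp', hΔ₁, homSet_map_id']
    have hχ'₂ : HomSet.map (Helper94.fibreProdSnd μ μ hμ.1) χ' = ψ₁ := by
      show HomSet.map _ (HomSet.map Δ ψ₁) = ψ₁
      rw [← homSet_map_comp', hΔ₂, homSet_map_id']
    -- (3)
    have h3 : ξ.app _ χ = ξ.app _ χ' := by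
      apply hsq _ _ _ hP hμ
      apply FibProd.ext
      · show F.map _ (ξ.app _ χ) = F.map _ (ξ.app _ χ')
        rw [← ξ.natural, ← ξ.natural, hχ₁, hχ'₁]
      · show F.map _ (ξ.app _ χ) = F.map _ (ξ.app _ χ')
        rw [← ξ.natural, ← ξ.natural, hχ₂, hχ'₂, hψ]
    -- (4)
    have h4 : HomSet.map q χ = HomSet.map q χ' := by
      apply hξ.2.1
      rw [ξ.natural, ξ.natural, h3]
    -- (5)
    have h5 : χ = χ' := fp_homSet_ext hq (hχ₁.trans hχ'₁.symm) h4
    rw [← hχ₂, h5, hχ'₂]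
  · intro A B C p q hp hq hA
    exact hp (hq hA)

end Prorep

end Groth.Agent.Lib.Helper76
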