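import Mathlib
import Groth.Prelude.Def_ArtFun5
import Groth.Agent.Lib.Helper76.SchlDerComp

set_option autoImplicit false
universe u v

namespace Groth.Agent.Lib.Helper76

open ArtFun ArtFun.Art CategoryTheory

section Cut

variable {Λ k : Type u} [CommRing Λ] [Field k] [Algebra Λ k]

/-- `k` as an algebra over a coefficient ring, through the augmentation -/
@[reducible] noncomputable def cringAlgebra (R : CRing Λ k) : Algebra R.carrier k :=
  R.res.toRingHom.toAlgebra

attribute [local instance] cringAlgebra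

theorem cringTower (R : CRing Λ k) : IsScalarTower Λ R.carrier k :=
  IsScalarTower.of_algebraMap_eq (fun x => (R.res.commutes x).symm)

attribute [local instance] cringTower

theorem cring_hres (R : CRing Λ k) : ∀ r : R.carrier, R.res r = algebraMap R.carrier k r := fun _ => rfl

variable {F : Art Λ k ⥤ Type v} [TangentStr F]

theorem span_singleton_le_maximalIdeal (R : CRing Λ k) {x : R.carrier}
    (hx : x ∈ IsLocalRing.maximalIdeal R.carrier) :
    Ideal.span {x} ≤ IsLocalRing.maximalIdeal R.carrier :=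
  (Ideal.span_singleton_le_iff_mem _).2 hx

/-- cutting a versal family by an element on which a derivation in the kernel of the tangent map
does not vanish keeps it versal -/
theorem cut_isVersal (h0 : H0 F) (h1 : S1 F) (h2 : Heps F)
    (R : CRing Λ k) (ξ : Family R.carrier R.res F) (hv : IsVersal ξ)
    (D₀ : Derivation Λ R.carrier k) (x : R.carrier)
    (hx : x ∈ IsLocalRing.maximalIdeal R.carrier) (hD₀x : D₀ x ≠ 0)
    (hτ : tangentLin (cring_hres R) ξ D₀ = 0) :
    IsVersal (ξ.along (quotCRingMk R (Ideal.span {x}) (span_singleton_le_maximalIdeal R hx))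
      (quotCRing_res_comp R _ _)) := by
  have hK := span_singleton_le_maximalIdeal R hx
  obtain ⟨q, hqdef⟩ : ∃ q : R.carrier →ₐ[Λ] (quotCRing R (Ideal.span {x}) hK).carrier,
    q = quotCRingMk R (Ideal.span {x}) hK := ⟨_, rfl⟩
  have hq : (quotCRing R (Ideal.span {x}) hK).res.comp q = R.res := by
    rw [hqdef]; exact quotCRing_res_comp R _ _
  have hqsurj : Function.Surjective q := by rw [hqdef]; exact quotCRingMk_surjective R _ _
  have hresx : R.res x = 0 := (CRing.mem_maximalIdeal_iff R x).1 hx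
  -- lifting maps killing `x`
  have hlift : ∀ {A : Art Λ k} (φ : HomSet R.carrier R.res A), φ.1 x = 0 →
      ∃ φ₁ : HomSet (quotCRing R (Ideal.span {x}) hK).carrier (quotCRing R (Ideal.span {x}) hK).res A,
        homSetPre q hq φ₁ = φ := by
    intro A φ hφ
    obtain ⟨φ₁, hφ₁⟩ := quotCRing_lift R (Ideal.span {x}) hK φ (by
      intro s hs
      obtain ⟨a, rfl⟩ := Ideal.mem_span_singleton'.1 hs
      rw [map_mul, hφ, mul_zero])
    refine ⟨φ₁, ?_⟩
    subst hqdef
    exact hφ₁
  have halong : ∀ {A : Art Λ k} (φ₁ : HomSet _ _ A),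
      (ξ.along q hq).app A φ₁ = ξ.app A (homSetPre q hq φ₁) := fun φ₁ => rfl
  subst hqdef
  apply Groth.Agent.S12728.versal_of_conditions h1 h2
  · -- tangent surjectivity
    intro v
    obtain ⟨θ, hθ⟩ := Groth.Agent.S12727.versal_surjective h0 ξ hv (dual Λ k) v
    let D := derOf (cring_hres R) θ
    let c : k := D x / D₀ x
    let D' := D - c • D₀
    have hD'x : D' x = 0 := by
      show D x - c * D₀ x = 0
      rw [div_mul_cancel₀ _ hD₀x, sub_self]
    have hτD' : tangentLin (cring_hres R) ξ D' = v := by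
      show tangentLin (cring_hres R) ξ (D - c • D₀) = v
      rw [map_sub, map_smul, hτ, smul_zero, sub_zero, tangentLin_apply, homSetOfDer_derOf]
      exact hθ
    obtain ⟨θ₁, hθ₁⟩ := hlift (homSetOfDer (cring_hres R) D') (by
      apply TrivSqZeroExt.ext
      · exact hresx
      · exact hD'x)
    refine ⟨θ₁, ?_⟩
    show (ξ.along _ _).app _ θ₁ = v
    rw [halong, hθ₁]
    exact hτD'
  · -- lifting along small extensions
    intro B A μ hμ φ₁ y hy
    obtain ⟨t, ht0, hker, hm⟩ := Helper94.smallExt_exists_generator hμ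
    have htker : μ t = 0 := by
      have : t ∈ RingHom.ker μ.toAlgHom := by rw [hker]; exact Ideal.subset_span rfl
      exact this
    have htm : t ∈ IsLocalRing.maximalIdeal B.carrier := by
      rw [Art.mem_maximalIdeal_iff, ← Art.res_app μ, htker, map_zero]
    rw [halong] at hy
    obtain ⟨ψ, hψ, -⟩ := hv μ hμ.1 _ y hy
    -- `ψ x` lies in the kernel
    have hψx : μ (ψ.1 x) = 0 := by
      have h1 : (HomSet.map μ ψ).1 x =
          (homSetPre (quotCRingMk R (Ideal.span {x}) hK) hq φ₁).1 x :=
        AlgHom.congr_fun (congrArg Subtype.val hψ) x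
      have h2 : (homSetPre (quotCRingMk R (Ideal.span {x}) hK) hq φ₁).1 x = 0 := by
        show φ₁.1 (quotCRingMk R (Ideal.span {x}) hK x) = 0
        rw [(quotCRingMk_eq_zero_iff R _ hK x).2 (Ideal.subset_span rfl), map_zero]
      exact h1.trans h2
    have hψx' : ψ.1 x ∈ RingHom.ker μ.toAlgHom := hψx
    rw [hker, Ideal.mem_span_singleton'] at hψx'
    obtain ⟨b₀, hb₀⟩ := hψx'
    let c : k := -(B.res b₀) / D₀ x
    obtain ⟨ψ', hψ'⟩ := exists_modify (cring_hres R) t hm htm ψ (c • D₀)
    have hψ'x : ψ'.1 x = 0 := by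
      obtain ⟨b, hb⟩ := B.res_surjective ((c • D₀) x)
      rw [hψ' x b hb, ← hb₀, ← add_mul]
      apply hm
      rw [Art.mem_maximalIdeal_iff, map_add, hb]
      show B.res b₀ + c * D₀ x = 0
      rw [div_mul_cancel₀ _ hD₀x, add_neg_cancel]
    obtain ⟨ψ₁, hψ₁⟩ := hlift ψ' hψ'x
    refine ⟨ψ₁, ?_⟩
    apply homSetPre_injective _ hq hqsurj
    rw [homSetPre_map, hψ₁, ← hψ]
    apply Subtype.ext
    apply AlgHom.ext
    intro r
    obtain ⟨b, hb⟩ := B.res_surjective ((c • D₀) r)
    show μ (ψ'.1 r) = μ (ψ.1 r)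
    rw [hψ' r b hb, map_add, map_mul, htker, mul_zero, add_zero]

end Cut

end Groth.Agent.Lib.Helper76
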