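import Mathlib
import Groth.Prelude.Def_ArtFun5
import Groth.Agent.Lib.Helper76.SchlCut
import Groth.Agent.Lib.Helper76.SchlStage

set_option autoImplicit false
universe u v

namespace Groth.Agent.Lib.Helper76

open ArtFun ArtFun.Art CategoryTheory

section Hull

variable {Λ k : Type u} [CommRing Λ] [Field k] [Algebra Λ k]

attribute [local instance] cringAlgebra cringTower

variable {F : Art Λ k ⥤ Type v} [TangentStr F]

theorem baseToDual_comp_scale_zero :
    (baseToDual : base Λ k ⟶ dual Λ k) ≫ scale 0 = baseToDual := by
  apply Art.hom_ext
  apply AlgHom.ext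
  intro a
  apply TrivSqZeroExt.ext
  · rfl
  · show (0 : k) • (0 : k) = 0
    rw [smul_zero]

/-- the image of the point under `k → k[ε]` is the zero tangent vector -/
theorem map_baseToDual_eq_zero (x : F.obj (base Λ k)) :
    F.map baseToDual x = (0 : TangentSpace F) := by
  have h := TangentStr.smul_eq (F := F) (0 : k) (F.map baseToDual x)
  have h' : F.map baseToDual x = F.map (scale 0) (F.map baseToDual x) := by
    rw [← Functor.map_comp_apply, baseToDual_comp_scale_zero]
  have h0 : (0 : k) • (show TangentSpace F from F.map baseToDual x) = 0 := zero_smul _ _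
  exact h'.trans (h.symm.trans h0)

variable [IsNoetherianRing Λ] [Module.Finite Λ k]

theorem cring_der_finite (R : CRing Λ k) : Module.Finite k (Derivation Λ R.carrier k) := by
  haveI := R.isAdicComplete
  exact Groth.Agent.S12715.result R.carrier R.res_surjective

/-- cutting by an element strictly decreases the dimension of the space of derivations -/
theorem cut_finrank_lt (R : CRing Λ k) (D₀ : Derivation Λ R.carrier k) (x : R.carrier)
    (hx : x ∈ IsLocalRing.maximalIdeal R.carrier) (hD₀x : D₀ x ≠ 0) :
    Module.finrank k (Derivation Λ
        (quotCRing R (Ideal.span {x}) (span_singleton_le_maximalIdeal R hx)).carrier k) <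
      Module.finrank k (Derivation Λ R.carrier k) := by
  have hK := span_singleton_le_maximalIdeal R hx
  haveI := cring_der_finite R
  let ι : Derivation Λ (quotCRing R (Ideal.span {x}) hK).carrier k →ₗ[k] Derivation Λ R.carrier k :=
    derComp (quotCRingMk R (Ideal.span {x}) hK) (fun _ => rfl)
  have hι : Function.Injective ι := derComp_injective _ _ (quotCRingMk_surjective R _ hK)
  let ev : Derivation Λ R.carrier k →ₗ[k] k :=
    { toFun := fun D => D x
      map_add' := fun _ _ => rfl
      map_smul' := fun _ _ => rfl }
  have hle : LinearMap.range ι ≤ LinearMap.ker ev := by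
    rintro _ ⟨D₁, rfl⟩
    rw [LinearMap.mem_ker]
    show D₁ (quotCRingMk R (Ideal.span {x}) hK x) = 0
    rw [(quotCRingMk_eq_zero_iff R _ hK x).2 (Ideal.subset_span rfl), map_zero]
  have hlt : LinearMap.ker ev ≠ ⊤ := by
    intro h
    have : D₀ ∈ LinearMap.ker ev := by rw [h]; exact Submodule.mem_top
    exact hD₀x this
  calc Module.finrank k (Derivation Λ (quotCRing R (Ideal.span {x}) hK).carrier k)
      = Module.finrank k (LinearMap.range ι) := (LinearMap.finrank_range_of_inj hι).symm
    _ ≤ Module.finrank k (LinearMap.ker ev) := Submodule.finrank_mono hle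
    _ < Module.finrank k (Derivation Λ R.carrier k) := Submodule.finrank_lt hlt

/-- **Minimalization**: a versal family can be cut down to a hull, provided the only map
`σ : k → k[ε]` with `F(σ)(x₀) = 0` is the trivial one. -/
theorem hasHull_of_versal (h0 : H0 F) (h1 : S1 F) (h2 : Heps F)
    (hc : ∀ (x₀ : F.obj (base Λ k)) (σ : base Λ k ⟶ dual Λ k),
      F.map σ x₀ = F.map baseToDual x₀ → σ = baseToDual)
    (R : CRing Λ k) (ξ : Family R.carrier R.res F) (hv : IsVersal ξ) : HasHull F := by
  have key : ∀ (d : ℕ) (R : CRing Λ k) (ξ : Family R.carrier R.res F), IsVersal ξ →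
      Module.finrank k (Derivation Λ R.carrier k) = d → HasHull F := by
    intro d
    induction d using Nat.strong_induction_on with
    | _ d ih =>
      intro R ξ hv hd
      by_cases hinj : Function.Injective (tangentLin (cring_hres R) ξ)
      · refine ⟨⟨R, ξ, hv, ?_, Groth.Agent.S12727.versal_surjective h0 ξ hv _⟩⟩
        intro θ₁ θ₂ h
        apply derOf_injective (cring_hres R)
        apply hinj
        rw [tangentLin_apply, tangentLin_apply, homSetOfDer_derOf, homSetOfDer_derOf]
        exact h
      · -- a nonzero derivation in the kernel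
        have hker : LinearMap.ker (tangentLin (cring_hres R) ξ) ≠ ⊥ := by
          intro h
          exact hinj (LinearMap.ker_eq_bot.1 h)
        obtain ⟨D₀, hD₀ker, hD₀ne⟩ := Submodule.exists_mem_ne_zero_of_ne_bot hker
        have hτ : tangentLin (cring_hres R) ξ D₀ = 0 := hD₀ker
        have hx : ∃ x ∈ IsLocalRing.maximalIdeal R.carrier, D₀ x ≠ 0 := by
          by_contra hall
          push Not at hall
          apply hD₀ne
          let resHom : HomSet R.carrier R.res (base Λ k) := ⟨R.res, AlgHom.id_comp _⟩
          let θ₀ : HomSet R.carrier R.res (dual Λ k) := homSetOfDer (cring_hres R) D₀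
          have hle : RingHom.ker (resHom.1 : R.carrier →+* (base Λ k)) ≤
              RingHom.ker (θ₀.1 : R.carrier →+* (dual Λ k)) := by
            intro r hr
            have hr' : R.res r = 0 := hr
            rw [RingHom.mem_ker]
            apply TrivSqZeroExt.ext
            · exact hr'
            · exact hall r ((CRing.mem_maximalIdeal_iff R r).2 hr')
          let σ : base Λ k ⟶ dual Λ k := homOfKerLe resHom R.res_surjective θ₀ hle
          have hσ : HomSet.map σ resHom = θ₀ := map_homOfKerLe _ _ _ _
          have h1 : F.map σ (ξ.app _ resHom) = F.map baseToDual (ξ.app _ resHom) := by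
            rw [← ξ.natural, hσ, map_baseToDual_eq_zero]
            exact hτ
          have h2 := hc _ σ h1
          apply Derivation.ext
          intro r
          have h3 : θ₀.1 r = (baseToDual : base Λ k ⟶ dual Λ k) (R.res r) := by
            rw [← h2]
            exact (homOfKerLe_apply resHom R.res_surjective θ₀ hle r).symm
          have h4 := congrArg TrivSqZeroExt.snd h3
          exact h4
        obtain ⟨x, hxm, hxD⟩ := hx
        have hv₁ := cut_isVersal h0 h1 h2 R ξ hv D₀ x hxm hxD hτ
        have hlt := cut_finrank_lt R D₀ x hxm hxD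
        rw [hd] at hlt
        exact ih _ hlt _ _ hv₁ rfl
  exact key _ R ξ hv rfl

end Hull

end Groth.Agent.Lib.Helper76
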