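import Mathlib
import Groth.Prelude.Def_ArtFun5
import Groth.Agent.Lib.Helper76.SchlHull
import Groth.Agent.Lib.Helper76.SchlExist

set_option autoImplicit false
universe u v

namespace Groth.Agent.Lib.Helper76

open ArtFun ArtFun.Art CategoryTheory

section HullExist

variable {Λ k : Type u} [CommRing Λ] [Field k] [Algebra Λ k]

/-- if `k` has no nonzero `Λ`-derivation, the only map `k → k[ε]` is the trivial one -/
theorem hom_base_dual_eq (hk : Subsingleton (Derivation Λ k k)) (σ : base Λ k ⟶ dual Λ k) :
    σ = baseToDual := by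
  have hfst : ∀ a : k, TrivSqZeroExt.fst ((σ.toAlgHom : k →ₐ[Λ] TrivSqZeroExt k k) a) =
      algebraMap k k a := fun a => Art.res_app σ a
  let D : Derivation Λ k k := derOfAlgHom (σ.toAlgHom : k →ₐ[Λ] TrivSqZeroExt k k) hfst
  have hD : D = 0 := Subsingleton.elim _ _
  apply Art.hom_ext
  apply AlgHom.ext
  intro a
  apply TrivSqZeroExt.ext
  · exact hfst a
  · have : D a = 0 := by rw [hD]; rfl
    exact this

variable [IsNoetherianRing Λ] [Module.Finite Λ k]

/-- **Schlessinger**: existence of a hull when `k` has no nonzero `Λ`-derivations. -/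
theorem hasHull_of_conditions (hk : Subsingleton (Derivation Λ k k))
    {F : Art Λ k ⥤ Type v} [TangentStr F]
    (h0 : H0 F) (h1 : S1 F) (h2 : Heps F) (h3 : Hfin F) : HasHull F := by
  obtain ⟨R, ξ, hξ⟩ := exists_versal h0 h1 h2 h3
  exact hasHull_of_versal h0 h1 h2 (fun _ σ _ => hom_base_dual_eq hk σ) R ξ hξ

end HullExist

end Groth.Agent.Lib.Helper76
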