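import Mathlib
import Groth.Prelude.Def_ArtFun5
import Groth.Agent.Lib.Helper76.SchlDer
import Groth.Agent.Lib.Helper76.SchlProrep
import Groth.Agent.S12734
import Groth.Agent.Lib.Helper94.ArtFun

set_option autoImplicit false
universe u v

namespace Groth.Agent.Lib.Helper76

open ArtFun ArtFun.Art CategoryTheory

section HRTangent

variable {Λ : Type u} {k : Type u} [CommRing Λ] [Field k] [Algebra Λ k]
variable {C : Type u} [CommRing C] [Algebra Λ C] [Algebra C k] [IsScalarTower Λ C k]
variable {resC : C →ₐ[Λ] k} (hres : ∀ r, resC r = algebraMap C k r)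

/-- `h_C(k[ε])` is the space of derivations -/
noncomputable def derEquiv : (hR C resC).obj (dual Λ k) ≃ Derivation Λ C k where
  toFun := derOf hres
  invFun := homSetOfDer hres
  left_inv := homSetOfDer_derOf hres
  right_inv := derOf_homSetOfDer hres

omit [IsScalarTower Λ C k] in
theorem derOf_map_plus (z : HomSet C resC (dual2 Λ k)) :
    derOf hres (HomSet.map plus z) = derOf hres (HomSet.map pr₁ z) + derOf hres (HomSet.map pr₂ z) := by
  apply Derivation.ext
  intro r
  rfl

/-- the tangent structure of `h_C` -/
@[reducible] noncomputable def hRTangentStr : TangentStr (hR C resC) :=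
  letI acg : AddCommGroup ((hR C resC).obj (dual Λ k)) := (derEquiv hres).addCommGroup
  letI mod : Module k ((hR C resC).obj (dual Λ k)) := (derEquiv hres).module k
  { addCommGroup := acg
    module := mod
    smul_eq := fun c x => by
      show (derEquiv hres).symm (c • (derEquiv hres) x) = HomSet.map (scale c) x
      have hx : x = homSetOfDer hres (derOf hres x) := (homSetOfDer_derOf hres x).symm
      rw [hx, homSetOfDer_smul]
      show homSetOfDer hres (c • derOf hres (homSetOfDer hres (derOf hres x))) = _
      rw [derOf_homSetOfDer]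
    add_eq := fun z => by
      show (derEquiv hres).symm ((derEquiv hres) (HomSet.map pr₁ z) + (derEquiv hres) (HomSet.map pr₂ z)) =
        HomSet.map plus z
      apply (derEquiv hres).injective
      rw [Equiv.apply_symm_apply]
      exact (derOf_map_plus hres z).symm }


theorem hR_hfin [Module.Finite k (Derivation Λ C k)] :
    @Hfin Λ k _ _ _ (hR C resC) (hRTangentStr hres) := by
  let _ := hRTangentStr (Λ := Λ) hres
  let e : TangentSpace (hR C resC) ≃ₗ[k] Derivation Λ C k :=
    { (derEquiv hres) with
      map_add' := fun x y => (derEquiv hres).apply_symm_apply _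
      map_smul' := fun c x => (derEquiv hres).apply_symm_apply _ }
  exact Module.Finite.equiv e.symm

section Completion

variable [IsNoetherianRing Λ] [Module.Finite Λ k]

include hres in
/-- **Existence of the completion**: an augmented `Λ`-algebra with surjective augmentation and
finite-dimensional space of derivations into `k` has a universal map to a coefficient ring. -/
theorem exists_completion_art (hsurj : Function.Surjective resC)
    [Module.Finite k (Derivation Λ C k)] :
    ∃ (P : CRing Λ k) (ξ : Family P.carrier P.res (hR C resC)), IsUniversal ξ := by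
  let _ := hRTangentStr (Λ := Λ) hres
  have hU : IsUniversal (Family.self C resC) := fun _ => Function.bijective_id
  have hle : IsLeftExact (hR C resC) := isLeftExact_of_isUniversal _ hU
  have h0 : H0 (hR C resC) := h0_of_isUniversal _ hU
  have hp : IsProrepresentable (hR C resC) := by
    refine Groth.Agent.S12734.prorep_of_conditions (hR C resC) h0 ?_ ?_ (hR_hfin hres) ?_ ?_
    · intro B A A' A'' p' p'' f' f'' h _
      exact (hle p' p'' f' f'' h).2
    · intro B A' p' p'' h
      exact hle p' p'' _ _ h
    · intro B A A' p₁ p₂ f h _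
      exact (hle p₁ p₂ f f h).1
    · intro x₀ σ hσ
      exact injective_map_base_of_isUniversal _ hU hsurj x₀ hσ
  obtain ⟨⟨P, ξ, hξ⟩⟩ := hp
  exact ⟨P, ξ, hξ⟩

include hres in
/-- the universal property of the completion for complete targets -/
theorem exists_completion (hsurj : Function.Surjective resC)
    [Module.Finite k (Derivation Λ C k)] :
    ∃ (P : CRing Λ k) (c : C →ₐ[Λ] P.carrier) (_ : P.res.comp c = resC),
      ∀ (T : CRing Λ k) (g : C →ₐ[Λ] T.carrier), T.res.comp g = resC →
        ∃! h : P.carrier →ₐ[Λ] T.carrier, T.res.comp h = P.res ∧ h.comp c = g := by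
  obtain ⟨P, ξ, hξ⟩ := exists_completion_art (Λ := Λ) hres hsurj
  have hnat : ∀ {A B : Art Λ k} (f : A ⟶ B) (φ : HomSet P.carrier P.res A),
      ξ.app B (HomSet.map f φ) = HomSet.map f (ξ.app A φ) := fun f φ => ξ.natural f φ
  -- the universal map
  obtain ⟨c, hc, hcm⟩ := Groth.Agent.Lib.Helper94.exists_glue P
    (fun m => ξ.app (P.trunc m) (P.truncHom m)) (fun m => by
      rw [← hnat, CRing.truncMap_truncHom])
  have key : ∀ (A : Art Λ k) (ψ : HomSet P.carrier P.res A), (ξ.app A ψ).1 = ψ.1.comp c := by
    intro A ψ
    obtain ⟨m, ψbar, rfl⟩ := Groth.Agent.Lib.Helper94.exists_factorTrunc P ψ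
    rw [hnat]
    show ψbar.toAlgHom.comp (ξ.app (P.trunc m) (P.truncHom m)).1 =
      (ψbar.toAlgHom.comp (P.truncHom m).1).comp c
    rw [← hcm m, AlgHom.comp_assoc]
  refine ⟨P, c, hc, ?_⟩
  intro T g hg
  -- truncations of `g`
  let gm : ∀ m, HomSet C resC (T.trunc m) := fun m =>
    ⟨(T.truncHom m).1.comp g, by rw [← AlgHom.comp_assoc, (T.truncHom m).2, hg]⟩
  choose ψ hψ using fun m => (hξ (T.trunc m)).2 (gm m)
  have hcompat : ∀ m, HomSet.map (T.truncMap m) (ψ (m + 1)) = ψ m := by
    intro m
    apply (hξ _).1
    rw [hnat, hψ, hψ]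
    exact Subtype.ext (AlgHom.ext fun _ => rfl)
  obtain ⟨h, hh, hhm⟩ := Groth.Agent.Lib.Helper94.exists_glue T ψ hcompat
  refine ⟨h, ⟨hh, ?_⟩, ?_⟩
  · apply Groth.Agent.Lib.Helper94.algHom_ext_of_truncHom T
    intro m
    rw [← AlgHom.comp_assoc, hhm m, ← key, hψ]
  · rintro h' ⟨hh', hh'c⟩
    apply Groth.Agent.Lib.Helper94.algHom_ext_of_truncHom T
    intro m
    rw [hhm m]
    let ψ' : HomSet P.carrier P.res (T.trunc m) :=
      ⟨(T.truncHom m).1.comp h', by rw [← AlgHom.comp_assoc, (T.truncHom m).2, hh']⟩
    have : ψ' = ψ m := by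
      apply (hξ _).1
      apply Subtype.ext
      rw [key, hψ]
      show ((T.truncHom m).1.comp h').comp c = (T.truncHom m).1.comp g
      rw [AlgHom.comp_assoc, hh'c]
    exact congrArg Subtype.val this

end Completion

end HRTangent

end Groth.Agent.Lib.Helper76
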