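import Mathlib
import Groth.Prelude.Def_ArtFun5
import Groth.Agent.Lib.Helper76.HRCompletion
import Groth.Agent.Lib.Helper76.SchlCut
import Groth.Agent.S12715

set_option autoImplicit false
universe u v

namespace Groth.Agent.Lib.Helper76

open ArtFun ArtFun.Art CategoryTheory TensorProduct

section DerComp

variable {Λ : Type u} {k : Type u} [CommRing Λ] [Field k] [Algebra Λ k]
variable {C : Type u} [CommRing C] [Algebra Λ C] [Algebra C k] [IsScalarTower Λ C k]
variable {S : Type u} [CommRing S] [Algebra Λ S] [Algebra S k] [IsScalarTower Λ S k]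

/-- restriction of a derivation along an algebra map compatible with the maps to `k` -/
noncomputable def derRestrict (f : S →ₐ[Λ] C) (hf : ∀ s, algebraMap S k s = algebraMap C k (f s)) :
    Derivation Λ C k →ₗ[k] Derivation Λ S k where
  toFun D :=
    { toLinearMap := D.toLinearMap.comp f.toLinearMap
      map_one_eq_zero' := by
        show D (f 1) = 0
        rw [map_one]
        exact D.map_one_eq_zero
      leibniz' := fun a b => by
        show D (f (a * b)) = a • D (f b) + b • D (f a)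
        rw [map_mul, D.leibniz, Algebra.smul_def, Algebra.smul_def, Algebra.smul_def a,
          Algebra.smul_def b, hf, hf] }
  map_add' D D' := Derivation.ext fun _ => rfl
  map_smul' c D := Derivation.ext fun _ => rfl

theorem derRestrict_apply (f : S →ₐ[Λ] C) (hf : ∀ s, algebraMap S k s = algebraMap C k (f s))
    (D : Derivation Λ C k) (s : S) : derRestrict f hf D s = D (f s) := rfl

variable {S' : Type u} [CommRing S'] [Algebra Λ S'] [Algebra S' k] [IsScalarTower Λ S' k]

/-- finiteness of the derivations of an algebra generated by the images of two algebras -/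
theorem finite_der_of_adjoin (f : S →ₐ[Λ] C) (hf : ∀ s, algebraMap S k s = algebraMap C k (f s))
    (f' : S' →ₐ[Λ] C) (hf' : ∀ s, algebraMap S' k s = algebraMap C k (f' s))
    (hgen : Algebra.adjoin Λ (Set.range f ∪ Set.range f') = ⊤)
    [Module.Finite k (Derivation Λ S k)] [Module.Finite k (Derivation Λ S' k)] :
    Module.Finite k (Derivation Λ C k) := by
  let L : Derivation Λ C k →ₗ[k] (Derivation Λ S k × Derivation Λ S' k) :=
    (derRestrict f hf).prod (derRestrict f' hf')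
  apply Module.Finite.of_injective L
  intro D D' h
  have h1 : derRestrict f hf D = derRestrict f hf D' := congrArg Prod.fst h
  have h2 : derRestrict f' hf' D = derRestrict f' hf' D' := congrArg Prod.snd h
  apply Derivation.ext_of_adjoin_eq_top _ hgen
  rintro _ (⟨s, rfl⟩ | ⟨s, rfl⟩)
  · exact DFunLike.congr_fun h1 s
  · exact DFunLike.congr_fun h2 s

end DerComp

end Groth.Agent.Lib.Helper76

namespace Groth.Agent.Lib.Helper76

open ArtFun ArtFun.Art CategoryTheory TensorProduct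

section Pushout

variable {Λ : Type u} {k : Type u} [CommRing Λ] [Field k] [Algebra Λ k]
variable (S₁ S₂ : CRing Λ k)

/-- the augmentation of the tensor product -/
noncomputable def tensorRes : S₁.carrier ⊗[Λ] S₂.carrier →ₐ[Λ] k :=
  Algebra.TensorProduct.productMap S₁.res S₂.res

theorem tmul_eq_mul (a : S₁.carrier) (b : S₂.carrier) :
    (a ⊗ₜ[Λ] b : S₁.carrier ⊗[Λ] S₂.carrier) = (a ⊗ₜ 1) * (1 ⊗ₜ b) := by
  rw [Algebra.TensorProduct.tmul_mul_tmul, mul_one, one_mul]

variable [IsNoetherianRing Λ] [Module.Finite Λ k]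

attribute [local instance] cringAlgebra cringTower in
/-- pushouts of coefficient rings, in the form of a quotient of the completed tensor product -/
theorem exists_pushout (I : Ideal (S₁.carrier ⊗[Λ] S₂.carrier))
    (hI : I ≤ RingHom.ker (tensorRes S₁ S₂)) :
    ∃ (P : CRing Λ k) (i₁ : S₁.carrier →ₐ[Λ] P.carrier) (i₂ : S₂.carrier →ₐ[Λ] P.carrier),
      P.res.comp i₁ = S₁.res ∧ P.res.comp i₂ = S₂.res ∧
      (∀ x ∈ I, Algebra.TensorProduct.productMap i₁ i₂ x = 0) ∧
      ∀ (T : CRing Λ k) (g₁ : S₁.carrier →ₐ[Λ] T.carrier) (g₂ : S₂.carrier →ₐ[Λ] T.carrier),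
        T.res.comp g₁ = S₁.res → T.res.comp g₂ = S₂.res →
        (∀ x ∈ I, Algebra.TensorProduct.productMap g₁ g₂ x = 0) →
        ∃! h : P.carrier →ₐ[Λ] T.carrier, T.res.comp h = P.res ∧ h.comp i₁ = g₁ ∧ h.comp i₂ = g₂ := by
  let resC' : (S₁.carrier ⊗[Λ] S₂.carrier) ⧸ I →ₐ[Λ] k :=
    Ideal.Quotient.liftₐ I (tensorRes S₁ S₂) (fun a ha => hI ha)
  let algC' : Algebra ((S₁.carrier ⊗[Λ] S₂.carrier) ⧸ I) k := resC'.toRingHom.toAlgebra
  have towC' : IsScalarTower Λ ((S₁.carrier ⊗[Λ] S₂.carrier) ⧸ I) k :=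
    IsScalarTower.of_algebraMap_eq (fun x => (resC'.commutes x).symm)
  have hres' : ∀ r, resC' r = algebraMap ((S₁.carrier ⊗[Λ] S₂.carrier) ⧸ I) k r := fun _ => rfl
  let j₁ : S₁.carrier →ₐ[Λ] (S₁.carrier ⊗[Λ] S₂.carrier) ⧸ I :=
    (Ideal.Quotient.mkₐ Λ I).comp Algebra.TensorProduct.includeLeft
  let j₂ : S₂.carrier →ₐ[Λ] (S₁.carrier ⊗[Λ] S₂.carrier) ⧸ I :=
    (Ideal.Quotient.mkₐ Λ I).comp Algebra.TensorProduct.includeRight
  have hj₁a : ∀ s, j₁ s = Ideal.Quotient.mk I (s ⊗ₜ 1) := fun _ => rfl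
  have hj₂a : ∀ s, j₂ s = Ideal.Quotient.mk I (1 ⊗ₜ s) := fun _ => rfl
  have hmk : ∀ (a : S₁.carrier) (b : S₂.carrier), Ideal.Quotient.mk I (a ⊗ₜ b) = j₁ a * j₂ b := by
    intro a b
    rw [hj₁a, hj₂a, ← map_mul, ← tmul_eq_mul]
  have hj₁ : ∀ s, algebraMap S₁.carrier k s = algebraMap ((S₁.carrier ⊗[Λ] S₂.carrier) ⧸ I) k (j₁ s) := by
    intro s
    show S₁.res s = Algebra.TensorProduct.productMap S₁.res S₂.res (s ⊗ₜ 1)
    rw [Algebra.TensorProduct.productMap_left_apply]
  have hj₂ : ∀ s, algebraMap S₂.carrier k s = algebraMap ((S₁.carrier ⊗[Λ] S₂.carrier) ⧸ I) k (j₂ s) := by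
    intro s
    show S₂.res s = Algebra.TensorProduct.productMap S₁.res S₂.res (1 ⊗ₜ s)
    rw [Algebra.TensorProduct.productMap_right_apply]
  have hsurj' : Function.Surjective resC' := by
    intro y
    obtain ⟨s, rfl⟩ := S₁.res_surjective y
    exact ⟨j₁ s, (hj₁ s).symm⟩
  have hfin₁ : Module.Finite k (Derivation Λ S₁.carrier k) := by
    have := S₁.isAdicComplete
    exact Groth.Agent.S12715.result S₁.carrier S₁.res_surjective
  have hfin₂ : Module.Finite k (Derivation Λ S₂.carrier k) := by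
    have := S₂.isAdicComplete
    exact Groth.Agent.S12715.result S₂.carrier S₂.res_surjective
  have hgen : Algebra.adjoin Λ (Set.range j₁ ∪ Set.range j₂) = ⊤ := by
    rw [eq_top_iff]
    rintro x -
    obtain ⟨y, rfl⟩ := Ideal.Quotient.mk_surjective x
    have hy : y ∈ Algebra.adjoin Λ {t : S₁.carrier ⊗[Λ] S₂.carrier | ∃ a b, a ⊗ₜ[Λ] b = t} := by
      rw [Algebra.TensorProduct.adjoin_tmul_eq_top]
      trivial
    induction hy using Algebra.adjoin_induction with
    | mem t ht =>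
      obtain ⟨a, b, rfl⟩ := ht
      rw [hmk]
      exact Subalgebra.mul_mem _ (Algebra.subset_adjoin (Or.inl ⟨a, rfl⟩))
        (Algebra.subset_adjoin (Or.inr ⟨b, rfl⟩))
    | algebraMap r => exact Subalgebra.algebraMap_mem _ r
    | add x y _ _ hx hy => rw [map_add]; exact Subalgebra.add_mem _ hx hy
    | mul x y _ _ hx hy => rw [map_mul]; exact Subalgebra.mul_mem _ hx hy
  have hfin : Module.Finite k (Derivation Λ ((S₁.carrier ⊗[Λ] S₂.carrier) ⧸ I) k) :=
    finite_der_of_adjoin j₁ hj₁ j₂ hj₂ hgen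
  obtain ⟨P, c, hc, hUP⟩ := exists_completion (Λ := Λ) hres' hsurj'
  refine ⟨P, c.comp j₁, c.comp j₂, ?_, ?_, ?_, ?_⟩
  · rw [← AlgHom.comp_assoc, hc]
    exact AlgHom.ext fun s => (hj₁ s).symm
  · rw [← AlgHom.comp_assoc, hc]
    exact AlgHom.ext fun s => (hj₂ s).symm
  · have e : Algebra.TensorProduct.productMap (c.comp j₁) (c.comp j₂) =
        c.comp (Ideal.Quotient.mkₐ Λ I) := by
      apply Algebra.TensorProduct.ext'
      intro a b
      show c (j₁ a) * c (j₂ b) = c (Ideal.Quotient.mk I (a ⊗ₜ b))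
      rw [hmk, map_mul]
    intro x hx
    rw [e]
    show c (Ideal.Quotient.mk I x) = 0
    rw [Ideal.Quotient.eq_zero_iff_mem.2 hx, map_zero]
  · intro T g₁ g₂ hg₁ hg₂ hkill
    let g : (S₁.carrier ⊗[Λ] S₂.carrier) ⧸ I →ₐ[Λ] T.carrier :=
      Ideal.Quotient.liftₐ I (Algebra.TensorProduct.productMap g₁ g₂) hkill
    have hgmk : ∀ a b, g (Ideal.Quotient.mk I (a ⊗ₜ b)) = g₁ a * g₂ b := fun _ _ => rfl
    have hg : T.res.comp g = resC' := by
      apply Ideal.Quotient.algHom_ext
      apply Algebra.TensorProduct.ext'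
      intro a b
      show T.res (g₁ a * g₂ b) = S₁.res a * S₂.res b
      rw [map_mul, ← hg₁, ← hg₂]
      rfl
    obtain ⟨h, ⟨hh, hhc⟩, huniq⟩ := hUP T g hg
    have hhc' : ∀ x, h (c x) = g x := fun x => AlgHom.congr_fun hhc x
    refine ⟨h, ⟨hh, ?_, ?_⟩, ?_⟩
    · apply AlgHom.ext
      intro s
      show h (c (j₁ s)) = g₁ s
      rw [hhc', hj₁a, hgmk, map_one, mul_one]
    · apply AlgHom.ext
      intro s
      show h (c (j₂ s)) = g₂ s
      rw [hhc', hj₂a, hgmk, map_one, one_mul]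
    · rintro h' ⟨hh', h1, h2⟩
      apply huniq h' ⟨hh', ?_⟩
      apply Ideal.Quotient.algHom_ext
      apply Algebra.TensorProduct.ext'
      intro a b
      show h' (c (Ideal.Quotient.mk I (a ⊗ₜ b))) = g₁ a * g₂ b
      rw [hmk, map_mul, map_mul, ← h1, ← h2]
      rfl

end Pushout

end Groth.Agent.Lib.Helper76
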