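import Mathlib
import Groth.Agent.Lib.Helper63.T1Lift

/-!
# Curvilinear arcs and first-order liftings

`k[t]/(t^(n+3))` is the equaliser of two maps `k[t,y]/(t^(n+2),y^2) ⇉ k[t,y]/(t^(n+1),y^2)` in
characteristic zero; consequently a first-order lifting property along `A ⊕ M' → A ⊕ M`
gives liftings of arcs `R → k[t]/(t^(n+2))` to `R → k[t]/(t^(n+3))`.
-/

set_option autoImplicit false
universe u v

namespace Groth.Agent.Lib.Helper76.TrArc

section Part1

open CategoryTheory Polynomial T1Lift ArtFun ArtFun.Art Groth.Agent.Lib.Helper63.T1L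

variable (k : Type u) [Field k]

theorem fst_εAlg (n : ℕ) (j : Tr k (n + 1)) : (εAlg k n j).fst = αAlg k n j := by
  have h := congrArg (fun g : A k (n + 1) ⟶ A k n => g.toAlgHom j) (ε_β k n)
  exact h

theorem dualMap_εAlg (n : ℕ) (j : Tr k (n + 2)) :
    dualMap k (αAlg k n) (εAlg k (n + 1) j) = εAlg k n (αAlg k (n + 1) j) := by
  have h := congrArg (fun g : A k (n + 2) ⟶ B k n => g.toAlgHom j) (ε_ξ k n)
  exact h

theorem εAlg_t_pow (n : ℕ) (c : k) :
    εAlg k (n + 1) (c • (t k (n + 2)) ^ (n + 2)) =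
      TrivSqZeroExt.inr ((c * ((n + 2 : ℕ) : k)) • (t k (n + 1)) ^ (n + 1)) := by
  rw [map_smul, map_pow, εAlg_t]
  have h1 : (TrivSqZeroExt.inl (t k (n + 1)) + DualNumber.eps : DualNumber (Tr k (n + 1)))
      ^ (n + 2) = TrivSqZeroExt.inr (((n + 2 : ℕ) : k) • (t k (n + 1)) ^ (n + 1)) :=
    x0_pow k n
  rw [h1, ← TrivSqZeroExt.inr_smul, smul_smul]

theorem εAlg_injective [CharZero k] (n : ℕ) : Function.Injective (εAlg k (n + 1)) := by
  rw [injective_iff_map_eq_zero]
  intro j hj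
  refine εAlg_eq_zero k n j ?_ hj
  rw [← fst_εAlg, hj, TrivSqZeroExt.fst_zero]

theorem εAlg_range [CharZero k] (n : ℕ) (z : DualNumber (Tr k (n + 1)))
    (hz : dualMap k (αAlg k n) z = εAlg k n z.fst) : ∃ j, εAlg k (n + 1) j = z := by
  obtain ⟨j0, hj0⟩ := αAlg_surjective k (n + 1) z.fst
  have h1 : (z - εAlg k (n + 1) j0).fst = 0 := by
    rw [TrivSqZeroExt.fst_sub, fst_εAlg, hj0, sub_self]
  have h2 : αAlg k n (z - εAlg k (n + 1) j0).snd = 0 := by
    have h3 : dualMap k (αAlg k n) (z - εAlg k (n + 1) j0) = 0 := by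
      rw [map_sub, dualMap_εAlg, hj0, hz, sub_self]
    exact congrArg TrivSqZeroExt.snd h3
  obtain ⟨c, hc⟩ := ker_αAlg k n _ h2
  have h4 : ((n + 2 : ℕ) : k) ≠ 0 := Nat.cast_ne_zero.2 (by omega)
  refine ⟨j0 + (c / ((n + 2 : ℕ) : k)) • (t k (n + 2)) ^ (n + 2), ?_⟩
  rw [map_add, εAlg_t_pow, div_mul_cancel₀ _ h4, ← hc]
  refine TrivSqZeroExt.ext ?_ ?_
  · rw [TrivSqZeroExt.fst_add, TrivSqZeroExt.fst_inr, add_zero, fst_εAlg, hj0]
  · rw [TrivSqZeroExt.snd_add, TrivSqZeroExt.snd_inr, TrivSqZeroExt.snd_sub]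
    abel

/-- the curvilinear lifting produced by a first-order tangent lifting -/
theorem exists_lift_of_dual [CharZero k] {R : Type*} [CommRing R] [Algebra k R] (n : ℕ)
    (ψ : R →ₐ[k] DualNumber (Tr k (n + 1)))
    (hψ : ∀ r, dualMap k (αAlg k n) (ψ r) = εAlg k n (ψ r).fst) :
    ∃ X' : R →ₐ[k] Tr k (n + 2), ∀ r, αAlg k (n + 1) (X' r) = (ψ r).fst := by
  choose g hg using fun r => εAlg_range k n (ψ r) (hψ r)
  have hinj := εAlg_injective k n
  refine ⟨{ toFun := g
            map_one' := hinj (by rw [hg, map_one, map_one])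
            map_mul' := fun a b => hinj (by rw [hg, map_mul, map_mul, hg, hg])
            map_zero' := hinj (by rw [hg, map_zero, map_zero])
            map_add' := fun a b => hinj (by rw [hg, map_add, map_add, hg, hg])
            commutes' := fun c => hinj (by rw [hg, AlgHom.commutes, AlgHom.commutes]) }, ?_⟩
  intro r
  show αAlg k (n + 1) (g r) = (ψ r).fst
  rw [← fst_εAlg, hg]

end Part1

section Part2

open CategoryTheory Polynomial T1Lift ArtFun ArtFun.Art Groth.Agent.Lib.Helper63.T1L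

variable (k : Type u) [Field k]

/-- `k[t]/(t^(n+1))` as a module over `k[t]/(t^(n+2))` -/
def Mn (n : ℕ) : Type u := Tr k n

/-- `k[t]/(t^(n+2))` as a module over itself, seen through the `Art` object -/
def Mn' (n : ℕ) : Type u := Tr k (n + 1)

variable (n : ℕ)

variable {k n} in
/-- underlying element -/
def Mn.val (m : Mn k n) : Tr k n := m
variable {k n} in
/-- underlying element -/
def Mn'.val (m : Mn' k n) : Tr k (n + 1) := m
variable {k n} in
/-- converse -/
def Mn.mk (m : Tr k n) : Mn k n := m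
variable {k n} in
/-- converse -/
def Mn'.mk (m : Tr k (n + 1)) : Mn' k n := m

variable {k n} in
/-- underlying element of the ring -/
def sv (s : ↥(T1Lift.A k (n + 1))) : Tr k (n + 1) := s

noncomputable instance : AddCommGroup (Mn k n) := inferInstanceAs (AddCommGroup (Tr k n))
noncomputable instance : Module k (Mn k n) := inferInstanceAs (Module k (Tr k n))
noncomputable instance : AddCommGroup (Mn' k n) := inferInstanceAs (AddCommGroup (Tr k (n + 1)))
noncomputable instance : Module k (Mn' k n) := inferInstanceAs (Module k (Tr k (n + 1)))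

noncomputable instance instModMn : Module ↥(T1Lift.A k (n + 1)) (Mn k n) :=
  Module.compHom (Tr k n) (αAlg k n).toRingHom

noncomputable instance instModMn' : Module ↥(T1Lift.A k (n + 1)) (Mn' k n) :=
  inferInstanceAs (Module (Tr k (n + 1)) (Tr k (n + 1)))

noncomputable instance instModOpMn : Module (↥(T1Lift.A k (n + 1)))ᵐᵒᵖ (Mn k n) :=
  Module.compHom (Mn k n) (RingEquiv.toOpposite ↥(T1Lift.A k (n + 1))).symm.toRingHom

noncomputable instance instModOpMn' : Module (↥(T1Lift.A k (n + 1)))ᵐᵒᵖ (Mn' k n) :=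
  inferInstanceAs (Module (Tr k (n + 1))ᵐᵒᵖ (Tr k (n + 1)))

theorem smul_Mn (s : ↥(T1Lift.A k (n + 1))) (m : Mn k n) :
    s • m = Mn.mk (αAlg k n (sv s) * m.val) := rfl

theorem smul_Mn' (s : ↥(T1Lift.A k (n + 1))) (m : Mn' k n) :
    s • m = Mn'.mk (sv s * m.val) := rfl

theorem op_smul_Mn (s : ↥(T1Lift.A k (n + 1))) (m : Mn k n) :
    MulOpposite.op s • m = s • m := rfl

theorem op_smul_Mn' (s : ↥(T1Lift.A k (n + 1))) (m : Mn' k n) :
    MulOpposite.op s • m = s • m :=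
  (inferInstance : IsCentralScalar (Tr k (n + 1)) (Tr k (n + 1))).op_smul_eq_smul (sv s) m.val

instance : IsCentralScalar ↥(T1Lift.A k (n + 1)) (Mn k n) := ⟨fun _ _ => rfl⟩
instance : IsCentralScalar ↥(T1Lift.A k (n + 1)) (Mn' k n) := ⟨op_smul_Mn' k n⟩

instance : IsScalarTower k ↥(T1Lift.A k (n + 1)) (Mn k n) := ⟨fun c s m => by
  show (αAlg k n (c • sv s) * m.val : Tr k n) = c • (αAlg k n (sv s) * m.val : Tr k n)
  rw [map_smul, smul_mul_assoc]⟩

instance : IsScalarTower k ↥(T1Lift.A k (n + 1)) (Mn' k n) := ⟨fun c s m => by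
  show ((c • sv s) * m.val : Tr k (n + 1)) = c • (sv s * m.val : Tr k (n + 1))
  exact smul_mul_assoc c _ _⟩

instance : IsScalarTower k (↥(T1Lift.A k (n + 1)))ᵐᵒᵖ (Mn k n) := ⟨fun c s m => by
  induction s using MulOpposite.rec' with
  | h s =>
    rw [← MulOpposite.op_smul, op_smul_Mn, op_smul_Mn, smul_assoc]⟩

instance : IsScalarTower k (↥(T1Lift.A k (n + 1)))ᵐᵒᵖ (Mn' k n) := ⟨fun c s m => by
  induction s using MulOpposite.rec' with
  | h s =>
    rw [← MulOpposite.op_smul, op_smul_Mn', op_smul_Mn', smul_assoc]⟩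

/-- the surjection `M' → M` -/
noncomputable def fMn : Mn' k n →ₗ[↥(T1Lift.A k (n + 1))] Mn k n where
  toFun m := Mn.mk (αAlg k n m.val)
  map_add' _ _ := map_add (αAlg k n) _ _
  map_smul' _ _ := map_mul (αAlg k n) _ _

theorem fMn_surjective : Function.Surjective (fMn k n) := αAlg_surjective k n

end Part2

section Part3

open CategoryTheory Polynomial T1Lift ArtFun ArtFun.Art Groth.Agent.Lib.Helper63.T1L

variable (k : Type u) [Field k] (n : ℕ)

/-- identification of the ring with the carrier of the `Art` object -/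
noncomputable def smE : Tr k (n + 1) ≃ₐ[k] ↥(T1Lift.A k (n + 1)) := AlgEquiv.refl

/-- identification -/
noncomputable def mkE : Tr k n ≃ₗ[k] Mn k n := LinearEquiv.refl k (Tr k n)

/-- identification -/
noncomputable def mkE' : Tr k (n + 1) ≃ₗ[k] Mn' k n := LinearEquiv.refl k (Tr k (n + 1))

theorem smul_Mn_eq (s : ↥(T1Lift.A k (n + 1))) (m : Mn k n) :
    s • m = mkE k n (αAlg k n ((smE k n).symm s) * (mkE k n).symm m) := rfl

theorem smul_Mn'_eq (s : ↥(T1Lift.A k (n + 1))) (m : Mn' k n) :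
    s • m = mkE' k n ((smE k n).symm s * (mkE' k n).symm m) := rfl

theorem fMn_apply (m : Mn' k n) : fMn k n m = mkE k n (αAlg k n ((mkE' k n).symm m)) := rfl

section Phi

variable {R : Type*} [CommRing R] [Algebra k R]

/-- the first-order datum attached to an arc -/
noncomputable def φFun (X : R →ₐ[k] Tr k (n + 1)) (r : R) :
    TrivSqZeroExt ↥(T1Lift.A k (n + 1)) (Mn k n) :=
  TrivSqZeroExt.inl (smE k n (X r)) + TrivSqZeroExt.inr (mkE k n (εAlg k n (X r)).snd)

theorem φFun_fst (X : R →ₐ[k] Tr k (n + 1)) (r : R) : (φFun k n X r).fst = smE k n (X r) := by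
  rw [φFun, TrivSqZeroExt.fst_add, TrivSqZeroExt.fst_inl, TrivSqZeroExt.fst_inr, add_zero]

theorem φFun_snd (X : R →ₐ[k] Tr k (n + 1)) (r : R) :
    (φFun k n X r).snd = mkE k n (εAlg k n (X r)).snd := by
  rw [φFun, TrivSqZeroExt.snd_add, TrivSqZeroExt.snd_inl, TrivSqZeroExt.snd_inr, zero_add]

/-- the first-order datum attached to an arc, as an algebra map -/
noncomputable def φOf (X : R →ₐ[k] Tr k (n + 1)) :
    R →ₐ[k] TrivSqZeroExt ↥(T1Lift.A k (n + 1)) (Mn k n) where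
  toFun := φFun k n X
  map_one' := TrivSqZeroExt.ext (by rw [φFun_fst, map_one, map_one, TrivSqZeroExt.fst_one])
    (by rw [φFun_snd, map_one, map_one, TrivSqZeroExt.snd_one, TrivSqZeroExt.snd_one, map_zero])
  map_mul' a b := TrivSqZeroExt.ext
    (by rw [TrivSqZeroExt.fst_mul, φFun_fst, φFun_fst, φFun_fst, map_mul, map_mul])
    (by
      rw [TrivSqZeroExt.snd_mul, φFun_fst, φFun_fst, φFun_snd, φFun_snd, φFun_snd,
        op_smul_eq_smul, smul_Mn_eq, smul_Mn_eq, AlgEquiv.symm_apply_apply,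
        AlgEquiv.symm_apply_apply, LinearEquiv.symm_apply_apply, LinearEquiv.symm_apply_apply,
        ← map_add, map_mul, map_mul, TrivSqZeroExt.snd_mul, fst_εAlg, fst_εAlg, smul_eq_mul,
        MulOpposite.smul_eq_mul_unop, MulOpposite.unop_op, mul_comm (εAlg k n (X a)).snd])
  map_zero' := TrivSqZeroExt.ext (by rw [φFun_fst, map_zero, map_zero, TrivSqZeroExt.fst_zero])
    (by rw [φFun_snd, map_zero, map_zero, TrivSqZeroExt.snd_zero, TrivSqZeroExt.snd_zero, map_zero])
  map_add' a b := TrivSqZeroExt.ext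
    (by rw [TrivSqZeroExt.fst_add, φFun_fst, φFun_fst, φFun_fst, map_add, map_add])
    (by rw [TrivSqZeroExt.snd_add, φFun_snd, φFun_snd, φFun_snd, map_add, map_add,
      TrivSqZeroExt.snd_add, map_add])
  commutes' c := by
    rw [TrivSqZeroExt.algebraMap_eq_inl']
    refine TrivSqZeroExt.ext ?_ ?_
    · rw [φFun_fst, TrivSqZeroExt.fst_inl, AlgHom.commutes, AlgEquiv.commutes]
    · rw [φFun_snd, TrivSqZeroExt.snd_inl, AlgHom.commutes, AlgHom.commutes,
        TrivSqZeroExt.algebraMap_eq_inl', TrivSqZeroExt.snd_inl, map_zero]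

theorem φOf_fst (X : R →ₐ[k] Tr k (n + 1)) (r : R) : (φOf k n X r).fst = smE k n (X r) :=
  φFun_fst k n X r

theorem φOf_snd (X : R →ₐ[k] Tr k (n + 1)) (r : R) :
    (φOf k n X r).snd = mkE k n (εAlg k n (X r)).snd := φFun_snd k n X r

end Phi

end Part3

section Part4

open CategoryTheory Polynomial T1Lift ArtFun ArtFun.Art Groth.Agent.Lib.Helper63.T1L

variable (k : Type u) [Field k] (n : ℕ)

theorem dualMap_fst {R S : Type u} [CommRing R] [CommRing S] [Algebra k R] [Algebra k S]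
    (f : R →ₐ[k] S) (x : DualNumber R) : (dualMap k f x).fst = f x.fst := rfl

theorem dualMap_snd {R S : Type u} [CommRing R] [CommRing S] [Algebra k R] [Algebra k S]
    (f : R →ₐ[k] S) (x : DualNumber R) : (dualMap k f x).snd = f x.snd := rfl

section Psi

variable {R : Type*} [CommRing R] [Algebra k R]

/-- transport to the dual numbers -/
noncomputable def ψFun (ψ : R →ₐ[k] TrivSqZeroExt ↥(T1Lift.A k (n + 1)) (Mn' k n)) (r : R) :
    DualNumber (Tr k (n + 1)) :=
  TrivSqZeroExt.inl ((smE k n).symm (ψ r).fst) + TrivSqZeroExt.inr ((mkE' k n).symm (ψ r).snd)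

theorem ψFun_fst (ψ : R →ₐ[k] TrivSqZeroExt ↥(T1Lift.A k (n + 1)) (Mn' k n)) (r : R) :
    (ψFun k n ψ r).fst = (smE k n).symm (ψ r).fst := by
  rw [ψFun, TrivSqZeroExt.fst_add, TrivSqZeroExt.fst_inl, TrivSqZeroExt.fst_inr, add_zero]

theorem ψFun_snd (ψ : R →ₐ[k] TrivSqZeroExt ↥(T1Lift.A k (n + 1)) (Mn' k n)) (r : R) :
    (ψFun k n ψ r).snd = (mkE' k n).symm (ψ r).snd := by
  rw [ψFun, TrivSqZeroExt.snd_add, TrivSqZeroExt.snd_inl, TrivSqZeroExt.snd_inr, zero_add]

/-- transport to the dual numbers, as an algebra map -/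
noncomputable def ψOf (ψ : R →ₐ[k] TrivSqZeroExt ↥(T1Lift.A k (n + 1)) (Mn' k n)) :
    R →ₐ[k] DualNumber (Tr k (n + 1)) where
  toFun := ψFun k n ψ
  map_one' := TrivSqZeroExt.ext
    (by rw [ψFun_fst, map_one, TrivSqZeroExt.fst_one, map_one, TrivSqZeroExt.fst_one])
    (by rw [ψFun_snd, map_one, TrivSqZeroExt.snd_one, TrivSqZeroExt.snd_one, map_zero])
  map_mul' a b := TrivSqZeroExt.ext
    (by rw [TrivSqZeroExt.fst_mul, ψFun_fst, ψFun_fst, ψFun_fst, map_mul, TrivSqZeroExt.fst_mul,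
      map_mul])
    (by
      rw [TrivSqZeroExt.snd_mul, ψFun_fst, ψFun_fst, ψFun_snd, ψFun_snd, ψFun_snd, map_mul,
        TrivSqZeroExt.snd_mul, op_smul_eq_smul, op_smul_eq_smul, smul_Mn'_eq, smul_Mn'_eq,
        map_add, LinearEquiv.symm_apply_apply, LinearEquiv.symm_apply_apply, smul_eq_mul,
        smul_eq_mul])
  map_zero' := TrivSqZeroExt.ext
    (by rw [ψFun_fst, map_zero, TrivSqZeroExt.fst_zero, map_zero, TrivSqZeroExt.fst_zero])
    (by rw [ψFun_snd, map_zero, TrivSqZeroExt.snd_zero, TrivSqZeroExt.snd_zero, map_zero])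
  map_add' a b := TrivSqZeroExt.ext
    (by rw [TrivSqZeroExt.fst_add, ψFun_fst, ψFun_fst, ψFun_fst, map_add, TrivSqZeroExt.fst_add,
      map_add])
    (by rw [TrivSqZeroExt.snd_add, ψFun_snd, ψFun_snd, ψFun_snd, map_add, TrivSqZeroExt.snd_add,
      map_add])
  commutes' c := by
    rw [TrivSqZeroExt.algebraMap_eq_inl']
    refine TrivSqZeroExt.ext ?_ ?_
    · rw [ψFun_fst, TrivSqZeroExt.fst_inl, AlgHom.commutes, TrivSqZeroExt.algebraMap_eq_inl',
        TrivSqZeroExt.fst_inl, AlgEquiv.commutes]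
    · rw [ψFun_snd, TrivSqZeroExt.snd_inl, AlgHom.commutes, TrivSqZeroExt.algebraMap_eq_inl',
        TrivSqZeroExt.snd_inl, map_zero]

theorem ψOf_fst (ψ : R →ₐ[k] TrivSqZeroExt ↥(T1Lift.A k (n + 1)) (Mn' k n)) (r : R) :
    (ψOf k n ψ r).fst = (smE k n).symm (ψ r).fst := ψFun_fst k n ψ r

theorem ψOf_snd (ψ : R →ₐ[k] TrivSqZeroExt ↥(T1Lift.A k (n + 1)) (Mn' k n)) (r : R) :
    (ψOf k n ψ r).snd = (mkE' k n).symm (ψ r).snd := ψFun_snd k n ψ r

end Psi

/-- the first-order lifting property along all surjections of modules gives curvilinear lifting -/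
theorem cl_of_t1 [CharZero k] {R : Type u} [CommRing R] [Algebra k R]
    (h : ∀ (A : ArtFun.Art k k) (M M' : Type u) [AddCommGroup M] [Module (↥A) M] [Module (↥A)ᵐᵒᵖ M]
        [IsCentralScalar (↥A) M] [Module k M] [IsScalarTower k (↥A) M] [IsScalarTower k (↥A)ᵐᵒᵖ M]
        [AddCommGroup M'] [Module (↥A) M'] [Module (↥A)ᵐᵒᵖ M'] [IsCentralScalar (↥A) M'] [Module k M']
        [IsScalarTower k (↥A) M'] [IsScalarTower k (↥A)ᵐᵒᵖ M'] (f : M' →ₗ[↥A] M),
        Function.Surjective f →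
          ∀ φ : R →ₐ[k] TrivSqZeroExt (↥A) M,
            ∃ ψ : R →ₐ[k] TrivSqZeroExt (↥A) M',
              ∀ r : R, (ψ r).fst = (φ r).fst ∧ f (ψ r).snd = (φ r).snd)
    (n : ℕ) (X : R →ₐ[k] Tr k (n + 1)) :
    ∃ X' : R →ₐ[k] Tr k (n + 2), ∀ r, αAlg k (n + 1) (X' r) = X r := by
  obtain ⟨ψ, hψ⟩ := h (T1Lift.A k (n + 1)) (Mn k n) (Mn' k n) (fMn k n) (fMn_surjective k n)
    (φOf k n X)
  have h1 : ∀ r, (ψOf k n ψ r).fst = X r := by
    intro r
    rw [ψOf_fst, (hψ r).1, φOf_fst, AlgEquiv.symm_apply_apply]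
  obtain ⟨X', hX'⟩ := exists_lift_of_dual k n (ψOf k n ψ) (by
    intro r
    refine TrivSqZeroExt.ext ?_ ?_
    · rw [dualMap_fst, fst_εAlg]
    · rw [dualMap_snd, h1, ψOf_snd]
      have h2 := (hψ r).2
      rw [fMn_apply, φOf_snd] at h2
      exact (mkE k n).injective h2)
  exact ⟨X', fun r => by rw [hX', h1]⟩

end Part4

end Groth.Agent.Lib.Helper76.TrArc
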