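import Mathlib
import Groth.Agent.Lib.Helper76.TrArc
import Groth.Agent.Lib.Lead.ArtHensel
import Groth.Agent.Lib.Helper76.PowSeries
import Groth.Agent.Lib.Helper76.PowEval
import Groth.Agent.Lib.Helper76.ArtLimit
import Groth.Agent.S12722
import Groth.Agent.S12714

/-!
# Curvilinear lifting implies smoothness

A complete local Noetherian `k`-algebra with residue field `k` (`k` infinite) all of whose arcs
`R → k[t]/(t^(n+2))` lift to `R → k[t]/(t^(n+3))` is a power series ring; conversely a power series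
ring has the first-order lifting property along every surjection of modules.
-/

set_option autoImplicit false
universe u v

namespace Groth.Agent.Lib.Helper76.Curvi

section Part1

open CategoryTheory Polynomial T1Lift ArtFun ArtFun.Art Groth.Agent.Lib.Helper63.T1L
open Groth.Agent.Lib.Helper76

variable (k : Type u) [Field k]

theorem maximalIdeal_Tr (m : ℕ) : IsLocalRing.maximalIdeal (Tr k m) = Ideal.span {t k m} := by
  ext x
  rw [Ideal.mem_span_singleton']
  have h := Art.mem_maximalIdeal_iff (T1Lift.A k m) x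
  constructor
  · intro hx
    obtain ⟨b, hb⟩ := t_mul_eq_zero_of_resA k m x (h.1 hx)
    exact ⟨b, by rw [hb, mul_comm]⟩
  · rintro ⟨b, rfl⟩
    refine h.2 ?_
    show resA k m (b * t k m) = 0
    rw [map_mul, resA_t, mul_zero]

theorem maximalIdeal_Tr_pow (m : ℕ) : IsLocalRing.maximalIdeal (Tr k m) ^ (m + 1) = ⊥ := by
  rw [maximalIdeal_Tr, Ideal.span_singleton_pow, t_pow, Ideal.span_singleton_eq_bot]

theorem isAdicComplete_Tr (m : ℕ) :
    IsAdicComplete (IsLocalRing.maximalIdeal (Tr k m)) (Tr k m) :=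
  Groth.Agent.Lib.Lead.ArtHensel.isAdicComplete_of_pow_eq_bot _ (m + 1) (maximalIdeal_Tr_pow k m)

theorem t_pow_mul (m : ℕ) (x : Tr k m) :
    t k m ^ m * x = t k m ^ m * algebraMap k (Tr k m) (resA k m x) := by
  obtain ⟨b, hb⟩ := eq_algebraMap_add_t_mul k m x
  conv_lhs => rw [hb]
  rw [mul_add, ← mul_assoc, ← pow_succ, t_pow, zero_mul, add_zero]

/-- evaluation of a homogeneous polynomial at a rescaled point -/
theorem aeval_mul_of_degree {S : Type*} [CommRing S] [Algebra k S] {d : ℕ} (s : S)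
    (u : Fin d → S) (q : MvPolynomial (Fin d) k) (N : ℕ)
    (hq : ∀ μ ∈ q.support, μ.degree = N) :
    MvPolynomial.aeval (fun i => s * u i) q = s ^ N * MvPolynomial.aeval u q := by
  rw [MvPolynomial.aeval_def, MvPolynomial.aeval_def, MvPolynomial.eval₂_eq',
    MvPolynomial.eval₂_eq', Finset.mul_sum]
  refine Finset.sum_congr rfl fun μ hμ => ?_
  have h1 : ∏ i, (s * u i) ^ μ i = s ^ N * ∏ i, u i ^ μ i := by
    simp_rw [mul_pow]
    rw [Finset.prod_mul_distrib, Finset.prod_pow_eq_pow_sum, ← hq μ hμ, Finsupp.degree_eq_sum]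
  rw [h1]
  ring

end Part1

section Part2

open CategoryTheory T1Lift ArtFun ArtFun.Art Groth.Agent.Lib.Helper63.T1L
open Groth.Agent.Lib.Helper76 MvPowerSeries

variable (k : Type u) [Field k]

/-- the field as a coefficient ring -/
noncomputable def fieldCRing : CRing k k :=
  Groth.Agent.S12722.baseCRing (Λ := k) (k := k) (fun c => ⟨c, rfl⟩)

theorem fieldCRing_res (c : k) : (fieldCRing k).res c = c := rfl

/-- the power series ring as a coefficient ring -/
noncomputable def psCRing (d : ℕ) : CRing k k := powCRing (fieldCRing k) d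

theorem psCRing_res (d : ℕ) (f : MvPowerSeries (Fin d) k) :
    (psCRing k d).res f = constantCoeff f := rfl

theorem maxP_eq (d : ℕ) :
    IsLocalRing.maximalIdeal (MvPowerSeries (Fin d) k) =
      Ideal.span (Set.range (X : Fin d → MvPowerSeries (Fin d) k)) := by
  have h := pow_maximalIdeal_eq_bigIdeal (fieldCRing k) d
  have h2 : IsLocalRing.maximalIdeal (fieldCRing k).carrier = ⊥ :=
    IsLocalRing.maximalIdeal_eq_bot (R := k)
  rw [h2, bigIdeal, Ideal.map_bot, bot_sup_eq] at h
  exact h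

theorem mem_maxP_pow_iff (d N : ℕ) (f : MvPowerSeries (Fin d) k) :
    f ∈ IsLocalRing.maximalIdeal (MvPowerSeries (Fin d) k) ^ N ↔
      ∀ α : Fin d →₀ ℕ, α.degree < N → coeff α f = 0 := by
  have h := pow_bigIdeal_eq (σ := Fin d) (⊥ : Ideal k) N
  rw [bigIdeal, Ideal.map_bot, bot_sup_eq, ← maxP_eq] at h
  rw [h, mem_coeffIdeal]
  constructor
  · intro hf α hα
    have h1 := hf α
    have h2 : N - α.degree ≠ 0 := by omega
    rw [Ideal.bot_pow h2, Ideal.mem_bot] at h1
    exact h1
  · intro hf α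
    by_cases hα : α.degree < N
    · rw [hf α hα]
      exact Ideal.zero_mem _
    · have h2 : N - α.degree = 0 := by omega
      rw [h2, pow_zero, Ideal.one_eq_top]
      exact Submodule.mem_top

end Part2

section Part3

open CategoryTheory T1Lift ArtFun ArtFun.Art Groth.Agent.Lib.Helper63.T1L
open Groth.Agent.Lib.Helper76 MvPowerSeries

variable {k : Type u} [Field k]

/-- factor through a surjection -/
theorem exists_factor {A B C : Type*} [CommRing A] [CommRing B] [CommRing C] [Algebra k A]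
    [Algebra k B] [Algebra k C] (p : A →ₐ[k] B) (hp : Function.Surjective p) (γ : A →ₐ[k] C)
    (h : RingHom.ker p ≤ RingHom.ker γ) : ∃ X : B →ₐ[k] C, ∀ x, X (p x) = γ x := by
  have hwd : ∀ x y, p x = p y → γ x = γ y := by
    intro x y hxy
    have h1 : x - y ∈ RingHom.ker γ := h (by rw [RingHom.mem_ker, map_sub, hxy, sub_self])
    rw [RingHom.mem_ker, map_sub, sub_eq_zero] at h1
    exact h1
  let s := Function.surjInv hp
  have hs : ∀ b, p (s b) = b := Function.surjInv_eq hp
  refine ⟨{ toFun := fun b => γ (s b)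
            map_one' := (hwd _ 1 (by rw [hs, map_one])).trans (map_one γ)
            map_mul' := fun a b => (hwd _ (s a * s b) (by rw [hs, map_mul, hs, hs])).trans
              (map_mul γ _ _)
            map_zero' := (hwd _ 0 (by rw [hs, map_zero])).trans (map_zero γ)
            map_add' := fun a b => (hwd _ (s a + s b) (by rw [hs, map_add, hs, hs])).trans
              (map_add γ _ _)
            commutes' := fun c => (hwd _ (algebraMap k A c) (by rw [hs, AlgHom.commutes])).trans
              (γ.commutes c) }, ?_⟩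
  intro x
  exact hwd _ x (hs (p x))

/-- a map from the power series ring to `k[t]/(t^(m+1))` sending the variables into the maximal
ideal kills the `(m+1)`-st power of the maximal ideal -/
theorem kill_pow {d : ℕ} (m : ℕ) (γ : MvPowerSeries (Fin d) k →ₐ[k] Tr k m)
    (hγ : ∀ i, γ (X i) ∈ IsLocalRing.maximalIdeal (Tr k m)) (x : MvPowerSeries (Fin d) k)
    (hx : x ∈ IsLocalRing.maximalIdeal (MvPowerSeries (Fin d) k) ^ (m + 1)) : γ x = 0 := by
  have h1 : Ideal.map γ (IsLocalRing.maximalIdeal (MvPowerSeries (Fin d) k)) ≤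
      IsLocalRing.maximalIdeal (Tr k m) := by
    rw [maxP_eq, Ideal.map_span, Ideal.span_le]
    rintro _ ⟨_, ⟨i, rfl⟩, rfl⟩
    exact hγ i
  have h2 : γ x ∈ Ideal.map γ (IsLocalRing.maximalIdeal (MvPowerSeries (Fin d) k) ^ (m + 1)) :=
    Ideal.mem_map_of_mem _ hx
  rw [Ideal.map_pow] at h2
  have h3 := Ideal.pow_right_mono h1 (m + 1) h2
  rw [maximalIdeal_Tr_pow, Ideal.mem_bot] at h3
  exact h3

theorem smul_t_mem (m : ℕ) (c : k) : c • t k m ∈ IsLocalRing.maximalIdeal (Tr k m) := by
  rw [maximalIdeal_Tr, Algebra.smul_def]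
  exact Ideal.mul_mem_left _ _ (Ideal.mem_span_singleton_self _)

theorem t_mul_mem (m : ℕ) (u : Tr k m) : t k m * u ∈ IsLocalRing.maximalIdeal (Tr k m) := by
  rw [maximalIdeal_Tr]
  exact Ideal.mul_mem_right _ _ (Ideal.mem_span_singleton_self _)

end Part3

section Part4

open CategoryTheory T1Lift ArtFun ArtFun.Art Groth.Agent.Lib.Helper63.T1L
open Groth.Agent.Lib.Helper76 MvPowerSeries

variable {k : Type u} [Field k]

/-- the inductive step: curvilinear lifting pushes the kernel one power deeper -/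
theorem ker_le_pow_succ [Infinite k] {R : Type*} [CommRing R] [Algebra k R] (d : ℕ)
    (p : MvPowerSeries (Fin d) k →ₐ[k] R) (hp : Function.Surjective p)
    (hCL : ∀ (n : ℕ) (X : R →ₐ[k] Tr k (n + 1)),
      ∃ X' : R →ₐ[k] Tr k (n + 2), ∀ r, αAlg k (n + 1) (X' r) = X r)
    (n : ℕ)
    (hJ : RingHom.ker p ≤ IsLocalRing.maximalIdeal (MvPowerSeries (Fin d) k) ^ (n + 2)) :
    RingHom.ker p ≤ IsLocalRing.maximalIdeal (MvPowerSeries (Fin d) k) ^ (n + 3) := by
  classical
  intro f hf
  have hfN := hJ hf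
  rw [mem_maxP_pow_iff] at hfN ⊢
  have hq0 : truncTotal (n + 3) f = 0 := by
    apply MvPolynomial.funext
    intro a
    rw [map_zero]
    set q := truncTotal (n + 3) f with hq
    -- the linear arc
    have hc1 := isAdicComplete_Tr k (n + 1)
    obtain ⟨γ₀, hγ₀⟩ := exists_mvPowerSeries_eval' (Q := k) (fun i => a i • t k (n + 1))
      (IsLocalRing.maximalIdeal (Tr k (n + 1))) (fun i => smul_t_mem (n + 1) (a i))
    have hγ₀C : ∀ c : k, γ₀ (C c) = algebraMap k (Tr k (n + 1)) c := by
      intro c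
      have := hγ₀ (MvPolynomial.C c)
      rw [MvPolynomial.coe_C, MvPolynomial.aeval_C] at this
      exact this
    have hγ₀X : ∀ i, γ₀ (X i) = a i • t k (n + 1) := by
      intro i
      have := hγ₀ (MvPolynomial.X i)
      rw [MvPolynomial.coe_X, MvPolynomial.aeval_X] at this
      exact this
    let γ : MvPowerSeries (Fin d) k →ₐ[k] Tr k (n + 1) :=
      { γ₀ with commutes' := fun c => hγ₀C c }
    have hγX : ∀ i, γ (X i) = a i • t k (n + 1) := hγ₀X
    obtain ⟨X₀, hX₀⟩ := exists_factor p hp γ (fun x hx => RingHom.mem_ker.2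
      (kill_pow (n + 1) γ (fun i => by rw [hγX]; exact smul_t_mem (n + 1) (a i)) x (hJ hx)))
    obtain ⟨X₁, hX₁⟩ := hCL n X₀
    let γ' : MvPowerSeries (Fin d) k →ₐ[k] Tr k (n + 2) := X₁.comp p
    have hγ' : ∀ x, γ' x = X₁ (p x) := fun _ => rfl
    have hb : ∀ i, αAlg k (n + 1) (γ' (X i)) = a i • t k (n + 1) := by
      intro i
      rw [hγ', hX₁, hX₀, hγX]
    have hbu : ∀ i, ∃ u : Tr k (n + 2), γ' (X i) = t k (n + 2) * u ∧ resA k (n + 2) u = a i := by
      intro i
      have h1 : αAlg k (n + 1) (γ' (X i) - a i • t k (n + 2)) = 0 := by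
        rw [map_sub, hb, map_smul, αAlg_t, sub_self]
      obtain ⟨c, hc⟩ := ker_αAlg k (n + 1) _ h1
      refine ⟨algebraMap k _ (a i) + c • t k (n + 2) ^ (n + 1), ?_, ?_⟩
      · rw [sub_eq_iff_eq_add] at hc
        rw [hc, mul_add, mul_smul_comm, ← pow_succ', Algebra.smul_def (a i),
          mul_comm (algebraMap k _ (a i))]
        exact add_comm _ _
      · rw [map_add, AlgHom.commutes, map_smul, map_pow, resA_t, zero_pow (Nat.succ_ne_zero n),
          smul_zero, add_zero]
        rfl
    choose u hu1 hu2 using hbu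
    have hγ'poly : ∀ r : MvPolynomial (Fin d) k,
        γ' (r : MvPowerSeries (Fin d) k) = MvPolynomial.aeval (fun i => γ' (X i)) r := by
      intro r
      have h1 : γ'.comp (MvPolynomial.coeToMvPowerSeries.algHom k) =
          MvPolynomial.aeval (fun i => γ' (X i)) := by
        apply MvPolynomial.algHom_ext
        intro i
        rw [AlgHom.comp_apply, MvPolynomial.coeToMvPowerSeries.algHom_apply, MvPolynomial.aeval_X,
          MvPolynomial.coe_X, Algebra.algebraMap_self, MvPowerSeries.map_id, RingHom.id_apply]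
      have h2 := AlgHom.congr_fun h1 r
      rw [AlgHom.comp_apply, MvPolynomial.coeToMvPowerSeries.algHom_apply, Algebra.algebraMap_self,
        MvPowerSeries.map_id, RingHom.id_apply] at h2
      exact h2
    have h0 : γ' f = 0 := by
      rw [hγ', RingHom.mem_ker.1 hf, map_zero]
    have h1 : γ' (f - (q : MvPowerSeries (Fin d) k)) = 0 := by
      refine kill_pow (n + 2) γ' (fun i => ?_) _ ?_
      · rw [hu1]
        exact t_mul_mem (n + 2) (u i)
      · rw [maxP_eq]
        exact sub_truncTotal_mem_pow (n + 3) f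
    have h2 : MvPolynomial.aeval (fun i => γ' (X i)) q = 0 := by
      rw [← hγ'poly]
      have e : (q : MvPowerSeries (Fin d) k) = f - (f - (q : MvPowerSeries (Fin d) k)) := by ring
      rw [e, map_sub, h0, h1, sub_zero]
    have hsupp : ∀ μ ∈ q.support, μ.degree = n + 2 := by
      intro μ hμ
      rw [MvPolynomial.mem_support_iff] at hμ
      by_contra hne
      rcases lt_or_gt_of_ne hne with hlt | hgt
      · apply hμ
        rw [hq, coeff_truncTotal f (by omega)]
        exact hfN μ hlt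
      · apply hμ
        rw [hq]
        exact coeff_truncTotal_eq_zero f (by omega)
    have h3 : (fun i => γ' (X i)) = fun i => t k (n + 2) * u i := funext hu1
    rw [h3, aeval_mul_of_degree k (t k (n + 2)) u q (n + 2) hsupp, t_pow_mul] at h2
    have h4 : resA k (n + 2) (MvPolynomial.aeval u q) = MvPolynomial.eval a q := by
      have h5 : (fun i => resA k (n + 2) (u i)) = a := funext hu2
      rw [MvPolynomial.comp_aeval_apply, h5, MvPolynomial.aeval_eq_eval]
    rw [h4, mul_comm, ← Algebra.smul_def] at h2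
    exact smul_t_pow_eq_zero k (n + 2) _ h2
  intro α hα
  rw [← coeff_truncTotal f hα, hq0, MvPolynomial.coeff_zero]

end Part4

section Part5

open CategoryTheory T1Lift ArtFun ArtFun.Art Groth.Agent.Lib.Helper63.T1L
open Groth.Agent.Lib.Helper76 MvPowerSeries

variable {k : Type u} [Field k]

/-- curvilinear lifting forces a complete local `k`-algebra with residue field `k` to be a power
series ring (`k` infinite) -/
theorem powerSeries_of_curvilinear [Infinite k] (R : CRing k k)
    (hCL : ∀ (n : ℕ) (X : R.carrier →ₐ[k] Tr k (n + 1)),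
      ∃ X' : R.carrier →ₐ[k] Tr k (n + 2), ∀ r, αAlg k (n + 1) (X' r) = X r) :
    Nonempty (R.carrier ≃ₐ[k] MvPowerSeries
      (Fin (Module.finrank (IsLocalRing.ResidueField R.carrier)
        (IsLocalRing.CotangentSpace R.carrier))) k) := by
  classical
  rw [← IsLocalRing.spanFinrank_maximalIdeal_eq_finrank_cotangentSpace]
  obtain ⟨s, hs_card, hs_span⟩ := Submodule.FG.exists_span_finset_card_eq_spanFinrank
    (IsLocalRing.maximalIdeal R.carrier).fg_of_isNoetherianRing
  obtain ⟨d, hd⟩ : ∃ d, d = (IsLocalRing.maximalIdeal R.carrier).spanFinrank := ⟨_, rfl⟩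
  rw [← hd] at hs_card ⊢
  -- generators indexed by `Fin d`
  obtain ⟨g, hg⟩ : ∃ g : Fin d → R.carrier, Set.range g = (s : Set R.carrier) := by
    refine ⟨fun i => (s.equivFin.symm (Fin.cast hs_card.symm i) : R.carrier), ?_⟩
    ext x
    constructor
    · rintro ⟨i, rfl⟩
      exact (s.equivFin.symm _).2
    · intro hx
      refine ⟨Fin.cast hs_card (s.equivFin ⟨x, hx⟩), ?_⟩
      simp
  have hgspan : Ideal.span (Set.range g) = IsLocalRing.maximalIdeal R.carrier := by
    rw [hg]
    exact hs_span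
  have hgm : ∀ i, g i ∈ IsLocalRing.maximalIdeal R.carrier := by
    intro i
    rw [← hgspan]
    exact Ideal.subset_span ⟨i, rfl⟩
  have hc := R.isAdicComplete
  obtain ⟨p₀, hp₀⟩ := exists_mvPowerSeries_eval' (Q := k) g
    (IsLocalRing.maximalIdeal R.carrier) hgm
  have hp₀C : ∀ c : k, p₀ (C c) = algebraMap k R.carrier c := by
    intro c
    have := hp₀ (MvPolynomial.C c)
    rw [MvPolynomial.coe_C, MvPolynomial.aeval_C] at this
    exact this
  have hp₀X : ∀ i, p₀ (X i) = g i := by
    intro i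
    have := hp₀ (MvPolynomial.X i)
    rw [MvPolynomial.coe_X, MvPolynomial.aeval_X] at this
    exact this
  let T := psCRing k d
  let p : MvPowerSeries (Fin d) k →ₐ[k] R.carrier := { p₀ with commutes' := fun c => hp₀C c }
  have hpX : ∀ i, p (X i) = g i := hp₀X
  have hres : R.res.comp (p : T.carrier →ₐ[k] R.carrier) = T.res := by
    have : (R.res : R.carrier →+* k).comp p₀ = (T.res : T.carrier →+* k) := by
      apply mvPowerSeries_ringHom_ext (⊥ : Ideal k)
      · intro c
        show R.res (p₀ (C c)) = constantCoeff (C c : MvPowerSeries (Fin d) k)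
        rw [hp₀C, AlgHom.commutes, constantCoeff_C]
        rfl
      · intro i
        show R.res (p₀ (X i)) = constantCoeff (X i : MvPowerSeries (Fin d) k)
        rw [hp₀X, constantCoeff_X]
        exact (CRing.mem_maximalIdeal_iff R _).1 (hgm i)
      · intro i
        show R.res (p₀ (X i)) ∈ (⊥ : Ideal k)
        rw [hp₀X, Ideal.mem_bot]
        exact (CRing.mem_maximalIdeal_iff R _).1 (hgm i)
    exact AlgHom.ext fun x => RingHom.congr_fun this x
  have hXm : ∀ i : Fin d, (X i : T.carrier) ∈ IsLocalRing.maximalIdeal T.carrier := by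
    intro i
    refine (CRing.mem_maximalIdeal_iff T _).2 ?_
    show constantCoeff (X i : MvPowerSeries (Fin d) k) = 0
    exact constantCoeff_X i
  have hsurj : Function.Surjective p := by
    refine ((Groth.Agent.S12714.result T R (p : T.carrier →ₐ[k] R.carrier) hres).out 0 1).2 ?_
    apply le_antisymm
    · exact sup_le (Ideal.map_le_iff_le_comap.2
        (CRing.maximalIdeal_le_comap (R := R) (R' := T) p hres))
        (Ideal.pow_le_self two_ne_zero)
    · refine le_sup_of_le_left ?_
      rw [← hgspan, Ideal.span_le]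
      rintro _ ⟨i, rfl⟩
      rw [← hpX]
      exact Ideal.mem_map_of_mem (p : T.carrier →ₐ[k] R.carrier) (hXm i)
  have hrank : (IsLocalRing.maximalIdeal (MvPowerSeries (Fin d) k)).spanFinrank ≤
      (IsLocalRing.maximalIdeal R.carrier).spanFinrank := by
    rw [maxP_eq, ← hd]
    refine (Submodule.spanFinrank_span_le_ncard_of_finite (Set.finite_range _)).trans ?_
    have h1 := Set.ncard_image_le (f := (X : Fin d → MvPowerSeries (Fin d) k))
      (Set.finite_univ (α := Fin d))
    rw [Set.image_univ, Set.ncard_univ, Nat.card_fin] at h1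
    exact h1
  have hker2 : RingHom.ker p ≤ IsLocalRing.maximalIdeal (MvPowerSeries (Fin d) k) ^ 2 :=
    ker_le_sq_of_spanFinrank_le (p : MvPowerSeries (Fin d) k →+* R.carrier) hsurj hrank
  have hkerN : ∀ n : ℕ,
      RingHom.ker p ≤ IsLocalRing.maximalIdeal (MvPowerSeries (Fin d) k) ^ (n + 2) := by
    intro n
    induction n with
    | zero => exact hker2
    | succ n ih => exact ker_le_pow_succ d p hsurj hCL n ih
  have hker : RingHom.ker p = ⊥ := by
    rw [eq_bot_iff]
    intro f hf
    have h1 : f ∈ ⨅ i : ℕ, IsLocalRing.maximalIdeal (MvPowerSeries (Fin d) k) ^ i := by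
      rw [Ideal.mem_iInf]
      intro i
      exact Ideal.pow_le_pow_right (Nat.le_add_right i 2) (hkerN i hf)
    rw [Ideal.iInf_pow_eq_bot_of_isLocalRing _ (IsLocalRing.maximalIdeal.isMaximal _).ne_top] at h1
    exact h1
  have hinj : Function.Injective p := (RingHom.injective_iff_ker_eq_bot _).2 hker
  exact ⟨(AlgEquiv.ofBijective p ⟨hinj, hsurj⟩).symm⟩

end Part5

section Part6

open CategoryTheory T1Lift ArtFun ArtFun.Art Groth.Agent.Lib.Helper63.T1L
open Groth.Agent.Lib.Helper76 MvPowerSeries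

variable {k : Type u} [Field k]

/-- over `Λ = k` every algebra map from a coefficient ring to an object of `Art k k` is compatible
with the augmentations -/
theorem res_comp_of_field (R : CRing k k) (A : Art k k) (φ : R.carrier →ₐ[k] A) :
    A.res.comp φ = R.res := by
  have hm : ∀ m ∈ IsLocalRing.maximalIdeal R.carrier, A.res (φ m) = 0 := by
    intro m hm
    by_contra hne
    set c := A.res (φ m) with hc
    have hu : IsUnit (algebraMap k R.carrier c - m) := by
      by_contra hnu
      have h1 : algebraMap k R.carrier c - m ∈ IsLocalRing.maximalIdeal R.carrier := hnu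
      rw [CRing.mem_maximalIdeal_iff, map_sub, AlgHom.commutes,
        (CRing.mem_maximalIdeal_iff R m).1 hm, sub_zero] at h1
      exact hne h1
    have h2 : IsUnit (A.res (φ (algebraMap k R.carrier c - m))) := (hu.map φ).map A.res
    rw [map_sub, map_sub, AlgHom.commutes, AlgHom.commutes, ← hc, Algebra.algebraMap_self_apply,
      sub_self] at h2
    exact not_isUnit_zero h2
  apply AlgHom.ext
  intro r
  have h1 : r - algebraMap k R.carrier (R.res r) ∈ IsLocalRing.maximalIdeal R.carrier := by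
    rw [CRing.mem_maximalIdeal_iff, map_sub, AlgHom.commutes, Algebra.algebraMap_self_apply,
      sub_self]
  have h2 := hm _ h1
  rw [map_sub, map_sub, AlgHom.commutes, AlgHom.commutes, Algebra.algebraMap_self_apply,
    sub_eq_zero] at h2
  exact h2

section Tsze

variable {A' : Type*} [CommRing A'] {M : Type*} [AddCommGroup M] [Module A' M] [Module A'ᵐᵒᵖ M]
  [IsCentralScalar A' M]

/-- the ideal of the trivial square-zero extension lying over a nilpotent ideal is nilpotent -/
theorem tsze_comap_pow (I : Ideal A') (N : ℕ) (hI : I ^ N = ⊥) :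
    (Ideal.comap (TrivSqZeroExt.fstHom A' A' M : TrivSqZeroExt A' M →+* A') I) ^ (N + N) = ⊥ := by
  set fstR : TrivSqZeroExt A' M →+* A' := (TrivSqZeroExt.fstHom A' A' M : TrivSqZeroExt A' M →+* A')
    with hfstR
  set J := Ideal.comap fstR I with hJ
  have h1 : ∀ x ∈ J ^ N, x.fst = 0 := by
    intro x hx
    have h2 : fstR x ∈ Ideal.map fstR (J ^ N) := Ideal.mem_map_of_mem _ hx
    rw [Ideal.map_pow] at h2
    have h3 := Ideal.pow_right_mono (Ideal.map_comap_le (f := fstR) (K := I)) N h2
    rw [hI, Ideal.mem_bot] at h3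
    exact h3
  rw [pow_add, eq_bot_iff, Ideal.mul_le]
  intro x hx y hy
  rw [Ideal.mem_bot]
  refine TrivSqZeroExt.ext ?_ ?_
  · rw [TrivSqZeroExt.fst_mul, h1 x hx, zero_mul, TrivSqZeroExt.fst_zero]
  · rw [TrivSqZeroExt.snd_mul, h1 x hx, h1 y hy, zero_smul, MulOpposite.op_zero, zero_smul,
      add_zero, TrivSqZeroExt.snd_zero]

end Tsze

end Part6

section Part7

open CategoryTheory T1Lift ArtFun ArtFun.Art Groth.Agent.Lib.Helper63.T1L
open Groth.Agent.Lib.Helper76 MvPowerSeries

variable {k : Type u} [Field k]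

/-- a power series ring has the first-order lifting property along every surjection of modules -/
theorem t1_of_powerSeries (R : CRing k k) (d : ℕ) (e : R.carrier ≃ₐ[k] MvPowerSeries (Fin d) k)
    (A : ArtFun.Art k k) (M M' : Type*) [AddCommGroup M] [Module (↥A) M] [Module (↥A)ᵐᵒᵖ M]
    [IsCentralScalar (↥A) M] [Module k M] [IsScalarTower k (↥A) M] [IsScalarTower k (↥A)ᵐᵒᵖ M]
    [AddCommGroup M'] [Module (↥A) M'] [Module (↥A)ᵐᵒᵖ M'] [IsCentralScalar (↥A) M'] [Module k M']
    [IsScalarTower k (↥A) M'] [IsScalarTower k (↥A)ᵐᵒᵖ M'] (f : M' →ₗ[↥A] M)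
    (hf : Function.Surjective f) (φ : R.carrier →ₐ[k] TrivSqZeroExt (↥A) M) :
    ∃ ψ : R.carrier →ₐ[k] TrivSqZeroExt (↥A) M',
      ∀ r : R.carrier, (ψ r).fst = (φ r).fst ∧ f (ψ r).snd = (φ r).snd := by
  classical
  obtain ⟨N, hN⟩ : ∃ N : ℕ, IsLocalRing.maximalIdeal (↥A) ^ N = ⊥ := by
    obtain ⟨n, hn⟩ := IsArtinianRing.isNilpotent_jacobson_bot (R := A)
    rw [IsLocalRing.jacobson_eq_maximalIdeal ⊥ bot_ne_top] at hn
    exact ⟨n, hn⟩
  set JM' := Ideal.comap (TrivSqZeroExt.fstHom (↥A) (↥A) M' : TrivSqZeroExt (↥A) M' →+* ↥A)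
    (IsLocalRing.maximalIdeal (↥A)) with hJM'
  set JM := Ideal.comap (TrivSqZeroExt.fstHom (↥A) (↥A) M : TrivSqZeroExt (↥A) M →+* ↥A)
    (IsLocalRing.maximalIdeal (↥A)) with hJM
  have cM' : IsAdicComplete JM' (TrivSqZeroExt (↥A) M') :=
    Groth.Agent.Lib.Lead.ArtHensel.isAdicComplete_of_pow_eq_bot _ (N + N)
      (tsze_comap_pow (IsLocalRing.maximalIdeal (↥A)) N hN)
  have cM : IsAdicComplete JM (TrivSqZeroExt (↥A) M) :=
    Groth.Agent.Lib.Lead.ArtHensel.isAdicComplete_of_pow_eq_bot _ (N + N)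
      (tsze_comap_pow (IsLocalRing.maximalIdeal (↥A)) N hN)
  have memJM : ∀ z : TrivSqZeroExt (↥A) M, z ∈ JM ↔ z.fst ∈ IsLocalRing.maximalIdeal (↥A) :=
    fun z => Iff.rfl
  have memJM' : ∀ z : TrivSqZeroExt (↥A) M', z ∈ JM' ↔ z.fst ∈ IsLocalRing.maximalIdeal (↥A) :=
    fun z => Iff.rfl
  let x : Fin d → R.carrier := fun i => e.symm (X i)
  have hx : ∀ i, x i ∈ IsLocalRing.maximalIdeal R.carrier := by
    intro i hu
    have h1 : IsUnit (e (x i)) := hu.map e
    rw [AlgEquiv.apply_symm_apply, MvPowerSeries.isUnit_iff_constantCoeff, constantCoeff_X] at h1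
    exact not_isUnit_zero h1
  have hφx : ∀ i, (φ (x i)).fst ∈ IsLocalRing.maximalIdeal (↥A) := by
    intro i
    have h1 := AlgHom.congr_fun
      (res_comp_of_field R A ((TrivSqZeroExt.fstHom k (↥A) M).comp φ)) (x i)
    rw [Art.mem_maximalIdeal_iff]
    refine Eq.trans ?_ (h1.trans ((CRing.mem_maximalIdeal_iff R _).1 (hx i)))
    rfl
  choose m' hm' using fun i => hf (φ (x i)).snd
  let b : Fin d → TrivSqZeroExt (↥A) M' := fun i =>
    TrivSqZeroExt.inl (φ (x i)).fst + TrivSqZeroExt.inr (m' i)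
  have hbfst : ∀ i, (b i).fst = (φ (x i)).fst := by
    intro i
    show (TrivSqZeroExt.inl (φ (x i)).fst + TrivSqZeroExt.inr (m' i) : TrivSqZeroExt (↥A) M').fst = _
    rw [TrivSqZeroExt.fst_add, TrivSqZeroExt.fst_inl, TrivSqZeroExt.fst_inr, add_zero]
  have hb : ∀ i, b i ∈ JM' := by
    intro i
    rw [memJM', hbfst]
    exact hφx i
  obtain ⟨ψ₀, hψ₀⟩ := exists_mvPowerSeries_eval' (Q := k) b JM' hb
  have hψ₀C : ∀ c : k, ψ₀ (C c) = algebraMap k (TrivSqZeroExt (↥A) M') c := by
    intro c
    have := hψ₀ (MvPolynomial.C c)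
    rw [MvPolynomial.coe_C, MvPolynomial.aeval_C] at this
    exact this
  have hψ₀X : ∀ i, ψ₀ (X i) = b i := by
    intro i
    have := hψ₀ (MvPolynomial.X i)
    rw [MvPolynomial.coe_X, MvPolynomial.aeval_X] at this
    exact this
  let F : TrivSqZeroExt (↥A) M' →+* TrivSqZeroExt (↥A) M :=
    (TrivSqZeroExt.map f : TrivSqZeroExt (↥A) M' →ₐ[↥A] TrivSqZeroExt (↥A) M)
  have hF : ∀ z, F z = TrivSqZeroExt.map f z := fun _ => rfl
  have hFb : ∀ i, F (b i) = φ (x i) := by
    intro i
    rw [hF]
    show TrivSqZeroExt.map f (TrivSqZeroExt.inl (φ (x i)).fst + TrivSqZeroExt.inr (m' i)) = _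
    rw [map_add, TrivSqZeroExt.map_inl, TrivSqZeroExt.map_inr, hm',
      TrivSqZeroExt.inl_fst_add_inr_snd_eq]
  have key : F.comp ψ₀ = (φ : R.carrier →+* TrivSqZeroExt (↥A) M).comp
      (e.symm : MvPowerSeries (Fin d) k →+* R.carrier) := by
    apply mvPowerSeries_ringHom_ext JM
    · intro c
      show F (ψ₀ (C c)) = φ (e.symm (C c))
      have h1 : (C c : MvPowerSeries (Fin d) k) = algebraMap k (MvPowerSeries (Fin d) k) c := rfl
      rw [hψ₀C, h1, AlgEquiv.commutes, AlgHom.commutes, hF, TrivSqZeroExt.algebraMap_eq_inl',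
        TrivSqZeroExt.algebraMap_eq_inl', TrivSqZeroExt.map_inl]
    · intro i
      show F (ψ₀ (X i)) = φ (e.symm (X i))
      rw [hψ₀X, hFb]
    · intro i
      show F (ψ₀ (X i)) ∈ JM
      rw [hψ₀X, hFb, memJM]
      exact hφx i
  let ψ' : MvPowerSeries (Fin d) k →ₐ[k] TrivSqZeroExt (↥A) M' :=
    { ψ₀ with commutes' := fun c => hψ₀C c }
  refine ⟨ψ'.comp (e : R.carrier →ₐ[k] MvPowerSeries (Fin d) k), fun r => ?_⟩
  have h1 : F (ψ₀ (e r)) = φ r := by
    have h2 := RingHom.congr_fun key (e r)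
    rw [RingHom.comp_apply, RingHom.comp_apply] at h2
    rw [h2]
    show φ (e.symm (e r)) = φ r
    rw [AlgEquiv.symm_apply_apply]
  have h3 : (ψ'.comp (e : R.carrier →ₐ[k] MvPowerSeries (Fin d) k)) r = ψ₀ (e r) := rfl
  rw [h3, ← h1, hF, TrivSqZeroExt.fst_map, TrivSqZeroExt.snd_map]
  exact ⟨rfl, rfl⟩

end Part7

end Groth.Agent.Lib.Helper76.Curvi
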