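import Mathlib
import Groth.Agent.Lib.Helper76.HRCompletion
import Groth.Agent.Lib.Helper76.Curvilinear
import Groth.Agent.Lib.Helper49.FSRegular2
import Groth.Agent.Lib.Helper65.RegularSmooth

/-!
# Curvilinear jets detect regular points (helper76)

`regular_of_curvilinear`: for a finitely generated algebra over an algebraically closed field, if
all jets `A → k[t]/t^(n+2)` at a maximal ideal `m` lift to `k[t]/t^(n+3)` then `A_m` is regular.
`lift_of_regular`: conversely jets lift along nilpotent thickenings at regular points.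
-/

set_option autoImplicit false
universe u

namespace Groth.Agent.Lib.Helper76.CurviReg

open ArtFun ArtFun.Art CategoryTheory

section Part1

variable {Λ : Type u} {k : Type u} [CommRing Λ] [Field k] [Algebra Λ k]
variable {C : Type u} [CommRing C] [Algebra Λ C] [Algebra C k] [IsScalarTower Λ C k]
variable {resC : C →ₐ[Λ] k} (hres : ∀ r, resC r = algebraMap C k r)
variable [IsNoetherianRing Λ] [Module.Finite Λ k]

include hres in
/-- the completion of an augmented algebra, with its universal property for Artinian targets -/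
theorem exists_completion_univ (hsurj : Function.Surjective resC)
    [Module.Finite k (Derivation Λ C k)] :
    ∃ (P : CRing Λ k) (c : C →ₐ[Λ] P.carrier), P.res.comp c = resC ∧
      ∀ (B : Art Λ k) (φ : HomSet C resC B),
        ∃ ψ : HomSet P.carrier P.res B, ψ.1.comp c = φ.1 ∧
          ∀ ψ' : HomSet P.carrier P.res B, ψ'.1.comp c = φ.1 → ψ' = ψ := by
  obtain ⟨P, ξ, hξ⟩ := exists_completion_art (Λ := Λ) hres hsurj
  have hnat : ∀ {A B : Art Λ k} (f : A ⟶ B) (φ : HomSet P.carrier P.res A),
      ξ.app B (HomSet.map f φ) = HomSet.map f (ξ.app A φ) := fun f φ => ξ.natural f φ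
  obtain ⟨c, hc, hcm⟩ := Groth.Agent.Lib.Helper94.exists_glue P
    (fun m => ξ.app (P.trunc m) (P.truncHom m)) (fun m => by
      rw [← hnat, CRing.truncMap_truncHom])
  have key : ∀ (A : Art Λ k) (ψ : HomSet P.carrier P.res A), (ξ.app A ψ).1 = ψ.1.comp c := by
    intro A ψ
    obtain ⟨m, ψbar, rfl⟩ := Groth.Agent.Lib.Helper94.exists_factorTrunc P ψ
    rw [hnat]
    show ψbar.toAlgHom.comp (ξ.app (P.trunc m) (P.truncHom m)).1 =
      (ψbar.toAlgHom.comp (P.truncHom m).1).comp c
    rw [← hcm m, AlgHom.comp_assoc]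
  refine ⟨P, c, hc, fun B φ => ?_⟩
  obtain ⟨ψ, hψ⟩ := (hξ B).2 φ
  refine ⟨ψ, ?_, fun ψ' hψ' => ?_⟩
  · rw [← key, hψ]
  · apply (hξ B).1
    rw [hψ]
    apply Subtype.ext
    rw [key, hψ']

end Part1

open ArtFun ArtFun.Art CategoryTheory T1Lift

section Part2

variable {k : Type u} [Field k] {A : Type u} [CommRing A] [Algebra k A]

/-- derivations of a finitely generated algebra into a finite module form a finite module -/
theorem finite_derivation [Algebra.FiniteType k A] [Algebra A k] [IsScalarTower k A k] :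
    Module.Finite k (Derivation k A k) := by
  classical
  obtain ⟨s, hs⟩ := (Algebra.FiniteType.out : (⊤ : Subalgebra k A).FG)
  let f : Derivation k A k →ₗ[k] (s → k) :=
    { toFun := fun D a => D a.1
      map_add' := fun D D' => rfl
      map_smul' := fun c D => rfl }
  have hf : Function.Injective f := by
    intro D D' h
    apply Derivation.ext_of_adjoin_eq_top (s : Set A) hs
    intro a ha
    exact congrFun h ⟨a, ha⟩
  exact Module.Finite.of_injective f hf

variable (aug : A →ₐ[k] k)

/-- curvilinear lifting passes from an augmented algebra to its completion -/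
theorem curvilinear_of_univ (P : CRing k k) (c : A →ₐ[k] P.carrier)
    (hc : P.res.comp c = aug)
    (huniv : ∀ (B : Art k k) (φ : HomSet A aug B),
        ∃ ψ : HomSet P.carrier P.res B, ψ.1.comp c = φ.1 ∧
          ∀ ψ' : HomSet P.carrier P.res B, ψ'.1.comp c = φ.1 → ψ' = ψ)
    (hA : ∀ (n : ℕ) (φ : A →ₐ[k] Tr k (n + 1)), (resA k (n + 1)).comp φ = aug →
      ∃ φ' : A →ₐ[k] Tr k (n + 2), ∀ a, αAlg k (n + 1) (φ' a) = φ a)
    (n : ℕ) (X : P.carrier →ₐ[k] Tr k (n + 1)) :
    ∃ X' : P.carrier →ₐ[k] Tr k (n + 2), ∀ r, αAlg k (n + 1) (X' r) = X r := by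
  have hX : (T1Lift.A k (n + 1)).res.comp X = P.res :=
    Groth.Agent.Lib.Helper76.Curvi.res_comp_of_field P (T1Lift.A k (n + 1)) X
  have hφ : (resA k (n + 1)).comp (X.comp c) = aug := by
    rw [← AlgHom.comp_assoc]
    change ((T1Lift.A k (n + 1)).res.comp X).comp c = aug
    rw [hX, hc]
  obtain ⟨φ', hφ'⟩ := hA n (X.comp c) hφ
  have hα : (resA k (n + 1)).comp (αAlg k (n + 1)) = resA k (n + 2) := (α k (n + 1)).res_comp
  have hφ'2 : (T1Lift.A k (n + 2)).res.comp φ' = aug := by
    change (resA k (n + 2)).comp φ' = aug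
    rw [← hα, AlgHom.comp_assoc, ← hφ]
    congr 1
    exact AlgHom.ext hφ'
  obtain ⟨X', hX'1, -⟩ := huniv (T1Lift.A k (n + 2)) ⟨φ', hφ'2⟩
  obtain ⟨Y, -, hY⟩ := huniv (T1Lift.A k (n + 1)) ⟨X.comp c, hφ⟩
  have e1 : (⟨X, hX⟩ : HomSet P.carrier P.res (T1Lift.A k (n + 1))) = Y := hY _ rfl
  have e2 : (HomSet.map (α k (n + 1)) X' : HomSet P.carrier P.res (T1Lift.A k (n + 1))) = Y := by
    apply hY
    apply AlgHom.ext
    intro a
    have h2 : X'.1 (c a) = φ' a := DFunLike.congr_fun hX'1 a
    change αAlg k (n + 1) (X'.1 (c a)) = X (c a)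
    rw [h2]
    exact hφ' a
  refine ⟨X'.1, fun r => ?_⟩
  have := congrArg (fun z : HomSet P.carrier P.res (T1Lift.A k (n + 1)) => z.1 r) (e2.trans e1.symm)
  exact this

end Part2

open ArtFun ArtFun.Art CategoryTheory T1Lift IsLocalRing

section Part3

variable {k : Type u} [Field k]

/-- an augmented `k`-algebra whose augmentation ideal is nil is local -/
theorem isLocalRing_of_aug {B : Type u} [CommRing B] [Algebra k B] (f : B →ₐ[k] k)
    (hnil : ∀ x, f x = 0 → IsNilpotent x) : IsLocalRing B := by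
  have : Nontrivial B := f.toRingHom.domain_nontrivial
  refine IsLocalRing.of_isUnit_or_isUnit_one_sub_self fun a => ?_
  by_cases hc : f a = 0
  · exact Or.inr (hnil a hc).isUnit_one_sub
  · left
    have h1 : IsNilpotent (a - algebraMap k B (f a)) := hnil _ (by simp)
    have h2 : IsUnit (algebraMap k B (f a)) := (Ne.isUnit hc).map _
    have : a = algebraMap k B (f a) + (a - algebraMap k B (f a)) := by ring
    rw [this]
    exact h1.isUnit_add_left_of_commute h2 (Commute.all _ _)

variable {A : Type u} [CommRing A] [Algebra k A] (aug : A →ₐ[k] k)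

theorem exists_map_of_univ (P : CRing k k) (c : A →ₐ[k] P.carrier)
    (huniv : ∀ (B : Art k k) (φ : HomSet A aug B),
        ∃ ψ : HomSet P.carrier P.res B, ψ.1.comp c = φ.1 ∧
          ∀ ψ' : HomSet P.carrier P.res B, ψ'.1.comp c = φ.1 → ψ' = ψ)
    (B : Type u) [CommRing B] [Algebra k B] [IsLocalRing B] [IsArtinianRing B]
    (resB : B →ₐ[k] k) (φ : A →ₐ[k] B) (hφ : resB.comp φ = aug) :
    ∃ π : P.carrier →ₐ[k] B, π.comp c = φ ∧ resB.comp π = P.res := by
  obtain ⟨ψ, h1, -⟩ := huniv (Art.of B resB (fun x => ⟨algebraMap k B x, resB.commutes x⟩)) ⟨φ, hφ⟩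
  exact ⟨ψ.1, h1, ψ.2⟩

/-- if the completion of `A` at `m` is formally smooth for its adic topology, so is `A_m` -/
theorem adicFS_localization [IsNoetherianRing A] (m : Ideal A) [m.IsMaximal]
    (haug : ∀ a, aug a = 0 ↔ a ∈ m)
    (P : CRing k k) (c : A →ₐ[k] P.carrier)
    (huniv : ∀ (B : Art k k) (φ : HomSet A aug B),
        ∃ ψ : HomSet P.carrier P.res B, ψ.1.comp c = φ.1 ∧
          ∀ ψ' : HomSet P.carrier P.res B, ψ'.1.comp c = φ.1 → ψ' = ψ)
    (hP : CAlgX.IsAdicFormallySmooth k P.carrier (maximalIdeal P.carrier)) :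
    CAlgX.IsAdicFormallySmooth k (Localization.AtPrime m)
      (maximalIdeal (Localization.AtPrime m)) := by
  intro C _ _ J hJ ψ hψ
  obtain ⟨N, hN⟩ := hψ
  let ι : A →ₐ[k] Localization.AtPrime m := IsScalarTower.toAlgHom k A (Localization.AtPrime m)
  let ψ₀ : A →ₐ[k] C ⧸ J := ψ.comp ι
  have h0 : ∀ x ∈ m ^ (N + 1), ψ₀ x = 0 := by
    intro x hx
    apply hN
    have hx' : x ∈ m ^ N := Ideal.pow_le_pow_right (Nat.le_succ N) hx
    have h1 : algebraMap A (Localization.AtPrime m) x ∈ (m ^ N).map (algebraMap A (Localization.AtPrime m)) :=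
      Ideal.mem_map_of_mem _ hx'
    rw [Ideal.map_pow, Localization.AtPrime.map_eq_maximalIdeal] at h1
    exact h1
  -- the Artinian quotient
  let B₀ := A ⧸ m ^ (N + 1)
  let resB : B₀ →ₐ[k] k := Ideal.Quotient.liftₐ (m ^ (N + 1)) aug
    (fun a ha => (haug a).2 (Ideal.pow_le_self (Nat.succ_ne_zero N) ha))
  have hresB : ∀ a : A, resB (Ideal.Quotient.mk (m ^ (N + 1)) a) = aug a := fun a => rfl
  have hnil : ∀ x : B₀, resB x = 0 → x ^ (N + 1) = 0 := by
    intro x hx
    obtain ⟨a, rfl⟩ := Ideal.Quotient.mk_surjective x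
    rw [hresB] at hx
    rw [← map_pow, Ideal.Quotient.eq_zero_iff_mem]
    exact Ideal.pow_mem_pow ((haug a).1 hx) _
  have : IsLocalRing B₀ := isLocalRing_of_aug resB (fun x hx => ⟨N + 1, hnil x hx⟩)
  have hsurjB : Function.Surjective resB := fun x => ⟨algebraMap k B₀ x, resB.commutes x⟩
  have : Module.Finite k B₀ := by
    refine Module.finite_of_surjective_of_ker_le_nilradical resB hsurjB ?_ (IsNoetherian.noetherian _)
    intro x hx
    exact ⟨N + 1, hnil x hx⟩
  have : IsArtinianRing B₀ := IsArtinianRing.of_finite k B₀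
  obtain ⟨π, hπc, hπres⟩ := exists_map_of_univ aug P c huniv B₀ resB
    (Ideal.Quotient.mkₐ k (m ^ (N + 1))) (AlgHom.ext fun a => hresB a)
  let ψ' : B₀ →ₐ[k] C ⧸ J := Ideal.Quotient.liftₐ (m ^ (N + 1)) ψ₀ h0
  -- `π` kills a power of the maximal ideal
  have hπ : ∀ x ∈ maximalIdeal P.carrier ^ (N + 1), π x = 0 := by
    have hle : (maximalIdeal P.carrier).map π.toRingHom ≤ RingHom.ker resB.toRingHom := by
      rw [Ideal.map_le_iff_le_comap]
      intro x hx
      rw [Ideal.mem_comap, RingHom.mem_ker]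
      change resB (π x) = 0
      have : resB (π x) = P.res x := DFunLike.congr_fun hπres x
      rw [this]
      exact (CRing.mem_maximalIdeal_iff P x).1 hx
    intro x hx
    have h1 : π.toRingHom x ∈ (maximalIdeal P.carrier ^ (N + 1)).map π.toRingHom :=
      Ideal.mem_map_of_mem _ hx
    rw [Ideal.map_pow] at h1
    have h2 := Ideal.pow_right_mono hle (N + 1) h1
    have h3 : RingHom.ker resB.toRingHom ^ (N + 1) = ⊥ := by
      rw [eq_bot_iff]
      have hk : RingHom.ker resB.toRingHom ≤ m.map (Ideal.Quotient.mk (m ^ (N + 1))) := by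
        intro x hx
        obtain ⟨a, rfl⟩ := Ideal.Quotient.mk_surjective x
        have ha : aug a = 0 := hx
        exact Ideal.mem_map_of_mem _ ((haug a).1 ha)
      refine (Ideal.pow_right_mono hk (N + 1)).trans ?_
      rw [← Ideal.map_pow, Ideal.map_quotient_self]
    rw [h3] at h2
    exact h2
  obtain ⟨χ'', hχ''⟩ := hP C J hJ (ψ'.comp π) ⟨N + 1, fun x hx => by
    rw [AlgHom.comp_apply, hπ x hx, map_zero]⟩
  let χ₀ : A →ₐ[k] C := χ''.comp c
  have hχ₀ : ∀ a, Ideal.Quotient.mk J (χ₀ a) = ψ₀ a := by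
    intro a
    have h1 := DFunLike.congr_fun hχ'' (c a)
    have h2 : π (c a) = Ideal.Quotient.mk (m ^ (N + 1)) a := DFunLike.congr_fun hπc a
    change Ideal.Quotient.mk J (χ'' (c a)) = ψ' (π (c a)) at h1
    rw [h2] at h1
    exact h1
  have hunit : ∀ y : m.primeCompl, IsUnit (χ₀ y) := by
    intro y
    apply (IsNilpotent.isUnit_quotient_mk_iff (I := J) ⟨2, hJ⟩).mp
    rw [hχ₀]
    exact (IsLocalization.map_units (Localization.AtPrime m) y).map ψ
  let χ : Localization.AtPrime m →ₐ[k] C := IsLocalization.liftAlgHom (M := m.primeCompl) (f := χ₀) hunit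
  refine ⟨χ, ?_⟩
  apply IsLocalization.algHom_ext m.primeCompl
  apply AlgHom.ext
  intro a
  change Ideal.Quotient.mk J (χ (algebraMap A _ a)) = ψ (algebraMap A _ a)
  have : χ (algebraMap A _ a) = χ₀ a := IsLocalization.lift_eq _ _
  rw [this, hχ₀]
  rfl

end Part3

open ArtFun ArtFun.Art CategoryTheory T1Lift IsLocalRing Polynomial

section Part4

variable (k : Type u) [Field k] [IsAlgClosed k]
variable (A : Type u) [CommRing A] [Algebra k A] [Algebra.FiniteType k A]
variable (m : Ideal A) [m.IsMaximal]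

/-- the augmentation of a finitely generated algebra over an algebraically closed field at a
maximal ideal -/
theorem exists_aug : ∃ aug : A →ₐ[k] k, ∀ a, aug a = 0 ↔ a ∈ m := by
  letI : Field (A ⧸ m) := Ideal.Quotient.field m
  haveI : Module.Finite k (A ⧸ m) := finite_of_finite_type_of_isJacobsonRing k (A ⧸ m)
  have h1 : Function.Bijective (algebraMap k (A ⧸ m)) :=
    IsAlgClosed.algebraMap_bijective_of_isIntegral
  let e : k ≃ₐ[k] A ⧸ m := AlgEquiv.ofBijective (Algebra.ofId k (A ⧸ m)) h1
  refine ⟨(e.symm : A ⧸ m →ₐ[k] k).comp (Ideal.Quotient.mkₐ k m), fun a => ?_⟩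
  change e.symm (Ideal.Quotient.mk m a) = 0 ↔ a ∈ m
  rw [map_eq_zero_iff _ e.symm.injective, Ideal.Quotient.eq_zero_iff_mem]

theorem isNilpotent_of_resA (n : ℕ) (x : Tr k n) (hx : resA k n x = 0) : IsNilpotent x := by
  obtain ⟨b, rfl⟩ := Groth.Agent.Lib.Helper63.T1L.t_mul_eq_zero_of_resA (k := k) n x hx
  exact ⟨n + 1, by rw [mul_pow, t_pow, zero_mul]⟩

variable [CharZero k]

theorem regular_of_curvilinear
    (h : ∀ (n : ℕ) (φ : A →ₐ[k] Tr k (n + 1)), (∀ a ∈ m, IsNilpotent (φ a)) →
      ∃ φ' : A →ₐ[k] Tr k (n + 2), ∀ a, αAlg k (n + 1) (φ' a) = φ a) :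
    IsRegularLocalRing (Localization.AtPrime m) := by
  obtain ⟨aug, haug⟩ := exists_aug k A m
  letI : Algebra A k := aug.toRingHom.toAlgebra
  haveI : IsScalarTower k A k := IsScalarTower.of_algebraMap_eq (fun x => (aug.commutes x).symm)
  have hres : ∀ r, aug r = algebraMap A k r := fun r => rfl
  have hsurj : Function.Surjective aug := fun x => ⟨algebraMap k A x, aug.commutes x⟩
  haveI : Module.Finite k (Derivation k A k) := finite_derivation
  haveI : IsNoetherianRing A := Algebra.FiniteType.isNoetherianRing k A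
  obtain ⟨P, c, hc, huniv⟩ := exists_completion_univ (Λ := k) hres hsurj
  have hA : ∀ (n : ℕ) (φ : A →ₐ[k] Tr k (n + 1)), (resA k (n + 1)).comp φ = aug →
      ∃ φ' : A →ₐ[k] Tr k (n + 2), ∀ a, αAlg k (n + 1) (φ' a) = φ a := by
    intro n φ hφ
    apply h n φ
    intro a ha
    apply isNilpotent_of_resA
    have : resA k (n + 1) (φ a) = aug a := DFunLike.congr_fun hφ a
    rw [this]
    exact (haug a).2 ha
  have hCL := curvilinear_of_univ aug P c hc huniv hA
  obtain ⟨e⟩ := Groth.Agent.Lib.Helper76.Curvi.powerSeries_of_curvilinear P hCL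
  set d := Module.finrank (IsLocalRing.ResidueField P.carrier)
        (IsLocalRing.CotangentSpace P.carrier) with hd
  have hle : (maximalIdeal (MvPowerSeries (Fin d) k)).map
      ((e.symm : MvPowerSeries (Fin d) k ≃ₐ[k] P.carrier) : MvPowerSeries (Fin d) k →+* P.carrier) ≤
      maximalIdeal P.carrier := by
    rw [Ideal.map_le_iff_le_comap]
    intro x hx
    rw [Ideal.mem_comap, mem_maximalIdeal, mem_nonunits_iff]
    intro hu
    have hx' : ¬ IsUnit x := hx
    apply hx'
    have := hu.map (e : P.carrier →+* MvPowerSeries (Fin d) k)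
    simpa using this
  have hP : CAlgX.IsAdicFormallySmooth k P.carrier (maximalIdeal P.carrier) :=
    Groth.Agent.Lib.Helper49.FSRegular.isAdicFormallySmooth_of_algEquiv e.symm _ _ hle
      (Groth.Agent.Lib.Helper49.FSRegular.isAdicFormallySmooth_mvPowerSeries (k := k) (K := k) d)
  have hL := adicFS_localization aug m haug P c huniv hP
  exact (Groth.Agent.Lib.Helper49.FSRegular.isRegularLocalRing_of_isAdicFormallySmooth_field hL).1

end Part4

open ArtFun ArtFun.Art CategoryTheory T1Lift IsLocalRing Polynomial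

section Part5

variable (k : Type u) [Field k] [IsAlgClosed k]
variable (A : Type u) [CommRing A] [Algebra k A] [Algebra.FiniteType k A]
variable (m : Ideal A) [m.IsMaximal]

/-- the localisation at a maximal ideal is formally smooth when it is regular -/
theorem formallySmooth_of_regular (hreg : IsRegularLocalRing (Localization.AtPrime m)) :
    Algebra.FormallySmooth k (Localization.AtPrime m) := by
  haveI : Algebra.EssFiniteType A (Localization.AtPrime m) :=
    Algebra.EssFiniteType.of_isLocalization _ m.primeCompl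
  haveI : Algebra.EssFiniteType k (Localization.AtPrime m) := Algebra.EssFiniteType.comp k A _
  have hb := Groth.Agent.Lib.Helper65.RegularSmooth.bijective_algebraMap_residueField_of_isAlgClosed k A m
  let e : k ≃ₐ[k] ResidueField (Localization.AtPrime m) :=
    AlgEquiv.ofBijective (Algebra.ofId k _) hb
  haveI : Algebra.FormallySmooth k (ResidueField (Localization.AtPrime m)) :=
    Algebra.FormallySmooth.of_equiv e
  exact Groth.Agent.Lib.Helper65.RegularSmooth.formallySmooth_of_isRegularLocalRing k _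

/-- jets lift along square-zero thickenings at a regular point -/
theorem lift_of_regular (hreg : IsRegularLocalRing (Localization.AtPrime m))
    {Q Q' : Type u} [CommRing Q] [Algebra k Q] [CommRing Q'] [Algebra k Q']
    (g : Q' →ₐ[k] Q) (hg : Function.Surjective g) (hg' : IsNilpotent (RingHom.ker (g : Q' →+* Q)))
    (φ : A →ₐ[k] Q) (hφ : ∀ a ∈ m, IsNilpotent (φ a)) :
    ∃ ψ : A →ₐ[k] Q', g.comp ψ = φ := by
  haveI := formallySmooth_of_regular k A m hreg
  have hunit : ∀ y : m.primeCompl, IsUnit (φ y) := by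
    intro y
    have hy : (y : A) ∉ m := y.2
    obtain ⟨b, hb⟩ := Ideal.IsMaximal.exists_inv (I := m) inferInstance hy
    obtain ⟨i, hi, hbi⟩ := hb
    -- b * y + i = 1
    have h1 : φ b * φ y = 1 - φ i := by
      rw [← map_mul, ← map_one φ, ← hbi, map_add, add_sub_cancel_right]
    have h2 : IsUnit (φ b * φ y) := by
      rw [h1]
      exact (hφ i hi).isUnit_one_sub
    exact isUnit_of_mul_isUnit_right h2
  let φL : Localization.AtPrime m →ₐ[k] Q :=
    IsLocalization.liftAlgHom (M := m.primeCompl) (f := φ) hunit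
  let ψL := Algebra.FormallySmooth.liftOfSurjective φL g hg hg'
  refine ⟨ψL.comp (IsScalarTower.toAlgHom k A (Localization.AtPrime m)), ?_⟩
  rw [← AlgHom.comp_assoc, Algebra.FormallySmooth.comp_liftOfSurjective]
  apply AlgHom.ext
  intro a
  exact IsLocalization.lift_eq _ _

end Part5

end Groth.Agent.Lib.Helper76.CurviReg
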