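import Mathlib

/-!
# Completeness of square-zero extensions by a simple module

If `p : E → R` is a surjective ring map whose kernel is "simple" (any nonzero element generates it)
and killed by an ideal `𝔫`, and `R` is noetherian and complete for the image of `𝔫`, then `E` is
noetherian and `𝔫`-adically complete.
-/

set_option autoImplicit false

namespace Groth.Agent.Lib.Helper76.ExtComplete

section Basic

variable {R : Type*} [CommRing R] (I : Ideal R)

theorem smodEq_pow_iff' (n : ℕ) (x y : R) :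
    x ≡ y [SMOD (I ^ n • ⊤ : Submodule R R)] ↔ x - y ∈ I ^ n := by
  rw [SModEq.sub_mem, smul_eq_mul, Ideal.mul_top]

end Basic

section Surj

variable {A B : Type*} [CommRing A] [CommRing B] (f : A →+* B) (hf : Function.Surjective f)
  (I : Ideal A)

include hf in
/-- precompleteness passes to quotients -/
theorem isPrecomplete_map_of_surjective [IsPrecomplete I A] : IsPrecomplete (I.map f) B := by
  refine ⟨fun {g} hg => ?_⟩
  have hg' : ∀ n, g n - g (n + 1) ∈ (I.map f) ^ n := by
    intro n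
    rw [← smodEq_pow_iff']
    exact hg (Nat.le_succ n)
  have hd : ∀ n, ∃ d : A, d ∈ I ^ n ∧ f d = g n - g (n + 1) := by
    intro n
    have := hg' n
    rw [← Ideal.map_pow] at this
    obtain ⟨d, hd, hd'⟩ := (Ideal.mem_map_iff_of_surjective _ hf).1 this
    exact ⟨d, hd, hd'⟩
  choose d hd₁ hd₂ using hd
  obtain ⟨g₀, hg₀⟩ := hf (g 0)
  let G : ℕ → A := fun n => Nat.rec g₀ (fun i y => y - d i) n
  have hG_succ : ∀ n, G (n + 1) = G n - d n := fun n => rfl
  have hG : ∀ n, f (G n) = g n := by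
    intro n
    induction n with
    | zero => exact hg₀
    | succ n ih => rw [hG_succ, map_sub, ih, hd₂, sub_sub_cancel]
  have hc : AdicCompletion.IsAdicCauchy I A G := by
    rw [AdicCompletion.isAdicCauchy_iff]
    intro n
    rw [smodEq_pow_iff', hG_succ, sub_sub_cancel]
    exact hd₁ n
  obtain ⟨L, hL⟩ := IsPrecomplete.prec ‹_› hc
  refine ⟨f L, fun n => ?_⟩
  rw [smodEq_pow_iff', ← hG, ← map_sub, ← Ideal.map_pow]
  apply Ideal.mem_map_of_mem
  rw [← smodEq_pow_iff']
  exact hL n

end Surj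


section Ext

variable {E R : Type*} [CommRing E] [CommRing R] (p : E →+* R) (hp : Function.Surjective p)
  (𝔫 : Ideal E)

include hp in
/-- a ring which is an extension of a noetherian ring by a "simple" ideal is noetherian -/
theorem isNoetherianRing_of_ker_simple [IsNoetherianRing R]
    (hs : ∀ x ∈ RingHom.ker p, x ≠ 0 → ∀ y ∈ RingHom.ker p, ∃ c : E, y = c * x) :
    IsNoetherianRing E := by
  rw [isNoetherianRing_iff_ideal_fg]
  intro N
  -- the intersection with the kernel is finitely generated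
  have h1 : (N ⊓ RingHom.ker p).FG := by
    by_cases h : ∃ x ∈ N ⊓ RingHom.ker p, x ≠ 0
    · obtain ⟨x, hx, hx0⟩ := h
      have : N ⊓ RingHom.ker p = Ideal.span {x} := by
        apply le_antisymm
        · intro y hy
          obtain ⟨c, rfl⟩ := hs x hx.2 hx0 y hy.2
          exact Ideal.mem_span_singleton'.2 ⟨c, rfl⟩
        · rw [Ideal.span_le, Set.singleton_subset_iff]
          exact hx
      rw [this]
      exact ⟨{x}, by simp⟩
    · push Not at h
      have : N ⊓ RingHom.ker p = ⊥ := by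
        rw [eq_bot_iff]
        intro y hy
        exact h y hy
      rw [this]
      exact Submodule.fg_bot
  have h2 : (N.map p).FG := IsNoetherian.noetherian _
  obtain ⟨s, hs'⟩ := h2
  have h3 : ∀ y ∈ s, ∃ a ∈ N, p a = y := by
    intro y hy
    have : y ∈ N.map p := hs' ▸ Ideal.subset_span hy
    exact (Ideal.mem_map_iff_of_surjective _ hp).1 this
  choose! a ha₁ ha₂ using h3
  classical
  have h4 : N = Ideal.span ((s.image a : Finset E) : Set E) ⊔ (N ⊓ RingHom.ker p) := by
    apply le_antisymm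
    · intro x hx
      have hx' : p x ∈ Ideal.span (s : Set R) := hs' ▸ Ideal.mem_map_of_mem p hx
      have h5 : Ideal.span (s : Set R) ≤ (Ideal.span ((s.image a : Finset E) : Set E)).map p := by
        rw [Ideal.span_le]
        intro y hy
        rw [← ha₂ y hy]
        apply Ideal.mem_map_of_mem
        apply Ideal.subset_span
        rw [Finset.coe_image]
        exact ⟨y, hy, rfl⟩
      obtain ⟨z, hz, hz'⟩ := (Ideal.mem_map_iff_of_surjective _ hp).1 (h5 hx')
      have hzN : z ∈ N := by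
        refine (Ideal.span_le.2 ?_) hz
        intro w hw
        rw [Finset.coe_image] at hw
        obtain ⟨y, hy, rfl⟩ := hw
        exact ha₁ y hy
      have : x = z + (x - z) := by ring
      rw [this]
      refine Submodule.add_mem_sup hz ⟨N.sub_mem hx hzN, ?_⟩
      show x - z ∈ RingHom.ker p
      rw [RingHom.mem_ker, map_sub, hz', sub_self]
    · rw [sup_le_iff]
      refine ⟨?_, inf_le_left⟩
      rw [Ideal.span_le]
      intro w hw
      rw [Finset.coe_image] at hw
      obtain ⟨y, hy, rfl⟩ := hw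
      exact ha₁ y hy
  rw [h4]
  exact Submodule.FG.sup ⟨_, rfl⟩ h1

/-- separatedness of an extension by an ideal killed by `𝔫` -/
theorem isHausdorff_of_ker_mul [IsNoetherianRing E] [IsHausdorff (𝔫.map p) R]
    (hk : ∀ r ∈ 𝔫, ∀ x ∈ RingHom.ker p, r * x = 0) : IsHausdorff 𝔫 E := by
  refine ⟨fun x hx => ?_⟩
  have hx' : ∀ n, x ∈ 𝔫 ^ n := by
    intro n
    have := hx n
    rwa [smodEq_pow_iff', sub_zero] at this
  have h1 : p x = 0 := by
    have hh : IsHausdorff (𝔫.map p) R := inferInstance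
    apply hh.haus'
    intro n
    rw [smodEq_pow_iff', sub_zero, ← Ideal.map_pow]
    exact Ideal.mem_map_of_mem p (hx' n)
  have h2 : x ∈ (⨅ i : ℕ, 𝔫 ^ i • ⊤ : Submodule E E) := by
    rw [Submodule.mem_iInf]
    intro i
    rw [smul_eq_mul, Ideal.mul_top]
    exact hx' i
  obtain ⟨r, hr⟩ := (Ideal.mem_iInf_smul_pow_eq_bot_iff 𝔫 x).1 h2
  rw [← hr, smul_eq_mul]
  exact hk r r.2 x h1

/-- the powers of `𝔫` eventually meet a "simple" kernel trivially -/
theorem exists_pow_inf_ker_eq_bot [IsHausdorff 𝔫 E]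
    (hs : ∀ x ∈ RingHom.ker p, x ≠ 0 → ∀ y ∈ RingHom.ker p, ∃ c : E, y = c * x) :
    ∃ n₀ : ℕ, ∀ z ∈ RingHom.ker p, z ∈ 𝔫 ^ n₀ → z = 0 := by
  by_contra hcon
  push Not at hcon
  obtain ⟨z₀, hz₀, -, hz₀'⟩ := hcon 0
  apply hz₀'
  have hh : IsHausdorff 𝔫 E := inferInstance
  apply hh.haus'
  intro n
  rw [smodEq_pow_iff', sub_zero]
  obtain ⟨z, hz, hzn, hz0⟩ := hcon n
  obtain ⟨c, rfl⟩ := hs z hz hz0 z₀ hz₀
  exact Ideal.mul_mem_left _ _ hzn

end Ext


section Ext

variable {E R : Type*} [CommRing E] [CommRing R] (p : E →+* R) (hp : Function.Surjective p)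
  (𝔫 : Ideal E)

include hp in
/-- precompleteness of an extension of a precomplete ring by a "simple" ideal -/
theorem isPrecomplete_of_ker_simple [IsHausdorff 𝔫 E] [IsPrecomplete (𝔫.map p) R]
    (hs : ∀ x ∈ RingHom.ker p, x ≠ 0 → ∀ y ∈ RingHom.ker p, ∃ c : E, y = c * x) :
    IsPrecomplete 𝔫 E := by
  refine ⟨fun {f} hf => ?_⟩
  have hf' : ∀ {m n}, m ≤ n → f m - f n ∈ 𝔫 ^ m := by
    intro m n hmn
    rw [← smodEq_pow_iff']
    exact hf hmn
  -- the image sequence converges
  have hc : AdicCompletion.IsAdicCauchy (𝔫.map p) R (fun n => p (f n)) := by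
    rw [AdicCompletion.isAdicCauchy_iff]
    intro n
    rw [smodEq_pow_iff', ← map_sub, ← Ideal.map_pow]
    exact Ideal.mem_map_of_mem p (hf' (Nat.le_succ n))
  obtain ⟨r, hr⟩ := IsPrecomplete.prec ‹IsPrecomplete (𝔫.map p) R› hc
  obtain ⟨e, rfl⟩ := hp r
  have h1 : ∀ n, ∃ a ∈ 𝔫 ^ n, p a = p (e - f n) := by
    intro n
    have := hr n
    rw [smodEq_pow_iff', ← map_sub, ← Ideal.map_pow] at this
    have h2 : p (e - f n) ∈ (𝔫 ^ n).map p := by
      have h3 : p (e - f n) = -(p (f n - e)) := by rw [← map_neg, neg_sub]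
      rw [h3]
      exact Ideal.neg_mem_iff _ |>.2 this
    exact (Ideal.mem_map_iff_of_surjective _ hp).1 h2
  choose a ha₁ ha₂ using h1
  -- the error terms in the kernel
  let z : ℕ → E := fun n => e - f n - a n
  have hz : ∀ n, z n ∈ RingHom.ker p := by
    intro n
    rw [RingHom.mem_ker, map_sub, ha₂, sub_self]
  obtain ⟨n₀, hn₀⟩ := exists_pow_inf_ker_eq_bot p 𝔫 hs
  have hz' : ∀ n, n₀ ≤ n → z n = z n₀ := by
    intro n hn
    rw [← sub_eq_zero]
    apply hn₀ _ ((RingHom.ker p).sub_mem (hz n) (hz n₀))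
    have : z n - z n₀ = (f n₀ - f n) + (a n₀ - a n) := by
      simp only [z]
      ring
    rw [this]
    exact Ideal.add_mem _ (hf' hn) (Ideal.sub_mem _ (ha₁ n₀) (Ideal.pow_le_pow_right hn (ha₁ n)))
  refine ⟨e - z n₀, fun n => ?_⟩
  rw [smodEq_pow_iff']
  rcases le_total n₀ n with hn | hn
  · have : f n - (e - z n₀) = -(a n) := by
      rw [← hz' n hn]
      simp only [z]
      ring
    rw [this]
    exact Ideal.neg_mem_iff _ |>.2 (ha₁ n)
  · have : f n - (e - z n₀) = (f n - f n₀) - a n₀ := by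
      simp only [z]
      ring
    rw [this]
    exact Ideal.sub_mem _ (hf' hn) (Ideal.pow_le_pow_right hn (ha₁ n₀))

include hp in
/-- completeness of an extension of a complete noetherian ring by a "simple" ideal killed by `𝔫` -/
theorem isAdicComplete_of_ker_simple [IsNoetherianRing R] [IsHausdorff (𝔫.map p) R]
    [IsPrecomplete (𝔫.map p) R]
    (hk : ∀ r ∈ 𝔫, ∀ x ∈ RingHom.ker p, r * x = 0)
    (hs : ∀ x ∈ RingHom.ker p, x ≠ 0 → ∀ y ∈ RingHom.ker p, ∃ c : E, y = c * x) :
    IsAdicComplete 𝔫 E := by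
  haveI : IsNoetherianRing E := isNoetherianRing_of_ker_simple p hp hs
  haveI : IsHausdorff 𝔫 E := isHausdorff_of_ker_mul p 𝔫 hk
  haveI : IsPrecomplete 𝔫 E := isPrecomplete_of_ker_simple p hp 𝔫 hs
  exact {}

end Ext

end Groth.Agent.Lib.Helper76.ExtComplete
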