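import Groth.Agent.Lib.Helper76.ExalSix
import Groth.Agent.Lib.Helper76.ExtComplete

/-!
# Extensions by a simple module and completion

Abstract setting: ring maps `A → B → C` where `C` behaves like the completion of `B` along `𝔪B`
(`𝔪C = 𝔪B C`, `B` is dense in `C` and `𝔪B ^ n` is the preimage of `𝔪C ^ n`), `C` noetherian and
`𝔪C`-adically complete, and `M` a `C`-module killed by `𝔪C` which is simple over `B`.  Then
* every `B`-extension of `C` by `M` is trivial (`isTrivial_of_complete`), so inverse image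
  `Exal_A(C, M) → Exal_A(B, M)` is injective on classes (`equiv_of_pullback_equiv_of_complete`);
* if moreover `B` is noetherian and `𝔪B`-adically separated, every `A`-extension of `B` by `M` is
  the inverse image of one of `C` (`exists_ext_of_complete`).
-/

set_option autoImplicit false
universe u

namespace Groth.Agent.Lib.Helper76.ExalCompl

open Exal Groth.Agent.Lib.Helper76.ExalT1 Groth.Agent.Lib.Helper76.ExalSix
  Groth.Agent.Lib.Helper76.ExtComplete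


section QuotIso

variable {A B C : Type u} [CommRing A] [CommRing B] [CommRing C] [Algebra A B] [Algebra A C]
  [Algebra B C] [IsScalarTower A B C]
variable (𝔪B : Ideal B) (𝔪C : Ideal C) (hmap : 𝔪C = 𝔪B.map (algebraMap B C))
variable (hdense : ∀ (n : ℕ) (x : C), ∃ b : B, x - algebraMap B C b ∈ 𝔪C ^ n)
variable (hcl : ∀ (n : ℕ) (b : B), algebraMap B C b ∈ 𝔪C ^ n → b ∈ 𝔪B ^ n)

include hmap in
theorem pow_le_comap (n : ℕ) : 𝔪B ^ n ≤ (𝔪C ^ n).comap (IsScalarTower.toAlgHom A B C) := by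
  intro b hb
  show algebraMap B C b ∈ 𝔪C ^ n
  rw [hmap, ← Ideal.map_pow]
  exact Ideal.mem_map_of_mem _ hb

/-- the map `B/𝔪B^n → C/𝔪C^n` -/
noncomputable def quotHom (n : ℕ) : (B ⧸ 𝔪B ^ n) →ₐ[A] (C ⧸ 𝔪C ^ n) :=
  Ideal.quotientMapₐ (𝔪C ^ n) (IsScalarTower.toAlgHom A B C) (pow_le_comap 𝔪B 𝔪C hmap n)

theorem quotHom_mk (n : ℕ) (b : B) :
    quotHom (A := A) 𝔪B 𝔪C hmap n (Ideal.Quotient.mk _ b) =
      Ideal.Quotient.mk _ (algebraMap B C b) := rfl

include hdense hcl in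
theorem quotHom_bijective (n : ℕ) : Function.Bijective (quotHom (A := A) 𝔪B 𝔪C hmap n) := by
  constructor
  · rw [injective_iff_map_eq_zero]
    intro x hx
    obtain ⟨b, rfl⟩ := Ideal.Quotient.mk_surjective x
    rw [quotHom_mk, Ideal.Quotient.eq_zero_iff_mem] at hx
    rw [Ideal.Quotient.eq_zero_iff_mem]
    exact hcl n b hx
  · intro y
    obtain ⟨x, rfl⟩ := Ideal.Quotient.mk_surjective y
    obtain ⟨b, hb⟩ := hdense n x
    refine ⟨Ideal.Quotient.mk _ b, ?_⟩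
    rw [quotHom_mk, eq_comm, Ideal.Quotient.eq]
    exact hb

/-- the projection `C → B/𝔪B^n` -/
noncomputable def qHom (n : ℕ) : C →ₐ[A] (B ⧸ 𝔪B ^ n) :=
  ((AlgEquiv.ofBijective (quotHom (A := A) 𝔪B 𝔪C hmap n)
    (quotHom_bijective 𝔪B 𝔪C hmap hdense hcl n)).symm : (C ⧸ 𝔪C ^ n) →ₐ[A] (B ⧸ 𝔪B ^ n)).comp
    (Ideal.Quotient.mkₐ A (𝔪C ^ n))

theorem qHom_eq (n : ℕ) (x : C) (b : B) (h : x - algebraMap B C b ∈ 𝔪C ^ n) :
    qHom (A := A) 𝔪B 𝔪C hmap hdense hcl n x = Ideal.Quotient.mk _ b := by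
  show (AlgEquiv.ofBijective (quotHom (A := A) 𝔪B 𝔪C hmap n)
    (quotHom_bijective 𝔪B 𝔪C hmap hdense hcl n)).symm (Ideal.Quotient.mk _ x) = _
  rw [AlgEquiv.symm_apply_eq]
  show Ideal.Quotient.mk _ x = quotHom (A := A) 𝔪B 𝔪C hmap n (Ideal.Quotient.mk _ b)
  rw [quotHom_mk, Ideal.Quotient.eq]
  exact h

theorem qHom_algebraMap (n : ℕ) (b : B) :
    qHom (A := A) 𝔪B 𝔪C hmap hdense hcl n (algebraMap B C b) = Ideal.Quotient.mk _ b :=
  qHom_eq 𝔪B 𝔪C hmap hdense hcl n _ b (by rw [sub_self]; exact Ideal.zero_mem _)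

theorem qHom_eq_zero_iff (n : ℕ) (x : C) :
    qHom (A := A) 𝔪B 𝔪C hmap hdense hcl n x = 0 ↔ x ∈ 𝔪C ^ n := by
  obtain ⟨b, hb⟩ := hdense n x
  rw [qHom_eq 𝔪B 𝔪C hmap hdense hcl n x b hb, Ideal.Quotient.eq_zero_iff_mem]
  constructor
  · intro h
    have h1 : algebraMap B C b ∈ 𝔪C ^ n := by
      rw [hmap, ← Ideal.map_pow]
      exact Ideal.mem_map_of_mem _ h
    have : x = (x - algebraMap B C b) + algebraMap B C b := by ring
    rw [this]
    exact Ideal.add_mem _ hb h1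
  · intro h
    apply hcl n b
    have : algebraMap B C b = x - (x - algebraMap B C b) := by ring
    rw [this]
    exact Ideal.sub_mem _ h hb

end QuotIso




section Inj

variable {A B C M : Type u} [CommRing A] [CommRing B] [CommRing C] [Algebra A B] [Algebra A C]
  [Algebra B C] [IsScalarTower A B C] [AddCommGroup M] [Module C M] [Module B M]
  [IsScalarTower B C M]
variable (𝔪B : Ideal B) (𝔪C : Ideal C) (hmap : 𝔪C = 𝔪B.map (algebraMap B C))
variable (hdense : ∀ (n : ℕ) (x : C), ∃ b : B, x - algebraMap B C b ∈ 𝔪C ^ n)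
variable (hcl : ∀ (n : ℕ) (b : B), algebraMap B C b ∈ 𝔪C ^ n → b ∈ 𝔪B ^ n)
variable (hkill : ∀ c ∈ 𝔪C, ∀ z : M, c • z = 0)
variable (hsimple : ∀ z : M, z ≠ 0 → ∀ z' : M, ∃ b : B, z' = b • z)

omit [Algebra A B] [Algebra A C] [IsScalarTower A B C] in
include hmap hdense hcl hkill hsimple in
/-- extensions of a "completion" `C` of `B` by a simple module, relative to `B`, are trivial -/
theorem isTrivial_of_complete [IsNoetherianRing C] [IsHausdorff 𝔪C C]
    [IsPrecomplete 𝔪C C] (Z : Ext B C M) : Z.IsTrivial := by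
  classical
  let pF : Z.E →+* C := Z.proj
  have hpF : Function.Surjective pF := Z.isExtension.proj_surjective
  let β : B →+* Z.E := algebraMap B Z.E
  have hβ : ∀ b, pF (β b) = algebraMap B C b := Z.proj.commutes
  let 𝔫 : Ideal Z.E := 𝔪C.comap pF
  have h𝔫 : 𝔫.map pF = 𝔪C := Ideal.map_comap_of_surjective pF hpF 𝔪C
  haveI : IsHausdorff (𝔫.map pF) C := by rw [h𝔫]; infer_instance
  haveI : IsPrecomplete (𝔫.map pF) C := by rw [h𝔫]; infer_instance
  have hker : ∀ x ∈ RingHom.ker pF, ∃ z : M, Z.incl z = x := by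
    intro x hx
    exact (Z.isExtension.exact x).1 hx
  have hk : ∀ r ∈ 𝔫, ∀ x ∈ RingHom.ker pF, r * x = 0 := by
    intro r hr x hx
    obtain ⟨z, rfl⟩ := hker x hx
    rw [Z.isExtension.mul_incl]
    have : Z.proj r • z = 0 := hkill _ hr z
    rw [this, map_zero]
  have hs : ∀ x ∈ RingHom.ker pF, x ≠ 0 → ∀ y ∈ RingHom.ker pF, ∃ c : Z.E, y = c * x := by
    intro x hx hx0 y hy
    obtain ⟨z, rfl⟩ := hker x hx
    obtain ⟨z', rfl⟩ := hker y hy
    have hz : z ≠ 0 := by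
      rintro rfl
      exact hx0 (map_zero _)
    obtain ⟨b, hb⟩ := hsimple z hz z'
    refine ⟨β b, ?_⟩
    rw [Z.isExtension.mul_incl]
    have : Z.proj (β b) • z = z' := by
      rw [hb]
      show pF (β b) • z = b • z
      rw [hβ, algebraMap_smul]
    rw [this]
  haveI : IsAdicComplete 𝔫 Z.E := isAdicComplete_of_ker_simple pF hpF 𝔫 hk hs
  -- `β` is continuous
  have hβ𝔫 : ∀ n, 𝔪B ^ n ≤ (𝔫 ^ n).comap β := by
    intro n
    rw [← Ideal.map_le_iff_le_comap, Ideal.map_pow]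
    apply Ideal.pow_right_mono
    rw [Ideal.map_le_iff_le_comap]
    intro b hb
    show pF (β b) ∈ 𝔪C
    rw [hβ, hmap]
    exact Ideal.mem_map_of_mem _ hb
  -- the compatible family
  let f : ∀ n : ℕ, C →+* Z.E ⧸ 𝔫 ^ n := fun n =>
    (Ideal.quotientMap (𝔫 ^ n) β (hβ𝔫 n)).comp
      (qHom (A := B) 𝔪B 𝔪C hmap hdense hcl n : C →+* B ⧸ 𝔪B ^ n)
  have hfx : ∀ (n : ℕ) (x : C) (b : B), x - algebraMap B C b ∈ 𝔪C ^ n →
      f n x = Ideal.Quotient.mk (𝔫 ^ n) (β b) := by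
    intro n x b h
    show Ideal.quotientMap (𝔫 ^ n) β (hβ𝔫 n) (qHom (A := B) 𝔪B 𝔪C hmap hdense hcl n x) = _
    rw [qHom_eq 𝔪B 𝔪C hmap hdense hcl n x b h, Ideal.quotientMap_mk]
  have hf : ∀ {m n : ℕ} (hle : m ≤ n), (Ideal.Quotient.factorPow 𝔫 hle).comp (f n) = f m := by
    intro m n hle
    ext x
    obtain ⟨b, hb⟩ := hdense n x
    rw [RingHom.comp_apply, hfx n x b hb, hfx m x b (Ideal.pow_le_pow_right hle hb),
      Ideal.Quotient.factor_mk]
  let t : C →+* Z.E := IsAdicComplete.liftRingHom 𝔫 f hf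
  have ht_mk : ∀ (n : ℕ) (x : C) (b : B), x - algebraMap B C b ∈ 𝔪C ^ n → t x - β b ∈ 𝔫 ^ n := by
    intro n x b h
    rw [← Ideal.Quotient.eq, IsAdicComplete.mk_liftRingHom, hfx n x b h]
  have hpF𝔫 : ∀ (n : ℕ) (y : Z.E), y ∈ 𝔫 ^ n → pF y ∈ 𝔪C ^ n := by
    intro n y hy
    have := Ideal.mem_map_of_mem pF hy
    rwa [Ideal.map_pow, h𝔫] at this
  have ht_proj : ∀ x, pF (t x) = x := by
    intro x
    have hh : IsHausdorff 𝔪C C := inferInstance
    rw [← sub_eq_zero]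
    apply hh.haus'
    intro n
    rw [SModEq.zero, smul_eq_mul, Ideal.mul_top]
    obtain ⟨b, hb⟩ := hdense n x
    have h1 := hpF𝔫 n _ (ht_mk n x b hb)
    rw [map_sub, hβ] at h1
    have : pF (t x) - x = (pF (t x) - algebraMap B C b) - (x - algebraMap B C b) := by ring
    rw [this]
    exact Ideal.sub_mem _ h1 hb
  have ht_B : ∀ b, t (algebraMap B C b) = β b := by
    intro b
    have hh : IsHausdorff 𝔫 Z.E := inferInstance
    rw [← sub_eq_zero]
    apply hh.haus'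
    intro n
    rw [SModEq.zero, smul_eq_mul, Ideal.mul_top]
    exact ht_mk n _ b (by rw [sub_self]; exact Ideal.zero_mem _)
  exact ⟨{ toRingHom := t
           commutes' := ht_B }, ht_proj⟩

include hmap hdense hcl hkill hsimple in
/-- inverse image along a "completion" `B → C` is injective on classes of extensions by a simple
module -/
theorem equiv_of_pullback_equiv_of_complete [IsNoetherianRing C] [IsHausdorff 𝔪C C]
    [IsPrecomplete 𝔪C C] (X X' : Ext A C M) (θ : (X.pullback B).Equiv (X'.pullback B)) :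
    Nonempty (X.Equiv X') :=
  equiv_of_pullback_equiv
    (fun Z => isTrivial_of_complete 𝔪B 𝔪C hmap hdense hcl hkill hsimple Z) X X' θ

end Inj




section Five

variable {A B M : Type u} [CommRing A] [CommRing B] [Algebra A B] [AddCommGroup M] [Module B M]

/-- a morphism of extensions is an equivalence -/
theorem equiv_of_hom (Y Z : Ext A B M) (φ : Y.E →ₐ[A] Z.E) (h1 : ∀ y, Z.proj (φ y) = Y.proj y)
    (h2 : ∀ z, φ (Y.incl z) = Z.incl z) : Nonempty (Y.Equiv Z) := by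
  have hinj : Function.Injective φ := by
    rw [injective_iff_map_eq_zero]
    intro e he
    have h3 : Y.proj e = 0 := by rw [← h1, he, map_zero]
    obtain ⟨z, rfl⟩ := (Y.isExtension.exact _).1 h3
    rw [h2, incl_eq_zero_iff] at he
    rw [he, map_zero]
  have hsurj : Function.Surjective φ := by
    intro e'
    obtain ⟨e, he⟩ := Y.isExtension.proj_surjective (Z.proj e')
    have h3 : Z.proj (φ e - e') = 0 := by rw [map_sub, h1, he, sub_self]
    obtain ⟨z, hz⟩ := (Z.isExtension.exact _).1 h3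
    refine ⟨e - Y.incl z, ?_⟩
    rw [map_sub, h2, hz]
    ring
  exact ⟨{ toAlgEquiv := AlgEquiv.ofBijective φ ⟨hinj, hsurj⟩
           proj_apply := fun e => h1 e
           apply_incl := fun z => h2 z }⟩

end Five




section Exist

variable {A B C M : Type u} [CommRing A] [CommRing B] [CommRing C] [Algebra A B] [Algebra A C]
  [Algebra B C] [IsScalarTower A B C] [AddCommGroup M] [Module B M]
variable (𝔪B : Ideal B) (𝔪C : Ideal C) (hmap : 𝔪C = 𝔪B.map (algebraMap B C))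
variable (hdense : ∀ (n : ℕ) (x : C), ∃ b : B, x - algebraMap B C b ∈ 𝔪C ^ n)
variable (hcl : ∀ (n : ℕ) (b : B), algebraMap B C b ∈ 𝔪C ^ n → b ∈ 𝔪B ^ n)
variable (Y : Ext A B M) (n : ℕ)

/-- the ideal of the middle ring over `𝔪B` -/
def nn : Ideal Y.E := 𝔪B.comap (Y.proj : Y.E →+* B)

theorem map_nn : (nn 𝔪B Y).map (Y.proj : Y.E →+* B) = 𝔪B :=
  Ideal.map_comap_of_surjective _ Y.isExtension.proj_surjective 𝔪B

theorem nn_pow_le : nn 𝔪B Y ^ n ≤ (𝔪B ^ n).comap Y.proj := by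
  rw [← Ideal.map_le_iff_le_comap]
  show Ideal.map (Y.proj : Y.E →+* B) (nn 𝔪B Y ^ n) ≤ _
  rw [Ideal.map_pow, map_nn]

/-- the truncated projection -/
noncomputable def prn : (Y.E ⧸ nn 𝔪B Y ^ n) →ₐ[A] (B ⧸ 𝔪B ^ n) :=
  Ideal.quotientMapₐ (𝔪B ^ n) Y.proj (nn_pow_le 𝔪B Y n)

theorem prn_mk (e : Y.E) :
    prn 𝔪B Y n (Ideal.Quotient.mk _ e) = Ideal.Quotient.mk _ (Y.proj e) := rfl

/-- the middle ring of the extension of `C` -/
noncomputable def XE : Subalgebra A (C × (Y.E ⧸ nn 𝔪B Y ^ n)) :=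
  AlgHom.equalizer
    ((qHom (A := A) 𝔪B 𝔪C hmap hdense hcl n).comp (AlgHom.fst A C (Y.E ⧸ nn 𝔪B Y ^ n)))
    ((prn 𝔪B Y n).comp (AlgHom.snd A C (Y.E ⧸ nn 𝔪B Y ^ n)))

theorem XE_prop (x : XE 𝔪B 𝔪C hmap hdense hcl Y n) :
    qHom (A := A) 𝔪B 𝔪C hmap hdense hcl n x.1.1 = prn 𝔪B Y n x.1.2 := x.2

/-- elements of the middle ring -/
def mkX (c : C) (e : Y.E ⧸ nn 𝔪B Y ^ n)
    (h : qHom (A := A) 𝔪B 𝔪C hmap hdense hcl n c = prn 𝔪B Y n e) :
    XE 𝔪B 𝔪C hmap hdense hcl Y n := ⟨(c, e), h⟩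

/-- the projection -/
noncomputable def projX : XE 𝔪B 𝔪C hmap hdense hcl Y n →ₐ[A] C :=
  (AlgHom.fst A C (Y.E ⧸ nn 𝔪B Y ^ n)).comp (XE 𝔪B 𝔪C hmap hdense hcl Y n).val

theorem projX_apply (x : XE 𝔪B 𝔪C hmap hdense hcl Y n) :
    projX 𝔪B 𝔪C hmap hdense hcl Y n x = x.1.1 := rfl

theorem incl_mem (z : M) :
    qHom (A := A) 𝔪B 𝔪C hmap hdense hcl n 0 =
      prn 𝔪B Y n (Ideal.Quotient.mk _ (Y.incl z)) := by
  rw [map_zero, prn_mk, proj_incl, map_zero]

/-- the inclusion -/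
noncomputable def inclX : M →+ XE 𝔪B 𝔪C hmap hdense hcl Y n where
  toFun z := mkX 𝔪B 𝔪C hmap hdense hcl Y n 0 (Ideal.Quotient.mk _ (Y.incl z))
    (incl_mem 𝔪B 𝔪C hmap hdense hcl Y n z)
  map_zero' := by
    apply Subtype.ext
    show ((0 : C), Ideal.Quotient.mk (nn 𝔪B Y ^ n) (Y.incl 0)) = 0
    rw [map_zero, map_zero]
    rfl
  map_add' z w := by
    apply Subtype.ext
    show ((0 : C), Ideal.Quotient.mk (nn 𝔪B Y ^ n) (Y.incl (z + w))) =
      ((0 : C), Ideal.Quotient.mk (nn 𝔪B Y ^ n) (Y.incl z)) +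
        ((0 : C), Ideal.Quotient.mk (nn 𝔪B Y ^ n) (Y.incl w))
    rw [map_add, map_add, Prod.mk_add_mk, add_zero]

theorem inclX_val (z : M) :
    (inclX 𝔪B 𝔪C hmap hdense hcl Y n z).1 = ((0 : C), Ideal.Quotient.mk (nn 𝔪B Y ^ n) (Y.incl z)) :=
  rfl

end Exist




section Exist2

variable {A B C M : Type u} [CommRing A] [CommRing B] [CommRing C] [Algebra A B] [Algebra A C]
  [Algebra B C] [IsScalarTower A B C] [AddCommGroup M] [Module B M] [Module C M]
  [IsScalarTower B C M]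
variable (𝔪B : Ideal B) (𝔪C : Ideal C) (hmap : 𝔪C = 𝔪B.map (algebraMap B C))
variable (hdense : ∀ (n : ℕ) (x : C), ∃ b : B, x - algebraMap B C b ∈ 𝔪C ^ n)
variable (hcl : ∀ (n : ℕ) (b : B), algebraMap B C b ∈ 𝔪C ^ n → b ∈ 𝔪B ^ n)
variable (hkill : ∀ c ∈ 𝔪C, ∀ z : M, c • z = 0)
variable (Y : Ext A B M) (n : ℕ) (hn : 1 ≤ n)
variable (hn0 : ∀ z : M, Y.incl z ∈ nn 𝔪B Y ^ n → z = 0)

omit [Module C M] [IsScalarTower B C M] in
theorem projX_surjective : Function.Surjective (projX 𝔪B 𝔪C hmap hdense hcl Y n) := by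
  intro c
  obtain ⟨b, hb⟩ := Ideal.Quotient.mk_surjective (qHom (A := A) 𝔪B 𝔪C hmap hdense hcl n c)
  obtain ⟨e, he⟩ := Y.isExtension.proj_surjective b
  refine ⟨mkX 𝔪B 𝔪C hmap hdense hcl Y n c (Ideal.Quotient.mk _ e) ?_, rfl⟩
  rw [prn_mk, he, hb]

omit [Module C M] [IsScalarTower B C M] in
include hn0 in
theorem inclX_injective : Function.Injective (inclX 𝔪B 𝔪C hmap hdense hcl Y n) := by
  rw [injective_iff_map_eq_zero]
  intro z hz
  have h1 := congrArg (fun x : XE 𝔪B 𝔪C hmap hdense hcl Y n => x.1.2) hz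
  have h2 : Ideal.Quotient.mk (nn 𝔪B Y ^ n) (Y.incl z) = 0 := h1
  rw [Ideal.Quotient.eq_zero_iff_mem] at h2
  exact hn0 z h2

omit [Module C M] [IsScalarTower B C M] in
theorem projX_eq_zero_iff (x : XE 𝔪B 𝔪C hmap hdense hcl Y n) :
    projX 𝔪B 𝔪C hmap hdense hcl Y n x = 0 ↔ x ∈ Set.range (inclX 𝔪B 𝔪C hmap hdense hcl Y n) := by
  constructor
  · intro hx
    rw [projX_apply] at hx
    obtain ⟨e, he⟩ := Ideal.Quotient.mk_surjective x.1.2
    have h1 := XE_prop 𝔪B 𝔪C hmap hdense hcl Y n x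
    rw [hx, map_zero, ← he, prn_mk, eq_comm, Ideal.Quotient.eq_zero_iff_mem] at h1
    have h2 : Y.proj e ∈ Ideal.map (Y.proj : Y.E →+* B) (nn 𝔪B Y ^ n) := by
      rw [Ideal.map_pow, map_nn]
      exact h1
    obtain ⟨a, ha, ha'⟩ := (Ideal.mem_map_iff_of_surjective _ Y.isExtension.proj_surjective).1 h2
    have ha'' : Y.proj a = Y.proj e := ha'
    have h3 : Y.proj (e - a) = 0 := by
      rw [map_sub, ha'', sub_self]
    obtain ⟨z, hz⟩ := (Y.isExtension.exact _).1 h3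
    refine ⟨z, ?_⟩
    apply Subtype.ext
    rw [inclX_val]
    apply Prod.ext
    · exact hx.symm
    · show Ideal.Quotient.mk (nn 𝔪B Y ^ n) (Y.incl z) = x.1.2
      rw [← he, hz, Ideal.Quotient.eq]
      have : e - a - e = -a := by ring
      rw [this]
      exact Ideal.neg_mem_iff _ |>.2 ha
  · rintro ⟨z, rfl⟩
    rfl

include hmap hkill hn in
theorem smul_eq_of_qHom (c : C) (b : B)
    (h : qHom (A := A) 𝔪B 𝔪C hmap hdense hcl n c = Ideal.Quotient.mk _ b) (z : M) :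
    c • z = b • z := by
  obtain ⟨b', hb'⟩ := hdense n c
  have h1 := qHom_eq (A := A) 𝔪B 𝔪C hmap hdense hcl n c b' hb'
  rw [h, Ideal.Quotient.eq] at h1
  have hle : ∀ (I : Ideal C), I ^ n ≤ I := fun I => Ideal.pow_le_self (by omega)
  have hleB : 𝔪B ^ n ≤ 𝔪B := Ideal.pow_le_self (by omega)
  have h2 : (c - algebraMap B C b') • z = 0 := hkill _ (hle 𝔪C hb') z
  have h3 : algebraMap B C (b - b') • z = 0 := by
    apply hkill
    rw [hmap]
    exact Ideal.mem_map_of_mem _ (hleB h1)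
  rw [sub_smul, sub_eq_zero] at h2
  rw [map_sub, sub_smul, sub_eq_zero, algebraMap_smul, algebraMap_smul] at h3
  rw [h2, algebraMap_smul, h3]

include hmap hkill hn in
theorem mul_inclX (x : XE 𝔪B 𝔪C hmap hdense hcl Y n) (z : M) :
    x * inclX 𝔪B 𝔪C hmap hdense hcl Y n z =
      inclX 𝔪B 𝔪C hmap hdense hcl Y n (projX 𝔪B 𝔪C hmap hdense hcl Y n x • z) := by
  obtain ⟨e, he⟩ := Ideal.Quotient.mk_surjective x.1.2
  have h1 := XE_prop 𝔪B 𝔪C hmap hdense hcl Y n x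
  rw [← he, prn_mk] at h1
  have h2 := smul_eq_of_qHom 𝔪B 𝔪C hmap hdense hcl hkill n hn x.1.1 (Y.proj e) h1 z
  apply Subtype.ext
  rw [Subalgebra.coe_mul, inclX_val, inclX_val, projX_apply, h2]
  apply Prod.ext
  · show x.1.1 * 0 = 0
    exact mul_zero _
  · show x.1.2 * Ideal.Quotient.mk (nn 𝔪B Y ^ n) (Y.incl z) = _
    rw [← he, ← map_mul, Y.isExtension.mul_incl]

/-- the extension of `C` -/
noncomputable def extX : Ext A C M where
  E := XE 𝔪B 𝔪C hmap hdense hcl Y n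
  proj := projX 𝔪B 𝔪C hmap hdense hcl Y n
  incl := inclX 𝔪B 𝔪C hmap hdense hcl Y n
  isExtension :=
    { proj_surjective := projX_surjective 𝔪B 𝔪C hmap hdense hcl Y n
      incl_injective := inclX_injective 𝔪B 𝔪C hmap hdense hcl Y n hn0
      exact := projX_eq_zero_iff 𝔪B 𝔪C hmap hdense hcl Y n
      mul_incl := mul_inclX 𝔪B 𝔪C hmap hdense hcl hkill Y n hn }

end Exist2




section Exist3

variable {A B C M : Type u} [CommRing A] [CommRing B] [CommRing C] [Algebra A B] [Algebra A C]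
  [Algebra B C] [IsScalarTower A B C] [AddCommGroup M] [Module B M] [Module C M]
  [IsScalarTower B C M]
variable (𝔪B : Ideal B) (𝔪C : Ideal C) (hmap : 𝔪C = 𝔪B.map (algebraMap B C))
variable (hdense : ∀ (n : ℕ) (x : C), ∃ b : B, x - algebraMap B C b ∈ 𝔪C ^ n)
variable (hcl : ∀ (n : ℕ) (b : B), algebraMap B C b ∈ 𝔪C ^ n → b ∈ 𝔪B ^ n)
variable (hkill : ∀ c ∈ 𝔪C, ∀ z : M, c • z = 0)
variable (Y : Ext A B M) (n : ℕ) (hn : 1 ≤ n)
variable (hn0 : ∀ z : M, Y.incl z ∈ nn 𝔪B Y ^ n → z = 0)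

/-- the map from the middle ring of `Y` to the middle ring of the extension of `C` -/
noncomputable def toXE : Y.E →ₐ[A] XE 𝔪B 𝔪C hmap hdense hcl Y n :=
  AlgHom.codRestrict
    (AlgHom.prod ((IsScalarTower.toAlgHom A B C).comp Y.proj)
      (Ideal.Quotient.mkₐ A (nn 𝔪B Y ^ n)))
    (XE 𝔪B 𝔪C hmap hdense hcl Y n) (fun e => by
      show qHom (A := A) 𝔪B 𝔪C hmap hdense hcl n (algebraMap B C (Y.proj e)) =
        prn 𝔪B Y n (Ideal.Quotient.mk _ e)
      rw [qHom_algebraMap, prn_mk])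

omit [Module C M] [IsScalarTower B C M] in
theorem toXE_val (e : Y.E) :
    (toXE 𝔪B 𝔪C hmap hdense hcl Y n e).1 =
      (algebraMap B C (Y.proj e), Ideal.Quotient.mk (nn 𝔪B Y ^ n) e) := rfl

/-- the map to the inverse image -/
noncomputable def toPullback :
    Y.E →ₐ[A] ((extX 𝔪B 𝔪C hmap hdense hcl hkill Y n hn hn0).pullback B).E :=
  AlgHom.codRestrict
    (AlgHom.prod (toXE 𝔪B 𝔪C hmap hdense hcl Y n) Y.proj)
    ((extX 𝔪B 𝔪C hmap hdense hcl hkill Y n hn hn0).fiberProd B) (fun _ => rfl)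

/-- the extension of `C` restricts to `Y` -/
theorem pullback_extX_equiv :
    Nonempty (((extX 𝔪B 𝔪C hmap hdense hcl hkill Y n hn hn0).pullback B).Equiv Y) := by
  obtain ⟨e⟩ := equiv_of_hom Y ((extX 𝔪B 𝔪C hmap hdense hcl hkill Y n hn hn0).pullback B)
    (toPullback 𝔪B 𝔪C hmap hdense hcl hkill Y n hn hn0) (fun _ => rfl) (fun z => by
      apply Subtype.ext
      apply Prod.ext
      · apply Subtype.ext
        show (toXE 𝔪B 𝔪C hmap hdense hcl Y n (Y.incl z)).1 =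
          (inclX 𝔪B 𝔪C hmap hdense hcl Y n z).1
        rw [toXE_val, inclX_val, proj_incl, map_zero]
      · show Y.proj (Y.incl z) = 0
        exact proj_incl Y z)
  exact ⟨e.symm⟩

end Exist3




section Exist4

variable {A B C M : Type u} [CommRing A] [CommRing B] [CommRing C] [Algebra A B] [Algebra A C]
  [Algebra B C] [IsScalarTower A B C] [AddCommGroup M] [Module B M] [Module C M]
  [IsScalarTower B C M]
variable (𝔪B : Ideal B) (𝔪C : Ideal C) (hmap : 𝔪C = 𝔪B.map (algebraMap B C))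
variable (hdense : ∀ (n : ℕ) (x : C), ∃ b : B, x - algebraMap B C b ∈ 𝔪C ^ n)
variable (hcl : ∀ (n : ℕ) (b : B), algebraMap B C b ∈ 𝔪C ^ n → b ∈ 𝔪B ^ n)
variable (hkill : ∀ c ∈ 𝔪C, ∀ z : M, c • z = 0)
variable (hsimple : ∀ z : M, z ≠ 0 → ∀ z' : M, ∃ b : B, z' = b • z)

include hmap hdense hcl hkill hsimple in
/-- every extension of `B` by a simple module is the inverse image of an extension of the
"completion" `C` -/
theorem exists_ext_of_complete [IsNoetherianRing B] [IsHausdorff 𝔪B B] (Y : Ext A B M) :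
    ∃ X : Ext A C M, Nonempty ((X.pullback B).Equiv Y) := by
  classical
  let pr : Y.E →+* B := Y.proj
  have hpr : Function.Surjective pr := Y.isExtension.proj_surjective
  have hkB : ∀ b ∈ 𝔪B, ∀ z : M, b • z = 0 := by
    intro b hb z
    rw [← algebraMap_smul C b z]
    apply hkill
    rw [hmap]
    exact Ideal.mem_map_of_mem _ hb
  have hker : ∀ x ∈ RingHom.ker pr, ∃ z : M, Y.incl z = x := by
    intro x hx
    exact (Y.isExtension.exact x).1 hx
  have hk : ∀ r ∈ nn 𝔪B Y, ∀ x ∈ RingHom.ker pr, r * x = 0 := by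
    intro r hr x hx
    obtain ⟨z, rfl⟩ := hker x hx
    rw [Y.isExtension.mul_incl]
    have : Y.proj r • z = 0 := hkB _ hr z
    rw [this, map_zero]
  have hs : ∀ x ∈ RingHom.ker pr, x ≠ 0 → ∀ y ∈ RingHom.ker pr, ∃ c : Y.E, y = c * x := by
    intro x hx hx0 y hy
    obtain ⟨z, rfl⟩ := hker x hx
    obtain ⟨z', rfl⟩ := hker y hy
    have hz : z ≠ 0 := by
      rintro rfl
      exact hx0 (map_zero _)
    obtain ⟨b, hb⟩ := hsimple z hz z'
    obtain ⟨c, hc⟩ := hpr b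
    refine ⟨c, ?_⟩
    rw [Y.isExtension.mul_incl]
    have : Y.proj c = b := hc
    rw [this, hb]
  haveI : IsHausdorff ((nn 𝔪B Y).map pr) B := by
    rw [map_nn]
    infer_instance
  haveI : IsNoetherianRing Y.E := isNoetherianRing_of_ker_simple pr hpr hs
  haveI : IsHausdorff (nn 𝔪B Y) Y.E := isHausdorff_of_ker_mul pr (nn 𝔪B Y) hk
  obtain ⟨n₀, hn₀⟩ := exists_pow_inf_ker_eq_bot pr (nn 𝔪B Y) hs
  have hn0 : ∀ z : M, Y.incl z ∈ nn 𝔪B Y ^ (n₀ + 1) → z = 0 := by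
    intro z hz
    have h1 : Y.incl z ∈ RingHom.ker pr := by
      rw [RingHom.mem_ker]
      exact proj_incl Y z
    have h2 := hn₀ _ h1 (Ideal.pow_le_pow_right (Nat.le_succ n₀) hz)
    exact (incl_eq_zero_iff Y z).1 h2
  exact ⟨extX 𝔪B 𝔪C hmap hdense hcl hkill Y (n₀ + 1) (Nat.succ_le_succ (Nat.zero_le _)) hn0,
    pullback_extX_equiv 𝔪B 𝔪C hmap hdense hcl hkill Y (n₀ + 1) _ hn0⟩

end Exist4


end Groth.Agent.Lib.Helper76.ExalCompl
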