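import Groth.Agent.Lib.Helper76.ExalT1

set_option autoImplicit false
universe u

namespace Groth.Agent.Lib.Helper76.ExalT1

section SqZero

open Exal

attribute [local instance] Exal.opModule Exal.isCentralScalar_opModule

variable {A B : Type u} [CommRing A] [CommRing B] [Algebra A B]
variable (P : Algebra.Extension.{u} A B) {M : Type u} [AddCommGroup M] [Module B M]

/-- derivations into a module killed by `I` vanish on `I ^ 2` -/
theorem der_eq_zero_of_sq (I : Ideal P.Ring) (hI : ∀ a ∈ I, ∀ m : MR P M, a • m = 0)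
    (D : Derivation A P.Ring (MR P M)) (y : P.Ring) (hy : y ∈ I ^ 2) : D y = 0 := by
  rw [sq] at hy
  refine Submodule.smul_induction_on (p := fun y : P.Ring => D y = 0) hy ?_ ?_
  · intro a ha b hb
    show D (a * b) = 0
    rw [D.leibniz, hI a ha, hI b hb, add_zero]
  · intro a b ha hb
    show D (a + b) = 0
    rw [map_add, ha, hb, add_zero]

/-- when the kernel lies in the square of an ideal killing `M`, extensions with a lift of the ring
are classified by the restriction of the lift to the kernel -/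
theorem equiv_iff_of_sq (I : Ideal P.Ring) (hI : ∀ a ∈ I, ∀ m : MR P M, a • m = 0)
    (hker : P.ker ≤ I ^ 2) (X X' : Ext A B M) (g : P.Ring →ₐ[A] X.E) (g' : P.Ring →ₐ[A] X'.E)
    (hg : ∀ r, X.proj (g r) = algebraMap P.Ring B r)
    (hg' : ∀ r, X'.proj (g' r) = algebraMap P.Ring B r) :
    Nonempty (X.Equiv X') ↔ ∀ j ∈ P.ker, ∃ z : M, X.incl z = g j ∧ X'.incl z = g' j := by
  obtain ⟨φ₀, hφ₀⟩ := exists_phi X g hg
  obtain ⟨φ₀', hφ₀'⟩ := exists_phi X' g' hg'
  obtain ⟨e1⟩ := equiv_of_lift X g hg φ₀ hφ₀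
  obtain ⟨e2⟩ := equiv_of_lift X' g' hg' φ₀' hφ₀'
  constructor
  · rintro ⟨θ⟩
    obtain ⟨D, hD⟩ := exists_derivation_of_equiv φ₀ φ₀' ((e1.trans θ).trans e2.symm)
    have heq : ∀ x : P.ker, φ₀ x = φ₀' x := fun x =>
      sub_eq_zero.1 ((hD x).trans (der_eq_zero_of_sq P I hI D x (hker x.2)))
    intro j hj
    refine ⟨(toMR P M).symm (φ₀ ⟨j, hj⟩), hφ₀ ⟨j, hj⟩, ?_⟩
    rw [heq ⟨j, hj⟩]
    exact hφ₀' ⟨j, hj⟩
  · intro h
    have heq : φ₀ = φ₀' := by
      apply LinearMap.ext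
      intro x
      obtain ⟨z, hz1, hz2⟩ := h x x.2
      have a1 : (toMR P M).symm (φ₀ x) = z :=
        X.isExtension.incl_injective ((hφ₀ x).trans hz1.symm)
      have a2 : (toMR P M).symm (φ₀' x) = z :=
        X'.isExtension.incl_injective ((hφ₀' x).trans hz2.symm)
      exact (toMR P M).symm.injective (a1.trans a2.symm)
    subst heq
    exact ⟨e1.symm.trans e2⟩

/-- every linear map on the kernel is the restriction of a lift into some extension -/
theorem exists_ext_of_linear (φ₀ : P.ker →ₗ[P.Ring] MR P M) :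
    ∃ (X : Ext A B M) (g : P.Ring →ₐ[A] X.E), (∀ r, X.proj (g r) = algebraMap P.Ring B r) ∧
      ∀ x : P.ker, X.incl ((toMR P M).symm (φ₀ x)) = g x := by
  refine ⟨Eext P φ₀, (Ideal.Quotient.mkₐ A (KK P φ₀)).comp
    (TrivSqZeroExt.inlAlgHom A P.Ring (MR P M)), ?_, ?_⟩
  · intro r
    show (Eext P φ₀).proj (Ideal.Quotient.mk (KK P φ₀) (TrivSqZeroExt.inl r)) = _
    rw [Eext_proj_mk, TrivSqZeroExt.fst_inl]
  · intro x
    show inclE P φ₀ _ = Ideal.Quotient.mk (KK P φ₀) (TrivSqZeroExt.inl (x : P.Ring))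
    rw [mk_inl_ker]

end SqZero

end Groth.Agent.Lib.Helper76.ExalT1
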