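import Groth.Agent.Lib.Helper76.ExalT1
import Groth.Prelude.Def_Exal2

/-!
# The exact sequence of derivations and extensions for `A → B → C` (pointed-set form)

For ring maps `A → B → C` and a `C`-module `M`:
* an extension with a section is equivalent to the trivial one (`trivial_equiv_of_section`);
* two lifts of `B → C` into an extension differ by a derivation (`exists_derivation_of_lifts'`);
* if `A`-derivations `B → M` extend to `C` and inverse image `Exal_A(C, M) → Exal_A(B, M)` is
  injective on classes, then every `B`-extension of `C` by `M` is trivial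
  (`isTrivial_of_extend_of_injective`);
* conversely, if every `B`-extension of `C` by `M` is trivial then derivations extend
  (`exists_extend_of_isTrivial`) and inverse image is injective on classes
  (`equiv_of_pullback_equiv`, by the Baer difference `diffExt`).
-/

set_option autoImplicit false
universe u

namespace Groth.Agent.Lib.Helper76.ExalSix

open Exal Groth.Agent.Lib.Helper76.ExalT1


section OpInst

attribute [local instance] Exal.opModule Exal.isCentralScalar_opModule

section Triv

variable {A B M : Type u} [CommRing A] [CommRing B] [Algebra A B] [AddCommGroup M] [Module B M]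

/-- the map from the trivial extension attached to a section -/
noncomputable def ofSection (Z : Ext A B M) (σ : B →ₐ[A] Z.E) (hσ : ∀ b, Z.proj (σ b) = b) :
    (Ext.trivial A B M).E →ₐ[A] Z.E where
  toFun x := σ (TrivSqZeroExt.fst (x : TrivSqZeroExt B M)) + Z.incl (TrivSqZeroExt.snd (x : TrivSqZeroExt B M))
  map_one' := by
    show σ (TrivSqZeroExt.fst (1 : TrivSqZeroExt B M)) + Z.incl (TrivSqZeroExt.snd (1 : TrivSqZeroExt B M)) = 1
    rw [TrivSqZeroExt.fst_one, TrivSqZeroExt.snd_one, map_one, map_zero, add_zero]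
  map_mul' := fun (x y : TrivSqZeroExt B M) => by
    show σ (TrivSqZeroExt.fst (x * y : TrivSqZeroExt B M)) +
      Z.incl (TrivSqZeroExt.snd (x * y : TrivSqZeroExt B M)) =
      (σ (TrivSqZeroExt.fst x) + Z.incl (TrivSqZeroExt.snd x)) *
        (σ (TrivSqZeroExt.fst y) + Z.incl (TrivSqZeroExt.snd y))
    rw [TrivSqZeroExt.fst_mul, TrivSqZeroExt.snd_mul, map_mul, map_add, op_smul_eq_smul]
    have h1 : ∀ (b : B) (m : M), Z.incl (b • m) = σ b * Z.incl m := by
      intro b m
      rw [Z.isExtension.mul_incl, hσ]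
    rw [h1, h1]
    have h2 := incl_mul_incl Z (TrivSqZeroExt.snd x) (TrivSqZeroExt.snd y)
    linear_combination -h2
  map_zero' := by
    show σ (TrivSqZeroExt.fst (0 : TrivSqZeroExt B M)) + Z.incl (TrivSqZeroExt.snd (0 : TrivSqZeroExt B M)) = 0
    rw [TrivSqZeroExt.fst_zero, TrivSqZeroExt.snd_zero, map_zero, map_zero, add_zero]
  map_add' := fun (x y : TrivSqZeroExt B M) => by
    show σ (TrivSqZeroExt.fst (x + y : TrivSqZeroExt B M)) +
      Z.incl (TrivSqZeroExt.snd (x + y : TrivSqZeroExt B M)) =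
      (σ (TrivSqZeroExt.fst x) + Z.incl (TrivSqZeroExt.snd x)) +
        (σ (TrivSqZeroExt.fst y) + Z.incl (TrivSqZeroExt.snd y))
    rw [TrivSqZeroExt.fst_add, TrivSqZeroExt.snd_add, map_add, map_add]
    abel
  commutes' a := by
    show σ (TrivSqZeroExt.fst (TrivSqZeroExt.inl (algebraMap A B a) : TrivSqZeroExt B M)) +
      Z.incl (TrivSqZeroExt.snd (TrivSqZeroExt.inl (algebraMap A B a) : TrivSqZeroExt B M)) = _
    rw [TrivSqZeroExt.fst_inl, TrivSqZeroExt.snd_inl, map_zero, add_zero, AlgHom.commutes]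

theorem ofSection_apply (Z : Ext A B M) (σ : B →ₐ[A] Z.E) (hσ : ∀ b, Z.proj (σ b) = b)
    (x : (Ext.trivial A B M).E) :
    ofSection Z σ hσ x = σ (TrivSqZeroExt.fst (x : TrivSqZeroExt B M)) +
      Z.incl (TrivSqZeroExt.snd (x : TrivSqZeroExt B M)) := rfl

/-- an extension with a section is equivalent to the trivial extension -/
theorem trivial_equiv_of_section (Z : Ext A B M) (σ : B →ₐ[A] Z.E) (hσ : ∀ b, Z.proj (σ b) = b) :
    Nonempty ((Ext.trivial A B M).Equiv Z) := by
  have hinj : Function.Injective (ofSection Z σ hσ) := by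
    rw [injective_iff_map_eq_zero]
    intro x hx
    rw [ofSection_apply] at hx
    have h1 := congrArg Z.proj hx
    rw [map_add, hσ, proj_incl, add_zero, map_zero] at h1
    rw [h1, map_zero, zero_add, incl_eq_zero_iff] at hx
    exact TrivSqZeroExt.ext h1 hx
  have hsurj : Function.Surjective (ofSection Z σ hσ) := by
    intro z
    have h1 : Z.proj (z - σ (Z.proj z)) = 0 := by rw [map_sub, hσ, sub_self]
    obtain ⟨m, hm⟩ := (Z.isExtension.exact _).1 h1
    refine ⟨(TrivSqZeroExt.inl (Z.proj z) + TrivSqZeroExt.inr m : TrivSqZeroExt B M), ?_⟩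
    rw [ofSection_apply, TrivSqZeroExt.fst_add, TrivSqZeroExt.fst_inl, TrivSqZeroExt.fst_inr,
      add_zero, TrivSqZeroExt.snd_add, TrivSqZeroExt.snd_inl, TrivSqZeroExt.snd_inr, zero_add, hm]
    ring
  refine ⟨{ toAlgEquiv := AlgEquiv.ofBijective (ofSection Z σ hσ) ⟨hinj, hsurj⟩
            proj_apply := ?_
            apply_incl := ?_ }⟩
  · intro x
    show Z.proj (ofSection Z σ hσ x) = TrivSqZeroExt.fst (x : TrivSqZeroExt B M)
    rw [ofSection_apply, map_add, hσ, proj_incl, add_zero]
  · intro m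
    show ofSection Z σ hσ (TrivSqZeroExt.inr m : TrivSqZeroExt B M) = _
    rw [ofSection_apply, TrivSqZeroExt.fst_inr, TrivSqZeroExt.snd_inr, map_zero, zero_add]

/-- a trivial extension has a section (restated) -/
theorem exists_section_of_equiv_trivial (Z : Ext A B M) (e : (Ext.trivial A B M).Equiv Z) :
    ∃ σ : B →ₐ[A] Z.E, ∀ b, Z.proj (σ b) = b := by
  refine ⟨(e.toAlgEquiv : (Ext.trivial A B M).E →ₐ[A] Z.E).comp (inlB M), fun b => ?_⟩
  show Z.proj (e.toAlgEquiv (inlB M b)) = b
  rw [e.proj_apply, proj_inlB]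

end Triv




section Der

variable {A B C M : Type u} [CommRing A] [CommRing B] [CommRing C] [Algebra A B] [Algebra A C]
  [Algebra B C] [IsScalarTower A B C] [AddCommGroup M] [Module C M] [Module B M]
  [IsScalarTower B C M] [Module A M] [IsScalarTower A C M]

omit [Algebra A B] [Algebra B C] [IsScalarTower A B C] [Module B M] [IsScalarTower B C M] in
theorem incl_smul_A (Z : Ext A C M) (a : A) (m : M) :
    Z.incl (a • m) = algebraMap A Z.E a * Z.incl m := by
  rw [Z.isExtension.mul_incl, AlgHom.commutes, algebraMap_smul]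

omit [Algebra A B] [IsScalarTower A B C] [Module A M] [IsScalarTower A C M] in
theorem incl_smul_B (Z : Ext A C M) (g : B → Z.E) (hg : ∀ b, Z.proj (g b) = algebraMap B C b)
    (b : B) (m : M) : Z.incl (b • m) = g b * Z.incl m := by
  rw [Z.isExtension.mul_incl, hg, algebraMap_smul]

omit [IsScalarTower A B C] in
/-- two lifts of `B → C` into an extension of `C` differ by a derivation -/
theorem exists_derivation_of_lifts' (Z : Ext A C M) (g₁ g₂ : B →ₐ[A] Z.E)
    (hg₁ : ∀ b, Z.proj (g₁ b) = algebraMap B C b) (hg₂ : ∀ b, Z.proj (g₂ b) = algebraMap B C b) :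
    ∃ D : Derivation A B M, ∀ b, Z.incl (D b) = g₁ b - g₂ b := by
  have hx : ∀ b : B, Z.proj (g₁ b - g₂ b) = 0 := fun b => by
    rw [map_sub, hg₁, hg₂, sub_self]
  have hinj := Z.isExtension.incl_injective
  obtain ⟨d, hd⟩ : ∃ d : B → M, ∀ b, Z.incl (d b) = g₁ b - g₂ b :=
    ⟨fun b => Z.kerLift (g₁ b - g₂ b) (hx b), fun b => Z.incl_kerLift _ _⟩
  let δ : B →ₗ[A] M :=
    { toFun := d
      map_add' := fun b b' => hinj (by
        rw [map_add, hd, hd, hd, map_add, map_add]
        ring)
      map_smul' := fun a b => hinj (by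
        rw [RingHom.id_apply, incl_smul_A, hd, hd, map_smul, map_smul,
          Algebra.smul_def, Algebra.smul_def]
        ring) }
  have hδ : ∀ b, Z.incl (δ b) = g₁ b - g₂ b := hd
  refine ⟨Derivation.mk' δ (fun b b' => hinj ?_), hδ⟩
  rw [map_add, incl_smul_B Z g₁ hg₁, incl_smul_B Z g₂ hg₂, hδ, hδ, hδ, map_mul, map_mul]
  ring

omit [Algebra A B] [Algebra B C] [IsScalarTower A B C] [Module B M] [IsScalarTower B C M]
  [IsScalarTower A C M] in
/-- a section modified by a derivation is a ring map -/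
theorem exists_ringHom_add_derivation (Z : Ext A C M) (s₀ : C →ₐ[A] Z.E)
    (hs₀ : ∀ c, Z.proj (s₀ c) = c) (D' : Derivation A C M) :
    ∃ s : C →+* Z.E, ∀ c, s c = s₀ c + Z.incl (D' c) := by
  have h1 : ∀ (c : C) (m : M), Z.incl (c • m) = s₀ c * Z.incl m := by
    intro c m
    rw [Z.isExtension.mul_incl, hs₀]
  refine ⟨{ toFun := fun c => s₀ c + Z.incl (D' c)
            map_one' := by rw [map_one, Derivation.map_one_eq_zero, map_zero, add_zero]
            map_mul' := fun c c' => by
              rw [map_mul, Derivation.leibniz, map_add, h1, h1]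
              have h2 := incl_mul_incl Z (D' c) (D' c')
              linear_combination -h2
            map_zero' := by rw [map_zero, map_zero, map_zero, add_zero]
            map_add' := fun c c' => by
              rw [map_add, map_add, map_add]
              abel }, fun c => rfl⟩

end Der




section Main

variable {A B C M : Type u} [CommRing A] [CommRing B] [CommRing C] [Algebra A B] [Algebra A C]
  [Algebra B C] [IsScalarTower A B C] [AddCommGroup M] [Module C M] [Module B M]
  [IsScalarTower B C M] [Module A M] [IsScalarTower A C M]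

/-- the structure map of a `B`-extension as a map of `A`-algebras into the restricted extension -/
noncomputable def structHom (X : Ext B C M) : B →ₐ[A] (X.restrictBase A).E where
  toFun b := algebraMap B X.E b
  map_one' := map_one _
  map_mul' := map_mul _
  map_zero' := map_zero _
  map_add' := map_add _
  commutes' _ := rfl

omit [Module B M] [IsScalarTower B C M] [Module A M] [IsScalarTower A C M] in
theorem proj_structHom (X : Ext B C M) (b : B) :
    (X.restrictBase A).proj (structHom (A := A) X b) = algebraMap B C b :=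
  X.proj.commutes b

/-- a section of the inverse image of an extension `Y` of `C` along `B → C`, from a lift `B → E` -/
noncomputable def pullbackSection (Y : Ext A C M) (g : B →ₐ[A] Y.E)
    (hg : ∀ b, Y.proj (g b) = algebraMap B C b) : B →ₐ[A] (Y.pullback B).E :=
  AlgHom.codRestrict (AlgHom.prod g (AlgHom.id A B)) (Y.fiberProd B) (fun b => by
    show Y.proj (g b) = algebraMap B C b
    exact hg b)

omit [Module A M] [IsScalarTower A C M] in
theorem proj_pullbackSection (Y : Ext A C M) (g : B →ₐ[A] Y.E)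
    (hg : ∀ b, Y.proj (g b) = algebraMap B C b) (b : B) :
    (Y.pullback B).proj (pullbackSection Y g hg b) = b := rfl

/-- if derivations extend and inverse image is injective on classes, relative extensions are
trivial -/
theorem isTrivial_of_extend_of_injective
    (ha : ∀ D : Derivation A B M, ∃ D' : Derivation A C M, ∀ b, D' (algebraMap B C b) = D b)
    (hb : ∀ Y Y' : Ext A C M, Nonempty ((Y.pullback B).Equiv (Y'.pullback B)) →
      Nonempty (Y.Equiv Y'))
    (X : Ext B C M) : X.IsTrivial := by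
  let Y : Ext A C M := X.restrictBase A
  let Y' : Ext A C M := Ext.trivial A C M
  let g₁ : B →ₐ[A] Y.E := structHom X
  have hg₁ : ∀ b, Y.proj (g₁ b) = algebraMap B C b := proj_structHom X
  let g' : B →ₐ[A] Y'.E := (inlB M).comp (IsScalarTower.toAlgHom A B C)
  have hg' : ∀ b, Y'.proj (g' b) = algebraMap B C b := fun b => rfl
  obtain ⟨e1⟩ := trivial_equiv_of_section (Y.pullback B) (pullbackSection Y g₁ hg₁)
    (proj_pullbackSection Y g₁ hg₁)
  obtain ⟨e2⟩ := trivial_equiv_of_section (Y'.pullback B) (pullbackSection Y' g' hg')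
    (proj_pullbackSection Y' g' hg')
  obtain ⟨e⟩ := hb Y' Y ⟨e2.symm.trans e1⟩
  obtain ⟨s₀, hs₀⟩ := exists_section_of_equiv_trivial Y e
  let g₂ : B →ₐ[A] Y.E := s₀.comp (IsScalarTower.toAlgHom A B C)
  have hg₂ : ∀ b, Y.proj (g₂ b) = algebraMap B C b := fun b => hs₀ _
  obtain ⟨D, hD⟩ := exists_derivation_of_lifts' Y g₁ g₂ hg₁ hg₂
  obtain ⟨D', hD'⟩ := ha D
  obtain ⟨s, hs⟩ := exists_ringHom_add_derivation Y s₀ hs₀ D'
  refine ⟨{ toRingHom := s
            commutes' := fun b => ?_ }, fun c => ?_⟩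
  · show s (algebraMap B C b) = algebraMap B X.E b
    rw [hs, hD', hD]
    show g₂ b + (g₁ b - g₂ b) = g₁ b
    ring
  · show Y.proj (s c) = c
    rw [hs, map_add, hs₀, proj_incl, add_zero]

end Main




section Main

variable {A B C M : Type u} [CommRing A] [CommRing B] [CommRing C] [Algebra A B] [Algebra A C]
  [Algebra B C] [IsScalarTower A B C] [AddCommGroup M] [Module C M] [Module B M]
  [IsScalarTower B C M] [Module A M] [IsScalarTower A C M]

/-- if the extension attached to a derivation is trivial, the derivation extends -/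
theorem exists_extend_of_isTrivial (D : Derivation A B M)
    (h : (Ext.ofDerivation (C := C) D).IsTrivial) :
    ∃ D' : Derivation A C M, ∀ b, D' (algebraMap B C b) = D b := by
  obtain ⟨s, hs⟩ := h
  let t : C → TrivSqZeroExt C M := fun c => s c
  have ht_fst : ∀ c, (t c).fst = c := hs
  have ht_add : ∀ c c', t (c + c') = t c + t c' := fun c c' => map_add s c c'
  have ht_mul : ∀ c c', t (c * c') = t c * t c' := fun c c' => map_mul s c c'
  have ht_B : ∀ b : B, t (algebraMap B C b) =
      TrivSqZeroExt.inl (algebraMap B C b) + TrivSqZeroExt.inr (D b) := fun b => s.commutes b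
  have ht_A : ∀ a : A, t (algebraMap A C a) = TrivSqZeroExt.inl (algebraMap A C a) := by
    intro a
    rw [IsScalarTower.algebraMap_apply A B C, ht_B, Derivation.map_algebraMap,
      TrivSqZeroExt.inr_zero, add_zero]
  let δ : C →ₗ[A] M :=
    { toFun := fun c => (t c).snd
      map_add' := fun c c' => by rw [ht_add, TrivSqZeroExt.snd_add]
      map_smul' := fun a c => by
        rw [RingHom.id_apply, Algebra.smul_def, ht_mul, ht_A, TrivSqZeroExt.snd_mul,
          TrivSqZeroExt.snd_inl, TrivSqZeroExt.fst_inl, smul_zero, add_zero, algebraMap_smul] }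
  refine ⟨Derivation.mk' δ (fun c c' => ?_), fun b => ?_⟩
  · show (t (c * c')).snd = c • (t c').snd + c' • (t c).snd
    rw [ht_mul, TrivSqZeroExt.snd_mul, ht_fst, ht_fst, op_smul_eq_smul]
  · show (t (algebraMap B C b)).snd = D b
    rw [ht_B, TrivSqZeroExt.snd_add, TrivSqZeroExt.snd_inl, TrivSqZeroExt.snd_inr, zero_add]

end Main



end OpInst

section Baer

variable {A C M : Type u} [CommRing A] [CommRing C] [Algebra A C] [AddCommGroup M] [Module C M]
variable (Y Y' : Ext A C M)

/-- the fibre product of the middle rings of two extensions -/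
def GG : Subalgebra A (Y.E × Y'.E) :=
  AlgHom.equalizer (Y.proj.comp (AlgHom.fst A Y.E Y'.E)) (Y'.proj.comp (AlgHom.snd A Y.E Y'.E))

theorem mem_GG (x : Y.E × Y'.E) : x ∈ GG Y Y' ↔ Y.proj x.1 = Y'.proj x.2 := Iff.rfl

theorem GG_prop (g : GG Y Y') : Y.proj g.1.1 = Y'.proj g.1.2 := g.2

/-- the antidiagonal copy of `M` in the fibre product -/
def DD : Ideal (GG Y Y') where
  carrier := {g | ∃ z : M, (g : Y.E × Y'.E) = (Y.incl z, Y'.incl z)}
  add_mem' := by
    rintro a b ⟨z, hz⟩ ⟨w, hw⟩
    refine ⟨z + w, ?_⟩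
    rw [Subalgebra.coe_add, hz, hw, map_add, map_add]
    rfl
  zero_mem' := ⟨0, by rw [map_zero, map_zero]; rfl⟩
  smul_mem' := by
    rintro c a ⟨z, hz⟩
    refine ⟨Y.proj c.1.1 • z, ?_⟩
    rw [smul_eq_mul, Subalgebra.coe_mul, hz]
    apply Prod.ext
    · show c.1.1 * Y.incl z = _
      rw [Y.isExtension.mul_incl]
    · show c.1.2 * Y'.incl z = _
      rw [Y'.isExtension.mul_incl, GG_prop]

theorem mem_DD (g : GG Y Y') : g ∈ DD Y Y' ↔ ∃ z : M, (g : Y.E × Y'.E) = (Y.incl z, Y'.incl z) :=
  Iff.rfl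

/-- the middle ring of the difference extension -/
abbrev FF : Type u := GG Y Y' ⧸ DD Y Y'

/-- the projection from the fibre product -/
def projG : GG Y Y' →+* C :=
  ((Y.proj : Y.E →+* C).comp (RingHom.fst Y.E Y'.E)).comp (GG Y Y').val.toRingHom

theorem projG_apply (g : GG Y Y') : projG Y Y' g = Y.proj g.1.1 := rfl

/-- the projection of the difference extension -/
def projF : FF Y Y' →+* C :=
  Ideal.Quotient.lift (DD Y Y') (projG Y Y') (by
    rintro g ⟨z, hz⟩
    rw [projG_apply, hz, proj_incl])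

theorem projF_mk (g : GG Y Y') : projF Y Y' (Ideal.Quotient.mk (DD Y Y') g) = Y.proj g.1.1 := rfl

/-- elements of the fibre product -/
def mkG (e : Y.E) (e' : Y'.E) (h : Y.proj e = Y'.proj e') : GG Y Y' := ⟨(e, e'), h⟩

/-- the inclusion of the difference extension -/
def inclF : M →+ FF Y Y' where
  toFun z := Ideal.Quotient.mk (DD Y Y') (mkG Y Y' (Y.incl z) 0 (by rw [proj_incl, map_zero]))
  map_zero' := by
    rw [Ideal.Quotient.eq_zero_iff_mem]
    refine ⟨0, ?_⟩
    show (Y.incl 0, (0 : Y'.E)) = (Y.incl 0, Y'.incl 0)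
    rw [map_zero Y'.incl]
  map_add' z w := by
    rw [← map_add]
    congr 1
    apply Subtype.ext
    show (Y.incl (z + w), (0 : Y'.E)) = (Y.incl z, 0) + (Y.incl w, 0)
    rw [map_add, Prod.mk_add_mk, add_zero]

theorem inclF_apply (z : M) :
    inclF Y Y' z = Ideal.Quotient.mk (DD Y Y') (mkG Y Y' (Y.incl z) 0 (by rw [proj_incl, map_zero])) :=
  rfl

theorem projF_surjective : Function.Surjective (projF Y Y') := by
  intro c
  obtain ⟨e, he⟩ := Y.isExtension.proj_surjective c
  obtain ⟨e', he'⟩ := Y'.isExtension.proj_surjective c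
  exact ⟨Ideal.Quotient.mk _ (mkG Y Y' e e' (he.trans he'.symm)), he⟩

theorem inclF_injective : Function.Injective (inclF Y Y') := by
  rw [injective_iff_map_eq_zero]
  intro z hz
  rw [inclF_apply, Ideal.Quotient.eq_zero_iff_mem] at hz
  obtain ⟨w, hw⟩ := hz
  have h1 : Y.incl z = Y.incl w := congrArg Prod.fst hw
  have h2 : (0 : Y'.E) = Y'.incl w := congrArg Prod.snd hw
  have h3 : w = 0 := (incl_eq_zero_iff Y' w).1 h2.symm
  rw [h3, map_zero] at h1
  exact (incl_eq_zero_iff Y z).1 h1

theorem projF_eq_zero_iff (x : FF Y Y') : projF Y Y' x = 0 ↔ x ∈ Set.range (inclF Y Y') := by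
  obtain ⟨g, rfl⟩ := Ideal.Quotient.mk_surjective x
  constructor
  · intro h
    rw [projF_mk] at h
    have h' : Y'.proj g.1.2 = 0 := by rw [← GG_prop, h]
    obtain ⟨z, hz⟩ := (Y.isExtension.exact _).1 h
    obtain ⟨z', hz'⟩ := (Y'.isExtension.exact _).1 h'
    refine ⟨z - z', ?_⟩
    rw [inclF_apply, eq_comm, Ideal.Quotient.eq]
    refine ⟨z', ?_⟩
    rw [Subalgebra.coe_sub]
    show (g.1.1, g.1.2) - (Y.incl (z - z'), (0 : Y'.E)) = _
    rw [← hz, ← hz', map_sub, Prod.mk_sub_mk, sub_sub_cancel, sub_zero]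
  · rintro ⟨z, hz⟩
    rw [← hz, inclF_apply, projF_mk]
    exact proj_incl Y z

theorem mul_inclF (x : FF Y Y') (z : M) : x * inclF Y Y' z = inclF Y Y' (projF Y Y' x • z) := by
  obtain ⟨g, rfl⟩ := Ideal.Quotient.mk_surjective x
  rw [inclF_apply, inclF_apply, projF_mk, ← map_mul]
  congr 1
  apply Subtype.ext
  show (g.1.1 * Y.incl z, g.1.2 * (0 : Y'.E)) = (Y.incl (Y.proj g.1.1 • z), 0)
  rw [Y.isExtension.mul_incl, mul_zero]

end Baer



section Baer2

variable {A B C M : Type u} [CommRing A] [CommRing B] [CommRing C] [Algebra A B] [Algebra A C]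
  [Algebra B C] [IsScalarTower A B C] [AddCommGroup M] [Module C M] [Module B M]
  [IsScalarTower B C M]
variable (Y Y' : Ext A C M) (θ : (Y.pullback B).Equiv (Y'.pullback B))

theorem fiberProd_prop (h : (Y.pullback B).E) : Y.proj h.1.1 = algebraMap B C h.1.2 := h.2

theorem theta_snd (h : (Y.pullback B).E) : (θ.toAlgEquiv h).1.2 = h.1.2 := θ.proj_apply h

/-- the map from the inverse image of `Y` to the fibre product, using the equivalence -/
noncomputable def gammaHom : (Y.pullback B).E →ₐ[A] GG Y Y' :=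
  AlgHom.codRestrict
    (AlgHom.prod ((AlgHom.fst A Y.E B).comp (Y.fiberProd B).val)
      (((AlgHom.fst A Y'.E B).comp (Y'.fiberProd B).val).comp
        (θ.toAlgEquiv : (Y.pullback B).E →ₐ[A] (Y'.pullback B).E)))
    (GG Y Y') (fun h => by
      show Y.proj h.1.1 = Y'.proj (θ.toAlgEquiv h).1.1
      rw [fiberProd_prop, fiberProd_prop, theta_snd])

theorem gammaHom_fst (h : (Y.pullback B).E) : (gammaHom Y Y' θ h).1.1 = h.1.1 := rfl

theorem gammaHom_snd (h : (Y.pullback B).E) :
    (gammaHom Y Y' θ h).1.2 = (θ.toAlgEquiv h).1.1 := rfl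

/-- the composite to the difference ring -/
noncomputable def beta0 : (Y.pullback B).E →+* FF Y Y' :=
  (Ideal.Quotient.mk (DD Y Y')).comp (gammaHom Y Y' θ).toRingHom

theorem beta0_apply (h : (Y.pullback B).E) :
    beta0 Y Y' θ h = Ideal.Quotient.mk (DD Y Y') (gammaHom Y Y' θ h) := rfl

/-- the projection of the inverse image, as a ring map -/
noncomputable def prH : (Y.pullback B).E →+* B := ((Y.pullback B).proj : (Y.pullback B).E →+* B)

theorem prH_apply (h : (Y.pullback B).E) : prH Y h = h.1.2 := rfl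

theorem prH_surjective : Function.Surjective (prH (B := B) Y) :=
  (Y.pullback B).isExtension.proj_surjective

theorem ker_prH_le : RingHom.ker (prH (B := B) Y) ≤ RingHom.ker (beta0 Y Y' θ) := by
  intro h hh
  rw [RingHom.mem_ker] at hh ⊢
  obtain ⟨z, rfl⟩ := ((Y.pullback B).isExtension.exact h).1 hh
  rw [beta0_apply, Ideal.Quotient.eq_zero_iff_mem]
  refine ⟨z, ?_⟩
  apply Prod.ext
  · rfl
  · show (θ.toAlgEquiv ((Y.pullback B).incl z)).1.1 = Y'.incl z
    rw [θ.apply_incl]
    rfl

/-- the structure map of the difference extension over `B` -/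
noncomputable def betaHom : B →+* FF Y Y' :=
  RingHom.liftOfSurjective (prH Y) (prH_surjective Y) ⟨beta0 Y Y' θ, ker_prH_le Y Y' θ⟩

theorem betaHom_prH (h : (Y.pullback B).E) : betaHom Y Y' θ (prH Y h) = beta0 Y Y' θ h :=
  RingHom.liftOfSurjective_comp_apply _ _ _ _

theorem projF_betaHom (b : B) : projF Y Y' (betaHom Y Y' θ b) = algebraMap B C b := by
  obtain ⟨h, rfl⟩ := prH_surjective (B := B) Y b
  rw [betaHom_prH, beta0_apply, projF_mk, gammaHom_fst, fiberProd_prop]
  rfl

theorem betaHom_algebraMap (a : A) :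
    betaHom Y Y' θ (algebraMap A B a) = algebraMap A (FF Y Y') a := by
  have h1 : prH (B := B) Y (algebraMap A (Y.pullback B).E a) = algebraMap A B a :=
    (Y.pullback B).proj.commutes a
  rw [← h1, betaHom_prH, beta0_apply, AlgHom.commutes]
  rfl

/-- the middle ring of the difference extension, as a `B`-algebra -/
@[nolint unusedArguments]
def FFB (_θ : (Y.pullback B).Equiv (Y'.pullback B)) : Type u := FF Y Y'

instance : CommRing (FFB Y Y' θ) := inferInstanceAs (CommRing (FF Y Y'))

noncomputable instance : Algebra B (FFB Y Y' θ) :=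
  (betaHom Y Y' θ : B →+* FFB Y Y' θ).toAlgebra

theorem algebraMap_FFB (b : B) : algebraMap B (FFB Y Y' θ) b = betaHom Y Y' θ b := rfl

/-- the difference extension, over `B` -/
noncomputable def diffExt : Ext B C M where
  E := FFB Y Y' θ
  proj :=
    { toRingHom := (projF Y Y' : FFB Y Y' θ →+* C)
      commutes' := fun b => projF_betaHom Y Y' θ b }
  incl := inclF Y Y'
  isExtension :=
    { proj_surjective := projF_surjective Y Y'
      incl_injective := inclF_injective Y Y'
      exact := projF_eq_zero_iff Y Y'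
      mul_incl := mul_inclF Y Y' }

end Baer2



section Baer3

variable {A B C M : Type u} [CommRing A] [CommRing B] [CommRing C] [Algebra A B] [Algebra A C]
  [Algebra B C] [IsScalarTower A B C] [AddCommGroup M] [Module C M] [Module B M]
  [IsScalarTower B C M]
variable (Y Y' : Ext A C M)

/-- the relation cut out by a section of the difference extension -/
def Rel (t : C → FF Y Y') (e : Y.E) (e' : Y'.E) : Prop :=
  ∃ h : Y.proj e = Y'.proj e', Ideal.Quotient.mk (DD Y Y') (mkG Y Y' e e' h) = t (Y.proj e)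

variable {Y Y'} (t : C →+* FF Y Y') (ht : ∀ c, projF Y Y' (t c) = c)

include ht in
theorem rel_exists (e : Y.E) : ∃ e', Rel Y Y' t e e' := by
  obtain ⟨g, hg⟩ := Ideal.Quotient.mk_surjective (t (Y.proj e))
  have h1 : Y.proj g.1.1 = Y.proj e := by
    rw [← projF_mk, hg, ht]
  have h2 : Y.proj (e - g.1.1) = 0 := by rw [map_sub, h1, sub_self]
  obtain ⟨z, hz⟩ := (Y.isExtension.exact _).1 h2
  have h3 : Y.proj e = Y'.proj (g.1.2 + Y'.incl z) := by
    rw [map_add, proj_incl, add_zero, ← GG_prop, h1]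
  refine ⟨g.1.2 + Y'.incl z, h3, ?_⟩
  rw [← hg, Ideal.Quotient.eq]
  refine ⟨z, ?_⟩
  rw [Subalgebra.coe_sub]
  show (e, g.1.2 + Y'.incl z) - (g.1.1, g.1.2) = _
  rw [Prod.mk_sub_mk, ← hz, add_sub_cancel_left]

omit [CommRing B] [Algebra A B] [Algebra B C] [IsScalarTower A B C] [Module B M]
  [IsScalarTower B C M] in
theorem rel_unique (t : C → FF Y Y') {e : Y.E} {e' e'' : Y'.E} (h1 : Rel Y Y' t e e')
    (h2 : Rel Y Y' t e e'') : e' = e'' := by
  obtain ⟨p1, q1⟩ := h1
  obtain ⟨p2, q2⟩ := h2
  have h3 := q1.trans q2.symm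
  rw [Ideal.Quotient.eq] at h3
  obtain ⟨w, hw⟩ := h3
  rw [Subalgebra.coe_sub] at hw
  have hw' : (e, e') - (e, e'') = (Y.incl w, Y'.incl w) := hw
  rw [Prod.mk_sub_mk, sub_self] at hw'
  have h4 : (0 : Y.E) = Y.incl w := congrArg Prod.fst hw'
  have h5 : e' - e'' = Y'.incl w := congrArg Prod.snd hw'
  have h6 : w = 0 := (incl_eq_zero_iff Y w).1 h4.symm
  rw [h6, map_zero] at h5
  exact sub_eq_zero.1 h5

omit [CommRing B] [Algebra A B] [Algebra B C] [IsScalarTower A B C] [Module B M]
  [IsScalarTower B C M] in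
theorem rel_add {e₁ e₂ : Y.E} {e₁' e₂' : Y'.E} (h1 : Rel Y Y' t e₁ e₁') (h2 : Rel Y Y' t e₂ e₂') :
    Rel Y Y' t (e₁ + e₂) (e₁' + e₂') := by
  obtain ⟨p1, q1⟩ := h1
  obtain ⟨p2, q2⟩ := h2
  refine ⟨by rw [map_add, map_add, p1, p2], ?_⟩
  have h3 : t (Y.proj (e₁ + e₂)) = t (Y.proj e₁) + t (Y.proj e₂) := by rw [map_add, map_add]
  rw [h3, ← q1, ← q2]
  exact map_add (Ideal.Quotient.mk (DD Y Y')) (mkG Y Y' e₁ e₁' p1) (mkG Y Y' e₂ e₂' p2)

omit [CommRing B] [Algebra A B] [Algebra B C] [IsScalarTower A B C] [Module B M]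
  [IsScalarTower B C M] in
theorem rel_mul {e₁ e₂ : Y.E} {e₁' e₂' : Y'.E} (h1 : Rel Y Y' t e₁ e₁') (h2 : Rel Y Y' t e₂ e₂') :
    Rel Y Y' t (e₁ * e₂) (e₁' * e₂') := by
  obtain ⟨p1, q1⟩ := h1
  obtain ⟨p2, q2⟩ := h2
  refine ⟨by rw [map_mul, map_mul, p1, p2], ?_⟩
  have h3 : t (Y.proj (e₁ * e₂)) = t (Y.proj e₁) * t (Y.proj e₂) := by rw [map_mul, map_mul]
  rw [h3, ← q1, ← q2]
  exact map_mul (Ideal.Quotient.mk (DD Y Y')) (mkG Y Y' e₁ e₁' p1) (mkG Y Y' e₂ e₂' p2)

omit [CommRing B] [Algebra A B] [Algebra B C] [IsScalarTower A B C] [Module B M]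
  [IsScalarTower B C M] in
theorem rel_incl (z : M) : Rel Y Y' t (Y.incl z) (Y'.incl z) := by
  refine ⟨by rw [proj_incl, proj_incl], ?_⟩
  have h3 : t (Y.proj (Y.incl z)) = 0 := by rw [proj_incl, map_zero]
  rw [h3, Ideal.Quotient.eq_zero_iff_mem]
  exact ⟨z, rfl⟩

omit [CommRing B] [Algebra A B] [Algebra B C] [IsScalarTower A B C] [Module B M]
  [IsScalarTower B C M] in
theorem rel_algebraMap (htA : ∀ a : A, t (algebraMap A C a) = algebraMap A (FF Y Y') a) (a : A) :
    Rel Y Y' t (algebraMap A Y.E a) (algebraMap A Y'.E a) := by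
  refine ⟨by rw [AlgHom.commutes, AlgHom.commutes], ?_⟩
  have h3 : t (Y.proj (algebraMap A Y.E a)) = algebraMap A (FF Y Y') a := by
    rw [AlgHom.commutes, htA]
  rw [h3]
  rfl

end Baer3



section Baer4

variable {A B C M : Type u} [CommRing A] [CommRing B] [CommRing C] [Algebra A B] [Algebra A C]
  [Algebra B C] [IsScalarTower A B C] [AddCommGroup M] [Module C M] [Module B M]
  [IsScalarTower B C M]
variable {Y Y' : Ext A C M}

omit [CommRing B] [Algebra A B] [Algebra B C] [IsScalarTower A B C] [Module B M]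
  [IsScalarTower B C M] in
/-- a ring-theoretic section of the difference extension identifies the two extensions -/
theorem equiv_of_ringHom (t : C →+* FF Y Y') (ht : ∀ c, projF Y Y' (t c) = c)
    (htA : ∀ a : A, t (algebraMap A C a) = algebraMap A (FF Y Y') a) : Nonempty (Y.Equiv Y') := by
  choose φ hφ using rel_exists t ht
  have huniq : ∀ e e', Rel Y Y' t e e' → φ e = e' := fun e e' h => rel_unique t (hφ e) h
  have h11 : Rel Y Y' t 1 1 := by
    have := rel_algebraMap t htA 1
    rwa [map_one, map_one] at this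
  have h00 : Rel Y Y' t 0 0 := by
    have := rel_incl (Y := Y) (Y' := Y') t 0
    rwa [map_zero, map_zero] at this
  let Φ : Y.E →ₐ[A] Y'.E :=
    { toFun := φ
      map_one' := huniq 1 1 h11
      map_mul' := fun a b => huniq _ _ (rel_mul t (hφ a) (hφ b))
      map_zero' := huniq 0 0 h00
      map_add' := fun a b => huniq _ _ (rel_add t (hφ a) (hφ b))
      commutes' := fun a => huniq _ _ (rel_algebraMap t htA a) }
  have hΦ : ∀ e, Φ e = φ e := fun e => rfl
  have hproj : ∀ e, Y'.proj (φ e) = Y.proj e := fun e => by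
    obtain ⟨h, -⟩ := hφ e
    exact h.symm
  have hincl : ∀ z, φ (Y.incl z) = Y'.incl z := fun z => huniq _ _ (rel_incl t z)
  have hinj : Function.Injective Φ := by
    rw [injective_iff_map_eq_zero]
    intro e he
    rw [hΦ] at he
    have h1 : Y.proj e = 0 := by rw [← hproj, he, map_zero]
    obtain ⟨z, rfl⟩ := (Y.isExtension.exact _).1 h1
    rw [hincl, incl_eq_zero_iff] at he
    rw [he, map_zero]
  have hsurj : Function.Surjective Φ := by
    intro e'
    obtain ⟨e, he⟩ := Y.isExtension.proj_surjective (Y'.proj e')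
    have h1 : Y'.proj (φ e - e') = 0 := by rw [map_sub, hproj, he, sub_self]
    obtain ⟨z, hz⟩ := (Y'.isExtension.exact _).1 h1
    refine ⟨e - Y.incl z, ?_⟩
    rw [map_sub, hΦ, hΦ, hincl, hz]
    ring
  refine ⟨{ toAlgEquiv := AlgEquiv.ofBijective Φ ⟨hinj, hsurj⟩
            proj_apply := fun e => hproj e
            apply_incl := fun z => hincl z }⟩

/-- if all relative extensions are trivial, inverse image is injective on classes -/
theorem equiv_of_pullback_equiv (htriv : ∀ X : Ext B C M, X.IsTrivial) (Y Y' : Ext A C M)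
    (θ : (Y.pullback B).Equiv (Y'.pullback B)) : Nonempty (Y.Equiv Y') := by
  obtain ⟨s, hs⟩ := htriv (diffExt Y Y' θ)
  let t : C →+* FF Y Y' := s.toRingHom
  have ht : ∀ c, projF Y Y' (t c) = c := hs
  refine equiv_of_ringHom t ht ?_
  intro a
  have h1 : t (algebraMap A C a) = s (algebraMap B C (algebraMap A B a)) := by
    rw [← IsScalarTower.algebraMap_apply A B C]
    rfl
  rw [h1, s.commutes]
  exact betaHom_algebraMap Y Y' θ a

end Baer4


end Groth.Agent.Lib.Helper76.ExalSix
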