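import Mathlib
import Groth.Prelude.Def_Exal
import Groth.Prelude.Def_CotT
import Groth.Agent.S12289

/-!
# Extensions of an algebra by a module and `T¹`

For an extension `P : R → B` of `A`-algebras with kernel `I` and a `B`-module `M`, every `R`-linear
map `φ₀ : I → M` gives an `A`-extension `Eext P φ₀ = (R ⊕ M)/{(x, -φ₀ x)}` of `B` by `M`; two such
are equivalent iff the maps differ by (the restriction of) an `A`-derivation `R → M`; and every
extension into which `R` lifts arises this way.  Consequently `Exalcom_A(B, M)` is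
`Hom_B(I/I², M)` modulo the maps factoring through the conormal map, i.e. `T¹(B/A, M)`.
-/

set_option autoImplicit false
universe u

namespace Groth.Agent.Lib.Helper76.ExalT1

section Part1

open Exal TensorProduct

attribute [local instance] Exal.opModule Exal.isCentralScalar_opModule

variable {A B : Type u} [CommRing A] [CommRing B] [Algebra A B]
/-- `M` regarded as a module over the ring of the extension (and over `A`) -/
@[nolint unusedArguments]
def MR (_P : Algebra.Extension.{u} A B) (M : Type u) : Type u := M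

variable (P : Algebra.Extension.{u} A B) (M : Type u) [AddCommGroup M] [Module B M]

instance : AddCommGroup (MR P M) := inferInstanceAs (AddCommGroup M)
instance : Module B (MR P M) := inferInstanceAs (Module B M)
instance : Module P.Ring (MR P M) := Module.compHom M (algebraMap P.Ring B)
instance : Module A (MR P M) := Module.compHom M (algebraMap A B)

/-- identification -/
def toMR : M ≃ₗ[B] MR P M := LinearEquiv.refl B M

theorem smul_MR (r : P.Ring) (m : MR P M) : r • m = algebraMap P.Ring B r • m := rfl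

theorem smul_MR' (a : A) (m : MR P M) : a • m = algebraMap A B a • m := rfl

instance : IsScalarTower P.Ring B (MR P M) := ⟨fun r b m => by
  rw [smul_MR, Algebra.smul_def, mul_smul]⟩

instance : IsScalarTower A B (MR P M) := ⟨fun a b m => by
  rw [smul_MR', Algebra.smul_def, mul_smul]⟩

instance : IsScalarTower A P.Ring (MR P M) := ⟨fun a r m => by
  rw [smul_MR, smul_MR', smul_MR, Algebra.smul_def, map_mul, mul_smul,
    ← IsScalarTower.algebraMap_apply]⟩

instance : IsScalarTower A P.Ringᵐᵒᵖ (MR P M) := ⟨fun a r m => by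
  induction r using MulOpposite.rec' with
  | h r =>
    rw [← MulOpposite.op_smul, op_smul_eq_smul, op_smul_eq_smul, smul_assoc]⟩

/-- the trivial square-zero extension of the ring of the extension by `M` -/
abbrev TT : Type u := TrivSqZeroExt P.Ring (MR P M)

example : CommRing (TT P M) := inferInstance
noncomputable example : Algebra A (TT P M) := inferInstance

theorem ker_smul (x : P.ker) (m : MR P M) : (x : P.Ring) • m = 0 := by
  rw [smul_MR]
  have : algebraMap P.Ring B (x : P.Ring) = 0 := x.2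
  rw [this, zero_smul]

end Part1

section Part2

open Exal TensorProduct

attribute [local instance] Exal.opModule Exal.isCentralScalar_opModule

variable {A B : Type u} [CommRing A] [CommRing B] [Algebra A B]
variable (P : Algebra.Extension.{u} A B) {M : Type u} [AddCommGroup M] [Module B M]
variable (φ₀ : P.ker →ₗ[P.Ring] MR P M)

/-- the graph ideal `{(x, -φ₀ x) | x ∈ I}` -/
def KK : Ideal (TT P M) where
  carrier := {z | ∃ x : P.ker, z.fst = x ∧ z.snd = -φ₀ x}
  add_mem' := by
    rintro a b ⟨x, hx1, hx2⟩ ⟨y, hy1, hy2⟩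
    refine ⟨x + y, ?_, ?_⟩
    · rw [TrivSqZeroExt.fst_add, hx1, hy1]
      rfl
    · rw [TrivSqZeroExt.snd_add, hx2, hy2, map_add, neg_add]
  zero_mem' := ⟨0, by rw [TrivSqZeroExt.fst_zero]; rfl, by rw [TrivSqZeroExt.snd_zero, map_zero, neg_zero]⟩
  smul_mem' := by
    rintro c a ⟨x, hx1, hx2⟩
    refine ⟨c.fst • x, ?_, ?_⟩
    · rw [smul_eq_mul, TrivSqZeroExt.fst_mul, hx1]
      rfl
    · rw [smul_eq_mul, TrivSqZeroExt.snd_mul, hx1, hx2, op_smul_eq_smul, ker_smul, add_zero,
        map_smul, smul_neg]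

theorem mem_KK (z : TT P M) : z ∈ KK P φ₀ ↔ ∃ x : P.ker, z.fst = x ∧ z.snd = -φ₀ x := Iff.rfl

theorem inl_add_inr_mem_KK (x : P.ker) :
    (TrivSqZeroExt.inl (x : P.Ring) + TrivSqZeroExt.inr (-φ₀ x) : TT P M) ∈ KK P φ₀ :=
  ⟨x, by rw [TrivSqZeroExt.fst_add, TrivSqZeroExt.fst_inl, TrivSqZeroExt.fst_inr, add_zero],
    by rw [TrivSqZeroExt.snd_add, TrivSqZeroExt.snd_inl, TrivSqZeroExt.snd_inr, zero_add]⟩

/-- the middle ring of the extension attached to `φ₀` -/
abbrev EE : Type u := TT P M ⧸ KK P φ₀

/-- the projection of the extension attached to `φ₀` -/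
noncomputable def projE : EE P φ₀ →ₐ[A] B :=
  Ideal.Quotient.liftₐ (KK P φ₀)
    ((IsScalarTower.toAlgHom A P.Ring B).comp (TrivSqZeroExt.fstHom A P.Ring (MR P M)))
    (by
      rintro z ⟨x, hx1, -⟩
      show algebraMap P.Ring B z.fst = 0
      rw [hx1]
      exact x.2)

theorem projE_mk (z : TT P M) :
    projE P φ₀ (Ideal.Quotient.mk (KK P φ₀) z) = algebraMap P.Ring B z.fst := rfl

/-- the inclusion of the extension attached to `φ₀` -/
noncomputable def inclE : M →+ EE P φ₀ :=
  ((Ideal.Quotient.mk (KK P φ₀) : TT P M →+* EE P φ₀) : TT P M →+ EE P φ₀).comp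
    ((TrivSqZeroExt.inrHom P.Ring (MR P M)).toAddMonoidHom.comp
      ((toMR P M : M →ₗ[B] MR P M) : M →+ MR P M))

theorem inclE_apply (m : M) :
    inclE P φ₀ m = Ideal.Quotient.mk (KK P φ₀) (TrivSqZeroExt.inr (toMR P M m)) := rfl

end Part2

section Part3

open Exal TensorProduct

attribute [local instance] Exal.opModule Exal.isCentralScalar_opModule

variable {A B : Type u} [CommRing A] [CommRing B] [Algebra A B]
variable (P : Algebra.Extension.{u} A B) {M : Type u} [AddCommGroup M] [Module B M]
variable (φ₀ : P.ker →ₗ[P.Ring] MR P M)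

theorem mk_eq_inclE_of_mem_ker (z : TT P M) (hz : algebraMap P.Ring B z.fst = 0) :
    Ideal.Quotient.mk (KK P φ₀) z =
      inclE P φ₀ ((toMR P M).symm (z.snd + φ₀ ⟨z.fst, hz⟩)) := by
  rw [inclE_apply, LinearEquiv.apply_symm_apply, Ideal.Quotient.eq]
  refine ⟨⟨z.fst, hz⟩, ?_, ?_⟩
  · rw [TrivSqZeroExt.fst_sub, TrivSqZeroExt.fst_inr, sub_zero]
  · rw [TrivSqZeroExt.snd_sub, TrivSqZeroExt.snd_inr]
    abel

theorem mk_inl_ker (x : P.ker) :
    Ideal.Quotient.mk (KK P φ₀) (TrivSqZeroExt.inl (x : P.Ring)) =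
      inclE P φ₀ ((toMR P M).symm (φ₀ x)) := by
  have h := mk_eq_inclE_of_mem_ker P φ₀ (TrivSqZeroExt.inl (x : P.Ring))
    (by rw [TrivSqZeroExt.fst_inl]; exact x.2)
  rw [h]
  congr 2
  rw [TrivSqZeroExt.snd_inl, zero_add]
  rfl

/-- the extension of `B` by `M` attached to a linear map `I → M` -/
noncomputable def Eext : Ext A B M where
  E := EE P φ₀
  proj := projE P φ₀
  incl := inclE P φ₀
  isExtension :=
    { proj_surjective := fun b => by
        obtain ⟨r, rfl⟩ := P.algebraMap_surjective b
        exact ⟨Ideal.Quotient.mk _ (TrivSqZeroExt.inl r), by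
          rw [projE_mk, TrivSqZeroExt.fst_inl]⟩
      incl_injective := by
        rw [injective_iff_map_eq_zero]
        intro m hm
        rw [inclE_apply, Ideal.Quotient.eq_zero_iff_mem] at hm
        obtain ⟨x, hx1, hx2⟩ := hm
        rw [TrivSqZeroExt.fst_inr] at hx1
        rw [TrivSqZeroExt.snd_inr] at hx2
        have hx0 : x = 0 := Subtype.ext hx1.symm
        rw [hx0, map_zero, neg_zero] at hx2
        exact (toMR P M).injective (hx2.trans (map_zero _).symm)
      exact := fun z => by
        obtain ⟨z, rfl⟩ := Ideal.Quotient.mk_surjective z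
        constructor
        · intro hz
          rw [projE_mk] at hz
          exact ⟨_, (mk_eq_inclE_of_mem_ker P φ₀ z hz).symm⟩
        · rintro ⟨m, hm⟩
          rw [← hm, inclE_apply, projE_mk, TrivSqZeroExt.fst_inr, map_zero]
      mul_incl := fun z m => by
        obtain ⟨z, rfl⟩ := Ideal.Quotient.mk_surjective z
        rw [inclE_apply, inclE_apply, projE_mk, ← map_mul]
        congr 1
        refine TrivSqZeroExt.ext ?_ ?_
        · rw [TrivSqZeroExt.fst_mul, TrivSqZeroExt.fst_inr, mul_zero, TrivSqZeroExt.fst_inr]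
        · rw [TrivSqZeroExt.snd_mul, TrivSqZeroExt.snd_inr, TrivSqZeroExt.fst_inr,
            MulOpposite.op_zero, zero_smul, add_zero, TrivSqZeroExt.snd_inr, map_smul, smul_MR] }

theorem Eext_proj_mk (z : TT P M) :
    (Eext P φ₀).proj (Ideal.Quotient.mk (KK P φ₀) z) = algebraMap P.Ring B z.fst := rfl

theorem Eext_incl (m : M) :
    (Eext P φ₀).incl m = Ideal.Quotient.mk (KK P φ₀) (TrivSqZeroExt.inr (toMR P M m)) := rfl

end Part3

section Part4

open Exal TensorProduct

attribute [local instance] Exal.opModule Exal.isCentralScalar_opModule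

variable {A B : Type u} [CommRing A] [CommRing B] [Algebra A B]
variable (P : Algebra.Extension.{u} A B) {M : Type u} [AddCommGroup M] [Module B M]

section Incl

variable (X : Ext A B M)

theorem proj_incl (m : M) : X.proj (X.incl m) = 0 := (X.isExtension.exact _).2 ⟨m, rfl⟩

theorem incl_mul_incl (m m' : M) : X.incl m * X.incl m' = 0 := by
  rw [X.isExtension.mul_incl, proj_incl, zero_smul, map_zero]

theorem incl_eq_zero_iff (m : M) : X.incl m = 0 ↔ m = 0 :=
  ⟨fun h => X.isExtension.incl_injective (h.trans (map_zero _).symm), fun h => by rw [h, map_zero]⟩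

/-- the inclusion of an extension as an `A`-linear map out of `MR` -/
noncomputable def inclL : MR P M →ₗ[A] X.E where
  toFun m := X.incl ((toMR P M).symm m)
  map_add' a b := by rw [map_add, map_add]
  map_smul' a m := by
    rw [RingHom.id_apply, Algebra.smul_def, X.isExtension.mul_incl, AlgHom.commutes, smul_MR',
      map_smul]

theorem inclL_apply (m : MR P M) : inclL P X m = X.incl ((toMR P M).symm m) := rfl

end Incl

variable {P} in
/-- the map from the trivial square-zero extension of the ring attached to a lift -/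
noncomputable def liftT (X : Ext A B M) (g : P.Ring →ₐ[A] X.E)
    (hg : ∀ r, X.proj (g r) = algebraMap P.Ring B r) : TT P M →ₐ[A] X.E :=
  TrivSqZeroExt.lift g (inclL P X)
    (fun x y => incl_mul_incl X _ _)
    (fun r x => by
      rw [inclL_apply, inclL_apply, X.isExtension.mul_incl, hg, smul_MR, map_smul])
    (fun r x => by
      rw [op_smul_eq_smul, inclL_apply, inclL_apply, mul_comm, X.isExtension.mul_incl, hg, smul_MR,
        map_smul])

variable {P} in
theorem liftT_apply (X : Ext A B M) (g : P.Ring →ₐ[A] X.E)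
    (hg : ∀ r, X.proj (g r) = algebraMap P.Ring B r) (z : TT P M) :
    liftT X g hg z = g z.fst + X.incl ((toMR P M).symm z.snd) := rfl

variable {P} in
/-- an extension with a lift of the ring is equivalent to the extension attached to the
restriction of the lift to the kernel -/
theorem equiv_of_lift (X : Ext A B M) (g : P.Ring →ₐ[A] X.E)
    (hg : ∀ r, X.proj (g r) = algebraMap P.Ring B r)
    (φ₀ : P.ker →ₗ[P.Ring] MR P M)
    (hφ₀ : ∀ x : P.ker, X.incl ((toMR P M).symm (φ₀ x)) = g x) :
    Nonempty (Ext.Equiv (Eext P φ₀) X) := by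
  have hK : ∀ z ∈ KK P φ₀, liftT X g hg z = 0 := by
    rintro z ⟨x, hx1, hx2⟩
    rw [liftT_apply, hx1, hx2, map_neg, map_neg, hφ₀, add_neg_cancel]
  let Θ : EE P φ₀ →ₐ[A] X.E := Ideal.Quotient.liftₐ (KK P φ₀) (liftT X g hg) hK
  have hΘ : ∀ z, Θ (Ideal.Quotient.mk (KK P φ₀) z) = liftT X g hg z := fun _ => rfl
  have hinj : Function.Injective Θ := by
    rw [injective_iff_map_eq_zero]
    intro z hz
    obtain ⟨z, rfl⟩ := Ideal.Quotient.mk_surjective z
    rw [hΘ, liftT_apply] at hz
    have h1 : algebraMap P.Ring B z.fst = 0 := by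
      have := congrArg X.proj hz
      rw [map_add, hg, proj_incl, add_zero, map_zero] at this
      exact this
    rw [Ideal.Quotient.eq_zero_iff_mem]
    refine ⟨⟨z.fst, h1⟩, rfl, ?_⟩
    have h2 := hφ₀ ⟨z.fst, h1⟩
    rw [← h2, ← map_add, incl_eq_zero_iff, ← map_add, LinearEquiv.map_eq_zero_iff] at hz
    exact eq_neg_of_add_eq_zero_right hz
  have hsurj : Function.Surjective Θ := by
    intro y
    obtain ⟨r, hr⟩ := P.algebraMap_surjective (X.proj y)
    have h1 : X.proj (y - g r) = 0 := by rw [map_sub, hg, hr, sub_self]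
    obtain ⟨m, hm⟩ := (X.isExtension.exact _).1 h1
    refine ⟨Ideal.Quotient.mk _ (TrivSqZeroExt.inl r + TrivSqZeroExt.inr (toMR P M m)), ?_⟩
    rw [hΘ, liftT_apply, TrivSqZeroExt.fst_add, TrivSqZeroExt.fst_inl, TrivSqZeroExt.fst_inr,
      add_zero, TrivSqZeroExt.snd_add, TrivSqZeroExt.snd_inl, TrivSqZeroExt.snd_inr, zero_add,
      LinearEquiv.symm_apply_apply, hm]
    ring
  refine ⟨{ toAlgEquiv := AlgEquiv.ofBijective Θ ⟨hinj, hsurj⟩
            proj_apply := ?_
            apply_incl := ?_ }⟩
  · intro z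
    obtain ⟨z, rfl⟩ := Ideal.Quotient.mk_surjective z
    show X.proj (Θ (Ideal.Quotient.mk (KK P φ₀) z)) = _
    rw [hΘ, liftT_apply, map_add, hg, proj_incl, add_zero, Eext_proj_mk]
  · intro m
    show Θ ((Eext P φ₀).incl m) = _
    rw [Eext_incl, hΘ, liftT_apply, TrivSqZeroExt.fst_inr, map_zero, zero_add,
      TrivSqZeroExt.snd_inr, LinearEquiv.symm_apply_apply]

end Part4

section Part5

open Exal TensorProduct

attribute [local instance] Exal.opModule Exal.isCentralScalar_opModule

variable {A B : Type u} [CommRing A] [CommRing B] [Algebra A B]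
variable {P : Algebra.Extension.{u} A B} {M : Type u} [AddCommGroup M] [Module B M]

theorem inclL_smul (X : Ext A B M) (g : P.Ring → X.E)
    (hg : ∀ r, X.proj (g r) = algebraMap P.Ring B r) (r : P.Ring) (m : MR P M) :
    inclL P X (r • m) = g r * inclL P X m := by
  rw [inclL_apply, inclL_apply, X.isExtension.mul_incl, hg, smul_MR, map_smul]

theorem inclL_injective (X : Ext A B M) : Function.Injective (inclL P X) := by
  intro a b h
  exact (toMR P M).symm.injective (X.isExtension.incl_injective h)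

/-- the restriction of a lift to the kernel, as a linear map to `M` -/
theorem exists_phi (X : Ext A B M) (g : P.Ring →ₐ[A] X.E)
    (hg : ∀ r, X.proj (g r) = algebraMap P.Ring B r) :
    ∃ φ₀ : P.ker →ₗ[P.Ring] MR P M, ∀ x : P.ker, X.incl ((toMR P M).symm (φ₀ x)) = g x := by
  have hx : ∀ x : P.ker, X.proj (g x) = 0 := fun x => (hg x).trans x.2
  have key : ∀ x : P.ker, inclL P X (toMR P M (X.kerLift (g x) (hx x))) = g x := by
    intro x
    rw [inclL_apply, LinearEquiv.symm_apply_apply, X.incl_kerLift]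
  refine ⟨{ toFun := fun x => toMR P M (X.kerLift (g x) (hx x))
            map_add' := fun x y => inclL_injective X (by
              rw [map_add, key, key, key]
              show g ((x : P.Ring) + (y : P.Ring)) = _
              rw [map_add])
            map_smul' := fun r x => inclL_injective X (by
              rw [RingHom.id_apply, inclL_smul X g hg, key, key]
              show g (r * (x : P.Ring)) = _
              rw [map_mul]) }, fun x => ?_⟩
  exact key x

/-- the algebra map `r ↦ (r, D r)` attached to a derivation -/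
noncomputable def derHom (D : Derivation A P.Ring (MR P M)) : P.Ring →ₐ[A] TT P M where
  toFun r := TrivSqZeroExt.inl r + TrivSqZeroExt.inr (D r)
  map_one' := by
    rw [Derivation.map_one_eq_zero, TrivSqZeroExt.inr_zero, add_zero, TrivSqZeroExt.inl_one]
  map_mul' r s := by
    refine TrivSqZeroExt.ext ?_ ?_
    · simp only [TrivSqZeroExt.fst_add, TrivSqZeroExt.fst_inl, TrivSqZeroExt.fst_inr, add_zero,
        TrivSqZeroExt.fst_mul]
    · simp only [TrivSqZeroExt.snd_add, TrivSqZeroExt.snd_inl, TrivSqZeroExt.snd_inr, zero_add,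
        TrivSqZeroExt.snd_mul, TrivSqZeroExt.fst_add, TrivSqZeroExt.fst_inl,
        TrivSqZeroExt.fst_inr, add_zero, op_smul_eq_smul, Derivation.leibniz]
  map_zero' := by
    rw [map_zero, TrivSqZeroExt.inr_zero, add_zero, TrivSqZeroExt.inl_zero]
  map_add' r s := by
    rw [map_add, TrivSqZeroExt.inr_add, TrivSqZeroExt.inl_add]
    abel
  commutes' a := by
    rw [Derivation.map_algebraMap, TrivSqZeroExt.inr_zero, add_zero,
      TrivSqZeroExt.algebraMap_eq_inl']

theorem derHom_apply (D : Derivation A P.Ring (MR P M)) (r : P.Ring) :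
    derHom D r = TrivSqZeroExt.inl r + TrivSqZeroExt.inr (D r) := rfl

/-- maps differing by a derivation give equivalent extensions -/
theorem equiv_of_derivation (φ₀ φ₀' : P.ker →ₗ[P.Ring] MR P M)
    (D : Derivation A P.Ring (MR P M)) (h : ∀ x : P.ker, φ₀ x - φ₀' x = D x) :
    Nonempty (Ext.Equiv (Eext P φ₀) (Eext P φ₀')) := by
  refine equiv_of_lift (Eext P φ₀') ((Ideal.Quotient.mkₐ A (KK P φ₀')).comp (derHom D)) ?_ φ₀ ?_
  · intro r
    show (Eext P φ₀').proj (Ideal.Quotient.mk (KK P φ₀') (derHom D r)) = _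
    rw [Eext_proj_mk, derHom_apply, TrivSqZeroExt.fst_add, TrivSqZeroExt.fst_inl,
      TrivSqZeroExt.fst_inr, add_zero]
  · intro x
    show inclE P φ₀' ((toMR P M).symm (φ₀ x)) = Ideal.Quotient.mk (KK P φ₀') (derHom D x)
    have e1 : Ideal.Quotient.mk (KK P φ₀') (TrivSqZeroExt.inr (φ₀ x - φ₀' x)) =
        inclE P φ₀' ((toMR P M).symm (φ₀ x - φ₀' x)) := by
      rw [inclE_apply, LinearEquiv.apply_symm_apply]
    rw [derHom_apply, map_add, mk_inl_ker, ← h x, e1, ← map_add, ← map_add]
    congr 2
    abel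

end Part5

section Part6

open Exal TensorProduct

attribute [local instance] Exal.opModule Exal.isCentralScalar_opModule

variable {A B : Type u} [CommRing A] [CommRing B] [Algebra A B]
variable {P : Algebra.Extension.{u} A B} {M : Type u} [AddCommGroup M] [Module B M]

/-- two lifts of the ring into an extension differ by a derivation -/
theorem exists_derivation_of_lifts (X : Ext A B M) (g₁ g₂ : P.Ring →ₐ[A] X.E)
    (hg₁ : ∀ r, X.proj (g₁ r) = algebraMap P.Ring B r)
    (hg₂ : ∀ r, X.proj (g₂ r) = algebraMap P.Ring B r) :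
    ∃ D : Derivation A P.Ring (MR P M), ∀ r, inclL P X (D r) = g₁ r - g₂ r := by
  have hx : ∀ r : P.Ring, X.proj (g₁ r - g₂ r) = 0 := fun r => by
    rw [map_sub, hg₁, hg₂, sub_self]
  have key : ∀ r : P.Ring,
      inclL P X (toMR P M (X.kerLift (g₁ r - g₂ r) (hx r))) = g₁ r - g₂ r := by
    intro r
    rw [inclL_apply, LinearEquiv.symm_apply_apply, X.incl_kerLift]
  obtain ⟨d, hd⟩ : ∃ d : P.Ring → MR P M, ∀ r, inclL P X (d r) = g₁ r - g₂ r :=
    ⟨fun r => toMR P M (X.kerLift (g₁ r - g₂ r) (hx r)), key⟩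
  let δ : P.Ring →ₗ[A] MR P M :=
    { toFun := d
      map_add' := fun r s => inclL_injective X (by
        rw [map_add, hd, hd, hd, map_add, map_add]
        ring)
      map_smul' := fun a r => inclL_injective X (by
        rw [RingHom.id_apply, map_smul, hd, hd, map_smul, map_smul, smul_sub]) }
  have hδ : ∀ r, inclL P X (δ r) = g₁ r - g₂ r := hd
  refine ⟨Derivation.mk' δ (fun r s => inclL_injective X ?_), hδ⟩
  rw [map_add, inclL_smul X g₁ hg₁, inclL_smul X g₂ hg₂, hδ, hδ, hδ, map_mul, map_mul]
  ring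

/-- equivalent extensions come from maps differing by a derivation -/
theorem exists_derivation_of_equiv (φ₀ φ₀' : P.ker →ₗ[P.Ring] MR P M)
    (θ : Ext.Equiv (Eext P φ₀) (Eext P φ₀')) :
    ∃ D : Derivation A P.Ring (MR P M), ∀ x : P.ker, φ₀ x - φ₀' x = D x := by
  let g₁ : P.Ring →ₐ[A] (Eext P φ₀').E :=
    (θ.toAlgEquiv : (Eext P φ₀).E →ₐ[A] (Eext P φ₀').E).comp
      ((Ideal.Quotient.mkₐ A (KK P φ₀)).comp (TrivSqZeroExt.inlAlgHom A P.Ring (MR P M)))
  let g₂ : P.Ring →ₐ[A] (Eext P φ₀').E :=
    (Ideal.Quotient.mkₐ A (KK P φ₀')).comp (TrivSqZeroExt.inlAlgHom A P.Ring (MR P M))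
  have hg₁' : ∀ r, g₁ r = θ.toAlgEquiv (Ideal.Quotient.mk (KK P φ₀) (TrivSqZeroExt.inl r)) :=
    fun _ => rfl
  have hg₂' : ∀ r, g₂ r = Ideal.Quotient.mk (KK P φ₀') (TrivSqZeroExt.inl r) := fun _ => rfl
  have hg₁ : ∀ r, (Eext P φ₀').proj (g₁ r) = algebraMap P.Ring B r := by
    intro r
    rw [hg₁', θ.proj_apply, Eext_proj_mk, TrivSqZeroExt.fst_inl]
  have hg₂ : ∀ r, (Eext P φ₀').proj (g₂ r) = algebraMap P.Ring B r := by
    intro r
    rw [hg₂', Eext_proj_mk, TrivSqZeroExt.fst_inl]
  obtain ⟨D, hD⟩ := exists_derivation_of_lifts (Eext P φ₀') g₁ g₂ hg₁ hg₂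
  refine ⟨D, fun x => inclL_injective (Eext P φ₀') ?_⟩
  rw [hD, hg₁', hg₂', mk_inl_ker, mk_inl_ker, map_sub, inclL_apply, inclL_apply]
  congr 1
  exact (θ.apply_incl _).symm

end Part6

section Part7

open Exal TensorProduct

attribute [local instance] Exal.opModule Exal.isCentralScalar_opModule

variable {A B : Type u} [CommRing A] [CommRing B] [Algebra A B]
variable (P : Algebra.Extension.{u} A B) {M : Type u} [AddCommGroup M] [Module B M]

/-- restriction of a linear map on `I/I²` to the kernel -/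
noncomputable def res (φ : P.Cotangent →ₗ[B] M) : P.ker →ₗ[P.Ring] MR P M :=
  (((toMR P M : M →ₗ[B] MR P M).comp φ).restrictScalars P.Ring).comp
    Algebra.Extension.Cotangent.mk

theorem res_apply (φ : P.Cotangent →ₗ[B] M) (x : P.ker) :
    res P φ x = toMR P M (φ (Algebra.Extension.Cotangent.mk x)) := rfl

theorem exists_cot_lift (φ₀ : P.ker →ₗ[P.Ring] MR P M) :
    ∃ φ : P.Cotangent →ₗ[B] M, res P φ = φ₀ := by
  refine ⟨((toMR P M).symm : MR P M →ₗ[B] M).comp
    ((LinearMap.liftBaseChange B φ₀).comp (P.cotangentEquiv.symm : P.Cotangent →ₗ[B] _)), ?_⟩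
  ext x
  rw [res_apply]
  have h1 : P.cotangentEquiv.symm (Algebra.Extension.Cotangent.mk x) = (1 : B) ⊗ₜ[P.Ring] x := by
    rw [LinearEquiv.symm_apply_eq, Algebra.Extension.contangentEquiv_tmul, one_smul]
  show toMR P M ((toMR P M).symm (LinearMap.liftBaseChange B φ₀
    (P.cotangentEquiv.symm (Algebra.Extension.Cotangent.mk x)))) = φ₀ x
  rw [LinearEquiv.apply_symm_apply, h1, LinearMap.liftBaseChange_tmul, one_smul]

/-- the derivation attached to a linear map on `B ⊗ Ω` -/
noncomputable def derOf (ψ : P.CotangentSpace →ₗ[B] M) : Derivation A P.Ring (MR P M) :=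
  LinearMap.compDer
    ((((toMR P M : M →ₗ[B] MR P M).comp ψ).restrictScalars P.Ring).comp
      (TensorProduct.mk P.Ring B Ω[P.Ring⁄A] 1))
    (KaehlerDifferential.D A P.Ring)

theorem derOf_apply (ψ : P.CotangentSpace →ₗ[B] M) (r : P.Ring) :
    derOf P ψ r = toMR P M (ψ ((1 : B) ⊗ₜ[P.Ring] KaehlerDifferential.D A P.Ring r)) := rfl

/-- the linear map on `B ⊗ Ω` attached to a derivation -/
noncomputable def ofDer (D : Derivation A P.Ring (MR P M)) : P.CotangentSpace →ₗ[B] M :=
  ((toMR P M).symm : MR P M →ₗ[B] M).comp (LinearMap.liftBaseChange B D.liftKaehlerDifferential)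

theorem ofDer_apply (D : Derivation A P.Ring (MR P M)) (r : P.Ring) :
    ofDer P D ((1 : B) ⊗ₜ[P.Ring] KaehlerDifferential.D A P.Ring r) = (toMR P M).symm (D r) := by
  show (toMR P M).symm (LinearMap.liftBaseChange B D.liftKaehlerDifferential
    ((1 : B) ⊗ₜ[P.Ring] KaehlerDifferential.D A P.Ring r)) = _
  rw [LinearMap.liftBaseChange_tmul, one_smul, Derivation.liftKaehlerDifferential_comp_D]

/-- two linear maps on `I/I²` give equivalent extensions exactly when they differ by a map
factoring through the conormal map -/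
theorem cl_eq_iff (φ φ' : P.Cotangent →ₗ[B] M) :
    (Eext P (res P φ)).cl = (Eext P (res P φ')).cl ↔
      φ - φ' ∈ LinearMap.range (LinearMap.lcomp B M P.cotangentComplex) := by
  constructor
  · intro h
    obtain ⟨θ⟩ : Nonempty (Ext.Equiv (Eext P (res P φ)) (Eext P (res P φ'))) := Quotient.exact h
    obtain ⟨D, hD⟩ := exists_derivation_of_equiv _ _ θ
    refine ⟨ofDer P D, ?_⟩
    ext y
    obtain ⟨x, rfl⟩ := Algebra.Extension.Cotangent.mk_surjective y
    rw [LinearMap.lcomp_apply, Algebra.Extension.cotangentComplex_mk, ofDer_apply, ← hD,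
      res_apply, res_apply, ← map_sub, LinearEquiv.symm_apply_apply, LinearMap.sub_apply]
  · rintro ⟨ψ, hψ⟩
    apply Quotient.sound
    refine equiv_of_derivation _ _ (derOf P ψ) (fun x => ?_)
    rw [derOf_apply, res_apply, res_apply, ← map_sub, ← LinearMap.sub_apply, ← hψ,
      LinearMap.lcomp_apply, Algebra.Extension.cotangentComplex_mk]

end Part7

section Part8

open Exal TensorProduct

attribute [local instance] Exal.opModule Exal.isCentralScalar_opModule

variable {A B : Type u} [CommRing A] [CommRing B] [Algebra A B]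
variable (P : Algebra.Extension.{u} A B) (M : Type u) [AddCommGroup M] [Module B M]

/-- `b ↦ (b, 0)` into the trivial extension -/
noncomputable def inlB : B →ₐ[A] (Ext.trivial A B M).E where
  toFun b := (TrivSqZeroExt.inl b : TrivSqZeroExt B M)
  map_one' := TrivSqZeroExt.inl_one M
  map_mul' a b := TrivSqZeroExt.inl_mul M a b
  map_zero' := TrivSqZeroExt.inl_zero M
  map_add' a b := TrivSqZeroExt.inl_add M a b
  commutes' _ := rfl

theorem proj_inlB (b : B) : (Ext.trivial A B M).proj (inlB M b) = b := rfl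

theorem cl_res_zero : (Eext P (res P (0 : P.Cotangent →ₗ[B] M))).cl = (0 : Exalcom A B M) := by
  apply Quotient.sound
  refine equiv_of_lift (Ext.trivial A B M) ((inlB M).comp (IsScalarTower.toAlgHom A P.Ring B))
    (fun r => rfl) _ (fun x => ?_)
  rw [res_apply, LinearMap.zero_apply, map_zero, map_zero, map_zero]
  show _ = inlB M (algebraMap P.Ring B x)
  have hx : algebraMap P.Ring B (x : P.Ring) = 0 := x.2
  rw [hx, map_zero]

/-- extensions of `B` by `M` are classified by maps `I/I² → M` modulo those factoring through the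
conormal map, when every extension admits a lift of the ring -/
theorem exalcom_equiv
    (hfree : ∀ X : Ext A B M, ∃ g : P.Ring →ₐ[A] X.E, ∀ r, X.proj (g r) = algebraMap P.Ring B r) :
    ∃ e : Exalcom A B M ≃ ((P.Cotangent →ₗ[B] M) ⧸
      LinearMap.range (LinearMap.lcomp B M P.cotangentComplex)), e 0 = 0 := by
  set N := LinearMap.range (LinearMap.lcomp B M P.cotangentComplex) with hN
  let f : (P.Cotangent →ₗ[B] M) → Exalcom A B M := fun φ => (Eext P (res P φ)).cl
  let F : ((P.Cotangent →ₗ[B] M) ⧸ N) → Exalcom A B M :=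
    Quotient.lift f (fun a b hab => (cl_eq_iff P a b).2 ((Submodule.quotientRel_def N).1 hab))
  have hF : ∀ φ, F (Submodule.Quotient.mk φ) = f φ := fun _ => rfl
  have hinj : Function.Injective F := by
    intro a b hab
    obtain ⟨a, rfl⟩ := Submodule.Quotient.mk_surjective N a
    obtain ⟨b, rfl⟩ := Submodule.Quotient.mk_surjective N b
    rw [hF, hF] at hab
    exact (Submodule.Quotient.eq N).2 ((cl_eq_iff P a b).1 hab)
  have hsurj : Function.Surjective F := by
    intro c
    obtain ⟨X, rfl⟩ := Quotient.exists_rep c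
    obtain ⟨g, hg⟩ := hfree X
    obtain ⟨φ₀, hφ₀⟩ := exists_phi X g hg
    obtain ⟨φ, rfl⟩ := exists_cot_lift P φ₀
    refine ⟨Submodule.Quotient.mk φ, ?_⟩
    rw [hF]
    exact Quotient.sound (equiv_of_lift X g hg _ hφ₀)
  refine ⟨(Equiv.ofBijective F ⟨hinj, hsurj⟩).symm, ?_⟩
  rw [Equiv.symm_apply_eq]
  show (0 : Exalcom A B M) = F (Submodule.Quotient.mk 0)
  rw [hF]
  exact (cl_res_zero P M).symm

end Part8

section Part9

open Exal TensorProduct

variable (A B : Type u) [CommRing A] [CommRing B] [Algebra A B]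
variable (M : Type u) [AddCommGroup M] [Module B M]

theorem canon_free (X : Ext A B M) :
    ∃ g : (CotT.canon A B).toExtension.Ring →ₐ[A] X.E,
      ∀ r, X.proj (g r) = algebraMap (CotT.canon A B).toExtension.Ring B r := by
  let s : B → X.E := Function.surjInv X.isExtension.proj_surjective
  have hs : ∀ b, X.proj (s b) = b := Function.surjInv_eq X.isExtension.proj_surjective
  refine ⟨(MvPolynomial.aeval s : MvPolynomial B A →ₐ[A] X.E), fun r => ?_⟩
  rw [CotT.algebraMap_toExtension]
  show X.proj (MvPolynomial.aeval s r) = MvPolynomial.aeval (fun b : B => b) r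
  rw [MvPolynomial.comp_aeval_apply]
  congr 2
  funext b
  exact hs b

theorem exalcom_T1 :
    ∃ e : Exal.Exalcom A B M ≃ CotT.T1 (CotT.canon A B) M, e 0 = 0 := by
  obtain ⟨e₁, he₁⟩ := exalcom_equiv (CotT.canon A B).toExtension M (canon_free A B M)
  obtain ⟨-, hker, hsurj⟩ := Groth.Agent.S12289.result A B B (CotT.CanonRels A B) (CotT.canon A B) M
  let e₂ := Submodule.quotEquivOfEq _ _ hker.symm
  let e₃ := LinearMap.quotKerEquivOfSurjective _ hsurj
  refine ⟨e₁.trans (e₂.trans e₃).toEquiv, ?_⟩
  show (e₂.trans e₃) (e₁ 0) = 0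
  rw [he₁, map_zero]

end Part9

end Groth.Agent.Lib.Helper76.ExalT1
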