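import Mathlib

set_option autoImplicit false

namespace Groth.Agent.Lib.Helper76.SemilocalGen

open IsLocalRing Function

/-- Local-to-global: if `V(I)` consists of finitely many maximal ideals, and `I` is generated by
`n` elements at each of them, then `I = (f_1..f_n) + I^2` for suitable `f_i ∈ I`. -/
theorem exists_gens_mod_sq {R : Type*} [CommRing R] (I : Ideal R) (hI : I.FG) (n : ℕ)
    (hfin : {M : Ideal R | M.IsMaximal ∧ I ≤ M}.Finite)
    (hloc : ∀ (M : Ideal R) [M.IsMaximal], I ≤ M →
      ∃ (M' : Ideal R) (_ : M'.IsPrime), M' = M ∧ ∃ g : Fin n → Localization.AtPrime M',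
        Ideal.span (Set.range g) = I.map (algebraMap R (Localization.AtPrime M'))) :
    ∃ f : Fin n → R, (∀ i, f i ∈ I) ∧ I ≤ Ideal.span (Set.range f) ⊔ I ^ 2 := by
  classical
  let ι := {M : Ideal R // M.IsMaximal ∧ I ≤ M}
  haveI : Finite ι := hfin.to_subtype
  haveI : Fintype ι := Fintype.ofFinite ι
  haveI hmaxι : ∀ j : ι, j.1.IsMaximal := fun j => j.2.1
  -- local generators coming from `I`
  have hgen : ∀ j : ι, ∃ a : Fin n → R, (∀ i, a i ∈ I) ∧
      I.map (algebraMap R (Localization.AtPrime j.1)) ≤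
        Ideal.span (Set.range fun i => algebraMap R (Localization.AtPrime j.1) (a i)) := by
    intro j
    haveI := j.2.1
    obtain ⟨M', hM', rfl, g, hg⟩ := hloc j.1 j.2.2
    have hgi : ∀ i, g i ∈ I.map (algebraMap R (Localization.AtPrime j.1)) := by
      intro i
      rw [← hg]
      exact Ideal.subset_span ⟨i, rfl⟩
    have := fun i => (IsLocalization.mem_map_algebraMap_iff j.1.primeCompl
      (Localization.AtPrime j.1)).mp (hgi i)
    choose at' hat using this
    refine ⟨fun i => ((at' i).1 : R), fun i => (at' i).1.2, ?_⟩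
    rw [← hg, Ideal.span_le]
    rintro _ ⟨i, rfl⟩
    have hu : IsUnit (algebraMap R (Localization.AtPrime j.1) ((at' i).2 : R)) :=
      IsLocalization.map_units _ (at' i).2
    obtain ⟨u, hu'⟩ := hu
    have : g i = algebraMap R (Localization.AtPrime j.1) ((at' i).1 : R) * ↑u⁻¹ := by
      rw [← hat i, ← hu', mul_assoc, Units.mul_inv, mul_one]
    rw [SetLike.mem_coe, this]
    exact Ideal.mul_mem_right _ _ (Ideal.subset_span ⟨i, rfl⟩)
  choose a haI ha using hgen
  -- CRT elements
  have hcop : Pairwise (IsCoprime on fun j : ι => j.1) := by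
    intro j l hjl
    haveI := j.2.1
    haveI := l.2.1
    exact Ideal.isCoprime_of_isMaximal (fun h => hjl (Subtype.ext h))
  have hu : ∀ j : ι, ∃ u : R, ∀ l : ι, u - (if l = j then 1 else 0) ∈ l.1 := fun j =>
    Ideal.exists_forall_sub_mem_ideal hcop (fun l => if l = j then 1 else 0)
  choose u hu using hu
  let f : Fin n → R := fun i => ∑ j, u j * a j i
  have hfI : ∀ i, f i ∈ I := fun i =>
    Ideal.sum_mem _ fun j _ => Ideal.mul_mem_left _ _ (haI j i)
  refine ⟨f, hfI, ?_⟩
  apply Ideal.le_of_localization_maximal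
  intro M hM
  by_cases hIM : I ≤ M
  · -- `M` is one of the `j`
    let j₀ : ι := ⟨M, hM, hIM⟩
    have hkey : ∀ i, a j₀ i ∈ Ideal.span (Set.range f) ⊔ M * I := by
      intro i
      have h1 : a j₀ i = f i + ∑ j, ((if j = j₀ then 1 else 0) - u j) * a j i := by
        simp only [f, sub_mul, Finset.sum_sub_distrib, ite_mul, one_mul, zero_mul]
        rw [Finset.sum_ite_eq' Finset.univ j₀ (fun x => a x i)]
        simp
      rw [h1]
      refine Ideal.add_mem _ (Ideal.mem_sup_left (Ideal.subset_span ⟨i, rfl⟩))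
        (Ideal.mem_sup_right (Ideal.sum_mem _ fun j _ => Ideal.mul_mem_mul ?_ (haI j i)))
      have := hu j j₀
      have h2 : (if j = j₀ then (1 : R) else 0) - u j = -(u j - (if j₀ = j then 1 else 0)) := by
        by_cases h : j = j₀
        · subst h; simp
        · have h' : ¬ j₀ = j := fun e => h e.symm
          simp [h, h']
      rw [h2]
      exact M.neg_mem this
    set φ := algebraMap R (Localization.AtPrime M) with hφ
    have h3 : I.map φ ≤ (Ideal.span (Set.range f)).map φ ⊔ maximalIdeal (Localization.AtPrime M) • I.map φ := by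
      refine (ha j₀).trans ?_
      rw [Ideal.span_le]
      rintro _ ⟨i, rfl⟩
      have := Ideal.mem_map_of_mem φ (hkey i)
      rw [Ideal.map_sup, Ideal.map_mul, Localization.AtPrime.map_eq_maximalIdeal] at this
      exact this
    have h4 : I.map φ ≤ (Ideal.span (Set.range f)).map φ :=
      Submodule.le_of_le_smul_of_le_jacobson_bot (hI.map φ) (maximalIdeal_le_jacobson _) h3
    exact h4.trans (Ideal.map_mono le_sup_left)
  · obtain ⟨x, hxI, hxM⟩ := SetLike.not_le_iff_exists.mp hIM
    have hx2 : x ^ 2 ∈ Ideal.span (Set.range f) ⊔ I ^ 2 :=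
      Ideal.mem_sup_right (Ideal.pow_mem_pow hxI 2)
    have : (Ideal.span (Set.range f) ⊔ I ^ 2).map (algebraMap R (Localization.AtPrime M)) = ⊤ := by
      apply Ideal.eq_top_of_isUnit_mem _ (Ideal.mem_map_of_mem _ hx2)
      exact IsLocalization.map_units (Localization.AtPrime M)
        (⟨x ^ 2, fun h => hxM (hM.isPrime.mem_of_pow_mem 2 h)⟩ : M.primeCompl)
    rw [this]
    exact le_top

end Groth.Agent.Lib.Helper76.SemilocalGen
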