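import Mathlib
import Groth.Prelude.Def_RegImm
import Groth.Agent.Lib.Helper76.SemilocalGen
import Groth.Agent.Lib.Helper94.SyntR
import Groth.Agent.Lib.Helper94.SyntH
import Groth.Agent.Lib.Helper94.SyntS
import Groth.Agent.Lib.Helper73.DimFT.Basic

/-!
# Finite syntomic algebras over a local ring have square presentations (helper76)

* `exists_gens_of_isLCIOver`: a finite LCI algebra over a field presented with `n` variables has
  kernel generated by `n` elements modulo its square.
* `mem_map_mul_ker_of_section`: `ker ∩ 𝔞P = 𝔞 ker` for an `A`-linearly split surjection `P → B`.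
* `exists_square_presentation`: `A` local, `B` finite syntomic => `B ≅ A[x_1..x_n]/(f_1..f_n)`.
* `isSyntomic_of_square_presentation`: the converse (any base ring).
-/

set_option autoImplicit false
universe u

namespace Groth.Agent.Lib.Helper76.FinSynt


open IsLocalRing Function Groth.Agent.Lib.Helper94.CILoc Groth.Agent.Lib.Helper76.SemilocalGen

/-- fibre analysis: a finite LCI algebra over a field presented with `n` variables has kernel
generated by `n` elements modulo its square. -/
theorem exists_gens_of_isLCIOver {k : Type u} [Field k] {n : ℕ} {S : Type u} [CommRing S] [Algebra k S]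
    [Module.Finite k S] (φ : MvPolynomial (Fin n) k →ₐ[k] S) (hφ : Function.Surjective φ)
    (hS : Synt.IsLCIOver k S) :
    ∃ f : Fin n → MvPolynomial (Fin n) k, (∀ i, f i ∈ RingHom.ker φ.toRingHom) ∧
      RingHom.ker φ.toRingHom ≤ Ideal.span (Set.range f) ⊔ (RingHom.ker φ.toRingHom) ^ 2 := by
  classical
  haveI : IsArtinianRing S := IsArtinianRing.of_finite k S
  have hφ' : Function.Surjective φ.toRingHom := hφ
  apply exists_gens_mod_sq _ (IsNoetherian.noetherian _) n
  · -- finiteness
    have hfin := IsArtinianRing.setOfPred_isMaximal_finite S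
    refine (hfin.image (Ideal.comap φ.toRingHom)).subset ?_
    rintro M ⟨hM, hIM⟩
    refine ⟨M.map φ.toRingHom, ?_, ?_⟩
    · exact (Ideal.map_eq_top_or_isMaximal_of_surjective _ hφ' hM).resolve_left (by
        intro htop
        have := Ideal.comap_map_of_surjective φ.toRingHom hφ' M
        rw [htop, Ideal.comap_top] at this
        have h2 : M ⊔ Ideal.comap φ.toRingHom ⊥ = M := sup_eq_left.mpr hIM
        rw [h2] at this
        exact hM.ne_top this.symm)
    · rw [Ideal.comap_map_of_surjective φ.toRingHom hφ' M]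
      exact sup_eq_left.mpr hIM
  · intro M hM hIM
    have hcm : (M.map φ.toRingHom).comap φ.toRingHom = M := by
      rw [Ideal.comap_map_of_surjective φ.toRingHom hφ' M]
      exact sup_eq_left.mpr hIM
    have hqmax : (M.map φ.toRingHom).IsMaximal :=
      (Ideal.map_eq_top_or_isMaximal_of_surjective _ hφ' hM).resolve_left (by
        intro htop
        rw [htop, Ideal.comap_top] at hcm
        exact hM.ne_top hcm.symm)
    set q := M.map φ.toRingHom with hq
    haveI : q.IsPrime := hqmax.isPrime
    obtain ⟨g, hg, hGCI⟩ := hS.2 ⟨q, inferInstance⟩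
    have hreg := isRegularIdeal_of_isGlobalCI_away φ hφ q g hg hGCI
    haveI hqcmax : (q.comap φ.toRingHom).IsMaximal := by rw [hcm]; exact hM
    have hc : ((n : ℕ) : ℕ∞) + q.height = (q.comap φ.toRingHom).height := by
      rw [Groth.Agent.Lib.Helper73.height_eq_of_isMaximal_mvPolynomial k n _]
      have : q.height = 0 := by
        rw [Ideal.height_eq_zero_iff]
        exact Ideal.mem_minimalPrimes_iff_isPrime.mpr inferInstance
      rw [this, add_zero]
    obtain ⟨s, hs, hspan⟩ := (isRegularIdeal_iff_exists_finset φ hφ q n hc).mp hreg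
    refine ⟨q.comap φ.toRingHom, inferInstance, hcm, fun i => ((s.equivFinOfCardEq hs).symm i : _), ?_⟩
    rw [← hspan]
    congr 1
    ext x
    simp only [Set.mem_range, Finset.mem_coe]
    constructor
    · rintro ⟨i, rfl⟩
      exact ((s.equivFinOfCardEq hs).symm i).2
    · intro hx
      exact ⟨s.equivFinOfCardEq hs ⟨x, hx⟩, by rw [Equiv.symm_apply_apply]⟩



open IsLocalRing Function Groth.Agent.Lib.Helper94.SyntB Groth.Agent.Lib.Helper94.SyntR

/-- If `P → B` is a surjection of `A`-algebras which splits `A`-linearly (e.g. `B` projective),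
then `ker ∩ 𝔞P = 𝔞 ker`. -/
theorem mem_map_mul_ker_of_section {A P B : Type*} [CommRing A] [CommRing P] [CommRing B]
    [Algebra A P] [Algebra A B] (φ : P →ₐ[A] B) (σ : B →ₗ[A] P) (hσ : ∀ b, φ (σ b) = b)
    (𝔞 : Ideal A) (x : P) (hx : x ∈ RingHom.ker φ.toRingHom)
    (hx' : x ∈ 𝔞.map (algebraMap A P)) :
    x ∈ 𝔞.map (algebraMap A P) * RingHom.ker φ.toRingHom := by
  have key : ∀ y ∈ (𝔞 • (⊤ : Submodule A P)),
      y - σ (φ y) ∈ 𝔞.map (algebraMap A P) * RingHom.ker φ.toRingHom := by
    intro y hy
    refine Submodule.smul_induction_on hy ?_ ?_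
    · intro a ha p _
      have h1 : a • p - σ (φ (a • p)) = algebraMap A P a * (p - σ (φ p)) := by
        rw [map_smul, map_smul, Algebra.smul_def, Algebra.smul_def, mul_sub]
      rw [h1]
      refine Ideal.mul_mem_mul (Ideal.mem_map_of_mem _ ha) ?_
      rw [RingHom.mem_ker]
      show φ (p - σ (φ p)) = 0
      rw [map_sub, hσ, sub_self]
    · intro y z hy hz
      have : y + z - σ (φ (y + z)) = (y - σ (φ y)) + (z - σ (φ z)) := by
        rw [map_add, map_add]; ring
      rw [this]
      exact Ideal.add_mem _ hy hz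
  have hx2 : x ∈ (𝔞 • (⊤ : Submodule A P)) := by
    rw [Ideal.smul_top_eq_map]
    exact hx'
  have := key x hx2
  have h0 : φ x = 0 := hx
  rwa [h0, map_zero, sub_zero] at this

/-- forward direction of S8954 -/
theorem exists_square_presentation (A B : Type u) [CommRing A] [IsLocalRing A] [CommRing B]
    [Algebra A B] [Module.Finite A B] (h : Synt.IsSyntomic A B) :
    ∃ (n : ℕ) (F : Fin n → MvPolynomial (Fin n) A), Nonempty (B ≃ₐ[A] Synt.RelGCIRing A n n F) := by
  classical
  obtain ⟨hflat, hfp, hlci⟩ := h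
  obtain ⟨n, φ, hφ, hker⟩ := Algebra.FinitePresentation.out (R := A) (A := B)
  set m := maximalIdeal A with hm
  haveI : m.IsMaximal := maximalIdeal.isMaximal A
  set I := RingHom.ker φ.toRingHom with hIdef
  have hφm := fibreHom_surjective φ m hφ
  obtain ⟨fb, hfbI, hfb⟩ := exists_gens_of_isLCIOver (fibreHom φ m) hφm (hlci ⟨m, inferInstance⟩)
  rw [ker_fibreHom φ m hφ] at hfbI hfb
  have hpsi : Function.Surjective (psi (n := n) m) :=
    MvPolynomial.map_surjective _ (Ideal.algebraMap_residueField_surjective m)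
  have := fun i => (Ideal.mem_map_iff_of_surjective (psi (n := n) m) hpsi).mp (hfbI i)
  choose f hfI hff using this
  -- the section
  haveI : Module.FinitePresentation A B := Module.FinitePresentation.of_finite_of_finitePresentation A B
  haveI : Module.Projective A B := Module.Flat.projective_of_finitePresentation
  obtain ⟨σ, hσ⟩ := Module.projective_lifting_property φ.toLinearMap LinearMap.id hφ
  have hσ' : ∀ b, φ (σ b) = b := fun b => LinearMap.congr_fun hσ b
  set mC : Ideal (MvPolynomial (Fin n) A) := m.map (algebraMap A (MvPolynomial (Fin n) A)) with hmC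
  have hkerpsi : RingHom.ker (psi (n := n) m) = mC := by
    rw [ker_psi, hmC, MvPolynomial.algebraMap_eq]
  have hJ0I : Ideal.span (Set.range f) ⊔ I ^ 2 ≤ I := by
    refine sup_le ?_ (Ideal.pow_le_self two_ne_zero)
    rw [Ideal.span_le]
    rintro _ ⟨i, rfl⟩
    exact hfI i
  -- I ≤ span f ⊔ (I ⊔ mC) • I
  have hmain : I ≤ Ideal.span (Set.range f) ⊔ (I ⊔ mC) • I := by
    intro a ha
    have h1 : psi m a ∈ (Ideal.span (Set.range f) ⊔ I ^ 2).map (psi (n := n) m) := by
      rw [Ideal.map_sup, Ideal.map_span, Ideal.map_pow]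
      have : (psi (n := n) m) '' Set.range f = Set.range fb := by
        ext y
        constructor
        · rintro ⟨_, ⟨i, rfl⟩, rfl⟩
          exact ⟨i, (hff i).symm⟩
        · rintro ⟨i, rfl⟩
          exact ⟨f i, ⟨i, rfl⟩, hff i⟩
      rw [this]
      exact hfb (Ideal.mem_map_of_mem _ ha)
    obtain ⟨j, hj, hja⟩ := (Ideal.mem_map_iff_of_surjective (psi (n := n) m) hpsi).mp h1
    have h2 : a - j ∈ mC := by
      rw [← hkerpsi, RingHom.mem_ker, map_sub, hja, sub_self]
    have h3 : a - j ∈ I := I.sub_mem ha (hJ0I hj)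
    have h4 := mem_map_mul_ker_of_section φ σ hσ' m (a - j) h3 h2
    have h5 : a = j + (a - j) := by ring
    rw [h5]
    refine Ideal.add_mem _ ?_ ?_
    · obtain ⟨j1, hj1, j2, hj2, rfl⟩ := Submodule.mem_sup.mp hj
      refine Ideal.add_mem _ (Ideal.mem_sup_left hj1) (Ideal.mem_sup_right ?_)
      rw [smul_eq_mul]
      rw [pow_two] at hj2
      exact Ideal.mul_mono_left le_sup_left hj2
    · apply Ideal.mem_sup_right
      rw [smul_eq_mul]
      exact Ideal.mul_mono_left le_sup_right h4
  obtain ⟨r, hr1, hr2⟩ := Submodule.exists_sub_one_mem_and_smul_le_of_fg_of_le_sup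
    (I := I ⊔ mC) (N := Ideal.span (Set.range f)) (N' := I) (P := I) hker le_rfl hmain
  -- φ r is a unit
  have hunit : IsUnit (φ r) := by
    by_contra hnu
    obtain ⟨M, hM, hrM⟩ := exists_max_ideal_of_mem_nonunits (mem_nonunits_iff.mpr hnu)
    haveI := hM
    haveI : (M.comap (algebraMap A B)).IsMaximal :=
      Ideal.isMaximal_comap_of_isIntegral_of_isMaximal (R := A) M
    have hcm : M.comap (algebraMap A B) = m := IsLocalRing.eq_maximalIdeal inferInstance
    have hmM : m.map (algebraMap A B) ≤ M := by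
      rw [Ideal.map_le_iff_le_comap, hcm]
    have h1 : φ (r - 1) ∈ (I ⊔ mC).map φ.toRingHom := Ideal.mem_map_of_mem φ.toRingHom hr1
    rw [Ideal.map_sup, hmC, Ideal.map_map] at h1
    have h2 : I.map φ.toRingHom = ⊥ := by
      rw [Ideal.map_eq_bot_iff_le_ker]
    rw [h2, bot_sup_eq] at h1
    have h3 : φ.toRingHom.comp (algebraMap A (MvPolynomial (Fin n) A)) = algebraMap A B :=
      φ.comp_algebraMap
    rw [h3] at h1
    have h4 : φ r - 1 ∈ M := by
      have := hmM h1
      rwa [map_sub, map_one] at this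
    have h5 : (1 : B) ∈ M := by
      have := M.sub_mem hrM h4
      rwa [sub_sub_cancel] at this
    exact hM.ne_top ((Ideal.eq_top_iff_one M).mpr h5)
  -- conclude
  have hJ : Ideal.span (Set.range f) ≤ RingHom.ker φ.toRingHom := by
    rw [Ideal.span_le]
    rintro _ ⟨i, rfl⟩
    exact hfI i
  have hJ' : ∀ a ∈ RingHom.ker φ.toRingHom, ∃ N : ℕ, r ^ N * a ∈ Ideal.span (Set.range f) := by
    intro a ha
    refine ⟨1, ?_⟩
    rw [pow_one]
    have := hr2 (Submodule.smul_mem_pointwise_smul a r I ha)
    rwa [smul_eq_mul] at this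
  obtain ⟨e⟩ := nonempty_algEquiv_away' φ f r hφ hJ hJ'
  let e0 : B ≃ₐ[B] Localization.Away (φ r) := IsLocalization.atUnit B (Localization.Away (φ r)) (φ r) hunit
  exact ⟨n + 1, _, ⟨(e0.restrictScalars A).trans e⟩⟩



theorem isSyntomic_of_square_presentation (A B : Type u) [CommRing A] [CommRing B]
    [Algebra A B] [Module.Finite A B] (n : ℕ) (F : Fin n → MvPolynomial (Fin n) A)
    (e : B ≃ₐ[A] Synt.RelGCIRing A n n F) : Synt.IsSyntomic A B := by
  haveI : Module.Finite A (Synt.RelGCIRing A n n F) := Module.Finite.equiv e.toLinearEquiv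
  have hrel : Synt.IsRelGCI A n n F := by
    intro p hnt
    refine ⟨le_rfl, ?_⟩
    have hart : IsArtinianRing (p.asIdeal.Fiber (Synt.RelGCIRing A n n F)) :=
      IsArtinianRing.of_finite p.asIdeal.ResidueField (p.asIdeal.Fiber (Synt.RelGCIRing A n n F))
    rw [Nat.sub_self]
    have h1 : Ring.KrullDimLE 0 (p.asIdeal.Fiber (Synt.RelGCIRing A n n F)) :=
      ((isArtinianRing_iff_isNoetherianRing_krullDimLE_zero
        (R := p.asIdeal.Fiber (Synt.RelGCIRing A n n F))).mp hart).2
    have h2 := (ringKrullDimZero_iff_ringKrullDim_eq_zero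
      (R := p.asIdeal.Fiber (Synt.RelGCIRing A n n F))).mp h1
    exact h2
  exact Groth.Agent.Lib.Helper94.SyntS.isSyntomic_of_algEquiv e.symm
    (Groth.Agent.Lib.Helper94.SyntH.isSyntomic_of_isRelGCI A n n F hrel)

end Groth.Agent.Lib.Helper76.FinSynt
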