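import Mathlib
import Groth.Prelude.Def_RegImm
import Groth.Agent.Lib.Helper94.CIPres
import Groth.Agent.Lib.Helper73.DimFT.Basic

/-!
# Field extensions are directed unions of global complete intersections (helper76)

* `Pres k S σ τ`: flexible presentation data `S = k[σ]/(r_t)`, with `Pres.polynomial` (presentation of
  `S[X]` with one more variable), `Pres.quotient` (presentation of `S/(g)` with one more relation),
  `isGlobalCI_of_pres` / `exists_pres_of_isGlobalCI` (bridge to `Synt.IsGlobalCI`).
* `step_transcendental`, `step_adjoin`, `step_algebraic`: enlarging a global complete intersection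
  domain inside a field by one element.
* `exists_subalgebra_isGlobalCI`: every finite subset of `K ⊇ k` lies in a subalgebra which is a
  global complete intersection over `k`.
-/

set_option autoImplicit false
universe u

namespace Groth.Agent.Lib.Helper76.GCIField

section Presentations


open MvPolynomial

variable {k : Type u} [Field k]

theorem mem_span_range_equiv_iff {A B : Type*} [CommRing A] [CommRing B] (E : A ≃+* B)
    {τ : Type*} (r : τ → A) (x : B) :
    x ∈ Ideal.span (Set.range fun t => E (r t)) ↔ E.symm x ∈ Ideal.span (Set.range r) := by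
  have h : Ideal.span (Set.range fun t => E (r t)) =
      (Ideal.span (Set.range r)).map (E : A →+* B) := by
    rw [Ideal.map_span, ← Set.range_comp]
    rfl
  rw [h, Ideal.map_comap_of_equiv, Ideal.mem_comap]

/-- flexible presentation data: `S = k[σ]/(r_t : t ∈ τ)`. -/
structure Pres (k : Type u) [Field k] (S : Type u) [CommRing S] [Algebra k S] (σ τ : Type) where
  φ : MvPolynomial σ k →ₐ[k] S
  r : τ → MvPolynomial σ k
  surj : Function.Surjective φ
  ker : RingHom.ker φ.toRingHom = Ideal.span (Set.range r)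

/-- reindexing: a flexible presentation with the right dimension gives `IsGlobalCI`. -/
theorem isGlobalCI_of_pres {S : Type u} [CommRing S] [Algebra k S] {σ τ : Type} [Fintype σ]
    [Fintype τ] (P : Pres k S σ τ) (hc : Fintype.card τ ≤ Fintype.card σ)
    (hdim : ringKrullDim S = ((Fintype.card σ - Fintype.card τ : ℕ) : WithBot ℕ∞)) :
    Synt.IsGlobalCI k S := by
  right
  let eσ := Fintype.equivFin σ
  let eτ := Fintype.equivFin τ
  refine ⟨Fintype.card σ, Fintype.card τ, hc, P.φ.comp (rename eσ.symm),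
    fun i => rename eσ (P.r (eτ.symm i)), ?_, ?_, hdim⟩
  · intro s
    obtain ⟨x, rfl⟩ := P.surj s
    refine ⟨rename eσ x, ?_⟩
    simp [rename_rename]
  · ext x
    have h1 : x ∈ RingHom.ker (P.φ.comp (rename eσ.symm)).toRingHom ↔
        rename eσ.symm x ∈ RingHom.ker P.φ.toRingHom := by
      simp [RingHom.mem_ker]
    rw [h1, P.ker]
    let E : MvPolynomial σ k ≃ₐ[k] MvPolynomial (Fin (Fintype.card σ)) k := renameEquiv k eσ
    have h2 : Set.range (fun i => rename eσ (P.r (eτ.symm i))) =
        Set.range (fun t => E.toRingEquiv (P.r t)) := by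
      ext y
      constructor
      · rintro ⟨i, rfl⟩
        exact ⟨eτ.symm i, rfl⟩
      · rintro ⟨t, rfl⟩
        exact ⟨eτ t, by simp [E]⟩
    rw [h2, mem_span_range_equiv_iff]
    have h3 : rename eσ.symm x = E.toRingEquiv.symm x := by simp [E]
    rw [h3]

/-- from `IsGlobalCI` (nontrivial case) to a flexible presentation. -/
theorem exists_pres_of_isGlobalCI {S : Type u} [CommRing S] [Algebra k S] [Nontrivial S]
    (h : Synt.IsGlobalCI k S) :
    ∃ (n c : ℕ) (_ : Pres k S (Fin n) (Fin c)), c ≤ n ∧
      ringKrullDim S = ((n - c : ℕ) : WithBot ℕ∞) := by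
  rcases h with h | ⟨n, c, hc, φ, r, hφ, hker, hdim⟩
  · exact absurd h (not_subsingleton S)
  · exact ⟨n, c, ⟨φ, r, hφ, hker⟩, hc, hdim⟩

/-- presentation of the polynomial ring. -/
noncomputable def Pres.polynomial {S : Type u} [CommRing S] [Algebra k S] {σ τ : Type}
    (P : Pres k S σ τ) : Pres k (Polynomial S) (Option σ) τ where
  φ := (Polynomial.mapAlgHom P.φ).comp (optionEquivLeft k σ).toAlgHom
  r := fun t => (optionEquivLeft k σ).symm (Polynomial.C (P.r t))
  surj := by
    intro s
    obtain ⟨x, rfl⟩ := Polynomial.map_surjective P.φ.toRingHom P.surj s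
    refine ⟨(optionEquivLeft k σ).symm x, ?_⟩
    simp
  ker := by
    ext x
    have h1 : x ∈ RingHom.ker ((Polynomial.mapAlgHom P.φ).comp
        (optionEquivLeft k σ).toAlgHom).toRingHom ↔
        optionEquivLeft k σ x ∈ RingHom.ker (Polynomial.mapRingHom P.φ.toRingHom) := by
      simp [RingHom.mem_ker]
    rw [h1, Polynomial.ker_mapRingHom, P.ker, Ideal.map_span, ← Set.range_comp]
    let E := (optionEquivLeft k σ).symm.toRingEquiv
    have h2 : (fun t => (optionEquivLeft k σ).symm (Polynomial.C (P.r t))) =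
        fun t => E (((Polynomial.C : MvPolynomial σ k →+* _) ∘ P.r) t) := rfl
    rw [h2, mem_span_range_equiv_iff]
    rfl

/-- presentation of a quotient by one more element. -/
noncomputable def Pres.quotient {S : Type u} [CommRing S] [Algebra k S] {σ τ : Type}
    (P : Pres k S σ τ) (g : S) (gt : MvPolynomial σ k) (hg : P.φ gt = g) :
    Pres k (S ⧸ Ideal.span {g}) σ (Option τ) where
  φ := (Ideal.Quotient.mkₐ k (Ideal.span {g})).comp P.φ
  r := fun t => t.elim gt P.r
  surj := (Ideal.Quotient.mkₐ_surjective k _).comp P.surj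
  ker := by
    ext x
    have h1 : x ∈ RingHom.ker ((Ideal.Quotient.mkₐ k (Ideal.span {g})).comp P.φ).toRingHom ↔
        P.φ x ∈ Ideal.span {g} := by
      simp [RingHom.mem_ker, Ideal.Quotient.eq_zero_iff_mem]
    rw [h1]
    have h2 : Set.range (fun t : Option τ => t.elim gt P.r) = insert gt (Set.range P.r) := by
      ext y
      constructor
      · rintro ⟨t, rfl⟩
        cases t with
        | none => exact Set.mem_insert _ _
        | some t => exact Set.mem_insert_of_mem _ ⟨t, rfl⟩
      · intro hy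
        rcases hy with rfl | ⟨t, rfl⟩
        · exact ⟨none, rfl⟩
        · exact ⟨some t, rfl⟩
    rw [h2, Ideal.span_insert, ← P.ker]
    constructor
    · intro h
      rw [Ideal.mem_span_singleton'] at h
      obtain ⟨a, ha⟩ := h
      obtain ⟨at', rfl⟩ := P.surj a
      have : x - at' * gt ∈ RingHom.ker P.φ.toRingHom := by
        rw [RingHom.mem_ker]
        show P.φ (x - at' * gt) = 0
        rw [map_sub, map_mul, hg, ha, sub_self]
      have hx : x = at' * gt + (x - at' * gt) := by ring
      rw [hx]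
      exact Ideal.add_mem _ (Ideal.mem_sup_left (Ideal.mul_mem_left _ _
        (Ideal.mem_span_singleton_self gt))) (Ideal.mem_sup_right this)
    · intro h
      obtain ⟨y, hy, z, hz, rfl⟩ := Submodule.mem_sup.mp h
      rw [Ideal.mem_span_singleton'] at hy
      obtain ⟨b, rfl⟩ := hy
      have hz0 : P.φ z = 0 := hz
      rw [map_add, map_mul, hg, hz0, add_zero]
      exact Ideal.mul_mem_left _ _ (Ideal.mem_span_singleton_self g)


end Presentations

section Steps


open Polynomial

variable {k : Type u} [Field k] {K : Type u} [Field K] [Algebra k K]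

/-- transcendental step -/
theorem step_transcendental (R : Type u) [CommRing R] [Algebra k R] (hR : Synt.IsGlobalCI k R)
    (ι : R →ₐ[k] K) (hι : Function.Injective ι) (y : K)
    (htr : ∀ p : R[X], p.eval₂ (ι : R →+* K) y = 0 → p = 0) :
    ∃ (R' : Type u) (_ : CommRing R') (_ : Algebra k R'), Synt.IsGlobalCI k R' ∧
      ∃ ι' : R' →ₐ[k] K, Function.Injective ι' ∧ ι.range ≤ ι'.range ∧ y ∈ ι'.range := by
  haveI : Nontrivial R := (ι : R →+* K).domain_nontrivial
  obtain ⟨n, c, P, hc, hdim⟩ := exists_pres_of_isGlobalCI hR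
  haveI : IsNoetherianRing R := isNoetherianRing_of_surjective _ _ P.φ.toRingHom P.surj
  refine ⟨R[X], inferInstance, inferInstance, ?_, aevalTower ι y, ?_, ?_, ?_⟩
  · apply isGlobalCI_of_pres P.polynomial
    · rw [Fintype.card_option, Fintype.card_fin, Fintype.card_fin]; omega
    · rw [Polynomial.ringKrullDim_of_isNoetherianRing, hdim, Fintype.card_option, Fintype.card_fin,
        Fintype.card_fin, show n + 1 - c = (n - c) + 1 by omega]
      push_cast
      rfl
  · rw [injective_iff_map_eq_zero]
    intro p hp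
    exact htr p hp
  · rintro _ ⟨x, rfl⟩
    exact ⟨C x, by simp⟩
  · exact ⟨X, by simp⟩

/-- adjoining a root of a monic polynomial generating the kernel -/
theorem step_adjoin (B : Type u) [CommRing B] [Algebra k B] (hB : Synt.IsGlobalCI k B)
    (ιB : B →ₐ[k] K) (hιB : Function.Injective ιB) (y : K) (p' : B[X]) (hmonic : p'.Monic)
    (hp'y : p'.eval₂ (ιB : B →+* K) y = 0)
    (hkerdvd : ∀ g : B[X], g.eval₂ (ιB : B →+* K) y = 0 → p' ∣ g) :
    ∃ (R' : Type u) (_ : CommRing R') (_ : Algebra k R'), Synt.IsGlobalCI k R' ∧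
      ∃ ι' : R' →ₐ[k] K, Function.Injective ι' ∧ ιB.range ≤ ι'.range ∧ y ∈ ι'.range := by
  classical
  haveI : Nontrivial B := (ιB : B →+* K).domain_nontrivial
  let ι0 : B[X] →ₐ[k] K := aevalTower ιB y
  have hι0 : ∀ g ∈ Ideal.span {p'}, ι0 g = 0 := by
    intro g hg
    obtain ⟨h, rfl⟩ := Ideal.mem_span_singleton'.mp hg
    show (h * p').eval₂ (ιB : B →+* K) y = 0
    rw [eval₂_mul, hp'y, mul_zero]
  let ι' : (B[X] ⧸ Ideal.span {p'}) →ₐ[k] K := Ideal.Quotient.liftₐ (Ideal.span {p'}) ι0 hι0
  have hι'mk : ∀ g : B[X], ι' (Ideal.Quotient.mk _ g) = g.eval₂ (ιB : B →+* K) y := fun g => rfl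
  have hι'inj : Function.Injective ι' := by
    rw [injective_iff_map_eq_zero]
    intro x hx
    obtain ⟨g, rfl⟩ := Ideal.Quotient.mk_surjective x
    rw [hι'mk] at hx
    rw [Ideal.Quotient.eq_zero_iff_mem, Ideal.mem_span_singleton]
    exact hkerdvd g hx
  refine ⟨B[X] ⧸ Ideal.span {p'}, inferInstance, inferInstance, ?_, ι', hι'inj, ?_, ?_⟩
  · -- global CI
    obtain ⟨n, c, P, hc, hdim⟩ := exists_pres_of_isGlobalCI hB
    obtain ⟨gt, hgt⟩ := P.polynomial.surj p'
    apply isGlobalCI_of_pres (P.polynomial.quotient p' gt hgt)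
    · rw [Fintype.card_option, Fintype.card_option, Fintype.card_fin, Fintype.card_fin]; omega
    · haveI : Module.Finite B (B[X] ⧸ Ideal.span {p'}) := hmonic.finite_quotient
      haveI : Algebra.IsIntegral B (B[X] ⧸ Ideal.span {p'}) :=
        Algebra.IsIntegral.of_finite B (B[X] ⧸ Ideal.span {p'})
      have hinj : Function.Injective (algebraMap B (B[X] ⧸ Ideal.span {p'})) := by
        have h1 : ∀ b : B, ι' (algebraMap B (B[X] ⧸ Ideal.span {p'}) b) = ιB b := by
          intro b
          show ι' (Ideal.Quotient.mk _ (C b)) = _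
          rw [hι'mk, eval₂_C]; rfl
        intro b1 b2 h
        apply hιB
        rw [← h1, ← h1, h]
      rw [Groth.Agent.Lib.Helper73.ringKrullDim_eq_of_isIntegral_of_injective hinj, hdim,
        Fintype.card_option, Fintype.card_option, Fintype.card_fin, Fintype.card_fin,
        Nat.add_sub_add_right]
  · rintro _ ⟨x, rfl⟩
    refine ⟨Ideal.Quotient.mk _ (C x), ?_⟩
    show ι' (Ideal.Quotient.mk _ (C x)) = ιB x
    rw [hι'mk, eval₂_C]
    rfl
  · refine ⟨Ideal.Quotient.mk _ X, ?_⟩
    show ι' (Ideal.Quotient.mk _ X) = y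
    rw [hι'mk, eval₂_X]

/-- algebraic step -/
theorem step_algebraic (R : Type u) [CommRing R] [Algebra k R] (hR : Synt.IsGlobalCI k R)
    (ι : R →ₐ[k] K) (hι : Function.Injective ι) (y : K)
    (halg : ∃ p : R[X], p ≠ 0 ∧ p.eval₂ (ι : R →+* K) y = 0) :
    ∃ (R' : Type u) (_ : CommRing R') (_ : Algebra k R'), Synt.IsGlobalCI k R' ∧
      ∃ ι' : R' →ₐ[k] K, Function.Injective ι' ∧ ι.range ≤ ι'.range ∧ y ∈ ι'.range := by
  classical
  haveI : IsDomain R := hι.isDomain (ι : R →+* K)
  -- minimal degree polynomial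
  have hex : ∃ d, ∃ p : R[X], p ≠ 0 ∧ p.eval₂ (ι : R →+* K) y = 0 ∧ p.natDegree = d := by
    obtain ⟨p, hp0, hpy⟩ := halg
    exact ⟨_, p, hp0, hpy, rfl⟩
  obtain ⟨p, hp0, hpy, hpd⟩ := Nat.find_spec hex
  have hmin : ∀ q : R[X], q ≠ 0 → q.eval₂ (ι : R →+* K) y = 0 → p.natDegree ≤ q.natDegree := by
    intro q hq0 hqy
    rw [hpd]
    exact Nat.find_min' hex ⟨q, hq0, hqy, rfl⟩
  set a := p.leadingCoeff with ha
  have ha0 : a ≠ 0 := leadingCoeff_ne_zero.mpr hp0
  have hM : Submonoid.powers a ≤ nonZeroDivisors R := powers_le_nonZeroDivisors_of_noZeroDivisors ha0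
  let B := Localization.Away a
  haveI : IsDomain B := IsLocalization.isDomain_localization hM
  have hBinj : Function.Injective (algebraMap R B) := IsLocalization.injective B hM
  have hB : Synt.IsGlobalCI k B := Groth.Agent.Lib.Helper94.CIPres.isGlobalCI_away a hR
  have hunits : ∀ s : Submonoid.powers a, IsUnit (ι s) := by
    rintro ⟨_, m, rfl⟩
    rw [map_pow]
    exact (IsUnit.mk0 _ (fun h => ha0 (hι (by rw [h, map_zero])))).pow m
  let ιB : B →ₐ[k] K := IsLocalization.liftAlgHom (M := Submonoid.powers a) (f := ι) hunits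
  have hιB_alg : ∀ x : R, ιB (algebraMap R B x) = ι x := fun x => by
    simp [ιB, IsLocalization.liftAlgHom_apply]
  have hιB : Function.Injective ιB := by
    show Function.Injective (IsLocalization.lift hunits : B → K)
    rw [IsLocalization.lift_injective_iff]
    intro x z
    constructor
    · intro h; rw [hBinj h]
    · intro h
      have : x = z := hι h
      rw [this]
  -- the monic polynomial
  set inva : B := IsLocalization.Away.invSelf a with hinva
  have hinva_mul : inva * algebraMap R B a = 1 := by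
    rw [mul_comm]; exact IsLocalization.Away.mul_invSelf a
  have hinva0 : inva ≠ 0 := fun h => by rw [h, zero_mul] at hinva_mul; exact zero_ne_one hinva_mul
  set pB : B[X] := p.map (algebraMap R B) with hpB
  have hlc : pB.leadingCoeff = algebraMap R B a := by
    rw [hpB, leadingCoeff_map_of_injective hBinj]
  set p' : B[X] := C inva * pB with hp'
  have hmonic : p'.Monic := monic_C_mul_of_mul_leadingCoeff_eq_one (by rw [hlc, hinva_mul])
  have hdeg' : p'.natDegree = p.natDegree := by
    rw [hp', natDegree_C_mul hinva0, hpB, natDegree_map_eq_of_injective hBinj]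
  have hp'y : p'.eval₂ (ιB : B →+* K) y = 0 := by
    rw [hp', eval₂_mul, hpB, eval₂_map]
    have : (ιB : B →+* K).comp (algebraMap R B) = (ι : R →+* K) := by
      ext x; exact hιB_alg x
    rw [this, hpy, mul_zero]
  -- kernel
  have hkerdvd : ∀ g : B[X], g.eval₂ (ιB : B →+* K) y = 0 → p' ∣ g := by
    intro g hg
    rw [← modByMonic_eq_zero_iff_dvd hmonic]
    by_contra hr0
    have hr_eval : (g %ₘ p').eval₂ (ιB : B →+* K) y = 0 := by
      have h1 := modByMonic_add_div g p'
      have h2 : g %ₘ p' = g - p' * (g /ₘ p') := by rw [eq_sub_iff_add_eq]; exact h1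
      rw [h2, eval₂_sub, eval₂_mul, hg, hp'y, zero_mul, sub_zero]
    have hr_deg : (g %ₘ p').natDegree < p'.natDegree := by
      have hp'ne1 : p' ≠ 1 := by
        intro h1
        rw [h1, eval₂_one] at hp'y
        exact one_ne_zero hp'y
      exact natDegree_modByMonic_lt g hmonic hp'ne1
    set q := IsLocalization.integerNormalization (Submonoid.powers a) (g %ₘ p') with hq
    have hq0 : q ≠ 0 := fun h => hr0 ((IsLocalization.integerNormalization_eq_zero_iff hM _).mp h)
    have hqy : q.eval₂ (ι : R →+* K) y = 0 := by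
      have := IsLocalization.integerNormalization_eval₂_eq_zero (Submonoid.powers a)
        (ιB : B →+* K) (g %ₘ p') hr_eval
      have h2 : (ιB : B →+* K).comp (algebraMap R B) = (ι : R →+* K) := by
        ext x; exact hιB_alg x
      rwa [h2] at this
    have hqdeg : q.natDegree ≤ (g %ₘ p').natDegree := by
      rw [natDegree_le_iff_coeff_eq_zero]
      intro N hN
      by_contra hne
      have h1 : N ∈ q.support := mem_support_iff.mpr hne
      have h2 := IsLocalization.integerNormalization_support (Submonoid.powers a) (g %ₘ p') h1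
      exact absurd (le_natDegree_of_mem_supp N h2) (not_le.mpr hN)
    have := hmin q hq0 hqy
    omega
  obtain ⟨R', i1, i2, hR', ι', hinj', hrange, hy⟩ :=
    step_adjoin (Localization.Away a) hB ιB hιB y p' hmonic hp'y hkerdvd
  refine ⟨R', i1, i2, hR', ι', hinj', ?_, hy⟩
  rintro _ ⟨x, rfl⟩
  apply hrange
  exact ⟨algebraMap R B x, hιB_alg x⟩


end Steps

section Main


open Polynomial

variable {k : Type u} [Field k] {K : Type u} [Field K] [Algebra k K]

theorem isGlobalCI_self (k : Type u) [Field k] : Synt.IsGlobalCI k k := by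
  right
  refine ⟨0, 0, le_rfl, (MvPolynomial.isEmptyAlgEquiv k (Fin 0)).toAlgHom, Fin.elim0,
    (MvPolynomial.isEmptyAlgEquiv k (Fin 0)).surjective, ?_, ?_⟩
  · have h1 : Set.range (Fin.elim0 : Fin 0 → MvPolynomial (Fin 0) k) = ∅ := Set.range_eq_empty _
    rw [h1, Ideal.span_empty]
    exact (RingHom.injective_iff_ker_eq_bot _).mp (MvPolynomial.isEmptyAlgEquiv k (Fin 0)).injective
  · rw [ringKrullDim_eq_zero_of_field]
    rfl

theorem exists_gci_embedding (E : Finset K) :
    ∃ (R : Type u) (_ : CommRing R) (_ : Algebra k R), Synt.IsGlobalCI k R ∧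
      ∃ ι : R →ₐ[k] K, Function.Injective ι ∧ (↑E : Set K) ⊆ (ι.range : Set K) := by
  classical
  induction E using Finset.induction_on with
  | empty =>
    exact ⟨k, inferInstance, inferInstance, isGlobalCI_self k, Algebra.ofId k K,
      (algebraMap k K).injective, by simp⟩
  | insert y E _ ih =>
    obtain ⟨R, i1, i2, hR, ι, hι, hE⟩ := ih
    have key : ∃ (R' : Type u) (_ : CommRing R') (_ : Algebra k R'), Synt.IsGlobalCI k R' ∧
        ∃ ι' : R' →ₐ[k] K, Function.Injective ι' ∧ ι.range ≤ ι'.range ∧ y ∈ ι'.range := by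
      by_cases halg : ∃ p : R[X], p ≠ 0 ∧ p.eval₂ (ι : R →+* K) y = 0
      · exact step_algebraic R hR ι hι y halg
      · refine step_transcendental R hR ι hι y ?_
        intro p hp
        by_contra hp0
        exact halg ⟨p, hp0, hp⟩
    obtain ⟨R', j1, j2, hR', ι', hι', hle, hy⟩ := key
    refine ⟨R', j1, j2, hR', ι', hι', ?_⟩
    intro z hz
    rw [Finset.coe_insert] at hz
    rcases hz with rfl | hz
    · exact hy
    · exact hle (hE hz)

theorem exists_subalgebra_isGlobalCI (E : Finset K) :
    ∃ A : Subalgebra k K, (↑E : Set K) ⊆ (A : Set K) ∧ Synt.IsGlobalCI k A := by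
  obtain ⟨R, i1, i2, hR, ι, hι, hE⟩ := exists_gci_embedding (k := k) E
  exact ⟨ι.range, hE, Groth.Agent.Lib.Helper94.CIPres.isGlobalCI_of_algEquiv
    (AlgEquiv.ofInjective ι hι) hR⟩


end Main

end Groth.Agent.Lib.Helper76.GCIField
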