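/-
Flat base change of the length of the first Koszul homology (helper76).
-/
import Groth.Agent.Lib.Helper76.CIPres

set_option autoImplicit false
set_option linter.unusedSectionVars false
set_option linter.style.haveILetI false

namespace Groth.Agent.Lib.Helper76.KosLen

open Groth.Agent.Lib.Helper39.H1Reg IsLocalRing TensorProduct

universe u

section FlatBC

variable {R R' : Type u} [CommRing R] [CommRing R'] [Algebra R R'] [Module.Flat R R']
  {ι : Type} [Fintype ι] [DecidableEq ι] (y : ι → R)

/-- the comparison map `R' ⊗ Z(y) → R'^ι` -/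
noncomputable def bcMap : R' ⊗[R] Z y →ₗ[R'] (ι → R') :=
  (TensorProduct.piScalarRight R R' R' ι).toLinearMap ∘ₗ ((Z y).subtype.baseChange R')

lemma bcMap_tmul (x : R') (a : Z y) :
    bcMap (R' := R') y (x ⊗ₜ a) = fun i => algebraMap R R' ((a : ι → R) i) * x := by
  funext i
  simp [bcMap, TensorProduct.piScalarRightHom_tmul, Algebra.smul_def]

lemma bcMap_injective : Function.Injective (bcMap (R' := R') y) := by
  unfold bcMap
  rw [LinearMap.coe_comp]
  refine (TensorProduct.piScalarRight R R' R' ι).injective.comp ?_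
  rw [LinearMap.baseChange_eq_ltensor]
  exact Module.Flat.lTensor_preserves_injective_linearMap _ (Submodule.injective_subtype _)

lemma lc_piScalarRight (t : R' ⊗[R] (ι → R)) :
    lc (algebraMap R R' ∘ y) (TensorProduct.piScalarRight R R' R' ι t) =
      TensorProduct.AlgebraTensorModule.rid R R' R' ((lc y).baseChange R' t) := by
  induction t with
  | zero => simp
  | add a b ha hb => rw [map_add, map_add, ha, hb, map_add, map_add]
  | tmul x v =>
    simp only [TensorProduct.piScalarRight_apply, TensorProduct.piScalarRightHom_tmul,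
      LinearMap.baseChange_tmul, TensorProduct.AlgebraTensorModule.rid_tmul, lc_apply,
      Function.comp_apply, Algebra.smul_def, map_sum, map_mul, Finset.sum_mul]
    refine Finset.sum_congr rfl fun i _ => ?_
    ring

lemma bcMap_mem_Z (t : R' ⊗[R] Z y) : bcMap (R' := R') y t ∈ Z (algebraMap R R' ∘ y) := by
  show bcMap (R' := R') y t ∈ LinearMap.ker (lc (algebraMap R R' ∘ y))
  rw [LinearMap.mem_ker]
  unfold bcMap
  rw [LinearMap.comp_apply, LinearEquiv.coe_coe, lc_piScalarRight, ← LinearMap.comp_apply,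
    ← LinearMap.baseChange_comp]
  have : lc y ∘ₗ (Z y).subtype = 0 := LinearMap.comp_ker_subtype (lc y)
  rw [this, LinearMap.baseChange_zero]
  simp

lemma exists_bcMap_eq (a' : ι → R') (ha' : a' ∈ Z (algebraMap R R' ∘ y)) :
    ∃ t, bcMap (R' := R') y t = a' := by
  set t0 := (TensorProduct.piScalarRight R R' R' ι).symm a' with ht0
  have h0 : (lc y).baseChange R' t0 = 0 := by
    apply (TensorProduct.AlgebraTensorModule.rid R R' R').injective
    rw [← lc_piScalarRight, ht0, LinearEquiv.apply_symm_apply, map_zero]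
    exact ha'
  have h1 : t0 ∈ LinearMap.range ((Z y).subtype.baseChange R') := by
    have hex : Function.Exact ((Z y).subtype.lTensor R') ((lc y).lTensor R') :=
      Module.Flat.lTensor_exact R' (LinearMap.exact_subtype_ker_map (lc y))
    have : t0 ∈ LinearMap.ker ((lc y).lTensor R') := by
      rw [LinearMap.mem_ker, ← LinearMap.baseChange_eq_ltensor]
      exact h0
    rw [LinearMap.exact_iff.mp hex] at this
    obtain ⟨s, hs⟩ := this
    exact ⟨s, by rw [← hs, LinearMap.baseChange_eq_ltensor]⟩
  obtain ⟨t, ht⟩ := h1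
  refine ⟨t, ?_⟩
  unfold bcMap
  rw [LinearMap.comp_apply, ht, ht0]
  simp

lemma bcMap_baseChange_mem_kos (s : R' ⊗[R] ((kos y).submoduleOf (Z y))) :
    bcMap (R' := R') y (((kos y).submoduleOf (Z y)).subtype.baseChange R' s) ∈
      kos (algebraMap R R' ∘ y) := by
  induction s with
  | zero => simp
  | add a b ha hb => rw [map_add, map_add]; exact add_mem ha hb
  | tmul x k =>
    rw [LinearMap.baseChange_tmul, bcMap_tmul]
    have hk : ((k : Z y) : ι → R) ∈ kos y := k.2
    have h1 := map_mem_kos (algebraMap R R') y _ hk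
    have h2 : (fun i => algebraMap R R' (((k : Z y) : ι → R) i) * x) =
        x • (⇑(algebraMap R R') ∘ ((k : Z y) : ι → R)) := by
      funext i
      simp [mul_comm]
    rw [Submodule.subtype_apply, h2]
    exact Submodule.smul_mem _ _ h1

lemma exists_of_mem_kos (a' : ι → R') (ha' : a' ∈ kos (algebraMap R R' ∘ y)) :
    ∃ s : R' ⊗[R] ((kos y).submoduleOf (Z y)),
      bcMap (R' := R') y (((kos y).submoduleOf (Z y)).subtype.baseChange R' s) = a' := by
  induction ha' using Submodule.span_induction with
  | mem v hv =>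
    obtain ⟨i, j, rfl⟩ := hv
    have hg : (Pi.single i (y j) - Pi.single j (y i) : ι → R) ∈ kos y :=
      Submodule.subset_span ⟨i, j, rfl⟩
    refine ⟨1 ⊗ₜ ⟨⟨_, kos_le_Z y hg⟩, hg⟩, ?_⟩
    rw [LinearMap.baseChange_tmul, bcMap_tmul]
    funext k
    simp only [Submodule.subtype_apply, Pi.sub_apply, Pi.single_apply, mul_one,
      Function.comp_apply, map_sub]
    split_ifs <;> simp
  | zero => exact ⟨0, by simp⟩
  | add a b _ _ ha hb =>
    obtain ⟨s, hs⟩ := ha
    obtain ⟨s', hs'⟩ := hb
    exact ⟨s + s', by rw [map_add, map_add, hs, hs']⟩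
  | smul r a _ ha =>
    obtain ⟨s, hs⟩ := ha
    exact ⟨r • s, by rw [map_smul, map_smul, hs]⟩

/-- the first Koszul homology commutes with flat base change (at the level of lengths) -/
theorem ell_map_eq_length :
    ell (algebraMap R R' ∘ y) =
      Module.length R' (R' ⊗[R] (Z y ⧸ (kos y).submoduleOf (Z y))) := by
  let Φ' : R' ⊗[R] Z y →ₗ[R'] Z (algebraMap R R' ∘ y) :=
    (bcMap (R' := R') y).codRestrict (Z (algebraMap R R' ∘ y)) (bcMap_mem_Z y)
  have hbij : Function.Bijective Φ' :=
    ⟨fun a b h => bcMap_injective y (congrArg Subtype.val h), fun a' => by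
      obtain ⟨t, ht⟩ := exists_bcMap_eq (R' := R') y (a' : ι → R') a'.2
      exact ⟨t, Subtype.ext ht⟩⟩
  let E := LinearEquiv.ofBijective Φ' hbij
  let q : R' ⊗[R] Z y →ₗ[R'] R' ⊗[R] (Z y ⧸ (kos y).submoduleOf (Z y)) :=
    ((kos y).submoduleOf (Z y)).mkQ.baseChange R'
  let g : Z (algebraMap R R' ∘ y) →ₗ[R'] R' ⊗[R] (Z y ⧸ (kos y).submoduleOf (Z y)) :=
    q ∘ₗ E.symm.toLinearMap
  have hqs : Function.Surjective q := by
    show Function.Surjective (((kos y).submoduleOf (Z y)).mkQ.baseChange R')
    rw [LinearMap.baseChange_eq_ltensor]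
    exact LinearMap.lTensor_surjective _ (Submodule.mkQ_surjective _)
  have hqk : ∀ t, q t = 0 ↔
      t ∈ LinearMap.range (((kos y).submoduleOf (Z y)).subtype.baseChange R') := by
    intro t
    have hex : Function.Exact (((kos y).submoduleOf (Z y)).subtype.lTensor R')
        (((kos y).submoduleOf (Z y)).mkQ.lTensor R') :=
      lTensor_exact R' (LinearMap.exact_subtype_mkQ _) (Submodule.mkQ_surjective _)
    show ((kos y).submoduleOf (Z y)).mkQ.baseChange R' t = 0 ↔ _
    rw [LinearMap.baseChange_eq_ltensor, hex t]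
    constructor
    · rintro ⟨s, hs⟩
      exact ⟨s, by rw [← hs, LinearMap.baseChange_eq_ltensor]⟩
    · rintro ⟨s, hs⟩
      exact ⟨s, by rw [← hs, LinearMap.baseChange_eq_ltensor]⟩
  refine ell_eq_of_surjective (algebraMap R R' ∘ y) g ?_ ?_
  · exact hqs.comp E.symm.surjective
  · intro a'
    show q (E.symm a') = 0 ↔ _
    rw [hqk]
    have hE : bcMap (R' := R') y (E.symm a') = (a' : ι → R') := by
      have : E (E.symm a') = a' := E.apply_symm_apply a'
      exact congrArg Subtype.val this
    constructor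
    · rintro ⟨s, hs⟩
      rw [← hE, ← hs]
      exact bcMap_baseChange_mem_kos y s
    · intro h
      obtain ⟨s, hs⟩ := exists_of_mem_kos y _ h
      refine ⟨s, bcMap_injective y ?_⟩
      rw [hs, hE]

theorem ell_map_eq [IsLocalRing R] [IsLocalRing R'] [IsLocalHom (algebraMap R R')]
    (hmax : (maximalIdeal R).map (algebraMap R R') = maximalIdeal R') :
    ell (algebraMap R R' ∘ y) = ell y := by
  rw [ell_map_eq_length, IsLocalRing.length_baseChange, hmax, length_quotient_maximal, mul_one]
  rfl

end FlatBC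

end Groth.Agent.Lib.Helper76.KosLen
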