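/-
The geometric depth `e - μ(I)` of a presentation of the completion, via Koszul homology (helper76).
-/
import Groth.Agent.Lib.Helper76.KosFlat

set_option autoImplicit false
set_option linter.unusedSectionVars false
set_option linter.style.haveILetI false

namespace Groth.Agent.Lib.Helper76.KosLen

open Groth.Agent.Lib.Helper39.H1Reg IsLocalRing TensorProduct

universe u

theorem geomDepth_formula (A : Type u) [CommRing A] [IsLocalRing A] [IsNoetherianRing A]
    {n : ℕ} (y : Fin n → A) (hy : Ideal.span (Set.range y) = maximalIdeal A)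
    (B : Type u) [CommRing B] [IsRegularLocalRing B] (I : Ideal B)
    (ε : AdicCompletion (maximalIdeal A) A ≃+* B ⧸ I) (e : ℕ)
    (he : ringKrullDim B = (e : WithBot ℕ∞)) :
    (I.spanFinrank : ℕ∞) + n = ell y + e := by
  set C := AdicCompletion (maximalIdeal A) A with hC
  let φ : B →+* C := ε.symm.toRingHom.comp (Ideal.Quotient.mk I)
  have hφ : Function.Surjective φ := ε.symm.surjective.comp Ideal.Quotient.mk_surjective
  have hkφ : RingHom.ker φ = I := by rw [RingHom.ker_equiv_comp, Ideal.mk_ker]
  have hk : RingHom.ker φ ≤ maximalIdeal B := IsLocalRing.le_maximalIdeal (RingHom.ker_ne_top φ)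
  obtain ⟨x, hx, hxH⟩ := exists_regular_sop B e he
  have h1 := ell_comp_eq_spanFinrank φ x hφ hk hx hxH
  have hs1 : Ideal.span (Set.range (φ ∘ x)) = maximalIdeal C := by
    rw [Set.range_comp, ← Ideal.map_span, hx, map_maximalIdeal_of_surjective φ hφ]
  have hs2 : Ideal.span (Set.range (algebraMap A C ∘ y)) = maximalIdeal C := by
    rw [Set.range_comp, ← Ideal.map_span, hy]
    exact (AdicCompletion.maximalIdeal_eq_map).symm
  have h3 := ell_add_card_eq (φ ∘ x) (algebraMap A C ∘ y) (hs1 ▸ maximalIdeal.isMaximal C)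
    (hs1.trans hs2.symm)
  have h4 : ell (algebraMap A C ∘ y) = ell y :=
    ell_map_eq y (AdicCompletion.maximalIdeal_eq_map).symm
  rw [h1, h4, hkφ, Fintype.card_fin, Fintype.card_fin] at h3
  exact h3

end Groth.Agent.Lib.Helper76.KosLen
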