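import Mathlib

/-!
# Partial derivatives of renamed power series; determinants with rows in an ideal (for S6574)
-/

set_option autoImplicit false

namespace Groth.Agent.Lib.Helper76.Jac

open MvPowerSeries

section Rename

variable {k : Type*} [CommRing k] {σ τ : Type*}

theorem pderiv_rename_of_notMem (e : σ ↪ τ) (i : τ) (hi : i ∉ Set.range e)
    (p : MvPowerSeries σ k) : pderiv k i (rename e p) = 0 := by
  classical
  ext d
  rw [coeff_pderiv, map_zero, coeff_rename_eq_zero, zero_mul]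
  rintro ⟨x, hx⟩
  have h1 := DFunLike.congr_fun hx i
  rw [Finsupp.mapDomain_of_notMem_range _ _ hi] at h1
  simp at h1

theorem pderiv_rename (e : σ ↪ τ) (b : σ) (p : MvPowerSeries σ k) :
    pderiv k (e b) (rename e p) = rename e (pderiv k b p) := by
  classical
  ext d
  rw [coeff_pderiv]
  by_cases hd : d ∈ Set.range (Finsupp.mapDomain e)
  · obtain ⟨x, rfl⟩ := hd
    have h1 : Finsupp.mapDomain e x + Finsupp.single (e b) 1 =
        Finsupp.mapDomain e (x + Finsupp.single b 1) := by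
      rw [Finsupp.mapDomain_add, Finsupp.mapDomain_single]
    have h3 : Finsupp.mapDomain e x (e b) = x b := Finsupp.mapDomain_apply e.injective x b
    rw [h1, h3, ← Finsupp.embDomain_eq_mapDomain, ← Finsupp.embDomain_eq_mapDomain,
      coeff_embDomain_rename, coeff_embDomain_rename, coeff_pderiv]
  · rw [coeff_rename_eq_zero _ _ hd, coeff_rename_eq_zero, zero_mul]
    rintro ⟨y, hy⟩
    apply hd
    have hyb : 1 ≤ y b := by
      have h2 := DFunLike.congr_fun hy (e b)
      rw [Finsupp.mapDomain_apply e.injective] at h2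
      simp only [Finsupp.coe_add, Pi.add_apply, Finsupp.single_eq_same] at h2
      omega
    refine ⟨y - Finsupp.single b 1, ?_⟩
    have h2 : y = (y - Finsupp.single b 1) + Finsupp.single b 1 := by
      ext j
      by_cases hj : j = b
      · subst hj
        simp only [Finsupp.coe_add, Finsupp.coe_tsub, Pi.add_apply, Pi.sub_apply,
          Finsupp.single_eq_same]
        omega
      · simp [Finsupp.single_eq_of_ne hj]
    rw [h2, Finsupp.mapDomain_add, Finsupp.mapDomain_single] at hy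
    exact add_right_cancel hy

end Rename

section Det

variable {R : Type*} [CommRing R] {m : Type*} [Fintype m] [DecidableEq m]

theorem det_mem_of_row (M : Matrix m m R) (𝔞 : Ideal R) (r : m) (h : ∀ j, M r j ∈ 𝔞) :
    M.det ∈ 𝔞 := by
  rw [Matrix.det_apply]
  refine Ideal.sum_mem _ fun σ _ => ?_
  rw [Units.smul_def]
  refine zsmul_mem ?_ _
  have h1 : M (σ (σ⁻¹ r)) (σ⁻¹ r) ∣ ∏ i, M (σ i) i :=
    Finset.dvd_prod_of_mem (fun i => M (σ i) i) (Finset.mem_univ _)
  refine Ideal.mem_of_dvd _ h1 ?_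
  have h2 : σ (σ⁻¹ r) = r := by simp
  rw [h2]
  exact h _

theorem det_mem_sq_of_two_rows (M : Matrix m m R) (𝔞 : Ideal R) (r1 r2 : m) (hne : r1 ≠ r2)
    (h1 : ∀ j, M r1 j ∈ 𝔞) (h2 : ∀ j, M r2 j ∈ 𝔞) : M.det ∈ 𝔞 ^ 2 := by
  rw [Matrix.det_apply]
  refine Ideal.sum_mem _ fun σ _ => ?_
  rw [Units.smul_def]
  refine zsmul_mem ?_ _
  have e1 : σ (σ⁻¹ r1) = r1 := by simp
  have e2 : σ (σ⁻¹ r2) = r2 := by simp
  have hi : σ⁻¹ r1 ≠ σ⁻¹ r2 := fun h => hne (by rw [← e1, ← e2, h])
  rw [← Finset.mul_prod_erase Finset.univ (fun i => M (σ i) i) (Finset.mem_univ (σ⁻¹ r1)),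
    pow_two]
  refine Ideal.mul_mem_mul ?_ ?_
  · rw [e1]; exact h1 _
  · have hmem : σ⁻¹ r2 ∈ Finset.univ.erase (σ⁻¹ r1) :=
      Finset.mem_erase.mpr ⟨hi.symm, Finset.mem_univ _⟩
    refine Ideal.mem_of_dvd _ (Finset.dvd_prod_of_mem (fun i => M (σ i) i) hmem) ?_
    rw [e2]; exact h2 _

end Det

end Groth.Agent.Lib.Helper76.Jac
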