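import Mathlib
import Groth.Agent.S11740
import Groth.Agent.S11741
import Groth.Agent.Lib.Helper61.PSEval2
import Groth.Agent.Lib.Helper61.MvPSComplete

/-!
# Structure lemma for quotients of power series rings (for S6574)

A surjection `φ : k[[x_1..x_n]] → B` onto a complete Noetherian local `k`-algebra with residue
field `k` factors as `π ∘ σ` with `π : k[[y_1..y_e]] → B` a minimal presentation and `σ` a
retraction of a coordinate inclusion.
-/

set_option autoImplicit false
set_option linter.style.haveILetI false

namespace Groth.Agent.Lib.Helper76.Jac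

open IsLocalRing MvPowerSeries

universe u

theorem X_mem_maximalIdeal {k : Type u} [Field k] {d : ℕ} (i : Fin d) :
    (X i : MvPowerSeries (Fin d) k) ∈ maximalIdeal (MvPowerSeries (Fin d) k) := by
  rw [Groth.Agent.S11741.maximalIdeal_mvPowerSeries_eq]
  exact Ideal.subset_span ⟨i, rfl⟩

instance isAdicComplete_mv {k : Type u} [Field k] {d : ℕ} :
    IsAdicComplete (maximalIdeal (MvPowerSeries (Fin d) k)) (MvPowerSeries (Fin d) k) := by
  rw [Groth.Agent.S11741.maximalIdeal_mvPowerSeries_eq]
  infer_instance

section SL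

variable (k : Type u) [Field k] {n : ℕ} (B : Type u) [CommRing B] [IsLocalRing B]
  [IsNoetherianRing B] [Algebra k B] [IsAdicComplete (maximalIdeal B) B]

theorem exists_structure (hR : Function.Surjective ((residue B).comp (algebraMap k B)))
    (φ : MvPowerSeries (Fin n) k →ₐ[k] B) (hφ : Function.Surjective φ) :
    ∃ (e : ℕ) (c : Fin e ↪ Fin n) (π : MvPowerSeries (Fin e) k →ₐ[k] B)
      (σ : MvPowerSeries (Fin n) k →ₐ[k] MvPowerSeries (Fin e) k),
      e = Module.finrank (ResidueField B) (CotangentSpace B) ∧ Function.Surjective π ∧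
      RingHom.ker π.toRingHom ≤ maximalIdeal (MvPowerSeries (Fin e) k) ^ 2 ∧
      (∀ a, π (σ a) = φ a) ∧ (∀ p, σ (rename c p) = p) ∧
      (∀ i, σ (X i) ∈ maximalIdeal (MvPowerSeries (Fin e) k)) := by
  classical
  have hloc : IsLocalHom (φ : MvPowerSeries (Fin n) k →+* B) := hφ.isLocalHom _
  have hcomap : (maximalIdeal B).comap (φ : MvPowerSeries (Fin n) k →+* B) =
      maximalIdeal (MvPowerSeries (Fin n) k) :=
    ((local_hom_TFAE (φ : MvPowerSeries (Fin n) k →+* B)).out 0 4).mp hloc
  have hmap : maximalIdeal B = (maximalIdeal (MvPowerSeries (Fin n) k)).map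
      (φ : MvPowerSeries (Fin n) k →+* B) := by
    rw [← hcomap]
    exact (Ideal.map_comap_of_surjective _ hφ _).symm
  have hXm : ∀ i, φ (X i) ∈ maximalIdeal B := by
    intro i
    rw [hmap]
    exact Ideal.mem_map_of_mem _ (X_mem_maximalIdeal i)
  have hmB : maximalIdeal B = Ideal.span (Set.range (fun i : Fin n => φ (X i))) := by
    rw [hmap, Groth.Agent.S11741.maximalIdeal_mvPowerSeries_eq, Ideal.map_span, ← Set.range_comp]
    rfl
  -- the cotangent vectors
  let w : Fin n → maximalIdeal B := fun i => ⟨φ (X i), hXm i⟩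
  let v : Fin n → CotangentSpace B := fun i => (maximalIdeal B).toCotangent (w i)
  have hwspan : Submodule.span B (Set.range w) = ⊤ := by
    apply Submodule.map_injective_of_injective (Submodule.injective_subtype (maximalIdeal B))
    rw [Submodule.map_span, Submodule.map_top, Submodule.range_subtype, ← Set.range_comp]
    exact hmB.symm
  have hvspan : Submodule.span (ResidueField B) (Set.range v) = ⊤ := by
    have h2 := IsLocalRing.CotangentSpace.span_image_eq_top_iff.mpr hwspan
    rw [← Set.range_comp] at h2
    exact h2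
  have key : ∃ (e : ℕ) (f : Fin e → CotangentSpace B),
      e = Module.finrank (ResidueField B) (CotangentSpace B) ∧ (∀ i, f i ∈ Set.range v) ∧
      Submodule.span (ResidueField B) (Set.range f) = ⊤ ∧
      LinearIndependent (ResidueField B) f := by
    obtain ⟨f, hfmem, hfspan, hfLI⟩ :=
      Submodule.exists_fun_fin_finrank_span_eq (ResidueField B) (Set.range v)
    have he : Module.finrank (ResidueField B)
        (Submodule.span (ResidueField B) (Set.range v)) =
        Module.finrank (ResidueField B) (CotangentSpace B) := by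
      rw [hvspan, finrank_top]
    exact ⟨_, f, he, hfmem, by rw [hfspan, hvspan], hfLI⟩
  obtain ⟨e, f, hee, hfmem, hfspan', hfLI⟩ := key
  choose c0 hc0 using hfmem
  have hc0inj : Function.Injective c0 := by
    intro i j hij
    apply hfLI.injective
    rw [← hc0 i, ← hc0 j, hij]
  let c : Fin e ↪ Fin n := ⟨c0, hc0inj⟩
  have hcv : ∀ j, v (c j) = f j := hc0
  -- the family b
  let b : Fin e → B := fun j => φ (X (c j))
  have hbm : ∀ j, b j ∈ maximalIdeal B := fun j => hXm (c j)
  have hbspan : Ideal.span (Set.range b) = maximalIdeal B := by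
    let b' : Fin e → maximalIdeal B := fun j => w (c j)
    have h1 : Submodule.span (ResidueField B)
        ((maximalIdeal B).toCotangent '' Set.range b') = ⊤ := by
      rw [← Set.range_comp]
      have : (⇑(maximalIdeal B).toCotangent ∘ b') = f := funext hcv
      rw [this]; exact hfspan'
    have h2 := IsLocalRing.CotangentSpace.span_image_eq_top_iff.mp h1
    have h3 := congrArg (Submodule.map (Submodule.subtype (maximalIdeal B))) h2
    rw [Submodule.map_span, Submodule.map_top, Submodule.range_subtype, ← Set.range_comp] at h3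
    exact h3
  haveI : IsAdicComplete (Ideal.span (Set.range b)) B := by
    rw [hbspan]; infer_instance
  obtain ⟨π, hπ⟩ := Groth.Agent.Lib.Helper61.PSEval2.exists_eval (k := k) b
  have hπm : ∀ j, π (X j) ∈ maximalIdeal B := fun j => by rw [hπ]; exact hbm j
  have hfeq : (fun j : Fin e => (maximalIdeal B).toCotangent ⟨π (X j), hπm j⟩) = f := by
    funext j
    rw [← hcv j]
    congr 1
    exact Subtype.ext (hπ j)
  have hLI : LinearIndependent (ResidueField B)
      (fun j : Fin e => (maximalIdeal B).toCotangent ⟨π (X j), hπm j⟩) := by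
    rw [hfeq]; exact hfLI
  have hsp : Submodule.span (ResidueField B) (Set.range
      (fun j : Fin e => (maximalIdeal B).toCotangent ⟨π (X j), hπm j⟩)) = ⊤ := by
    rw [hfeq]; exact hfspan'
  obtain ⟨hπsurj, hπker⟩ := Groth.Agent.S11740.result k B hR e π hπm hLI hsp
  -- the lifts h
  have hπloc : IsLocalHom (π : MvPowerSeries (Fin e) k →+* B) := hπsurj.isLocalHom _
  have hex : ∀ i : Fin n, ∃ p : MvPowerSeries (Fin e) k, π p = φ (X i) ∧
      (∀ j, i = c j → p = X j) := by
    intro i
    by_cases hi : ∃ j, i = c j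
    · obtain ⟨j, rfl⟩ := hi
      refine ⟨X j, hπ j, fun j' hj' => ?_⟩
      rw [c.injective hj']
    · obtain ⟨p, hp⟩ := hπsurj (φ (X i))
      exact ⟨p, hp, fun j hj => absurd ⟨j, hj⟩ hi⟩
  choose h hh1 hh2 using hex
  have hhm : ∀ i, h i ∈ maximalIdeal (MvPowerSeries (Fin e) k) := by
    intro i
    rw [mem_maximalIdeal, mem_nonunits_iff]
    intro hu
    have h1 : IsUnit (π (h i)) := hu.map π
    rw [hh1] at h1
    exact (mem_maximalIdeal _).mp (hXm i) h1
  have hhspan : Ideal.span (Set.range h) = maximalIdeal (MvPowerSeries (Fin e) k) := by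
    apply le_antisymm
    · rw [Ideal.span_le]
      rintro _ ⟨i, rfl⟩
      exact hhm i
    · rw [Groth.Agent.S11741.maximalIdeal_mvPowerSeries_eq, Ideal.span_le]
      rintro _ ⟨j, rfl⟩
      rw [← hh2 (c j) j rfl]
      exact Ideal.subset_span ⟨c j, rfl⟩
  haveI : IsAdicComplete (Ideal.span (Set.range h)) (MvPowerSeries (Fin e) k) := by
    rw [hhspan]; infer_instance
  obtain ⟨σ, hσ⟩ := Groth.Agent.Lib.Helper61.PSEval2.exists_eval (k := k) h
  have hcomp : π.comp σ = φ := by
    haveI : IsHausdorff (maximalIdeal B) B := inferInstance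
    apply Groth.Agent.Lib.Helper61.PSEval2.algHom_ext (maximalIdeal B)
    · intro i
      rw [AlgHom.comp_apply, hσ, hh1]
      exact hXm i
    · intro i
      rw [AlgHom.comp_apply, hσ, hh1]
  have hsec : σ.comp (rename c) = AlgHom.id k _ := by
    apply Groth.Agent.Lib.Helper61.PSEval2.algHom_ext
      (maximalIdeal (MvPowerSeries (Fin e) k))
    · intro j
      rw [AlgHom.comp_apply, rename_X, hσ]
      exact hhm _
    · intro j
      rw [AlgHom.comp_apply, rename_X, hσ, hh2 (c j) j rfl]
      rfl
  refine ⟨e, c, π, σ, hee, hπsurj, hπker, fun a => DFunLike.congr_fun hcomp a,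
    fun p => DFunLike.congr_fun hsec p, fun i => ?_⟩
  rw [hσ]
  exact hhm i

end SL

end Groth.Agent.Lib.Helper76.Jac
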