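import Mathlib
import Groth.Agent.S6575
import Groth.Agent.Lib.Helper76.JacA
import Groth.Agent.Lib.Helper76.JacB

/-!
# Jacobian minors of adapted generators (for S6574)
-/

set_option autoImplicit false
set_option linter.style.haveILetI false

namespace Groth.Agent.Lib.Helper76.Jac

open IsLocalRing MvPowerSeries

universe u

section General

theorem derivation_pow_mem {k R : Type*} [CommRing k] [CommRing R] [Algebra k R]
    (D : Derivation k R R) (𝔪 : Ideal R) (N : ℕ) {x : R} (hx : x ∈ 𝔪 ^ (N + 1)) :
    D x ∈ 𝔪 ^ N := by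
  induction N generalizing x with
  | zero => simp
  | succ N ih =>
    rw [pow_succ'] at hx
    refine Submodule.mul_induction_on hx ?_ ?_
    · intro a ha b hb
      rw [Derivation.leibniz]
      refine Ideal.add_mem _ ?_ ?_
      · rw [smul_eq_mul, pow_succ']; exact Ideal.mul_mem_mul ha (ih hb)
      · rw [smul_eq_mul]; exact Ideal.mul_mem_right _ _ hb
    · intro a b ha hb; rw [map_add]; exact Ideal.add_mem _ ha hb

end General

variable {k : Type u} [Field k] {n : ℕ}

/-- The ideal generated by the `r × r` minors of the Jacobian of `f` together with `f`. -/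
noncomputable def minorIdeal (r : ℕ) {m : ℕ} (f : Fin m → MvPowerSeries (Fin n) k) :
    Ideal (MvPowerSeries (Fin n) k) :=
  Ideal.span {d : MvPowerSeries (Fin n) k | ∃ (ρ : Fin r → Fin m) (γ : Fin r → Fin n),
    Function.Injective ρ ∧ Function.Injective γ ∧
    d = ((Matrix.of fun (j : Fin m) (i : Fin n) => MvPowerSeries.pderiv k i (f j)).submatrix
      ρ γ).det} ⊔ Ideal.span (Set.range f)

theorem span_le_minorIdeal (r : ℕ) {m : ℕ} (f : Fin m → MvPowerSeries (Fin n) k) :
    Ideal.span (Set.range f) ≤ minorIdeal r f := le_sup_right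

/-- Intrinsic lower bound: the Jacobian minor of any `r` elements of the ideal lies in the
minor ideal. -/
theorem det_mem_minorIdeal (r : ℕ) {m : ℕ} (f : Fin m → MvPowerSeries (Fin n) k)
    (Fs : Fin r → MvPowerSeries (Fin n) k) (hFs : ∀ i, Fs i ∈ Ideal.span (Set.range f))
    (γ : Fin r → Fin n) (hγ : Function.Injective γ) :
    (Matrix.of fun (i j : Fin r) => pderiv k (γ j) (Fs i)).det ∈ minorIdeal r f := by
  let g : Fin (r + m) → MvPowerSeries (Fin n) k := Sum.elim Fs f ∘ finSumFinEquiv.symm
  have hrange : Set.range g = Set.range Fs ∪ Set.range f := by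
    rw [finSumFinEquiv.symm.surjective.range_comp, Set.Sum.elim_range]
  have hfg : Ideal.span (Set.range f) = Ideal.span (Set.range g) := by
    rw [hrange, Ideal.span_union]
    apply le_antisymm le_sup_right
    refine sup_le ?_ le_rfl
    rw [Ideal.span_le]
    rintro _ ⟨i, rfl⟩
    exact hFs i
  have h1 := Groth.Agent.S6575.result k n m (r + m) r f g hfg
  have h2 : minorIdeal r f = minorIdeal r g := h1
  rw [h2]
  refine Ideal.mem_sup_left (Ideal.subset_span ?_)
  refine ⟨fun i => finSumFinEquiv (Sum.inl i), γ, ?_, hγ, ?_⟩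
  · intro i j hij
    simpa using hij
  · congr 1
    ext i j
    simp [g]

section Adapted

variable {e s : ℕ} (c : Fin e ↪ Fin n)

/-- The adapted generators. -/
noncomputable def adapted (h : Fin n → MvPowerSeries (Fin e) k)
    (G' : Fin s → MvPowerSeries (Fin e) k) :
    {i : Fin n // i ∉ Set.range c} ⊕ Fin s → MvPowerSeries (Fin n) k :=
  Sum.elim (fun i => X i.1 - rename c (h i.1)) (fun j => rename c (G' j))

variable (h : Fin n → MvPowerSeries (Fin e) k) (G' : Fin s → MvPowerSeries (Fin e) k)

theorem pderiv_adapted_inl (i i' : {i : Fin n // i ∉ Set.range c}) :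
    pderiv k i'.1 (adapted c h G' (Sum.inl i)) = if i = i' then 1 else 0 := by
  change pderiv k i'.1 (X i.1 - rename c (h i.1)) = _
  rw [map_sub, pderiv_rename_of_notMem c i'.1 i'.2, sub_zero]
  split_ifs with hii
  · rw [hii]; exact pderiv_X_self
  · exact pderiv_X_of_ne (fun h' => hii (Subtype.ext h'))

theorem pderiv_adapted_inr_off (i' : {i : Fin n // i ∉ Set.range c}) (j : Fin s) :
    pderiv k i'.1 (adapted c h G' (Sum.inr j)) = 0 :=
  pderiv_rename_of_notMem c i'.1 i'.2 _

theorem pderiv_adapted_inr_on (b : Fin e) (j : Fin s) :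
    pderiv k (c b) (adapted c h G' (Sum.inr j)) = rename c (pderiv k b (G' j)) :=
  pderiv_rename c b _

/-- The ideal generated by the renamed partial derivatives of the `G'`. -/
noncomputable def derIdeal : Ideal (MvPowerSeries (Fin n) k) :=
  Ideal.span (Set.range fun bj : Fin e × Fin s => rename c (pderiv k bj.1 (G' bj.2)))

theorem pderiv_adapted_inr_mem (i' : Fin n) (j : Fin s) :
    pderiv k i' (adapted c h G' (Sum.inr j)) ∈ derIdeal c G' := by
  by_cases hi : i' ∈ Set.range c
  · obtain ⟨b, rfl⟩ := hi
    rw [pderiv_adapted_inr_on]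
    exact Ideal.subset_span ⟨(b, j), rfl⟩
  · rw [pderiv_adapted_inr_off c h G' ⟨i', hi⟩ j]
    exact zero_mem _

theorem card_T : Fintype.card {i : Fin n // i ∉ Set.range c} = n - e := by
  classical
  rw [Fintype.card_subtype_compl, Fintype.card_fin]
  congr 1
  have := Set.card_range_of_injective c.injective
  rw [Fintype.card_fin] at this
  convert this

theorem exists_inr_of_injective {r : ℕ} (hr : n - e < r)
    (ρ : Fin r → {i : Fin n // i ∉ Set.range c} ⊕ Fin s) (hρ : Function.Injective ρ) :
    ∃ a j, ρ a = Sum.inr j := by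
  by_contra hno
  push Not at hno
  have h1 : ∀ a, ∃ i, ρ a = Sum.inl i := fun a => by
    cases hc : ρ a with
    | inl i => exact ⟨i, rfl⟩
    | inr j => exact absurd hc (hno a j)
  choose q hq using h1
  have hqinj : Function.Injective q := by
    intro a a' haa
    apply hρ
    rw [hq a, hq a', haa]
  have := Fintype.card_le_of_injective q hqinj
  rw [card_T, Fintype.card_fin] at this
  omega

theorem exists_two_inr_of_injective {r : ℕ} (hr : n - e + 1 < r)
    (ρ : Fin r → {i : Fin n // i ∉ Set.range c} ⊕ Fin s) (hρ : Function.Injective ρ) :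
    ∃ a a' j j', a ≠ a' ∧ ρ a = Sum.inr j ∧ ρ a' = Sum.inr j' := by
  by_contra hno
  push Not at hno
  let q : Fin r → Option {i : Fin n // i ∉ Set.range c} := fun a => (ρ a).getLeft?
  have hqinj : Function.Injective q := by
    intro a a' haa
    by_contra hne
    cases hc : ρ a with
    | inl i =>
      cases hc' : ρ a' with
      | inl i' =>
        simp only [q, hc, hc', Sum.getLeft?_inl, Option.some.injEq] at haa
        apply hne
        apply hρ
        rw [hc, hc', haa]
      | inr j' =>
        simp [q, hc, hc'] at haa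
    | inr j =>
      cases hc' : ρ a' with
      | inl i' =>
        simp [q, hc, hc'] at haa
      | inr j' =>
        exact hno a a' j j' hne hc hc'
  have := Fintype.card_le_of_injective q hqinj
  rw [Fintype.card_option, card_T, Fintype.card_fin] at this
  omega

/-- Upper bound: when `e ≥ 2`, all `(n-1)`-minors of the Jacobian of generators of the ideal
generated by the adapted family lie in the derivative ideal. -/
theorem minorIdeal_le_of_two_le {m r : ℕ} (f : Fin m → MvPowerSeries (Fin n) k)
    (hf : Ideal.span (Set.range f) = Ideal.span (Set.range (adapted c h G')))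
    (hr : n - e < r) :
    minorIdeal r f ≤ derIdeal c G' ⊔ Ideal.span (Set.range f) := by
  classical
  let ε : Fin (Fintype.card ({i : Fin n // i ∉ Set.range c} ⊕ Fin s)) ≃
      {i : Fin n // i ∉ Set.range c} ⊕ Fin s := (Fintype.equivFin _).symm
  let g := adapted c h G' ∘ ε
  have hfg : Ideal.span (Set.range f) = Ideal.span (Set.range g) := by
    rw [hf, ε.surjective.range_comp]
  have h1 : minorIdeal r f = minorIdeal r g := Groth.Agent.S6575.result k n m _ r f g hfg
  rw [h1]
  refine sup_le ?_ (hfg ▸ le_sup_right)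
  rw [Ideal.span_le]
  rintro _ ⟨ρ, γ, hρ, hγ, rfl⟩
  refine Ideal.mem_sup_left ?_
  obtain ⟨a, j, haj⟩ := exists_inr_of_injective c hr (ε ∘ ρ) (ε.injective.comp hρ)
  apply det_mem_of_row _ _ a
  intro j'
  change pderiv k (γ j') (adapted c h G' (ε (ρ a))) ∈ _
  have haj' : ε (ρ a) = Sum.inr j := haj
  rw [haj']
  exact pderiv_adapted_inr_mem c h G' _ j

theorem minorIdeal_le_of_three_le {m r : ℕ} (f : Fin m → MvPowerSeries (Fin n) k)
    (hf : Ideal.span (Set.range f) = Ideal.span (Set.range (adapted c h G')))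
    (hr : n - e + 1 < r)
    (hd : derIdeal c G' ≤ maximalIdeal (MvPowerSeries (Fin n) k)) :
    minorIdeal r f ≤ maximalIdeal (MvPowerSeries (Fin n) k) ^ 2 ⊔ Ideal.span (Set.range f) := by
  classical
  let ε : Fin (Fintype.card ({i : Fin n // i ∉ Set.range c} ⊕ Fin s)) ≃
      {i : Fin n // i ∉ Set.range c} ⊕ Fin s := (Fintype.equivFin _).symm
  let g := adapted c h G' ∘ ε
  have hfg : Ideal.span (Set.range f) = Ideal.span (Set.range g) := by
    rw [hf, ε.surjective.range_comp]
  have h1 : minorIdeal r f = minorIdeal r g := Groth.Agent.S6575.result k n m _ r f g hfg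
  rw [h1]
  refine sup_le ?_ (hfg ▸ le_sup_right)
  rw [Ideal.span_le]
  rintro _ ⟨ρ, γ, hρ, hγ, rfl⟩
  refine Ideal.mem_sup_left ?_
  obtain ⟨a, a', j, j', hne, haj, haj'⟩ :=
    exists_two_inr_of_injective c hr (ε ∘ ρ) (ε.injective.comp hρ)
  apply det_mem_sq_of_two_rows _ _ a a' hne
  · intro i'
    change pderiv k (γ i') (adapted c h G' (ε (ρ a))) ∈ _
    have haj1 : ε (ρ a) = Sum.inr j := haj
    rw [haj1]
    exact hd (pderiv_adapted_inr_mem c h G' _ j)
  · intro i'
    change pderiv k (γ i') (adapted c h G' (ε (ρ a'))) ∈ _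
    have haj1 : ε (ρ a') = Sum.inr j' := haj'
    rw [haj1]
    exact hd (pderiv_adapted_inr_mem c h G' _ j')

end Adapted

end Groth.Agent.Lib.Helper76.Jac
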