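import Mathlib
import Groth.Agent.Lib.Helper76.NodeA
import Groth.Agent.Lib.Helper76.NodeB
import Groth.Agent.Lib.Helper76.NodeC1
import Groth.Agent.Lib.Helper76.NodeD
import Groth.Agent.Lib.Helper76.JacC

/-!
# The two-variable analysis for S6574: Jacobian condition + regular element ⇒ node
-/

set_option autoImplicit false
set_option linter.style.haveILetI false

namespace Groth.Agent.Lib.Helper76.Jac

open IsLocalRing MvPowerSeries Groth.Agent.Lib.Helper76.Node

universe u

variable {K : Type u} [Field K]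

/-- The Jacobian ideal of an ideal `I'` of a power series ring: `I'` together with all partial
derivatives of its elements. -/
noncomputable def jcIdeal {e : ℕ} (I' : Ideal (MvPowerSeries (Fin e) K)) :
    Ideal (MvPowerSeries (Fin e) K) :=
  I' ⊔ Ideal.span {d | ∃ G ∈ I', ∃ b : Fin e, d = pderiv K b G}

theorem pderiv_mem_jcIdeal {e : ℕ} (I' : Ideal (MvPowerSeries (Fin e) K))
    {G : MvPowerSeries (Fin e) K} (hG : G ∈ I') (b : Fin e) : pderiv K b G ∈ jcIdeal I' :=
  Ideal.mem_sup_right (Ideal.subset_span ⟨G, hG, b, rfl⟩)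

theorem jcIdeal_le {e : ℕ} (I' : Ideal (MvPowerSeries (Fin e) K)) (N : ℕ)
    (hI' : I' ≤ maximalIdeal (MvPowerSeries (Fin e) K) ^ (N + 1)) :
    jcIdeal I' ≤ maximalIdeal (MvPowerSeries (Fin e) K) ^ N := by
  refine sup_le (hI'.trans (Ideal.pow_le_pow_right (Nat.le_succ N))) ?_
  rw [Ideal.span_le]
  rintro _ ⟨G, hG, b, rfl⟩
  exact derivation_pow_mem _ _ N (hI' hG)

theorem sub_C_mem (p : MvPowerSeries (Fin 2) K) :
    p - C (constantCoeff p) ∈ maximalIdeal (MvPowerSeries (Fin 2) K) := by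
  rw [mem_maximalIdeal, mem_nonunits_iff, MvPowerSeries.isUnit_iff_constantCoeff]
  simp

/-- Every element of `𝔪²` is a quadratic form modulo `𝔪³`. -/
theorem exists_Qf_of_mem_sq (G : MvPowerSeries (Fin 2) K)
    (hG : G ∈ maximalIdeal (MvPowerSeries (Fin 2) K) ^ 2) :
    ∃ a b c : K, G - Qf a b c ∈ maximalIdeal (MvPowerSeries (Fin 2) K) ^ 3 := by
  have h0 := Node.X_mem_maximalIdeal (K := K) 0
  have h1 := Node.X_mem_maximalIdeal (K := K) 1
  rw [pow_two, maximalIdeal_eq_pair, Ideal.span_pair_mul_span_pair] at hG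
  obtain ⟨p, hG⟩ := Ideal.mem_span_insert.mp hG
  obtain ⟨z1, hz1, hG⟩ := hG
  obtain ⟨q, z2, hz2, rfl⟩ := Ideal.mem_span_insert.mp hz1
  obtain ⟨q', z3, hz3, rfl⟩ := Ideal.mem_span_insert.mp hz2
  obtain ⟨r, rfl⟩ := Ideal.mem_span_singleton'.mp hz3
  refine ⟨constantCoeff p, constantCoeff (q + q'), constantCoeff r, ?_⟩
  have hsplit : G - Qf (constantCoeff p) (constantCoeff (q + q')) (constantCoeff r) =
      (p - C (constantCoeff p)) * (X 0 * X 0) +
      ((q + q') - C (constantCoeff (q + q'))) * (X 0 * X 1) +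
      (r - C (constantCoeff r)) * (X 1 * X 1) := by
    rw [hG]; unfold Qf; ring
  rw [hsplit]
  have hm2 : ∀ i j : Fin 2, (X i * X j : MvPowerSeries (Fin 2) K) ∈
      maximalIdeal (MvPowerSeries (Fin 2) K) ^ 2 := fun i j => by
    rw [pow_two]
    exact Ideal.mul_mem_mul (X_mem_maximalIdeal i) (X_mem_maximalIdeal j)
  refine Ideal.add_mem _ (Ideal.add_mem _ ?_ ?_) ?_
  · exact mul_mem_cube _ (sub_C_mem p) (hm2 0 0)
  · exact mul_mem_cube _ (sub_C_mem _) (hm2 0 1)
  · exact mul_mem_cube _ (sub_C_mem r) (hm2 1 1)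

/-- Good coordinates for a nonzero binary quadratic form. -/
theorem exists_coords' (a b c : K) (h : ¬ (a = 0 ∧ b = 0 ∧ c = 0)) :
    ∃ x y c' : MvPowerSeries (Fin 2) K,
      maximalIdeal (MvPowerSeries (Fin 2) K) = Ideal.span {x, y} ∧ IsUnit c' ∧
        Qf a b c - c' * y ^ 2 ∈ Ideal.span {x} := by
  by_cases hc : c = 0
  · by_cases ha : a = 0
    · have hb : b ≠ 0 := fun hb => h ⟨ha, hb, hc⟩
      refine ⟨X 0 - X 1, X 1, C b, ?_, isUnit_C hb, ?_⟩
      · rw [maximalIdeal_eq_pair]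
        apply le_antisymm
        · rw [Ideal.span_le]
          rintro z (rfl | rfl)
          · exact Ideal.mem_span_pair.mpr ⟨1, 1, by ring⟩
          · exact Ideal.subset_span (by simp)
        · rw [Ideal.span_le]
          rintro z (rfl | rfl)
          · exact Ideal.mem_span_pair.mpr ⟨1, -1, by ring⟩
          · exact Ideal.subset_span (by simp)
      · rw [Ideal.mem_span_singleton']
        refine ⟨C b * X 1, ?_⟩
        unfold Qf
        rw [ha, hc]
        simp only [map_zero, zero_mul, zero_add, add_zero]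
        ring
    · refine ⟨X 1, X 0, C a, ?_, isUnit_C ha, ?_⟩
      · rw [maximalIdeal_eq_pair, Set.pair_comm]
      · rw [Ideal.mem_span_singleton']
        refine ⟨C b * X 0 + C c * X 1, ?_⟩
        unfold Qf
        ring
  · refine ⟨X 0, X 1, C c, maximalIdeal_eq_pair, isUnit_C hc, ?_⟩
    rw [Ideal.mem_span_singleton']
    refine ⟨C a * X 0 + C b * X 1, ?_⟩
    unfold Qf
    ring

/-- If `4ac - b² = 0` the two partial derivatives of the quadratic form are multiples of a single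
linear form. -/
theorem exists_common_linear (a b c : K) (h : 4 * a * c - b ^ 2 = 0) :
    ∃ ℓ ∈ maximalIdeal (MvPowerSeries (Fin 2) K),
      (2 * C a * X 0 + C b * X 1 : MvPowerSeries (Fin 2) K) ∈ Ideal.span {ℓ} ∧
      (C b * X 0 + 2 * C c * X 1 : MvPowerSeries (Fin 2) K) ∈ Ideal.span {ℓ} := by
  have h0 := Node.X_mem_maximalIdeal (K := K) 0
  have h1 := Node.X_mem_maximalIdeal (K := K) 1
  have hL0 : (2 * C a * X 0 + C b * X 1 : MvPowerSeries (Fin 2) K) ∈
      maximalIdeal (MvPowerSeries (Fin 2) K) :=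
    Ideal.add_mem _ (Ideal.mul_mem_left _ _ h0) (Ideal.mul_mem_left _ _ h1)
  have hL1 : (C b * X 0 + 2 * C c * X 1 : MvPowerSeries (Fin 2) K) ∈
      maximalIdeal (MvPowerSeries (Fin 2) K) :=
    Ideal.add_mem _ (Ideal.mul_mem_left _ _ h0) (Ideal.mul_mem_left _ _ h1)
  by_cases hu : (2 : K) * a = 0
  · -- then b = 0
    have hb : b = 0 := by
      have : b ^ 2 = 0 := by
        have h2 : 4 * a * c = 2 * (2 * a) * c := by ring
        rw [h2, hu] at h
        have h3 : b ^ 2 = -(2 * 0 * c - b ^ 2) := by ring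
        rw [h3, h]; ring
      exact pow_eq_zero_iff (by norm_num) |>.mp this
    refine ⟨_, hL1, ?_, Ideal.mem_span_singleton_self _⟩
    have h2 : (2 * C a * X 0 + C b * X 1 : MvPowerSeries (Fin 2) K) = 0 := by
      have h3 : (2 * C a : MvPowerSeries (Fin 2) K) = C (2 * a) := by
        rw [map_mul, map_ofNat]
      rw [h3, hu, hb]; simp
    rw [h2]; exact zero_mem _
  · refine ⟨_, hL0, Ideal.mem_span_singleton_self _, ?_⟩
    rw [Ideal.mem_span_singleton']
    refine ⟨C (b / (2 * a)), ?_⟩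
    have e1 : (C (b / (2 * a)) : MvPowerSeries (Fin 2) K) * (2 * C a) = C b := by
      have h3 : (2 * C a : MvPowerSeries (Fin 2) K) = C (2 * a) := by
        rw [map_mul, map_ofNat]
      rw [h3, ← map_mul, div_mul_cancel₀ _ hu]
    have e2 : (C (b / (2 * a)) : MvPowerSeries (Fin 2) K) * C b = 2 * C c := by
      have h3 : (2 * C c : MvPowerSeries (Fin 2) K) = C (2 * c) := by
        rw [map_mul, map_ofNat]
      rw [h3, ← map_mul]
      congr 1
      rw [div_mul_eq_mul_div, div_eq_iff hu]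
      linear_combination -h
    calc (C (b / (2 * a)) : MvPowerSeries (Fin 2) K) * (2 * C a * X 0 + C b * X 1)
        = (C (b / (2 * a)) * (2 * C a)) * X 0 + (C (b / (2 * a)) * C b) * X 1 := by ring
      _ = C b * X 0 + 2 * C c * X 1 := by rw [e1, e2]

/-- **Theorem A.** An ideal `I' ⊆ 𝔪²` of `K[[u,v]]` whose Jacobian ideal is `𝔪` and modulo
which some `t ∈ 𝔪` is regular defines a node. -/
theorem node_of_jc (I' : Ideal (MvPowerSeries (Fin 2) K))
    (hI' : I' ≤ maximalIdeal (MvPowerSeries (Fin 2) K) ^ 2)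
    (hJC : jcIdeal I' = maximalIdeal (MvPowerSeries (Fin 2) K))
    (t : MvPowerSeries (Fin 2) K) (ht : t ∈ maximalIdeal (MvPowerSeries (Fin 2) K))
    (hreg : ∀ z, t * z ∈ I' → z ∈ I') :
    ∃ a b c : K, 4 * a * c - b ^ 2 ≠ 0 ∧
      Nonempty ((MvPowerSeries (Fin 2) K ⧸ I') ≃ₐ[K]
        (MvPowerSeries (Fin 2) K ⧸ Ideal.span {Qf a b c})) := by
  -- Step 1: some element of I' is not in 𝔪³
  have hex : ∃ G ∈ I', G ∉ maximalIdeal (MvPowerSeries (Fin 2) K) ^ 3 := by
    by_contra hno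
    push Not at hno
    have h1 : I' ≤ maximalIdeal (MvPowerSeries (Fin 2) K) ^ (2 + 1) := fun G hG => hno G hG
    have h2 := jcIdeal_le I' 2 h1
    rw [hJC] at h2
    exact maximalIdeal_not_le_sq h2
  obtain ⟨G, hGI, hG3⟩ := hex
  obtain ⟨a, b, c, hGQ⟩ := exists_Qf_of_mem_sq G (hI' hGI)
  have hne : ¬ (a = 0 ∧ b = 0 ∧ c = 0) := by
    rintro ⟨rfl, rfl, rfl⟩
    apply hG3
    have : Qf (0 : K) 0 0 = 0 := by unfold Qf; simp
    rwa [this, sub_zero] at hGQ
  obtain ⟨x, y, c', hm, hc', hQx⟩ := exists_coords' a b c hne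
  have hf : G - c' * y ^ 2 ∈ Ideal.span {x} ⊔ maximalIdeal (MvPowerSeries (Fin 2) K) ^ 3 := by
    have : G - c' * y ^ 2 = (Qf a b c - c' * y ^ 2) + (G - Qf a b c) := by ring
    rw [this]
    exact Ideal.add_mem _ (Ideal.mem_sup_left hQx) (Ideal.mem_sup_right hGQ)
  have hIG : I' = Ideal.span {G} := eq_span_of_regular x y G c' hm hc' hf I' hGI hI' t ht hreg
  -- nondegeneracy
  have hnd : 4 * a * c - b ^ 2 ≠ 0 := by
    intro hdeg
    obtain ⟨ℓ, hℓm, hℓ0, hℓ1⟩ := exists_common_linear a b c hdeg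
    have hd : ∀ b' : Fin 2, pderiv K b' G ∈
        Ideal.span {ℓ} ⊔ maximalIdeal (MvPowerSeries (Fin 2) K) ^ 2 := by
      intro b'
      have h1 : pderiv K b' (G - Qf a b c) ∈ maximalIdeal (MvPowerSeries (Fin 2) K) ^ 2 :=
        derivation_pow_mem _ _ 2 hGQ
      have h2 : pderiv K b' G = pderiv K b' (Qf a b c) + pderiv K b' (G - Qf a b c) := by
        rw [map_sub]; ring
      rw [h2]
      refine Ideal.add_mem _ (Ideal.mem_sup_left ?_) (Ideal.mem_sup_right h1)
      fin_cases b'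
      · change pderiv K (0 : Fin 2) (Qf a b c) ∈ _
        rw [pderiv_zero_Qf]; exact hℓ0
      · change pderiv K (1 : Fin 2) (Qf a b c) ∈ _
        rw [pderiv_one_Qf]; exact hℓ1
    have hle : jcIdeal I' ≤ Ideal.span {ℓ} ⊔ maximalIdeal (MvPowerSeries (Fin 2) K) ^ 2 := by
      refine sup_le (hI'.trans le_sup_right) ?_
      rw [Ideal.span_le]
      rintro _ ⟨H, hH, b', rfl⟩
      rw [hIG] at hH
      obtain ⟨p, rfl⟩ := Ideal.mem_span_singleton'.mp hH
      rw [Derivation.leibniz]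
      refine Ideal.add_mem _ ?_ ?_
      · rw [smul_eq_mul]; exact Ideal.mul_mem_left _ _ (hd b')
      · rw [smul_eq_mul]; exact Ideal.mul_mem_right _ _ (Ideal.mem_sup_right (hI' hGI))
    rw [hJC] at hle
    have hle2 : maximalIdeal (MvPowerSeries (Fin 2) K) ≤ Ideal.span {ℓ} := by
      apply Submodule.le_of_le_smul_of_le_jacobson_bot (I := maximalIdeal (MvPowerSeries (Fin 2) K))
        (IsNoetherian.noetherian _) (IsLocalRing.jacobson_eq_maximalIdeal _ bot_ne_top).ge
      rw [smul_eq_mul, ← pow_two]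
      exact hle
    apply maximalIdeal_ne_span_singleton (K := K) ℓ
    apply le_antisymm hle2
    rw [Ideal.span_le, Set.singleton_subset_iff]
    exact hℓm
  refine ⟨a, b, c, hnd, ?_⟩
  obtain ⟨E⟩ := nonempty_equiv_of_sub_mem_cube a b c hnd G hGQ
  exact ⟨(Ideal.quotientEquivAlgOfEq K hIG).trans E⟩

end Groth.Agent.Lib.Helper76.Jac
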