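import Mathlib
import Groth.Agent.S11741
import Groth.Agent.Lib.Helper52.WQParam
import Groth.Agent.Lib.Helper61.PSEval2
import Groth.Agent.Lib.Helper76.PowEval
import Groth.Agent.Lib.Helper76.JacD

/-!
# The two-variable analysis for S6574: a node satisfies the Jacobian condition
-/

set_option autoImplicit false
set_option linter.style.haveILetI false

namespace Groth.Agent.Lib.Helper76.Jac

open IsLocalRing MvPowerSeries Groth.Agent.Lib.Helper76.Node

universe u

variable {K : Type u} [Field K]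

/-- A `K`-derivation of a power series ring vanishing on the variables is zero. -/
theorem derivation_eq_zero {d : ℕ}
    (E : Derivation K (MvPowerSeries (Fin d) K) (MvPowerSeries (Fin d) K))
    (hE : ∀ c, E (X c) = 0) (p : MvPowerSeries (Fin d) K) : E p = 0 := by
  have hpoly : ∀ q : MvPolynomial (Fin d) K, E (q : MvPowerSeries (Fin d) K) = 0 := by
    intro q
    induction q using MvPolynomial.induction_on with
    | C r =>
      rw [MvPolynomial.coe_C]
      exact E.map_algebraMap r
    | add p q hp hq => rw [MvPolynomial.coe_add, map_add, hp, hq, add_zero]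
    | mul_X p i hp =>
      rw [MvPolynomial.coe_mul, MvPolynomial.coe_X, Derivation.leibniz, hp, hE, smul_zero,
        smul_zero, add_zero]
  apply IsHausdorff.haus' (I := Ideal.span (Set.range (X : Fin d → MvPowerSeries (Fin d) K)))
  intro N
  rw [SModEq.zero, smul_eq_mul, Ideal.mul_top]
  have hr := Groth.Agent.Lib.Helper76.sub_truncTotal_mem_pow (N + 1) p
  have h1 : E p = E (p - (truncTotal (N + 1) p : MvPowerSeries (Fin d) K)) := by
    rw [map_sub, hpoly, sub_zero]
  rw [h1]
  exact derivation_pow_mem E _ N hr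

/-- Conjugate of a derivation by an automorphism. -/
noncomputable def conjDer {d : ℕ} (Ψ : MvPowerSeries (Fin d) K ≃ₐ[K] MvPowerSeries (Fin d) K)
    (D : Derivation K (MvPowerSeries (Fin d) K) (MvPowerSeries (Fin d) K)) :
    Derivation K (MvPowerSeries (Fin d) K) (MvPowerSeries (Fin d) K) :=
  Derivation.mk' (Ψ.symm.toLinearMap ∘ₗ D.toLinearMap ∘ₗ Ψ.toLinearMap) (by
    intro p q
    simp only [LinearMap.comp_apply, AlgEquiv.toLinearMap_apply, Derivation.coeFn_coe, map_mul,
      Derivation.leibniz, smul_eq_mul, map_add, AlgEquiv.symm_apply_apply])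

theorem conjDer_apply {d : ℕ} (Ψ : MvPowerSeries (Fin d) K ≃ₐ[K] MvPowerSeries (Fin d) K)
    (D : Derivation K (MvPowerSeries (Fin d) K) (MvPowerSeries (Fin d) K))
    (p : MvPowerSeries (Fin d) K) : conjDer Ψ D p = Ψ.symm (D (Ψ p)) := rfl

/-- Every derivation of `K[[u,v]]` is a combination of the partial derivatives. -/
theorem derivation_eq_pderiv
    (D : Derivation K (MvPowerSeries (Fin 2) K) (MvPowerSeries (Fin 2) K))
    (p : MvPowerSeries (Fin 2) K) :
    D p = D (X 0) * pderiv K 0 p + D (X 1) * pderiv K 1 p := by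
  have h10 : pderiv K (0 : Fin 2) (X 1 : MvPowerSeries (Fin 2) K) = 0 :=
    pderiv_X_of_ne (by decide)
  have h01 : pderiv K (1 : Fin 2) (X 0 : MvPowerSeries (Fin 2) K) = 0 :=
    pderiv_X_of_ne (by decide)
  have h := derivation_eq_zero (D - (D (X 0) • pderiv K 0 + D (X 1) • pderiv K 1)) (by
    intro c
    fin_cases c
    · simp [pderiv_X_self, h01]
    · simp [pderiv_X_self, h10]) p
  simp only [Derivation.sub_apply, Derivation.add_apply, Derivation.smul_apply, smul_eq_mul,
    sub_eq_zero] at h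
  exact h

theorem residue_algebraMap_surjective {d : ℕ} :
    Function.Surjective ((residue (MvPowerSeries (Fin d) K)).comp
      (algebraMap K (MvPowerSeries (Fin d) K))) := by
  intro x
  obtain ⟨p, rfl⟩ := residue_surjective x
  refine ⟨constantCoeff p, ?_⟩
  rw [RingHom.comp_apply]
  symm
  rw [← sub_eq_zero, ← map_sub, residue_eq_zero_iff]
  change p - C (constantCoeff p) ∈ _
  rw [mem_maximalIdeal, mem_nonunits_iff, MvPowerSeries.isUnit_iff_constantCoeff]
  simp

/-- **Theorem B.** A minimal presentation of a node satisfies the Jacobian condition. -/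
theorem jc_of_node (a b c : K) (hnd : 4 * a * c - b ^ 2 ≠ 0)
    (π' : MvPowerSeries (Fin 2) K →ₐ[K] (MvPowerSeries (Fin 2) K ⧸ Ideal.span {Qf a b c}))
    (hπ' : Function.Surjective π')
    (hker : RingHom.ker π'.toRingHom ≤ maximalIdeal (MvPowerSeries (Fin 2) K) ^ 2) :
    jcIdeal (RingHom.ker π'.toRingHom) = maximalIdeal (MvPowerSeries (Fin 2) K) := by
  classical
  have hQm : Ideal.span {Qf a b c} ≤ maximalIdeal (MvPowerSeries (Fin 2) K) ^ 2 := by
    rw [Ideal.span_le, Set.singleton_subset_iff]; exact Qf_mem_sq a b c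
  have hQne : Ideal.span {Qf a b c} ≠ ⊤ := by
    intro h
    have h1 : (1 : MvPowerSeries (Fin 2) K) ∈ maximalIdeal (MvPowerSeries (Fin 2) K) :=
      Ideal.pow_le_self (by norm_num) (hQm (h ▸ Submodule.mem_top))
    exact (mem_maximalIdeal _).mp h1 isUnit_one
  haveI : Nontrivial (MvPowerSeries (Fin 2) K ⧸ Ideal.span {Qf a b c}) :=
    Ideal.Quotient.nontrivial_iff.mpr hQne
  haveI : IsLocalRing (MvPowerSeries (Fin 2) K ⧸ Ideal.span {Qf a b c}) :=
    IsLocalRing.of_surjective' (Ideal.Quotient.mk _) Ideal.Quotient.mk_surjective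
  let mk := Ideal.Quotient.mkₐ K (Ideal.span {Qf a b c})
  have hmksurj : Function.Surjective mk := Ideal.Quotient.mkₐ_surjective K _
  have hlocπ : IsLocalHom π'.toRingHom := hπ'.isLocalHom _
  have hlocmk : IsLocalHom mk.toRingHom := hmksurj.isLocalHom _
  have hcomapmk : (maximalIdeal _).comap mk.toRingHom =
      maximalIdeal (MvPowerSeries (Fin 2) K) :=
    ((local_hom_TFAE mk.toRingHom).out 0 4).mp hlocmk
  have hcomapπ : (maximalIdeal _).comap π'.toRingHom =
      maximalIdeal (MvPowerSeries (Fin 2) K) :=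
    ((local_hom_TFAE π'.toRingHom).out 0 4).mp hlocπ
  have hmapπ : maximalIdeal (MvPowerSeries (Fin 2) K ⧸ Ideal.span {Qf a b c}) =
      (maximalIdeal (MvPowerSeries (Fin 2) K)).map π'.toRingHom := by
    rw [← hcomapπ]
    exact (Ideal.map_comap_of_surjective _ hπ' _).symm
  have hmQ : maximalIdeal (MvPowerSeries (Fin 2) K ⧸ Ideal.span {Qf a b c}) =
      Ideal.span (Set.range (fun i : Fin 2 => π' (X i))) := by
    rw [hmapπ, Groth.Agent.S11741.maximalIdeal_mvPowerSeries_eq, Ideal.map_span, ← Set.range_comp]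
    rfl
  have hexy : ∀ i : Fin 2, ∃ y : MvPowerSeries (Fin 2) K, mk y = π' (X i) := fun i => hmksurj _
  choose y hy using hexy
  have hym : ∀ i, y i ∈ maximalIdeal (MvPowerSeries (Fin 2) K) := by
    intro i
    rw [← hcomapmk, Ideal.mem_comap]
    change mk (y i) ∈ _
    rw [hy, hmQ]
    exact Ideal.subset_span ⟨i, rfl⟩
  have hyspan : Ideal.span (Set.range y) = maximalIdeal (MvPowerSeries (Fin 2) K) := by
    apply le_antisymm
    · rw [Ideal.span_le]; rintro _ ⟨i, rfl⟩; exact hym i
    · apply Submodule.le_of_le_smul_of_le_jacobson_bot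
        (I := maximalIdeal (MvPowerSeries (Fin 2) K))
        (IsNoetherian.noetherian _) (IsLocalRing.jacobson_eq_maximalIdeal _ bot_ne_top).ge
      rw [smul_eq_mul, ← pow_two]
      intro p hp
      have h1 : mk p ∈ maximalIdeal (MvPowerSeries (Fin 2) K ⧸ Ideal.span {Qf a b c}) := by
        rw [← hcomapmk] at hp; exact hp
      have h2 : maximalIdeal (MvPowerSeries (Fin 2) K ⧸ Ideal.span {Qf a b c}) =
          (Ideal.span (Set.range y)).map mk.toRingHom := by
        rw [hmQ, Ideal.map_span, ← Set.range_comp]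
        congr 2
        funext i
        exact (hy i).symm
      rw [h2] at h1
      obtain ⟨z, hz, hzp⟩ := (Ideal.mem_map_iff_of_surjective _ hmksurj).mp h1
      have h3 : p - z ∈ Ideal.span {Qf a b c} := by
        rw [← Ideal.Quotient.eq]
        exact hzp.symm
      have h4 : p = z + (p - z) := by ring
      rw [h4]
      exact Ideal.add_mem _ (Ideal.mem_sup_left hz) (Ideal.mem_sup_right (hQm h3))
  haveI : IsAdicComplete (Ideal.span (Set.range y)) (MvPowerSeries (Fin 2) K) := by
    rw [hyspan]; infer_instance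
  obtain ⟨ψ, hψ⟩ := Groth.Agent.Lib.Helper61.PSEval2.exists_eval (k := K) y
  have hcomp : π' = mk.comp ψ := by
    apply Groth.Agent.Lib.Helper61.PSEval2.algHom_ext
      (maximalIdeal (MvPowerSeries (Fin 2) K ⧸ Ideal.span {Qf a b c}))
    · intro i
      rw [hmQ]; exact Ideal.subset_span ⟨i, rfl⟩
    · intro i
      rw [AlgHom.comp_apply, hψ, hy]
  have hψm : ∀ i, ψ (X i) ∈ maximalIdeal (MvPowerSeries (Fin 2) K) := fun i => by
    rw [hψ]; exact hym i
  have hsp : Submodule.span (ResidueField (MvPowerSeries (Fin 2) K)) (Set.range (fun i : Fin 2 =>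
      (maximalIdeal (MvPowerSeries (Fin 2) K)).toCotangent ⟨ψ (X i), hψm i⟩)) = ⊤ := by
    let b' : Fin 2 → maximalIdeal (MvPowerSeries (Fin 2) K) := fun i => ⟨ψ (X i), hψm i⟩
    have h1 : Submodule.span (MvPowerSeries (Fin 2) K) (Set.range b') = ⊤ := by
      apply Submodule.map_injective_of_injective
        (Submodule.injective_subtype (maximalIdeal (MvPowerSeries (Fin 2) K)))
      rw [Submodule.map_span, Submodule.map_top, Submodule.range_subtype, ← Set.range_comp]
      have : (⇑(Submodule.subtype (maximalIdeal (MvPowerSeries (Fin 2) K))) ∘ b') = y :=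
        funext (fun i => hψ i)
      rw [this]
      exact hyspan
    have h2 := IsLocalRing.CotangentSpace.span_image_eq_top_iff.mpr h1
    rw [← Set.range_comp] at h2
    exact h2
  haveI : IsRegularLocalRing (MvPowerSeries (Fin 2) K) :=
    Groth.Agent.Lib.Helper52.WQ.isRegularLocalRing_mvPowerSeries
  have hb : LinearIndependent (ResidueField (MvPowerSeries (Fin 2) K)) (fun i : Fin 2 =>
      (maximalIdeal (MvPowerSeries (Fin 2) K)).toCotangent ⟨ψ (X i), hψm i⟩) := by
    apply linearIndependent_of_top_le_span_of_card_eq_finrank hsp.ge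
    rw [Fintype.card_fin, ← IsLocalRing.spanFinrank_maximalIdeal_eq_finrank_cotangentSpace,
      spanFinrank_maximalIdeal]
  have hbij : Function.Bijective ψ :=
    (Groth.Agent.S11741.result K (MvPowerSeries (Fin 2) K) residue_algebraMap_surjective 2 ψ hψm
      hb hsp).mp inferInstance
  let Ψ : MvPowerSeries (Fin 2) K ≃ₐ[K] MvPowerSeries (Fin 2) K := AlgEquiv.ofBijective ψ hbij
  have hΨ : ∀ p, Ψ p = ψ p := fun p => rfl
  obtain ⟨G, hG⟩ := hbij.2 (Qf a b c)
  have hGker : G ∈ RingHom.ker π'.toRingHom := by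
    rw [RingHom.mem_ker]
    change π' G = 0
    rw [hcomp, AlgHom.comp_apply, hG]
    exact Ideal.Quotient.eq_zero_iff_mem.mpr (Ideal.mem_span_singleton_self _)
  -- the chain rule
  let 𝔞 : Ideal (MvPowerSeries (Fin 2) K) := Ideal.span {pderiv K 0 G, pderiv K 1 G}
  have h𝔞 : 𝔞 ≤ jcIdeal (RingHom.ker π'.toRingHom) := by
    rw [Ideal.span_le]
    rintro z (rfl | rfl)
    · exact pderiv_mem_jcIdeal _ hGker 0
    · exact pderiv_mem_jcIdeal _ hGker 1
  have hchain : ∀ b' : Fin 2, pderiv K b' (Qf a b c) ∈ 𝔞.map ψ.toRingHom := by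
    intro b'
    have h1 := derivation_eq_pderiv (conjDer Ψ (pderiv K b')) G
    rw [conjDer_apply, hΨ, hG] at h1
    have h2 := congrArg Ψ h1
    rw [AlgEquiv.apply_symm_apply, map_add, map_mul, map_mul] at h2
    rw [h2]
    refine Ideal.add_mem _ (Ideal.mul_mem_left _ _ ?_) (Ideal.mul_mem_left _ _ ?_)
    · exact Ideal.mem_map_of_mem _ (Ideal.subset_span (by simp))
    · exact Ideal.mem_map_of_mem _ (Ideal.subset_span (by simp))
  -- the partial derivatives of Q generate 𝔪
  have hΔ : (C (4 * a * c - b ^ 2) : MvPowerSeries (Fin 2) K) = 4 * C a * C c - C b ^ 2 := by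
    rw [map_sub, map_mul, map_mul, map_pow, map_ofNat]
  have hX0 : (X 0 : MvPowerSeries (Fin 2) K) ∈ 𝔞.map ψ.toRingHom := by
    have h1 : (X 0 : MvPowerSeries (Fin 2) K) = C (4 * a * c - b ^ 2)⁻¹ *
        (2 * C c * pderiv K 0 (Qf a b c) - C b * pderiv K 1 (Qf a b c)) := by
      rw [pderiv_zero_Qf, pderiv_one_Qf]
      have h2 : (2 * C c * (2 * C a * X 0 + C b * X 1) - C b * (C b * X 0 + 2 * C c * X 1) :
          MvPowerSeries (Fin 2) K) = C (4 * a * c - b ^ 2) * X 0 := by
        rw [hΔ]; ring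
      rw [h2, ← mul_assoc, ← map_mul, inv_mul_cancel₀ hnd, map_one, one_mul]
    rw [h1]
    exact Ideal.mul_mem_left _ _ (Ideal.sub_mem _ (Ideal.mul_mem_left _ _ (hchain 0))
      (Ideal.mul_mem_left _ _ (hchain 1)))
  have hX1 : (X 1 : MvPowerSeries (Fin 2) K) ∈ 𝔞.map ψ.toRingHom := by
    have h1 : (X 1 : MvPowerSeries (Fin 2) K) = C (4 * a * c - b ^ 2)⁻¹ *
        (2 * C a * pderiv K 1 (Qf a b c) - C b * pderiv K 0 (Qf a b c)) := by
      rw [pderiv_zero_Qf, pderiv_one_Qf]
      have h2 : (2 * C a * (C b * X 0 + 2 * C c * X 1) - C b * (2 * C a * X 0 + C b * X 1) :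
          MvPowerSeries (Fin 2) K) = C (4 * a * c - b ^ 2) * X 1 := by
        rw [hΔ]; ring
      rw [h2, ← mul_assoc, ← map_mul, inv_mul_cancel₀ hnd, map_one, one_mul]
    rw [h1]
    exact Ideal.mul_mem_left _ _ (Ideal.sub_mem _ (Ideal.mul_mem_left _ _ (hchain 1))
      (Ideal.mul_mem_left _ _ (hchain 0)))
  have hmle : maximalIdeal (MvPowerSeries (Fin 2) K) ≤
      𝔞.map ψ.toRingHom := by
    rw [maximalIdeal_eq_pair, Ideal.span_le]
    rintro z (rfl | rfl)
    · exact hX0
    · exact hX1
  apply le_antisymm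
  · have := jcIdeal_le (RingHom.ker π'.toRingHom) 1 hker
    rwa [pow_one] at this
  · intro p hp
    apply h𝔞
    have h1 : ψ p ∈ maximalIdeal (MvPowerSeries (Fin 2) K) := by
      rw [mem_maximalIdeal, mem_nonunits_iff]
      intro hu
      have h2 : IsUnit (Ψ.symm (ψ p)) := hu.map Ψ.symm
      rw [← hΨ, AlgEquiv.symm_apply_apply] at h2
      exact (mem_maximalIdeal _).mp hp h2
    obtain ⟨z, hz, hzp⟩ := (Ideal.mem_map_iff_of_surjective _ hbij.2).mp (hmle h1)
    have : z = p := hbij.1 hzp
    rw [← this]; exact hz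

end Groth.Agent.Lib.Helper76.Jac
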