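import Mathlib
import Groth.Agent.Lib.Helper61.MvPSComplete
import Groth.Agent.Lib.Helper76.JacE

/-!
# Assembly on the `A`-side for S6574: the minor ideal in terms of the minimal presentation
-/

set_option autoImplicit false
set_option linter.style.haveILetI false

namespace Groth.Agent.Lib.Helper76.Jac

open IsLocalRing MvPowerSeries

universe u

variable {k : Type u} [Field k]

theorem mem_maximalIdeal_iff {d : ℕ} (p : MvPowerSeries (Fin d) k) :
    p ∈ maximalIdeal (MvPowerSeries (Fin d) k) ↔ constantCoeff p = 0 := by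
  rw [mem_maximalIdeal, mem_nonunits_iff, MvPowerSeries.isUnit_iff_constantCoeff,
    isUnit_iff_ne_zero, not_not]

theorem rename_mem_maximalIdeal {e n : ℕ} (c : Fin e ↪ Fin n) {p : MvPowerSeries (Fin e) k}
    (hp : p ∈ maximalIdeal (MvPowerSeries (Fin e) k)) :
    rename c p ∈ maximalIdeal (MvPowerSeries (Fin n) k) := by
  rw [mem_maximalIdeal_iff] at hp ⊢
  rw [constantCoeff_rename, hp]

theorem X_notMem_sq {d : ℕ} (i : Fin d) :
    (X i : MvPowerSeries (Fin d) k) ∉ maximalIdeal (MvPowerSeries (Fin d) k) ^ 2 := by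
  intro h
  rw [Groth.Agent.S11741.maximalIdeal_mvPowerSeries_eq,
    Groth.Agent.Lib.Helper61.MvPSComplete.mem_pow_iff] at h
  have h1 : coeff (Finsupp.single i 1) (X i : MvPowerSeries (Fin d) k) = 0 := by
    apply coeff_of_lt_order
    refine lt_of_lt_of_le ?_ h
    rw [Finsupp.degree_single]
    norm_num
  rw [coeff_index_single_self_X] at h1
  exact one_ne_zero h1

section Sigma

variable {n e : ℕ} (c : Fin e ↪ Fin n)
  (σ : MvPowerSeries (Fin n) k →ₐ[k] MvPowerSeries (Fin e) k)

theorem pderiv_g (i i' : {i : Fin n // i ∉ Set.range c}) (q : MvPowerSeries (Fin e) k) :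
    pderiv k i'.1 (X i.1 - rename c q) = if i = i' then 1 else 0 := by
  rw [map_sub, pderiv_rename_of_notMem c i'.1 i'.2, sub_zero]
  split_ifs with hii
  · rw [hii]; exact pderiv_X_self
  · exact pderiv_X_of_ne (fun h' => hii (Subtype.ext h'))

variable (hsec : ∀ p, σ (rename c p) = p)
  (hσm : ∀ i, σ (X i) ∈ maximalIdeal (MvPowerSeries (Fin e) k))

include hσm in
theorem sigma_mem_maximalIdeal {a : MvPowerSeries (Fin n) k}
    (ha : a ∈ maximalIdeal (MvPowerSeries (Fin n) k)) :
    σ a ∈ maximalIdeal (MvPowerSeries (Fin e) k) := by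
  have h1 : (maximalIdeal (MvPowerSeries (Fin n) k)).map σ.toRingHom ≤
      maximalIdeal (MvPowerSeries (Fin e) k) := by
    rw [Groth.Agent.S11741.maximalIdeal_mvPowerSeries_eq k n, Ideal.map_span, Ideal.span_le]
    rintro _ ⟨_, ⟨i, rfl⟩, rfl⟩
    exact hσm i
  exact h1 (Ideal.mem_map_of_mem _ ha)

include hσm in
theorem mem_maximalIdeal_of_sigma {a : MvPowerSeries (Fin n) k}
    (ha : σ a ∈ maximalIdeal (MvPowerSeries (Fin e) k)) :
    a ∈ maximalIdeal (MvPowerSeries (Fin n) k) := by
  rw [mem_maximalIdeal, mem_nonunits_iff]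
  intro hu
  exact (mem_maximalIdeal _).mp ha (hu.map σ)

include hsec in
theorem sigma_X_c (j : Fin e) : σ (X (c j)) = X j := by
  rw [← rename_X, hsec]

include hsec hσm in
theorem ker_sigma : RingHom.ker σ.toRingHom = Ideal.span (Set.range
    (fun i : {i : Fin n // i ∉ Set.range c} => X i.1 - rename c (σ (X i.1)))) := by
  classical
  apply le_antisymm
  · set 𝔤 := Ideal.span (Set.range
      (fun i : {i : Fin n // i ∉ Set.range c} => X i.1 - rename c (σ (X i.1)))) with h𝔤
    have h𝔤m : 𝔤 ≤ maximalIdeal (MvPowerSeries (Fin n) k) := by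
      rw [h𝔤, Ideal.span_le]
      rintro _ ⟨i, rfl⟩
      exact Ideal.sub_mem _ (X_mem_maximalIdeal _) (rename_mem_maximalIdeal c (hσm _))
    have h𝔤ne : 𝔤 ≠ ⊤ := by
      intro h
      have h1 : (1 : MvPowerSeries (Fin n) k) ∈ maximalIdeal (MvPowerSeries (Fin n) k) :=
        h𝔤m (h ▸ Submodule.mem_top)
      exact (mem_maximalIdeal _).mp h1 isUnit_one
    haveI : Nontrivial (MvPowerSeries (Fin n) k ⧸ 𝔤) := Ideal.Quotient.nontrivial_iff.mpr h𝔤ne
    haveI : IsLocalRing (MvPowerSeries (Fin n) k ⧸ 𝔤) :=
      IsLocalRing.of_surjective' (Ideal.Quotient.mk _) Ideal.Quotient.mk_surjective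
    let mk := Ideal.Quotient.mkₐ k 𝔤
    have hmksurj : Function.Surjective mk := Ideal.Quotient.mkₐ_surjective k _
    have hlocmk : IsLocalHom mk.toRingHom := hmksurj.isLocalHom _
    have hcomapmk : (maximalIdeal _).comap mk.toRingHom =
        maximalIdeal (MvPowerSeries (Fin n) k) :=
      ((local_hom_TFAE mk.toRingHom).out 0 4).mp hlocmk
    have hdiff : ∀ i : Fin n, X i - rename c (σ (X i)) ∈ 𝔤 := by
      intro i
      by_cases hi : i ∈ Set.range c
      · obtain ⟨j, rfl⟩ := hi
        rw [sigma_X_c c σ hsec, rename_X, sub_self]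
        exact zero_mem _
      · exact Ideal.subset_span ⟨⟨i, hi⟩, rfl⟩
    have hcomp : mk = (mk.comp (rename c)).comp σ := by
      apply Groth.Agent.Lib.Helper61.PSEval2.algHom_ext
        (maximalIdeal (MvPowerSeries (Fin n) k ⧸ 𝔤))
      · intro i
        have : X i ∈ (maximalIdeal _).comap mk.toRingHom := by
          rw [hcomapmk]; exact X_mem_maximalIdeal i
        exact this
      · intro i
        rw [AlgHom.comp_apply, AlgHom.comp_apply]
        exact Ideal.Quotient.eq.mpr (hdiff i)
    intro a ha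
    rw [RingHom.mem_ker] at ha
    have ha' : σ a = 0 := ha
    have h1 : mk a = 0 := by
      rw [hcomp, AlgHom.comp_apply, ha', map_zero]
    exact Ideal.Quotient.eq_zero_iff_mem.mp h1
  · rw [Ideal.span_le]
    rintro _ ⟨i, rfl⟩
    rw [SetLike.mem_coe, RingHom.mem_ker]
    change σ (X i.1 - rename c (σ (X i.1))) = 0
    rw [map_sub, hsec, sub_self]

include hsec hσm in
theorem comap_eq_span_adapted {s : ℕ} (I' : Ideal (MvPowerSeries (Fin e) k))
    (G' : Fin s → MvPowerSeries (Fin e) k) (hG' : Ideal.span (Set.range G') = I') :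
    I'.comap σ.toRingHom = Ideal.span (Set.range (adapted c (fun i => σ (X i)) G')) := by
  have hrange : Set.range (adapted c (fun i => σ (X i)) G') =
      Set.range (fun i : {i : Fin n // i ∉ Set.range c} => X i.1 - rename c (σ (X i.1))) ∪
      Set.range (fun j => rename c (G' j)) := by
    unfold adapted
    rw [Set.Sum.elim_range]
  rw [hrange, Ideal.span_union, ← ker_sigma c σ hsec hσm]
  apply le_antisymm
  · intro a ha
    have ha' : σ a ∈ I' := ha
    have h1 : a = (a - rename c (σ a)) + rename c (σ a) := by ring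
    rw [h1]
    refine Ideal.add_mem _ (Ideal.mem_sup_left ?_) (Ideal.mem_sup_right ?_)
    · rw [RingHom.mem_ker]
      change σ (a - rename c (σ a)) = 0
      rw [map_sub, hsec, sub_self]
    · have h2 : rename c (σ a) ∈ I'.map (rename c : MvPowerSeries (Fin e) k →ₐ[k]
          MvPowerSeries (Fin n) k).toRingHom := Ideal.mem_map_of_mem _ ha'
      rw [← hG', Ideal.map_span, ← Set.range_comp] at h2
      exact h2
  · refine sup_le ?_ ?_
    · intro a ha
      rw [RingHom.mem_ker] at ha
      have ha' : σ a = 0 := ha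
      change σ a ∈ I'
      rw [ha']; exact zero_mem _
    · rw [Ideal.span_le]
      rintro _ ⟨j, rfl⟩
      change σ (rename c (G' j)) ∈ I'
      rw [hsec, ← hG']
      exact Ideal.subset_span ⟨j, rfl⟩

variable {m : ℕ} (f : Fin m → MvPowerSeries (Fin n) k) (I' : Ideal (MvPowerSeries (Fin e) k))
  (hf : Ideal.span (Set.range f) = I'.comap σ.toRingHom)
  (hI' : I' ≤ maximalIdeal (MvPowerSeries (Fin e) k) ^ 2)

include hsec in
theorem g_mem (hf : Ideal.span (Set.range f) = I'.comap σ.toRingHom) (i : Fin n) :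
    X i - rename c (σ (X i)) ∈ Ideal.span (Set.range f) := by
  rw [hf]
  change σ (X i - rename c (σ (X i))) ∈ I'
  rw [map_sub, hsec, sub_self]
  exact zero_mem _

include hsec in
theorem rename_mem (hf : Ideal.span (Set.range f) = I'.comap σ.toRingHom)
    {G : MvPowerSeries (Fin e) k} (hG : G ∈ I') :
    rename c G ∈ Ideal.span (Set.range f) := by
  rw [hf]
  change σ (rename c G) ∈ I'
  rw [hsec]; exact hG

include hsec hf in
/-- Case `e ≤ 1`: the minor ideal is the unit ideal. -/
theorem minorIdeal_eq_top (he : e ≤ 1) (r : ℕ) (hr : r = n - 1) :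
    minorIdeal r f = ⊤ := by
  classical
  have hcard : Fintype.card (Fin r) ≤ Fintype.card {i : Fin n // i ∉ Set.range c} := by
    rw [card_T, Fintype.card_fin]; omega
  obtain ⟨ρ₁⟩ := Function.Embedding.nonempty_of_card_le hcard
  let Fs : Fin r → MvPowerSeries (Fin n) k :=
    fun a => X (ρ₁ a).1 - rename c (σ (X (ρ₁ a).1))
  have hFs : ∀ a, Fs a ∈ Ideal.span (Set.range f) := fun a => g_mem c σ hsec f I' hf _
  have hγ : Function.Injective (fun a => (ρ₁ a).1) :=
    Subtype.val_injective.comp ρ₁.injective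
  have h1 := det_mem_minorIdeal r f Fs hFs (fun a => (ρ₁ a).1) hγ
  have h2 : (Matrix.of fun (i j : Fin r) => pderiv k (ρ₁ j).1 (Fs i)) = 1 := by
    ext i j
    rw [Matrix.of_apply, pderiv_g, Matrix.one_apply]
    simp only [ρ₁.injective.eq_iff]
  rw [h2, Matrix.det_one] at h1
  exact (Ideal.eq_top_iff_one _).mpr h1

include hsec hσm hf hI' in
/-- Case `e ≥ 3`: the minor ideal is not the maximal ideal. -/
theorem minorIdeal_ne_maximalIdeal (he : 3 ≤ e) (r : ℕ) (hr : r = n - 1) :
    minorIdeal r f ≠ maximalIdeal (MvPowerSeries (Fin n) k) := by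
  classical
  intro hN
  have hen : e ≤ n := by
    have := Fintype.card_le_of_embedding c
    simpa using this
  obtain ⟨s, G', hG'⟩ := (Submodule.fg_iff_exists_fin_generating_family).mp
    (IsNoetherian.noetherian I')
  have hG'I : ∀ j, G' j ∈ I' := fun j => hG' ▸ Ideal.subset_span ⟨j, rfl⟩
  have hfa : Ideal.span (Set.range f) =
      Ideal.span (Set.range (adapted c (fun i => σ (X i)) G')) := by
    rw [hf]; exact comap_eq_span_adapted c σ hsec hσm I' G' hG'
  have hd : derIdeal c G' ≤ maximalIdeal (MvPowerSeries (Fin n) k) := by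
    unfold derIdeal
    rw [Ideal.span_le]
    rintro _ ⟨bj, rfl⟩
    apply rename_mem_maximalIdeal
    have := derivation_pow_mem (pderiv k bj.1) (maximalIdeal (MvPowerSeries (Fin e) k)) 1
      (hI' (hG'I bj.2))
    rwa [pow_one] at this
  have hle := minorIdeal_le_of_three_le c (fun i => σ (X i)) G' f hfa (r := r) (by omega) hd
  rw [hN] at hle
  have j0 : Fin e := ⟨0, by omega⟩
  have hX : X (c j0) ∈ maximalIdeal (MvPowerSeries (Fin n) k) := X_mem_maximalIdeal _
  obtain ⟨u, hu, v, hv, huv⟩ := Submodule.mem_sup.mp (hle hX)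
  have h1 : X j0 = σ u + σ v := by
    rw [← map_add, huv, sigma_X_c c σ hsec]
  have hσu : σ u ∈ maximalIdeal (MvPowerSeries (Fin e) k) ^ 2 := by
    have h2 : (maximalIdeal (MvPowerSeries (Fin n) k) ^ 2).map σ.toRingHom ≤
        maximalIdeal (MvPowerSeries (Fin e) k) ^ 2 := by
      rw [Ideal.map_pow]
      apply Ideal.pow_right_mono
      rw [Ideal.map_le_iff_le_comap]
      intro a ha
      exact sigma_mem_maximalIdeal σ hσm ha
    exact h2 (Ideal.mem_map_of_mem _ hu)
  have hσv : σ v ∈ maximalIdeal (MvPowerSeries (Fin e) k) ^ 2 := by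
    rw [hf] at hv
    exact hI' hv
  apply X_notMem_sq (k := k) j0
  rw [h1]
  exact Ideal.add_mem _ hσu hσv

end Sigma

section Two

variable {n : ℕ} (c : Fin 2 ↪ Fin n)
  (σ : MvPowerSeries (Fin n) k →ₐ[k] MvPowerSeries (Fin 2) k)
  (hsec : ∀ p, σ (rename c p) = p)
  (hσm : ∀ i, σ (X i) ∈ maximalIdeal (MvPowerSeries (Fin 2) k))
  {m : ℕ} (f : Fin m → MvPowerSeries (Fin n) k) (I' : Ideal (MvPowerSeries (Fin 2) k))
  (hf : Ideal.span (Set.range f) = I'.comap σ.toRingHom)
  (hI' : I' ≤ maximalIdeal (MvPowerSeries (Fin 2) k) ^ 2)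

include hsec hf in
/-- The explicit minor computing a partial derivative. -/
theorem rename_pderiv_mem_minorIdeal (r : ℕ) (hr : r = n - 1)
    {G : MvPowerSeries (Fin 2) k} (hG : G ∈ I') (b : Fin 2) :
    rename c (pderiv k b G) ∈ minorIdeal r f := by
  classical
  have hen : 2 ≤ n := by
    have := Fintype.card_le_of_embedding c
    simpa using this
  obtain ⟨n', rfl⟩ : ∃ n', n = n' + 2 := ⟨n - 2, by omega⟩
  have hr' : r = n' + 1 := by omega
  subst hr'
  have hcard : Fintype.card {i : Fin (n' + 2) // i ∉ Set.range c} = n' := by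
    rw [card_T]; omega
  let ε₁ : Fin n' ≃ {i : Fin (n' + 2) // i ∉ Set.range c} :=
    (Fintype.equivFinOfCardEq hcard).symm
  let Fs : Fin (n' + 1) → MvPowerSeries (Fin (n' + 2)) k :=
    Fin.snoc (fun a : Fin n' => X (ε₁ a).1 - rename c (σ (X (ε₁ a).1))) (rename c G)
  let γ : Fin (n' + 1) → Fin (n' + 2) := Fin.snoc (fun a : Fin n' => (ε₁ a).1) (c b)
  have hFs : ∀ a, Fs a ∈ Ideal.span (Set.range f) := by
    intro a
    cases a using Fin.lastCases with
    | last =>
      simp only [Fs, Fin.snoc_last]
      exact rename_mem c σ hsec f I' hf hG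
    | cast a =>
      simp only [Fs, Fin.snoc_castSucc]
      exact g_mem c σ hsec f I' hf _
  have hγ : Function.Injective γ := by
    intro a a' haa
    cases a using Fin.lastCases with
    | last =>
      cases a' using Fin.lastCases with
      | last => rfl
      | cast a' =>
        simp only [γ, Fin.snoc_last, Fin.snoc_castSucc] at haa
        exact absurd ⟨b, haa⟩ (ε₁ a').2
    | cast a =>
      cases a' using Fin.lastCases with
      | last =>
        simp only [γ, Fin.snoc_last, Fin.snoc_castSucc] at haa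
        exact absurd ⟨b, haa.symm⟩ (ε₁ a).2
      | cast a' =>
        simp only [γ, Fin.snoc_castSucc] at haa
        rw [ε₁.injective (Subtype.ext haa)]
  have h1 := det_mem_minorIdeal (n' + 1) f Fs hFs γ hγ
  have hdet : (Matrix.of fun (i j : Fin (n' + 1)) => pderiv k (γ j) (Fs i)).det =
      rename c (pderiv k b G) := by
    rw [Matrix.det_of_isUpperTriangular]
    · rw [Fin.prod_univ_castSucc]
      simp only [Matrix.of_apply, Fs, γ, Fin.snoc_castSucc, Fin.snoc_last, pderiv_g, if_true,
        Finset.prod_const_one, one_mul]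
      exact pderiv_rename c b G
    · intro i j hji
      simp only [id] at hji
      rw [Matrix.of_apply]
      cases i using Fin.lastCases with
      | last =>
        cases j using Fin.lastCases with
        | last => exact absurd hji (lt_irrefl _)
        | cast j =>
          simp only [Fs, γ, Fin.snoc_castSucc, Fin.snoc_last]
          exact pderiv_rename_of_notMem c _ (ε₁ j).2 _
      | cast i =>
        cases j using Fin.lastCases with
        | last =>
          exact absurd hji (not_lt.mpr (Fin.le_last _))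
        | cast j =>
          simp only [Fs, γ, Fin.snoc_castSucc]
          rw [pderiv_g, if_neg]
          intro hij
          have : i = j := ε₁.injective hij
          rw [this] at hji
          exact lt_irrefl _ hji
  rw [hdet] at h1
  exact h1

include hsec hσm hf hI' in
/-- Case `e = 2`: the minor ideal is the maximal ideal iff the Jacobian condition holds for the
minimal presentation. -/
theorem minorIdeal_eq_maximalIdeal_iff (r : ℕ) (hr : r = n - 1) :
    minorIdeal r f = maximalIdeal (MvPowerSeries (Fin n) k) ↔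
      jcIdeal I' = maximalIdeal (MvPowerSeries (Fin 2) k) := by
  classical
  have hen : 2 ≤ n := by
    have := Fintype.card_le_of_embedding c
    simpa using this
  obtain ⟨s, G', hG'⟩ := (Submodule.fg_iff_exists_fin_generating_family).mp
    (IsNoetherian.noetherian I')
  have hG'I : ∀ j, G' j ∈ I' := fun j => hG' ▸ Ideal.subset_span ⟨j, rfl⟩
  have hfa : Ideal.span (Set.range f) =
      Ideal.span (Set.range (adapted c (fun i => σ (X i)) G')) := by
    rw [hf]; exact comap_eq_span_adapted c σ hsec hσm I' G' hG'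
  have hd : derIdeal c G' ≤ maximalIdeal (MvPowerSeries (Fin n) k) := by
    unfold derIdeal
    rw [Ideal.span_le]
    rintro _ ⟨bj, rfl⟩
    apply rename_mem_maximalIdeal
    have := derivation_pow_mem (pderiv k bj.1) (maximalIdeal (MvPowerSeries (Fin 2) k)) 1
      (hI' (hG'I bj.2))
    rwa [pow_one] at this
  have hle := minorIdeal_le_of_two_le c (fun i => σ (X i)) G' f hfa (r := r) (by omega)
  have hjcle : jcIdeal I' ≤ maximalIdeal (MvPowerSeries (Fin 2) k) := by
    have := jcIdeal_le I' 1 hI'
    rwa [pow_one] at this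
  constructor
  · intro hN
    apply le_antisymm hjcle
    intro p hp
    have h1 : rename c p ∈ derIdeal c G' ⊔ Ideal.span (Set.range f) := by
      apply hle
      rw [hN]
      exact rename_mem_maximalIdeal c hp
    have h2 : σ (rename c p) ∈ (derIdeal c G' ⊔ Ideal.span (Set.range f)).map σ.toRingHom :=
      Ideal.mem_map_of_mem _ h1
    rw [hsec] at h2
    refine (?_ : (derIdeal c G' ⊔ Ideal.span (Set.range f)).map σ.toRingHom ≤ jcIdeal I') h2
    rw [Ideal.map_sup]
    refine sup_le ?_ ?_
    · unfold derIdeal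
      rw [Ideal.map_span, Ideal.span_le]
      rintro _ ⟨_, ⟨bj, rfl⟩, rfl⟩
      change σ (rename c (pderiv k bj.1 (G' bj.2))) ∈ _
      rw [hsec]
      exact pderiv_mem_jcIdeal I' (hG'I bj.2) bj.1
    · rw [hf]
      exact Ideal.map_comap_le.trans le_sup_left
  · intro hJC
    apply le_antisymm
    · refine hle.trans (sup_le hd ?_)
      rw [hf]
      intro a ha
      have ha' : σ a ∈ I' := ha
      apply mem_maximalIdeal_of_sigma σ hσm
      exact Ideal.pow_le_self (by norm_num) (hI' ha')
    · have hι : ∀ p ∈ maximalIdeal (MvPowerSeries (Fin 2) k), rename c p ∈ minorIdeal r f := by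
        have h1 : (jcIdeal I').map (rename c : MvPowerSeries (Fin 2) k →ₐ[k]
            MvPowerSeries (Fin n) k).toRingHom ≤ minorIdeal r f := by
          unfold jcIdeal
          rw [Ideal.map_sup]
          refine sup_le ?_ ?_
          · rw [Ideal.map_le_iff_le_comap]
            intro G hG
            exact span_le_minorIdeal r f (rename_mem c σ hsec f I' hf hG)
          · rw [Ideal.map_span, Ideal.span_le]
            rintro _ ⟨_, ⟨G, hG, b, rfl⟩, rfl⟩
            exact rename_pderiv_mem_minorIdeal c σ hsec f I' hf r hr hG b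
        intro p hp
        rw [← hJC] at hp
        exact h1 (Ideal.mem_map_of_mem _ hp)
      rw [Groth.Agent.S11741.maximalIdeal_mvPowerSeries_eq k n, Ideal.span_le]
      rintro _ ⟨i, rfl⟩
      have h1 : X i = (X i - rename c (σ (X i))) + rename c (σ (X i)) := by ring
      rw [h1]
      exact Ideal.add_mem _ (span_le_minorIdeal r f (g_mem c σ hsec f I' hf i))
        (hι _ (hσm i))

end Two

end Groth.Agent.Lib.Helper76.Jac
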