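import Mathlib
import Groth.Prelude.Def_CAlg
import Groth.Agent.Lib.Helper38.ComplNagata
import Groth.Agent.Lib.Helper67.Depth
import Groth.Agent.Lib.Helper52.WQParam
import Groth.Agent.Lib.Helper76.JacF

/-!
# Main theorem for S6574
-/

set_option autoImplicit false
set_option linter.style.haveILetI false

namespace Groth.Agent.Lib.Helper76.Jac

open IsLocalRing MvPowerSeries Groth.Agent.Lib.Helper76.Node

universe u

section Main

variable (k : Type u) [Field k] (n m : ℕ) (f : Fin m → MvPowerSeries (Fin n) k)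

local notation "𝔄" => MvPowerSeries (Fin n) k
local notation "ℑ" => Ideal.span (Set.range f)
local notation "𝔅" => (MvPowerSeries (Fin n) k ⧸ Ideal.span (Set.range f))
local notation "𝔓" => MvPowerSeries (Fin 2) k

theorem main (hf : ∀ j, f j ∈ maximalIdeal 𝔄) :
    ((∃ a b c : k, 4 * a * c - b ^ 2 ≠ 0 ∧
        Nonempty (𝔅 ≃ₐ[k] (𝔓 ⧸ Ideal.span {Qf a b c}))) ↔
      (IsReduced 𝔅 ∧ minorIdeal (n - 1) f = maximalIdeal 𝔄)) ∧
    ((IsReduced 𝔅 ∧ minorIdeal (n - 1) f = maximalIdeal 𝔄) ↔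
      (LocCoh.depth 𝔄 𝔅 = 1 ∧ minorIdeal (n - 1) f = maximalIdeal 𝔄)) := by
  classical
  have hIm : ℑ ≤ maximalIdeal 𝔄 := by
    rw [Ideal.span_le]; rintro _ ⟨j, rfl⟩; exact hf j
  have hIne : ℑ ≠ ⊤ := by
    intro h
    have h1 : (1 : 𝔄) ∈ maximalIdeal 𝔄 := hIm (h ▸ Submodule.mem_top)
    exact (mem_maximalIdeal _).mp h1 isUnit_one
  haveI : Nontrivial 𝔅 := Ideal.Quotient.nontrivial_iff.mpr hIne
  haveI : IsLocalRing 𝔅 :=
    IsLocalRing.of_surjective' (Ideal.Quotient.mk _) Ideal.Quotient.mk_surjective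
  haveI : IsAdicComplete (maximalIdeal 𝔅) 𝔅 :=
    Groth.Agent.Lib.Helper38.ComplNagata.isAdicComplete_quotient 𝔄 ℑ
  have hmkloc : IsLocalHom (Ideal.Quotient.mk ℑ) :=
    (Ideal.Quotient.mk_surjective (I := ℑ)).isLocalHom _
  have hmkm : ∀ x ∈ maximalIdeal 𝔄, Ideal.Quotient.mk ℑ x ∈ maximalIdeal 𝔅 := by
    intro x hx
    rw [mem_maximalIdeal, mem_nonunits_iff]
    intro hu
    exact (mem_maximalIdeal _).mp hx (hmkloc.map_nonunit _ hu)
  have hR : Function.Surjective ((residue 𝔅).comp (algebraMap k 𝔅)) := by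
    intro x
    obtain ⟨y, rfl⟩ := residue_surjective x
    obtain ⟨a, rfl⟩ := Ideal.Quotient.mk_surjective y
    refine ⟨constantCoeff a, ?_⟩
    rw [RingHom.comp_apply]
    symm
    rw [← sub_eq_zero, ← map_sub, residue_eq_zero_iff]
    have h1 : Ideal.Quotient.mk ℑ a - algebraMap k 𝔅 (constantCoeff a) =
        Ideal.Quotient.mk ℑ (a - C (constantCoeff a)) := by
      rw [map_sub]; rfl
    rw [h1]
    apply hmkm
    rw [mem_maximalIdeal_iff]
    simp
  let φ : 𝔄 →ₐ[k] 𝔅 := Ideal.Quotient.mkₐ k ℑ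
  have hφ : Function.Surjective φ := Ideal.Quotient.mkₐ_surjective k ℑ
  obtain ⟨e, c, π, σ, hee, hπsurj, hπker, hcomp, hsec, hσm⟩ := exists_structure k 𝔅 hR φ hφ
  have hfI : ℑ = (RingHom.ker π.toRingHom).comap σ.toRingHom := by
    ext a
    rw [Ideal.mem_comap, RingHom.mem_ker]
    change a ∈ ℑ ↔ π (σ a) = 0
    rw [hcomp]
    exact Ideal.Quotient.eq_zero_iff_mem.symm
  have hmne : maximalIdeal 𝔄 ≠ ⊤ := Ideal.IsPrime.ne_top inferInstance
  -- a node has embedding dimension two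
  have h1e : (∃ a b c : k, 4 * a * c - b ^ 2 ≠ 0 ∧
      Nonempty (𝔅 ≃ₐ[k] (𝔓 ⧸ Ideal.span {Qf a b c}))) → e = 2 := by
    rintro ⟨a₁, b₁, c₁, hnd, ⟨E⟩⟩
    have hsurj : Function.Surjective ((E.symm : (𝔓 ⧸ Ideal.span {Qf a₁ b₁ c₁}) →+* 𝔅).comp
        (Ideal.Quotient.mk (Ideal.span {Qf a₁ b₁ c₁}))) :=
      E.symm.surjective.comp Ideal.Quotient.mk_surjective
    have hk : RingHom.ker ((E.symm : (𝔓 ⧸ Ideal.span {Qf a₁ b₁ c₁}) →+* 𝔅).comp
        (Ideal.Quotient.mk (Ideal.span {Qf a₁ b₁ c₁}))) ≤ maximalIdeal 𝔓 ^ 2 := by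
      intro x hx
      rw [RingHom.mem_ker, RingHom.comp_apply] at hx
      have hx' : E.symm (Ideal.Quotient.mk (Ideal.span {Qf a₁ b₁ c₁}) x) = 0 := hx
      rw [map_eq_zero_iff _ E.symm.injective, Ideal.Quotient.eq_zero_iff_mem,
        Ideal.mem_span_singleton'] at hx'
      obtain ⟨p, rfl⟩ := hx'
      exact Ideal.mul_mem_left _ _ (Qf_mem_sq a₁ b₁ c₁)
    have h2 := spanFinrank_eq_two_of_surjective _ hsurj hk
    rw [hee, ← IsLocalRing.spanFinrank_maximalIdeal_eq_finrank_cotangentSpace]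
    exact h2
  rcases (by omega : e ≤ 1 ∨ e = 2 ∨ 3 ≤ e) with he | he | he
  · have hN : minorIdeal (n - 1) f ≠ maximalIdeal 𝔄 := by
      rw [minorIdeal_eq_top c σ hsec f _ hfI he (n - 1) rfl]
      exact hmne.symm
    exact ⟨⟨fun h => absurd (h1e h) (by omega), fun h => absurd h.2 hN⟩,
      ⟨fun h => absurd h.2 hN, fun h => absurd h.2 hN⟩⟩
  · subst he
    have hiff := minorIdeal_eq_maximalIdeal_iff c σ hsec hσm f _ hfI hπker (n - 1) rfl
    let Eπ : (𝔓 ⧸ RingHom.ker π.toRingHom) ≃ₐ[k] 𝔅 :=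
      (Ideal.quotientEquivAlgOfEq k (by ext x; rfl)).trans
        (Ideal.quotientKerAlgEquivOfSurjective hπsurj)
    -- regular elements from reducedness
    have regP_of_reduced : IsReduced 𝔅 → ∃ t' ∈ maximalIdeal 𝔓,
        ∀ z, t' * z ∈ RingHom.ker π.toRingHom → z ∈ RingHom.ker π.toRingHom := by
      intro hred
      haveI : IsReduced (𝔓 ⧸ RingHom.ker π.toRingHom) :=
        isReduced_of_injective Eπ.toRingEquiv.toRingHom Eπ.injective
      have hrad : (RingHom.ker π.toRingHom).IsRadical :=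
        (Ideal.isRadical_iff_quotient_reduced _).mpr inferInstance
      have hne : RingHom.ker π.toRingHom ≠ maximalIdeal 𝔓 :=
        fun h => by
          have h2 := hπker
          rw [h] at h2
          exact maximalIdeal_not_le_sq (K := k) h2
      exact exists_regular_mod_radical _ hrad hne
    have regP_of_depth : LocCoh.depth 𝔄 𝔅 = 1 → ∃ t' ∈ maximalIdeal 𝔓,
        ∀ z, t' * z ∈ RingHom.ker π.toRingHom → z ∈ RingHom.ker π.toRingHom := by
      intro hd
      have h1 : 1 ≤ LocCoh.depth 𝔄 𝔅 := by rw [hd]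
      unfold LocCoh.depth at h1
      rcases (Groth.Agent.Lib.Helper67.one_le_idealDepth_iff _ _).mp h1 with htop | ⟨t, ht, hreg⟩
      · exact absurd htop (Groth.Agent.Lib.Helper67.maximalIdeal_smul_top_ne_top 𝔅)
      · refine ⟨σ t, sigma_mem_maximalIdeal σ hσm ht, ?_⟩
        intro z' hz'
        have h2 : t * rename c z' ∈ ℑ := by
          rw [hfI]
          change σ (t * rename c z') ∈ RingHom.ker π.toRingHom
          rw [map_mul, hsec]; exact hz'
        have h3 : t • Ideal.Quotient.mk ℑ (rename c z') = 0 :=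
          Ideal.Quotient.eq_zero_iff_mem.mpr h2
        have h4 := hreg.right_eq_zero_of_smul h3
        have h5 : rename c z' ∈ ℑ := Ideal.Quotient.eq_zero_iff_mem.mp h4
        rw [hfI] at h5
        have h6 : σ (rename c z') ∈ RingHom.ker π.toRingHom := h5
        rwa [hsec] at h6
    have core2 : minorIdeal (n - 1) f = maximalIdeal 𝔄 → (∃ t' ∈ maximalIdeal 𝔓,
        ∀ z, t' * z ∈ RingHom.ker π.toRingHom → z ∈ RingHom.ker π.toRingHom) →
        ∃ a b c : k, 4 * a * c - b ^ 2 ≠ 0 ∧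
          Nonempty (𝔅 ≃ₐ[k] (𝔓 ⧸ Ideal.span {Qf a b c})) := by
      rintro hN ⟨t', ht', hreg'⟩
      obtain ⟨a₁, b₁, c₁, hnd, ⟨E⟩⟩ := node_of_jc _ hπker (hiff.mp hN) t' ht' hreg'
      exact ⟨a₁, b₁, c₁, hnd, ⟨Eπ.symm.trans E⟩⟩
    have core1 : (∃ a b c : k, 4 * a * c - b ^ 2 ≠ 0 ∧
        Nonempty (𝔅 ≃ₐ[k] (𝔓 ⧸ Ideal.span {Qf a b c}))) →
        IsReduced 𝔅 ∧ minorIdeal (n - 1) f = maximalIdeal 𝔄 ∧ LocCoh.depth 𝔄 𝔅 = 1 := by
      rintro ⟨a₁, b₁, c₁, hnd, ⟨E⟩⟩
      haveI hredQ := isReduced_quot a₁ b₁ c₁ hnd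
      have hred : IsReduced 𝔅 := isReduced_of_injective E.toRingEquiv.toRingHom E.injective
      let π' : 𝔓 →ₐ[k] (𝔓 ⧸ Ideal.span {Qf a₁ b₁ c₁}) := E.toAlgHom.comp π
      have hπ'surj : Function.Surjective π' := E.surjective.comp hπsurj
      have hk : RingHom.ker π'.toRingHom = RingHom.ker π.toRingHom := by
        ext x
        rw [RingHom.mem_ker, RingHom.mem_ker]
        change E (π x) = 0 ↔ π x = 0
        exact map_eq_zero_iff _ E.injective
      have hJC := jc_of_node a₁ b₁ c₁ hnd π' hπ'surj (by rw [hk]; exact hπker)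
      rw [hk] at hJC
      have hN := hiff.mpr hJC
      refine ⟨hred, hN, ?_⟩
      obtain ⟨t', ht', hreg'⟩ := regP_of_reduced hred
      have ht : rename c t' ∈ maximalIdeal 𝔄 := rename_mem_maximalIdeal c ht'
      have hregt : ∀ z, rename c t' * z ∈ ℑ → z ∈ ℑ := by
        intro z hz
        rw [hfI] at hz ⊢
        have h2 : σ (rename c t' * z) ∈ RingHom.ker π.toRingHom := hz
        rw [map_mul, hsec] at h2
        exact hreg' _ h2
      have hsm : IsSMulRegular 𝔅 (rename c t') := by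
        rw [isSMulRegular_iff_right_eq_zero_of_smul]
        intro x hx
        obtain ⟨z, rfl⟩ := Ideal.Quotient.mk_surjective x
        have h2 : Ideal.Quotient.mk ℑ (rename c t' * z) = 0 := hx
        exact Ideal.Quotient.eq_zero_iff_mem.mpr
          (hregt z (Ideal.Quotient.eq_zero_iff_mem.mp h2))
      have h1le : 1 ≤ LocCoh.depth 𝔄 𝔅 := by
        unfold LocCoh.depth
        exact (Groth.Agent.Lib.Helper67.one_le_idealDepth_iff _ _).mpr
          (Or.inr ⟨rename c t', ht, hsm⟩)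
      have hle1 : LocCoh.depth 𝔄 𝔅 ≤ 1 := by
        have h2 := Groth.Agent.Lib.Helper67.depth_le_supportDim (R := 𝔄) 𝔅
        rw [Module.supportDim_quotient_eq_ringKrullDim,
          ringKrullDim_eq_of_ringEquiv E.toRingEquiv] at h2
        have hQne : Qf a₁ b₁ c₁ ≠ 0 := fun h0 =>
          not_sq_dvd_Qf a₁ b₁ c₁ hnd (X 0) (Node.X_mem_maximalIdeal 0) (h0 ▸ dvd_zero _)
        haveI : IsRegularLocalRing 𝔓 :=
          Groth.Agent.Lib.Helper52.WQ.isRegularLocalRing_mvPowerSeries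
        haveI : IsDomain 𝔓 := isDomain_of_isRegularLocalRing 𝔓
        have hQnz : Qf a₁ b₁ c₁ ∈ nonZeroDivisors 𝔓 := mem_nonZeroDivisors_of_ne_zero hQne
        have h4 := ringKrullDim_quotient_succ_le_of_nonZeroDivisor hQnz
        rw [Groth.Agent.Lib.Helper52.WQ.ringKrullDim_mvPowerSeries] at h4
        by_contra hlt
        push Not at hlt
        have h5 : (2 : ℕ∞) ≤ LocCoh.depth 𝔄 𝔅 := by
          have := Order.add_one_le_of_lt hlt
          rwa [one_add_one_eq_two] at this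
        have h6 : ((2 : ℕ∞) : WithBot ℕ∞) ≤ ringKrullDim (𝔓 ⧸ Ideal.span {Qf a₁ b₁ c₁}) :=
          le_trans (WithBot.coe_le_coe.mpr h5) h2
        have h7 : ((2 : ℕ∞) : WithBot ℕ∞) + 1 ≤ ((2 : ℕ) : WithBot ℕ∞) :=
          le_trans (add_le_add_left h6 1) h4
        have h8 : (((2 : ℕ∞) + 1 : ℕ∞) : WithBot ℕ∞) ≤ ((2 : ℕ∞) : WithBot ℕ∞) := by
          rw [WithBot.coe_add, WithBot.coe_one]; exact h7
        rw [WithBot.coe_le_coe] at h8
        have h9 : (3 : ℕ) ≤ 2 := by exact_mod_cast h8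
        exact absurd h9 (by norm_num)
      exact le_antisymm hle1 h1le
    refine ⟨⟨fun h => ⟨(core1 h).1, (core1 h).2.1⟩,
      fun h => core2 h.2 (regP_of_reduced h.1)⟩, ⟨fun h => ?_, fun h => ?_⟩⟩
    · have h1 := core1 (core2 h.2 (regP_of_reduced h.1))
      exact ⟨h1.2.2, h.2⟩
    · have h1 := core1 (core2 h.2 (regP_of_depth h.1))
      exact ⟨h1.1, h.2⟩
  · have hN : minorIdeal (n - 1) f ≠ maximalIdeal 𝔄 :=
      minorIdeal_ne_maximalIdeal c σ hsec hσm f _ hfI hπker he (n - 1) rfl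
    exact ⟨⟨fun h => absurd (h1e h) (by omega), fun h => absurd h.2 hN⟩,
      ⟨fun h => absurd h.2 hN, fun h => absurd h.2 hN⟩⟩

end Main

end Groth.Agent.Lib.Helper76.Jac
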