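import Groth.Agent.Lib.Helper76.WbG
import Groth.Agent.Lib.Helper43.KRPoly
import Groth.Prelude.Def_Disc

/-!
# helper76: the Noether different of a flat global complete intersection `A[x]/(F_1..F_n)` with
Koszul-regular relations is generated by the Jacobian determinant.
-/

set_option autoImplicit false
set_option linter.unusedSimpArgs false
set_option linter.unusedSectionVars false
set_option linter.unusedVariables false
universe u

open TensorProduct MvPolynomial

namespace Groth.Agent.Lib.Helper76.Jd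

variable {A : Type u} [CommRing A] {n : ℕ} (F : Fin n → MvPolynomial (Fin n) A)

/-- the classes of the variables -/
noncomputable def xb : Fin n → MvPolynomial (Fin n) A ⧸ Ideal.span (Set.range F) :=
  fun j => Ideal.Quotient.mk _ (X j)

/-- `A[x] ⊗_A B ≅ B[x]` -/
noncomputable def Phi :
    (MvPolynomial (Fin n) A ⊗[A] (MvPolynomial (Fin n) A ⧸ Ideal.span (Set.range F))) ≃ₐ[A]
      MvPolynomial (Fin n) (MvPolynomial (Fin n) A ⧸ Ideal.span (Set.range F)) :=
  (Algebra.TensorProduct.comm A (MvPolynomial (Fin n) A)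
    (MvPolynomial (Fin n) A ⧸ Ideal.span (Set.range F))).trans
    ((algebraTensorAlgEquiv A (MvPolynomial (Fin n) A ⧸ Ideal.span (Set.range F))).restrictScalars A)

lemma Phi_tmul (p : MvPolynomial (Fin n) A)
    (b : MvPolynomial (Fin n) A ⧸ Ideal.span (Set.range F)) :
    Phi F (p ⊗ₜ[A] b) = b • MvPolynomial.map (algebraMap A _) p := by
  simp [Phi]

lemma eval_map_mk (p : MvPolynomial (Fin n) A) :
    MvPolynomial.eval (xb F) (MvPolynomial.map (algebraMap A _) p) =
      Ideal.Quotient.mk (Ideal.span (Set.range F)) p := by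
  rw [MvPolynomial.eval_map]
  have h1 : MvPolynomial.eval₂ (algebraMap A (MvPolynomial (Fin n) A ⧸ Ideal.span (Set.range F)))
      (xb F) p = MvPolynomial.aeval (xb F) p := rfl
  rw [h1]
  have h2 := MvPolynomial.aeval_unique (Ideal.Quotient.mkₐ A (Ideal.span (Set.range F)))
  have h3 := congrArg (fun φ => φ p) h2
  exact h3.symm

lemma eval_Phi (y : MvPolynomial (Fin n) A ⊗[A] (MvPolynomial (Fin n) A ⧸ Ideal.span (Set.range F))) :
    MvPolynomial.eval (xb F) (Phi F y) =
      Algebra.TensorProduct.productMap (Ideal.Quotient.mkₐ A (Ideal.span (Set.range F)))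
        (AlgHom.id A _) y := by
  induction y using TensorProduct.induction_on with
  | zero => simp
  | tmul p b =>
    rw [Phi_tmul, MvPolynomial.smul_eq_C_mul, map_mul, MvPolynomial.eval_C, eval_map_mk]
    simp [mul_comm]
  | add x y hx hy => rw [map_add, map_add, hx, hy, map_add]

/-- the generators `x_j ⊗ 1 - 1 ⊗ x̄_j` of the kernel of `A[x] ⊗ B → B` -/
noncomputable def gg : Fin n →
    MvPolynomial (Fin n) A ⊗[A] (MvPolynomial (Fin n) A ⧸ Ideal.span (Set.range F)) :=
  fun j => (Phi F).symm (X j - C (xb F j))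

lemma gg_koszul : LCI.IsKoszulRegularSeq
    (MvPolynomial (Fin n) A ⊗[A] (MvPolynomial (Fin n) A ⧸ Ideal.span (Set.range F)))
    (List.ofFn (gg F)) := by
  have h := Groth.Agent.Lib.Helper43.KRIdeal.koszulRegular_of_ringEquiv
    (B := MvPolynomial (Fin n) A ⊗[A] (MvPolynomial (Fin n) A ⧸ Ideal.span (Set.range F)))
    (Phi F).symm.toRingEquiv _ (Groth.Agent.Lib.Helper43.KRPoly.koszulRegular_X_sub_C (xb F))
  rw [List.map_ofFn] at h
  exact h

lemma span_hh_eq_ker :
    Ideal.span (Set.range fun j : Fin n => (X j - C (xb F j) :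
      MvPolynomial (Fin n) (MvPolynomial (Fin n) A ⧸ Ideal.span (Set.range F)))) =
      RingHom.ker (MvPolynomial.eval (xb F)) := by
  rw [Groth.Agent.Lib.Helper43.KRPoly.ker_eval_eq, Groth.Agent.Lib.Helper76.Wb.ofList_ofFn]

lemma gg_ker : Ideal.span (Set.range (gg F)) = RingHom.ker (Algebra.TensorProduct.productMap
    (Ideal.Quotient.mkₐ A (Ideal.span (Set.range F))) (AlgHom.id A _)) := by
  apply le_antisymm
  · rw [Ideal.span_le]
    rintro _ ⟨j, rfl⟩
    rw [SetLike.mem_coe, RingHom.mem_ker, ← eval_Phi, gg, AlgEquiv.apply_symm_apply]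
    simp
  · intro y hy
    rw [RingHom.mem_ker, ← eval_Phi, ← RingHom.mem_ker, ← span_hh_eq_ker] at hy
    obtain ⟨c, hc⟩ := (Ideal.mem_span_range_iff_exists_fun).1 hy
    have : y = ∑ j, (Phi F).symm (c j) * gg F j := by
      apply (Phi F).injective
      rw [map_sum, ← hc]
      refine Finset.sum_congr rfl (fun j _ => ?_)
      rw [map_mul, gg, AlgEquiv.apply_symm_apply, AlgEquiv.apply_symm_apply]
    rw [this]
    exact Submodule.sum_mem _ (fun j _ => Ideal.mul_mem_left _ _ (Ideal.subset_span ⟨j, rfl⟩))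

lemma exists_ct (i : Fin n) : ∃ c : Fin n →
    MvPolynomial (Fin n) (MvPolynomial (Fin n) A ⧸ Ideal.span (Set.range F)),
    ∑ j, c j * (X j - C (xb F j)) = MvPolynomial.map (algebraMap A _) (F i) := by
  have h : MvPolynomial.map (algebraMap A (MvPolynomial (Fin n) A ⧸ Ideal.span (Set.range F)))
      (F i) ∈ RingHom.ker (MvPolynomial.eval (xb F)) := by
    rw [RingHom.mem_ker, eval_map_mk]
    exact Ideal.Quotient.eq_zero_iff_mem.2 (Ideal.subset_span ⟨i, rfl⟩)
  rw [← span_hh_eq_ker] at h
  exact (Ideal.mem_span_range_iff_exists_fun).1 h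

/-- Taylor coefficients -/
noncomputable def ct (i : Fin n) : Fin n →
    MvPolynomial (Fin n) (MvPolynomial (Fin n) A ⧸ Ideal.span (Set.range F)) :=
  (exists_ct F i).choose

lemma ct_spec (i : Fin n) :
    ∑ j, ct F i j * (X j - C (xb F j)) = MvPolynomial.map (algebraMap A _) (F i) :=
  (exists_ct F i).choose_spec

lemma eval_ct (i k : Fin n) :
    MvPolynomial.eval (xb F) (ct F i k) =
      Ideal.Quotient.mk (Ideal.span (Set.range F)) (pderiv k (F i)) := by
  have h := congrArg (fun p => MvPolynomial.eval (xb F) (pderiv k p)) (ct_spec F i)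
  simp only [map_sum, Derivation.leibniz, map_sub, pderiv_X, pderiv_C, smul_eq_mul,
    map_add, map_mul, eval_X, eval_C, sub_self, mul_zero, zero_add, sub_zero, Pi.single_apply] at h
  rw [MvPolynomial.pderiv_map, eval_map_mk] at h
  rw [← h]
  simp [Finset.sum_ite_eq']

end Groth.Agent.Lib.Helper76.Jd
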