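import Groth.Agent.Lib.Helper76.JdA

/-!
# helper76: Noether different of `A[x]/(F)` = (Jacobian determinant), given Koszul-regularity and
flatness.
-/

set_option autoImplicit false
set_option linter.unusedSimpArgs false
set_option linter.unusedSectionVars false
set_option linter.unusedVariables false
universe u

open TensorProduct MvPolynomial

namespace Groth.Agent.Lib.Helper76.Jd

lemma lmul'_map {A P : Type u} [CommRing A] [CommRing P] [Algebra A P] (I : Ideal P)
    (y : P ⊗[A] (P ⧸ I)) :
    Algebra.TensorProduct.lmul' (S := P ⧸ I) A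
      (Algebra.TensorProduct.map (Ideal.Quotient.mkₐ A I) (AlgHom.id A (P ⧸ I)) y) =
      Algebra.TensorProduct.productMap (Ideal.Quotient.mkₐ A I) (AlgHom.id A (P ⧸ I)) y := by
  induction y using TensorProduct.induction_on with
  | zero => simp
  | tmul p b => simp
  | add x y hx hy => rw [map_add, map_add, hx, hy, map_add]

variable {A : Type u} [CommRing A] {n : ℕ} (F : Fin n → MvPolynomial (Fin n) A)

theorem noetherDifferent_eq_jacobian
    (hF : LCI.IsKoszulRegularSeq (MvPolynomial (Fin n) A) (List.ofFn F))
    [Module.Flat A (MvPolynomial (Fin n) A ⧸ Ideal.span (Set.range F))] :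
    Disc.noetherDifferent A (MvPolynomial (Fin n) A ⧸ Ideal.span (Set.range F)) =
      Ideal.span {Ideal.Quotient.mk (Ideal.span (Set.range F))
        (Matrix.det (Matrix.of fun i j => MvPolynomial.pderiv j (F i)))} := by
  classical
  let c : Matrix (Fin n) (Fin n)
      (MvPolynomial (Fin n) A ⊗[A] (MvPolynomial (Fin n) A ⧸ Ideal.span (Set.range F))) :=
    fun i j => (Phi F).symm (ct F i j)
  have hc : ∀ i, F i ⊗ₜ[A] (1 : MvPolynomial (Fin n) A ⧸ Ideal.span (Set.range F)) =
      ∑ j, c i j * gg F j := by
    intro i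
    apply (Phi F).injective
    rw [Phi_tmul, one_smul, map_sum, ← ct_spec F i]
    refine Finset.sum_congr rfl (fun j _ => ?_)
    rw [map_mul]
    simp only [c, gg, AlgEquiv.apply_symm_apply]
  have hann := Groth.Agent.Lib.Helper76.Wb.annihilator_diag F hF (Ideal.span (Set.range F)) rfl
    (gg F) (gg_koszul F) (gg_ker F) c hc
  have key : Algebra.TensorProduct.lmul'
      (S := MvPolynomial (Fin n) A ⧸ Ideal.span (Set.range F)) A
      (Algebra.TensorProduct.map (Ideal.Quotient.mkₐ A (Ideal.span (Set.range F)))
        (AlgHom.id A (MvPolynomial (Fin n) A ⧸ Ideal.span (Set.range F))) (Matrix.det c)) =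
      Ideal.Quotient.mk (Ideal.span (Set.range F))
        (Matrix.det (Matrix.of fun i j => MvPolynomial.pderiv j (F i))) := by
    rw [lmul'_map, ← eval_Phi]
    have h1 : MvPolynomial.eval (xb F) (Phi F (Matrix.det c)) =
        ((MvPolynomial.eval (xb F)).comp (Phi F).toAlgHom.toRingHom) (Matrix.det c) := rfl
    have e1 := RingHom.map_det ((MvPolynomial.eval (xb F)).comp (Phi F).toAlgHom.toRingHom) c
    have e2 := RingHom.map_det (Ideal.Quotient.mk (Ideal.span (Set.range F)))
      (Matrix.of fun i j => MvPolynomial.pderiv j (F i))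
    rw [h1, e1, e2]
    congr 1
    ext i j
    simp only [RingHom.mapMatrix_apply, Matrix.map_apply, Matrix.of_apply, RingHom.comp_apply]
    change MvPolynomial.eval (xb F) (Phi F ((Phi F).symm (ct F i j))) = _
    rw [AlgEquiv.apply_symm_apply, eval_ct]
  rw [Disc.noetherDifferent, hann, Ideal.map_span, Set.image_singleton]
  congr 2

end Groth.Agent.Lib.Helper76.Jd
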