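import Groth.Agent.Lib.Helper76.JdB

/-!
# helper76: the generator `Δ` of the annihilator of the diagonal ideal, with `μ(Δ)` = Jacobian
-/

set_option autoImplicit false
set_option linter.unusedSimpArgs false
set_option linter.unusedSectionVars false
set_option linter.unusedVariables false
universe u

open TensorProduct MvPolynomial

namespace Groth.Agent.Lib.Helper76.Jd

variable {A : Type u} [CommRing A] {n : ℕ} (F : Fin n → MvPolynomial (Fin n) A)

theorem exists_delta
    (hF : LCI.IsKoszulRegularSeq (MvPolynomial (Fin n) A) (List.ofFn F))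
    [Module.Flat A (MvPolynomial (Fin n) A ⧸ Ideal.span (Set.range F))] :
    ∃ Δ : (MvPolynomial (Fin n) A ⧸ Ideal.span (Set.range F)) ⊗[A]
        (MvPolynomial (Fin n) A ⧸ Ideal.span (Set.range F)),
      Submodule.annihilator (RingHom.ker (Algebra.TensorProduct.lmul'
        (S := MvPolynomial (Fin n) A ⧸ Ideal.span (Set.range F)) A)) = Ideal.span {Δ} ∧
      Algebra.TensorProduct.lmul' (S := MvPolynomial (Fin n) A ⧸ Ideal.span (Set.range F)) A Δ =
        Ideal.Quotient.mk (Ideal.span (Set.range F))
          (Matrix.det (Matrix.of fun i j => MvPolynomial.pderiv j (F i))) := by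
  classical
  let c : Matrix (Fin n) (Fin n)
      (MvPolynomial (Fin n) A ⊗[A] (MvPolynomial (Fin n) A ⧸ Ideal.span (Set.range F))) :=
    fun i j => (Phi F).symm (ct F i j)
  have hc : ∀ i, F i ⊗ₜ[A] (1 : MvPolynomial (Fin n) A ⧸ Ideal.span (Set.range F)) =
      ∑ j, c i j * gg F j := by
    intro i
    apply (Phi F).injective
    rw [Phi_tmul, one_smul, map_sum, ← ct_spec F i]
    refine Finset.sum_congr rfl (fun j _ => ?_)
    rw [map_mul]
    simp only [c, gg, AlgEquiv.apply_symm_apply]
  have hann := Groth.Agent.Lib.Helper76.Wb.annihilator_diag F hF (Ideal.span (Set.range F)) rfl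
    (gg F) (gg_koszul F) (gg_ker F) c hc
  have key : Algebra.TensorProduct.lmul'
      (S := MvPolynomial (Fin n) A ⧸ Ideal.span (Set.range F)) A
      (Algebra.TensorProduct.map (Ideal.Quotient.mkₐ A (Ideal.span (Set.range F)))
        (AlgHom.id A (MvPolynomial (Fin n) A ⧸ Ideal.span (Set.range F))) (Matrix.det c)) =
      Ideal.Quotient.mk (Ideal.span (Set.range F))
        (Matrix.det (Matrix.of fun i j => MvPolynomial.pderiv j (F i))) := by
    rw [lmul'_map, ← eval_Phi]
    have h1 : MvPolynomial.eval (xb F) (Phi F (Matrix.det c)) =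
        ((MvPolynomial.eval (xb F)).comp (Phi F).toAlgHom.toRingHom) (Matrix.det c) := rfl
    have e1 := RingHom.map_det ((MvPolynomial.eval (xb F)).comp (Phi F).toAlgHom.toRingHom) c
    have e2 := RingHom.map_det (Ideal.Quotient.mk (Ideal.span (Set.range F)))
      (Matrix.of fun i j => MvPolynomial.pderiv j (F i))
    rw [h1, e1, e2]
    congr 1
    ext i j
    simp only [RingHom.mapMatrix_apply, Matrix.map_apply, Matrix.of_apply, RingHom.comp_apply]
    change MvPolynomial.eval (xb F) (Phi F ((Phi F).symm (ct F i j))) = _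
    rw [AlgEquiv.apply_symm_apply, eval_ct]
  exact ⟨_, hann, key⟩

end Groth.Agent.Lib.Helper76.Jd
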