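import Groth.Agent.Lib.Helper76.SyB
import Groth.Agent.Lib.Helper77.Frob3
import Groth.Agent.Lib.Helper77.CIOmega
import Groth.Agent.Lib.Helper85.GorRing
import Groth.Agent.S2217
import Groth.Agent.S2221

/-!
# helper76: finite free syntomic algebras: `ω` invertible, different = Kähler different
-/

set_option autoImplicit false
set_option linter.unusedSimpArgs false
set_option linter.unusedSectionVars false
set_option linter.unusedVariables false
set_option linter.style.haveILetI false
universe u

open TensorProduct KaehlerDifferential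

namespace Groth.Agent.Lib.Helper76.Sy

/-- the fibres of a finite syntomic algebra are Gorenstein -/
theorem gor_fibre (A B : Type u) [CommRing A] [CommRing B] [Algebra A B] [Module.Finite A B]
    (h : Synt.IsSyntomic A B) (p : Ideal A) [p.IsPrime] :
    LocCoh.IsGorensteinRing (p.Fiber B) := by
  have hs : Synt.IsSyntomic p.ResidueField (p.Fiber B) :=
    Groth.Agent.Lib.Helper94.SyntZ.isSyntomic_baseChange h
  obtain ⟨n, F, ⟨e⟩⟩ :=
    Groth.Agent.Lib.Helper76.FinSynt.exists_square_presentation p.ResidueField (p.Fiber B) hs
  haveI : Module.Finite p.ResidueField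
      (MvPolynomial (Fin n) p.ResidueField ⧸ Ideal.span (Set.range F)) :=
    Module.Finite.equiv e.toLinearEquiv
  by_cases hnt : Nontrivial (MvPolynomial (Fin n) p.ResidueField ⧸ Ideal.span (Set.range F))
  · have hart : IsArtinianRing
        (MvPolynomial (Fin n) p.ResidueField ⧸ Ideal.span (Set.range F)) :=
      IsArtinianRing.of_finite p.ResidueField _
    have h1 : Ring.KrullDimLE 0
        (MvPolynomial (Fin n) p.ResidueField ⧸ Ideal.span (Set.range F)) :=
      ((isArtinianRing_iff_isNoetherianRing_krullDimLE_zero
        (R := MvPolynomial (Fin n) p.ResidueField ⧸ Ideal.span (Set.range F))).mp hart).2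
    have h0 := (ringKrullDimZero_iff_ringKrullDim_eq_zero
      (R := MvPolynomial (Fin n) p.ResidueField ⧸ Ideal.span (Set.range F))).mp h1
    obtain ⟨e2⟩ := Groth.Agent.Lib.Helper77.CIOmega.main p.ResidueField n F h0
    haveI : LocCoh.IsGorensteinRing
        (MvPolynomial (Fin n) p.ResidueField ⧸ Ideal.span (Set.range F)) :=
      Groth.Agent.Lib.Helper77.Frob3.gorenstein_of_equiv p.ResidueField _ e2
    exact Groth.Agent.Lib.Helper85.GorRing.gorRing_of_ringEquiv e.symm.toRingEquiv
  · haveI : Subsingleton (MvPolynomial (Fin n) p.ResidueField ⧸ Ideal.span (Set.range F)) :=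
      not_nontrivial_iff_subsingleton.1 hnt
    haveI : Subsingleton (p.Fiber B) := e.toEquiv.subsingleton
    haveI : IsNoetherianRing (p.Fiber B) :=
      Groth.Agent.Lib.Helper77.Frob3.isNoetherianRing_of_finite' p.ResidueField (p.Fiber B)
    refine { isGorensteinLocalRing_localization := fun Q hQ => ?_ }
    exact absurd ((Ideal.eq_top_iff_one Q).2 (by
      rw [Subsingleton.elim (1 : p.Fiber B) 0]; exact Q.zero_mem)) hQ.ne_top

/-- `ω_{B/A}` is invertible for a finite free syntomic algebra over a Noetherian ring -/
theorem omega_invertible (A B : Type u) [CommRing A] [CommRing B] [Algebra A B]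
    [IsNoetherianRing A] [Module.Finite A B] [Module.Free A B] (h : Synt.IsSyntomic A B) :
    Module.Invertible B (Disc.Omega A B) :=
  (Groth.Agent.S2217.result (A := A) (B := B)).1 (fun p _ => gor_fibre A B h p)

theorem differentSet_eq_fitt (A B : Type u) [CommRing A] [CommRing B] [Algebra A B]
    [IsNoetherianRing A] [Module.Finite A B] [Module.Free A B] (h : Synt.IsSyntomic A B) :
    Disc.differentSet A B = (Fitt.ideal B (Ω[B⁄A]) 0 : Set B) := by
  haveI := omega_invertible A B h
  rw [Groth.Agent.S2221.result (A := A) (B := B), noetherDifferent_eq_fitt A B h]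

end Groth.Agent.Lib.Helper76.Sy
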