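import Groth.Agent.Lib.Helper76.JdD
import Groth.Agent.Lib.Helper76.SyC
import Groth.Agent.Lib.Helper94.DiscDual

/-!
# helper76: `B ≅ ω_{B/A}` carrying the Jacobian to the trace
-/

set_option autoImplicit false
set_option linter.unusedSimpArgs false
set_option linter.unusedSectionVars false
set_option linter.unusedVariables false
set_option linter.style.haveILetI false
universe u

open TensorProduct Groth.Agent.Lib.Helper94.DiscDual

namespace Groth.Agent.Lib.Helper76.Jt

section

variable {A B : Type u} [CommRing A] [CommRing B] [Algebra A B]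

lemma T_mul_delta (Δ : B ⊗[A] B)
    (hΔ : Δ ∈ Submodule.annihilator (RingHom.ker (Algebra.TensorProduct.lmul' (S := B) A)))
    (l : Disc.Omega A B) (β : B ⊗[A] B) :
    T l (β * Δ) = Algebra.TensorProduct.lmul' (S := B) A β * T l Δ := by
  induction β using TensorProduct.induction_on with
  | zero => rw [zero_mul, map_zero, map_zero, zero_mul]
  | tmul x y =>
    have e1 : (x ⊗ₜ[A] y) * Δ = (Δ * ((1 : B) ⊗ₜ[A] y)) * (x ⊗ₜ[A] (1 : B)) := by
      rw [mul_assoc, Algebra.TensorProduct.tmul_mul_tmul, one_mul, mul_one, mul_comm]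
    have hmem : Δ * ((1 : B) ⊗ₜ[A] y) ∈
        Submodule.annihilator (RingHom.ker (Algebra.TensorProduct.lmul' (S := B) A)) :=
      Ideal.mul_mem_right _ _ hΔ
    rw [e1, T_mul_left, T_smul_of_mem hmem, T_mul_right, Algebra.TensorProduct.lmul'_apply_tmul,
      mul_assoc]
  | add x y hx hy => rw [add_mul, map_add, map_add, add_mul, hx, hy]

theorem exists_equiv_of_delta [Module.Finite A B] [Module.Free A B]
    [Module.Invertible B (Disc.Omega A B)] (Δ : B ⊗[A] B)
    (hΔ : Submodule.annihilator (RingHom.ker (Algebra.TensorProduct.lmul' (S := B) A)) =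
      Ideal.span {Δ}) :
    ∃ e : B ≃ₗ[B] Disc.Omega A B,
      e (Algebra.TensorProduct.lmul' (S := B) A Δ) = Disc.Omega.trace A B := by
  have hΔmem : Δ ∈ Submodule.annihilator
      (RingHom.ker (Algebra.TensorProduct.lmul' (S := B) A)) := by
    rw [hΔ]; exact Ideal.subset_span rfl
  have hτ : pairing Δ hΔmem (Disc.Omega.trace A B) =
      Algebra.TensorProduct.lmul' (S := B) A Δ := T_trace_of_mem hΔmem
  have hall : ∀ Φ : Disc.Omega A B →ₗ[B] B, ∃ b : B, Φ = b • pairing Δ hΔmem := by
    intro Φ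
    obtain ⟨ξ, hξ, rfl⟩ := exists_pairing Φ
    have hξ' := hξ
    rw [hΔ, Ideal.mem_span_singleton'] at hξ'
    obtain ⟨β, hβ⟩ := hξ'
    refine ⟨Algebra.TensorProduct.lmul' (S := B) A β, ?_⟩
    ext l
    change T l ξ = Algebra.TensorProduct.lmul' (S := B) A β * T l Δ
    rw [← hβ]
    exact T_mul_delta Δ hΔmem l β
  have hrange : ∀ t : Module.Dual B (Disc.Omega A B) ⊗[B] Disc.Omega A B,
      contractLeft B (Disc.Omega A B) t ∈ LinearMap.range (pairing Δ hΔmem) := by
    intro t
    induction t using TensorProduct.induction_on with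
    | zero => rw [map_zero]; exact Submodule.zero_mem _
    | tmul Φ l =>
      obtain ⟨b, rfl⟩ := hall Φ
      refine ⟨b • l, ?_⟩
      rw [map_smul, contractLeft_apply, LinearMap.smul_apply]
    | add x y hx hy => rw [map_add]; exact Submodule.add_mem _ hx hy
  obtain ⟨t, ht⟩ := (Module.Invertible.bijective (R := B) (M := Disc.Omega A B)).2 1
  obtain ⟨l₀, hl₀⟩ := ht ▸ hrange t
  have hsurj : Function.Surjective (pairing Δ hΔmem) := by
    intro b
    refine ⟨b • l₀, ?_⟩
    rw [map_smul, hl₀, smul_eq_mul, mul_one]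
  have hinj : Function.Injective (pairing Δ hΔmem) := by
    rw [← LinearMap.ker_eq_bot, LinearMap.ker_eq_bot']
    intro k hk
    refine (Module.forall_dual_apply_eq_zero_iff B k).1 (fun Φ => ?_)
    obtain ⟨b, rfl⟩ := hall Φ
    rw [LinearMap.smul_apply, hk, smul_zero]
  refine ⟨(LinearEquiv.ofBijective (pairing Δ hΔmem) ⟨hinj, hsurj⟩).symm, ?_⟩
  rw [← hτ]
  exact (LinearEquiv.ofBijective (pairing Δ hΔmem) ⟨hinj, hsurj⟩).symm_apply_apply _

end

theorem main (A : Type u) [CommRing A] [IsNoetherianRing A] (n : ℕ)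
    (f : Fin n → MvPolynomial (Fin n) A)
    [Module.Finite A (MvPolynomial (Fin n) A ⧸ Ideal.span (Set.range f))]
    [Module.Free A (MvPolynomial (Fin n) A ⧸ Ideal.span (Set.range f))] :
    ∃ e : (MvPolynomial (Fin n) A ⧸ Ideal.span (Set.range f))
        ≃ₗ[MvPolynomial (Fin n) A ⧸ Ideal.span (Set.range f)]
        Disc.Omega A (MvPolynomial (Fin n) A ⧸ Ideal.span (Set.range f)),
      e (Ideal.Quotient.mk (Ideal.span (Set.range f))
        (Matrix.det (Matrix.of fun i j : Fin n => MvPolynomial.pderiv j (f i)))) =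
        Disc.Omega.trace A (MvPolynomial (Fin n) A ⧸ Ideal.span (Set.range f)) := by
  haveI : Algebra.QuasiFinite A (MvPolynomial (Fin n) A ⧸ Ideal.span (Set.range f)) :=
    inferInstance
  have hrel := Groth.Agent.Lib.Helper76.Jd.isRelGCI_of_quasiFinite A n f
  have hK := Groth.Agent.Lib.Helper76.Jd.koszulRegular_of_isRelGCI A n n f hrel
  obtain ⟨Δ, hΔ, hJ⟩ := Groth.Agent.Lib.Helper76.Jd.exists_delta f hK
  have hsynt : Synt.IsSyntomic A (MvPolynomial (Fin n) A ⧸ Ideal.span (Set.range f)) :=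
    Groth.Agent.Lib.Helper94.SyntH.isSyntomic_of_isRelGCI A n n f hrel
  haveI := Groth.Agent.Lib.Helper76.Sy.omega_invertible A _ hsynt
  obtain ⟨e, he⟩ := exists_equiv_of_delta Δ hΔ
  exact ⟨e, by rw [← hJ]; exact he⟩

end Groth.Agent.Lib.Helper76.Jt
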