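import Mathlib.RingTheory.Smooth.Field
import Mathlib.RingTheory.Etale.Kaehler
import Mathlib.RingTheory.Kaehler.Polynomial
import Mathlib.RingTheory.Unramified.Field
import Mathlib.FieldTheory.IntermediateField.Adjoin.Algebra

set_option autoImplicit false

namespace Groth.Agent.Lib.Helper76

open scoped TensorProduct IntermediateField.algebraAdjoinAdjoin
open KaehlerDifferential

universe u v w

section

variable {k : Type u} {F : Type v} {ι : Type w} [Field k] [Field F] [Algebra k F]

theorem formallyEtale_mvPolynomial_of_isSeparable (x : ι → F) (hx : AlgebraicIndependent k x)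
    [Algebra.IsSeparable (IntermediateField.adjoin k (Set.range x)) F] :
    let : Algebra (MvPolynomial ι k) F := (MvPolynomial.aeval x).toAlgebra
    Algebra.FormallyEtale (MvPolynomial ι k) F := by
  let : Algebra (MvPolynomial ι k) F := (MvPolynomial.aeval x).toAlgebra
  let algP : Algebra (MvPolynomial ι k) (Algebra.adjoin k (Set.range x)) :=
    hx.aevalEquiv.toRingEquiv.toRingHom.toAlgebra
  let e : MvPolynomial ι k ≃ₐ[MvPolynomial ι k] (Algebra.adjoin k (Set.range x)) :=
    { hx.aevalEquiv.toRingEquiv with commutes' := fun r => rfl }
  have : Algebra.FormallyEtale (MvPolynomial ι k) (Algebra.adjoin k (Set.range x)) :=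
    Algebra.FormallyEtale.of_equiv e
  have : Algebra.FormallyEtale (Algebra.adjoin k (Set.range x))
      (IntermediateField.adjoin k (Set.range x)) :=
    .of_isLocalization (nonZeroDivisors _)
  let algK : Algebra (MvPolynomial ι k) (IntermediateField.adjoin k (Set.range x)) :=
    ((algebraMap (Algebra.adjoin k (Set.range x)) (IntermediateField.adjoin k (Set.range x))).comp
      (algebraMap (MvPolynomial ι k) (Algebra.adjoin k (Set.range x)))).toAlgebra
  have : IsScalarTower (MvPolynomial ι k) (Algebra.adjoin k (Set.range x))
      (IntermediateField.adjoin k (Set.range x)) := .of_algebraMap_eq' rfl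
  have : Algebra.FormallyEtale (MvPolynomial ι k) (IntermediateField.adjoin k (Set.range x)) :=
    .comp _ (Algebra.adjoin k (Set.range x)) _
  have : IsScalarTower (MvPolynomial ι k) (IntermediateField.adjoin k (Set.range x)) F :=
    .of_algebraMap_eq' rfl
  have : Algebra.FormallyEtale (IntermediateField.adjoin k (Set.range x)) F :=
    Algebra.FormallyEtale.of_isSeparable _ F
  exact .comp _ (IntermediateField.adjoin k (Set.range x)) _

/-- If `F` is separable over `k(x)` for an algebraically independent family `x`, then the
`d (x i)` form a basis of `Ω[F⁄k]`. -/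
theorem exists_basis_kaehler_of_isSeparable (x : ι → F) (hx : AlgebraicIndependent k x)
    [Algebra.IsSeparable (IntermediateField.adjoin k (Set.range x)) F] :
    ∃ b : Module.Basis ι F (Ω[F⁄k]), ∀ i, b i = D k F (x i) := by
  let : Algebra (MvPolynomial ι k) F := (MvPolynomial.aeval x).toAlgebra
  have : IsScalarTower k (MvPolynomial ι k) F :=
    .of_algebraMap_eq' (MvPolynomial.aeval x).comp_algebraMap.symm
  have : Algebra.FormallyEtale (MvPolynomial ι k) F :=
    formallyEtale_mvPolynomial_of_isSeparable x hx
  let e := tensorKaehlerEquivOfFormallyEtale k (MvPolynomial ι k) F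
  let b := ((mvPolynomialBasis k ι).baseChange F).map e
  refine ⟨b, fun i => ?_⟩
  simp only [b, e, Module.Basis.map_apply, Module.Basis.baseChange_apply,
    mvPolynomialBasis_apply, tensorKaehlerEquivOfFormallyEtale_apply, mapBaseChange_tmul,
    one_smul, map_D]
  congr 1
  simp [RingHom.algebraMap_toAlgebra]

end

end Groth.Agent.Lib.Helper76
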