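import Mathlib
import Groth.Prelude.Def_LieS
import Groth.Agent.Lib.Helper51.CotangentDominant
import Groth.Agent.Lib.Helper76.RegularLocal

/-!
# K1 of helper65's open call for S11898 (helper76)

Quotient of a regular local ring by elements of the maximal ideal whose classes in the cotangent
space are linearly independent is regular; hence for a local homomorphism of regular local rings
`R → S` which is surjective on residue fields and injective on cotangent spaces, `S / m_R S` is
regular.
-/

set_option autoImplicit false
universe u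
open IsLocalRing

namespace Groth.Agent.Lib.Helper76.LieKerK1

theorem isRegularLocalRing_quotient_of_linearIndependent (S : Type u) [CommRing S]
    [IsRegularLocalRing S] {r : ℕ} (y : Fin r → maximalIdeal S)
    (hy : LinearIndependent (ResidueField S) (fun i => (maximalIdeal S).toCotangent (y i))) :
    IsRegularLocalRing (S ⧸ Ideal.span (Set.range fun i => (y i : S))) := by
  classical
  set I : Ideal S := Ideal.span (Set.range fun i => (y i : S)) with hI
  have hIle : I ≤ maximalIdeal S := by
    rw [hI, Ideal.span_le]; rintro _ ⟨i, rfl⟩; exact (y i).2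
  have hIne : I ≠ ⊤ := fun h => (maximalIdeal.isMaximal S).ne_top (top_le_iff.1 (h ▸ hIle))
  have hnt : Nontrivial (S ⧸ I) := Ideal.Quotient.nontrivial_iff.2 hIne
  set π := Ideal.Quotient.mk I with hπ
  have hπs : Function.Surjective π := Ideal.Quotient.mk_surjective
  have hloc : IsLocalRing (S ⧸ I) := IsLocalRing.of_surjective' π hπs
  have hmem : ∀ s : S, s ∈ maximalIdeal S ↔ π s ∈ maximalIdeal (S ⧸ I) := by
    intro s
    have : IsLocalHom π := hπs.isLocalHom π
    rw [mem_maximalIdeal, mem_maximalIdeal, map_mem_nonunits_iff]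
  set v : Fin r → CotangentSpace S := fun i => (maximalIdeal S).toCotangent (y i) with hv
  set W : Submodule (ResidueField S) (CotangentSpace S) :=
    Submodule.span (ResidueField S) (Set.range v) with hW
  have hWr : Module.finrank (ResidueField S) W = r := by
    rw [hW, finrank_span_eq_card hy]; simp
  have hQ : Module.finrank (ResidueField S) (CotangentSpace S ⧸ W) + r =
      (maximalIdeal S).spanFinrank := by
    rw [IsLocalRing.spanFinrank_maximalIdeal_eq_finrank_cotangentSpace, ← hWr]
    exact Submodule.finrank_quotient_add_finrank W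
  let b := Module.finBasis (ResidueField S) (CotangentSpace S ⧸ W)
  choose c hc using fun j => W.mkQ_surjective (b j)
  choose t ht using fun j => Ideal.toCotangent_surjective _ (c j)
  have hgen : Submodule.span (ResidueField S)
      ((maximalIdeal S).toCotangent '' (Set.range y ∪ Set.range t)) = ⊤ := by
    set U := Submodule.span (ResidueField S)
      ((maximalIdeal S).toCotangent '' (Set.range y ∪ Set.range t)) with hU
    have hWU : W ≤ U := by
      refine Submodule.span_mono ?_
      rintro _ ⟨i, rfl⟩
      exact ⟨y i, Or.inl ⟨i, rfl⟩, rfl⟩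
    have hmap : U.map W.mkQ = ⊤ := by
      rw [eq_top_iff, ← b.span_eq, Submodule.span_le]
      rintro _ ⟨j, rfl⟩
      have hcj : c j ∈ U := by
        rw [hU]
        apply Submodule.subset_span
        exact ⟨t j, Or.inr ⟨j, rfl⟩, ht j⟩
      exact Submodule.mem_map.2 ⟨c j, hcj, hc j⟩
    have h1 := (Submodule.map_mkQ_eq_top W U).1 hmap
    rwa [sup_eq_right.2 hWU] at h1
  have hgen' : Submodule.span S (Set.range y ∪ Set.range t) =
      (⊤ : Submodule S (maximalIdeal S)) := CotangentSpace.span_image_eq_top_iff.1 hgen
  have hm' : maximalIdeal (S ⧸ I) = Ideal.span (Set.range fun j => π (t j : S)) := by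
    apply le_antisymm
    · intro z hz
      obtain ⟨s, rfl⟩ := hπs z
      have hs : s ∈ maximalIdeal S := (hmem s).2 hz
      have h1 : (⟨s, hs⟩ : maximalIdeal S) ∈ Submodule.span S (Set.range y ∪ Set.range t) := by
        rw [hgen']; trivial
      let ψ : maximalIdeal S →ₗ[S] (S ⧸ I) := (Submodule.mkQ I).comp (Submodule.subtype _)
      have key : Submodule.span S (Set.range y ∪ Set.range t) ≤
          Submodule.comap ψ ((Ideal.span (Set.range fun j => π (t j : S))).restrictScalars S) := by
        rw [Submodule.span_le]
        rintro x (⟨i, rfl⟩ | ⟨j, rfl⟩)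
        · show π (y i : S) ∈ Ideal.span (Set.range fun j => π (t j : S))
          have hyi : (y i : S) ∈ I := by rw [hI]; exact Ideal.subset_span ⟨i, rfl⟩
          rw [hπ, Ideal.Quotient.eq_zero_iff_mem.2 hyi]
          exact Ideal.zero_mem _
        · show π (t j : S) ∈ Ideal.span (Set.range fun j => π (t j : S))
          exact Ideal.subset_span ⟨j, rfl⟩
      exact key h1
    · rw [Ideal.span_le]
      rintro _ ⟨j, rfl⟩
      exact (hmem _).1 (t j).2
  have hfin : (maximalIdeal (S ⧸ I)).spanFinrank ≤
      Module.finrank (ResidueField S) (CotangentSpace S ⧸ W) := by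
    rw [hm']
    refine le_trans (Submodule.spanFinrank_span_le_ncard_of_finite (Set.finite_range _)) ?_
    rw [← Set.image_univ]
    refine le_trans (Set.ncard_image_le Set.finite_univ) ?_
    rw [Set.ncard_univ, Nat.card_fin]
  have hIr : I.spanFinrank ≤ r := by
    rw [hI]
    refine le_trans (Submodule.spanFinrank_span_le_ncard_of_finite (Set.finite_range _)) ?_
    rw [← Set.image_univ]
    refine le_trans (Set.ncard_image_le Set.finite_univ) ?_
    rw [Set.ncard_univ, Nat.card_fin]
  have hdim : ringKrullDim S ≤ ringKrullDim (S ⧸ I) + I.spanFinrank := by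
    apply ringKrullDim_le_ringKrullDim_quotient_add_spanFinrank
    rw [IsLocalRing.ringJacobson_eq_maximalIdeal]
    exact hIle
  have hreg : ((maximalIdeal S).spanFinrank : WithBot ℕ∞) = ringKrullDim S :=
    IsRegularLocalRing.spanFinrank_maximalIdeal
  have hle : ringKrullDim (S ⧸ I) ≤ (maximalIdeal (S ⧸ I)).spanFinrank :=
    ringKrullDim_le_spanFinrank_maximalIdeal _
  have hd' : ringKrullDim (S ⧸ I) ≠ ⊥ := ringKrullDim_ne_bot
  have hd'' : ringKrullDim (S ⧸ I) ≠ ⊤ := ringKrullDim_ne_top
  obtain ⟨e, he⟩ : ∃ e : ℕ, ringKrullDim (S ⧸ I) = e := by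
    cases h : ringKrullDim (S ⧸ I) with
    | bot => exact absurd h hd'
    | coe a =>
      cases a with
      | top => exact absurd h hd''
      | coe n => exact ⟨n, rfl⟩
  rw [he] at hle hdim
  rw [← hreg] at hdim
  have h1 : (maximalIdeal S).spanFinrank ≤ e + I.spanFinrank := by exact_mod_cast hdim
  have h2 : e ≤ (maximalIdeal (S ⧸ I)).spanFinrank := by exact_mod_cast hle
  have h3 : (maximalIdeal (S ⧸ I)).spanFinrank = e := by omega
  rw [isRegularLocalRing_iff, he, h3]

/-- **K1**. -/
theorem K1 {R S : Type u} [CommRing R] [CommRing S] [IsRegularLocalRing R] [IsRegularLocalRing S]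
    (φ : R →+* S) [IsLocalHom φ] (hres : ∀ b : S, ∃ a : R, b - φ a ∈ maximalIdeal S)
    (hcot : ∀ a ∈ maximalIdeal R, φ a ∈ maximalIdeal S ^ 2 → a ∈ maximalIdeal R ^ 2) :
    IsRegularLocalRing (S ⧸ (maximalIdeal R).map φ) := by
  obtain ⟨a, ham, ha⟩ := Groth.Agent.Lib.Helper51.CotangentDominant.exists_fin_generators (A := R)
  have hli := Groth.Agent.Lib.Helper51.CotangentDominant.linearIndependent_map_of_cotangent_injective
    φ hres hcot a ham ha rfl
  have hmap : (maximalIdeal R).map φ =
      Ideal.span (Set.range fun i =>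
        ((⟨φ (a i), map_nonunit φ _ (ham i)⟩ : maximalIdeal S) : S)) := by
    have h0 : (maximalIdeal R).map φ = (Ideal.span (Set.range a)).map φ := by rw [ha]
    rw [h0, Ideal.map_span, ← Set.range_comp]
    rfl
  rw [hmap]
  exact isRegularLocalRing_quotient_of_linearIndependent S _ hli

end Groth.Agent.Lib.Helper76.LieKerK1
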