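import Mathlib
import Groth.Prelude.Def_ArtFun5
import Groth.Prelude.Def_ArtFun4
import Groth.Agent.Lib.Helper76.HRCompletion

set_option autoImplicit false
universe u v

namespace Groth.Agent.Lib.Helper76

open AlgebraicGeometry CategoryTheory ArtFun IsLocalRing


section LocalFunctor

variable {k : Type u} [Field k] (M : Scheme.{u}) (m : M ⟶ Spec (CommRingCat.of k))
  (x₀ : Spec (CommRingCat.of k) ⟶ M)

/-- the image point -/
noncomputable def lfPt : M := x₀ (closedPoint k)

/-- the local ring -/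
noncomputable abbrev lfRing : CommRingCat.{u} := M.presheaf.stalk (lfPt M x₀)

/-- the structure map -/
noncomputable def lfι : CommRingCat.of k ⟶ lfRing M x₀ :=
  Spec.preimage (M.fromSpecStalk (lfPt M x₀) ≫ m)

theorem spec_map_lfι : Spec.map (lfι M m x₀) = M.fromSpecStalk (lfPt M x₀) ≫ m :=
  Spec.map_preimage _

/-- the augmentation -/
noncomputable def lfρ : lfRing M x₀ ⟶ CommRingCat.of k :=
  Scheme.stalkClosedPointTo x₀

theorem spec_map_lfρ : Spec.map (lfρ M x₀) ≫ M.fromSpecStalk (lfPt M x₀) = x₀ :=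
  Scheme.Spec_stalkClosedPointTo_fromSpecStalk x₀

variable (hx₀ : x₀ ≫ m = 𝟙 _)

include hx₀ in
theorem lfι_lfρ : lfι M m x₀ ≫ lfρ M x₀ = 𝟙 _ := by
  apply Spec.map_injective
  rw [Spec.map_comp, spec_map_lfι, ← Category.assoc, spec_map_lfρ, hx₀, Spec.map_id]

end LocalFunctor



section DerLocal

variable {k C : Type u} [Field k] [CommRing C] [IsLocalRing C] [IsNoetherianRing C]
  [Algebra k C] [Algebra C k] [IsScalarTower k C k]

/-- derivations into the residue field of a Noetherian local algebra with residue field `k`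
form a finite-dimensional space -/
theorem finite_der_of_local (hm : ∀ c : C, c ∈ maximalIdeal C ↔ algebraMap C k c = 0) :
    Module.Finite k (Derivation k C k) := by
  classical
  obtain ⟨s, hs⟩ := (IsNoetherian.noetherian (maximalIdeal C) : (maximalIdeal C).FG)
  let L : Derivation k C k →ₗ[k] (s → k) :=
    { toFun := fun D i => D (i : C)
      map_add' := fun D D' => rfl
      map_smul' := fun c D => rfl }
  apply Module.Finite.of_injective L
  rw [← LinearMap.ker_eq_bot, LinearMap.ker_eq_bot']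
  intro D hD
  have hDs : ∀ i ∈ s, D i = 0 := fun i hi => congrFun hD ⟨i, hi⟩
  have hspan : ∀ y ∈ Submodule.span C (s : Set C), D y = 0 := by
    intro y hy
    induction hy using Submodule.span_induction with
    | mem x hx => exact hDs x hx
    | zero => exact map_zero D
    | add x y _ _ hx hy => rw [map_add, hx, hy, add_zero]
    | smul c x hxs hx =>
      have hxm : algebraMap C k x = 0 := (hm x).1 (by rw [← hs]; exact hxs)
      rw [smul_eq_mul, D.leibniz, hx, smul_zero, zero_add, Algebra.smul_def, hxm, zero_mul]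
  apply Derivation.ext
  intro c
  have h1 : c - algebraMap k C (algebraMap C k c) ∈ maximalIdeal C := by
    rw [hm, map_sub, ← IsScalarTower.algebraMap_apply k C k, Algebra.algebraMap_self_apply, sub_self]
  have h2 : D (c - algebraMap k C (algebraMap C k c)) = 0 := hspan _ (by rw [hs]; exact h1)
  rw [map_sub, D.map_algebraMap, sub_zero] at h2
  rw [h2]
  rfl

end DerLocal



section LocalFunctor2

variable {k : Type u} [Field k] (M : Scheme.{u}) (m : M ⟶ Spec (CommRingCat.of k))
  (x₀ : Spec (CommRingCat.of k) ⟶ M)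

/-- the local ring at the point, as a type remembering the structure map -/
def LfCarrier (_m : M ⟶ Spec (CommRingCat.of k)) : Type u := ↑(lfRing M x₀)

noncomputable instance : CommRing (LfCarrier M x₀ m) := inferInstanceAs (CommRing ↑(lfRing M x₀))

instance : IsLocalRing (LfCarrier M x₀ m) := inferInstanceAs (IsLocalRing ↑(lfRing M x₀))

instance [IsLocallyNoetherian M] : IsNoetherianRing (LfCarrier M x₀ m) :=
  inferInstanceAs (IsNoetherianRing ↑(M.presheaf.stalk (lfPt M x₀)))

noncomputable instance : Algebra k (LfCarrier M x₀ m) := (lfι M m x₀).hom.toAlgebra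

theorem lf_algebraMap (a : k) : algebraMap k (LfCarrier M x₀ m) a = (lfι M m x₀).hom a := rfl

variable (hx₀ : x₀ ≫ m = 𝟙 _)

/-- the augmentation -/
noncomputable def lfRes : LfCarrier M x₀ m →ₐ[k] k :=
  { (lfρ M x₀).hom with
    commutes' := fun a => by
      have h := lfι_lfρ M m x₀ hx₀
      exact congrArg (fun f : CommRingCat.of k ⟶ CommRingCat.of k => f.hom a) h }

theorem lfRes_apply (c : LfCarrier M x₀ m) : lfRes M m x₀ hx₀ c = (lfρ M x₀).hom c := rfl

theorem lfRes_surjective : Function.Surjective (lfRes M m x₀ hx₀) := fun a =>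
  ⟨algebraMap k _ a, (lfRes M m x₀ hx₀).commutes a⟩

end LocalFunctor2



section LocalFunctor3

variable {k : Type u} [Field k] (M : Scheme.{u}) (m : M ⟶ Spec (CommRingCat.of k))
  (x₀ : Spec (CommRingCat.of k) ⟶ M) (hx₀ : x₀ ≫ m = 𝟙 _)

/-- the target set of the local functor -/
abbrev LfTarget (A : Art k k) : Type u :=
  {g : Art.spec A ⟶ M // g ≫ m = Art.specMap (Art.ofBase A) ∧ Art.specRes A ≫ g = x₀}

/-- the ring map underlying an element of `h_C(A)` as a morphism of `CommRingCat` -/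
noncomputable def lfHom {A : Art k k} (φ : LfCarrier M x₀ m →ₐ[k] A.carrier) :
    lfRing M x₀ ⟶ CommRingCat.of A.carrier :=
  CommRingCat.ofHom (φ.toRingHom : ↑(lfRing M x₀) →+* A.carrier)

theorem lfι_lfHom {A : Art k k} (φ : LfCarrier M x₀ m →ₐ[k] A.carrier) :
    lfι M m x₀ ≫ lfHom M m x₀ φ =
      CommRingCat.ofHom ((Art.ofBase A).toAlgHom.toRingHom : k →+* A.carrier) := by
  ext a
  exact φ.commutes a

theorem lfHom_res {A : Art k k} (φ : HomSet (LfCarrier M x₀ m) (lfRes M m x₀ hx₀) A) :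
    lfHom M m x₀ φ.1 ≫ CommRingCat.ofHom (A.res.toRingHom : A.carrier →+* k) = lfρ M x₀ := by
  ext c
  exact DFunLike.congr_fun φ.2 c

/-- the comparison map -/
noncomputable def lfΦ (A : Art k k) (φ : HomSet (LfCarrier M x₀ m) (lfRes M m x₀ hx₀) A) :
    LfTarget M m x₀ A :=
  ⟨Spec.map (lfHom M m x₀ φ.1) ≫ M.fromSpecStalk (lfPt M x₀), by
    rw [Category.assoc, ← spec_map_lfι, ← Spec.map_comp, lfι_lfHom]
    rfl, by
    show Spec.map (CommRingCat.ofHom (A.res.toRingHom : A.carrier →+* k)) ≫ _ = _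
    rw [← Category.assoc, ← Spec.map_comp, lfHom_res, spec_map_lfρ]⟩

theorem lfΦ_injective (A : Art k k) : Function.Injective (lfΦ M m x₀ hx₀ A) := by
  intro φ₁ φ₂ h
  have h1 : Spec.map (lfHom M m x₀ φ₁.1) ≫ M.fromSpecStalk (lfPt M x₀) =
      Spec.map (lfHom M m x₀ φ₂.1) ≫ M.fromSpecStalk (lfPt M x₀) := congrArg Subtype.val h
  rw [cancel_mono] at h1
  have h2 := Spec.map_injective h1
  apply Subtype.ext
  apply AlgHom.ext
  intro c
  exact congrArg (fun f : lfRing M x₀ ⟶ CommRingCat.of A.carrier => f.hom c) h2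

end LocalFunctor3



section LocalFunctor4

variable {k : Type u} [Field k] (M : Scheme.{u}) (m : M ⟶ Spec (CommRingCat.of k))
  (x₀ : Spec (CommRingCat.of k) ⟶ M) (hx₀ : x₀ ≫ m = 𝟙 _)

theorem art_res_isLocalHom (A : Art k k) :
    IsLocalHom (CommRingCat.ofHom (A.res.toRingHom : A.carrier →+* k)).hom := by
  refine ⟨fun a ha => ?_⟩
  by_contra h
  have ha' : a ∈ maximalIdeal A.carrier := (mem_maximalIdeal a).2 h
  rw [Art.mem_maximalIdeal_iff] at ha'
  have : (CommRingCat.ofHom (A.res.toRingHom : A.carrier →+* k)).hom a = 0 := ha'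
  rw [this] at ha
  exact not_isUnit_zero ha

theorem lfΦ_surjective (A : Art k k) : Function.Surjective (lfΦ M m x₀ hx₀ A) := by
  rintro ⟨g, ha, hb⟩
  have hloc := art_res_isLocalHom A
  have hcp : Art.specRes A (closedPoint k) = closedPoint A.carrier :=
    Spec_closedPoint (f := CommRingCat.ofHom (A.res.toRingHom : A.carrier →+* k))
  have hpt : g (closedPoint A.carrier) = lfPt M x₀ := by
    rw [lfPt, ← hb, ← hcp]
    rfl
  let φ₀ : lfRing M x₀ ⟶ CommRingCat.of A.carrier :=
    M.presheaf.stalkSpecializes (specializes_of_eq hpt) ≫ Scheme.stalkClosedPointTo g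
  have hg : Spec.map φ₀ ≫ M.fromSpecStalk (lfPt M x₀) = g := by
    rw [Spec.map_comp, Category.assoc, Scheme.SpecMap_stalkSpecializes_fromSpecStalk,
      Scheme.Spec_stalkClosedPointTo_fromSpecStalk]
  have h1 : lfι M m x₀ ≫ φ₀ =
      CommRingCat.ofHom ((Art.ofBase A).toAlgHom.toRingHom : k →+* A.carrier) := by
    apply Spec.map_injective
    rw [Spec.map_comp, spec_map_lfι, ← Category.assoc, hg, ha]
    rfl
  have h2 : φ₀ ≫ CommRingCat.ofHom (A.res.toRingHom : A.carrier →+* k) = lfρ M x₀ := by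
    apply Spec.map_injective
    rw [← cancel_mono (M.fromSpecStalk (lfPt M x₀)), spec_map_lfρ, Spec.map_comp, Category.assoc, hg]
    exact hb
  let φ : LfCarrier M x₀ m →ₐ[k] A.carrier :=
    { φ₀.hom with
      commutes' := fun a =>
        congrArg (fun f : CommRingCat.of k ⟶ CommRingCat.of A.carrier => f.hom a) h1 }
  have hφ : A.res.comp φ = lfRes M m x₀ hx₀ := by
    apply AlgHom.ext
    intro c
    exact congrArg (fun f : lfRing M x₀ ⟶ CommRingCat.of k => f.hom c) h2
  refine ⟨⟨φ, hφ⟩, Subtype.ext ?_⟩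
  show Spec.map (lfHom M m x₀ φ) ≫ M.fromSpecStalk (lfPt M x₀) = g
  rw [← hg]
  rfl

end LocalFunctor4



section LocalFunctor5

variable {k : Type u} [Field k] (M : Scheme.{u}) (m : M ⟶ Spec (CommRingCat.of k))
  (x₀ : Spec (CommRingCat.of k) ⟶ M) (hx₀ : x₀ ≫ m = 𝟙 _)

theorem lfΦ_natural {A B : Art k k} (h : A ⟶ B)
    (ψ : HomSet (LfCarrier M x₀ m) (lfRes M m x₀ hx₀) A) :
    (lfΦ M m x₀ hx₀ B (HomSet.map h ψ)).1 = Art.specMap h ≫ (lfΦ M m x₀ hx₀ A ψ).1 := by
  show Spec.map (lfHom M m x₀ (h.toAlgHom.comp ψ.1)) ≫ M.fromSpecStalk (lfPt M x₀) =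
    Spec.map (CommRingCat.ofHom h.toAlgHom.toRingHom) ≫
      Spec.map (lfHom M m x₀ ψ.1) ≫ M.fromSpecStalk (lfPt M x₀)
  rw [← Category.assoc, ← Spec.map_comp]
  rfl

include hx₀ in
/-- the local functor of a locally Noetherian `k`-scheme at a `k`-point is pro-representable -/
theorem local_functor_prorep [IsLocallyNoetherian M] :
    ∃ (R : CRing k k) (e : ∀ A : Art k k, HomSet R.carrier R.res A ≃ LfTarget M m x₀ A),
      ∀ (A B : Art k k) (h : A ⟶ B) (φ : HomSet R.carrier R.res A),
        ((e B) (HomSet.map h φ)).1 = Art.specMap h ≫ ((e A) φ).1 := by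
  let resC := lfRes M m x₀ hx₀
  let _ : Algebra (LfCarrier M x₀ m) k := resC.toRingHom.toAlgebra
  have htower : IsScalarTower k (LfCarrier M x₀ m) k :=
    IsScalarTower.of_algebraMap_eq (fun a => (resC.commutes a).symm)
  have hres : ∀ r, resC r = algebraMap (LfCarrier M x₀ m) k r := fun r => rfl
  have hsurj : Function.Surjective resC := lfRes_surjective M m x₀ hx₀
  have hm : ∀ c : LfCarrier M x₀ m, c ∈ maximalIdeal (LfCarrier M x₀ m) ↔
      algebraMap (LfCarrier M x₀ m) k c = 0 := by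
    intro c
    have hmax : (RingHom.ker (resC : LfCarrier M x₀ m →+* k)).IsMaximal :=
      RingHom.ker_isMaximal_of_surjective _ hsurj
    rw [← IsLocalRing.eq_maximalIdeal hmax, RingHom.mem_ker]
    rfl
  have hfin : Module.Finite k (Derivation k (LfCarrier M x₀ m) k) := finite_der_of_local hm
  obtain ⟨P, ξ, hξ⟩ := exists_completion_art (Λ := k) hres hsurj
  refine ⟨P, fun A => (Equiv.ofBijective (ξ.app A) (hξ A)).trans
    (Equiv.ofBijective (lfΦ M m x₀ hx₀ A) ⟨lfΦ_injective M m x₀ hx₀ A, lfΦ_surjective M m x₀ hx₀ A⟩),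
    fun A B h φ => ?_⟩
  show (lfΦ M m x₀ hx₀ B (ξ.app B (HomSet.map h φ))).1 =
    Art.specMap h ≫ (lfΦ M m x₀ hx₀ A (ξ.app A φ)).1
  rw [← lfΦ_natural, ξ.natural]
  rfl

end LocalFunctor5

end Groth.Agent.Lib.Helper76
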