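import Mathlib
import Groth.Prelude.Def_ArtFun5
import Groth.Prelude.Def_W4sfdMinVersal
import Groth.Agent.Lib.Helper76.SchlCut
import Groth.Agent.Lib.Helper76.SchlHull
import Groth.Agent.Lib.Helper76.SchlModify
import Groth.Agent.Lib.Helper76.SchlDerComp
import Groth.Agent.S12716
import Groth.Agent.S12718
import Groth.Agent.S12720
import Groth.Agent.S12728
import Groth.Agent.S12757
import Groth.Agent.S12758

set_option autoImplicit false
universe u v

namespace Groth.Agent.Lib.Helper76

open ArtFun ArtFun.Art CategoryTheory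


section MinVersal

variable {Λ k : Type u} [CommRing Λ] [Field k] [Algebra Λ k]

attribute [local instance] cringAlgebra cringTower

variable {F : Art Λ k ⥤ Type v}

open Groth.Agent.S12728 (homSet_map_comp homSet_map_id) in
/-- versality can be tested on small extensions -/
theorem isVersal_of_small {R : Type u} [CommRing R] [Algebra Λ R] {resR : R →ₐ[Λ] k}
    (ξ : Family R resR F)
    (hl : ∀ ⦃B A : Art Λ k⦄ (μ : B ⟶ A), IsSmallExt μ →
      ∀ (φ : HomSet R resR A) (y : F.obj B), F.map μ y = ξ.app A φ →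
        ∃ ψ : HomSet R resR B, HomSet.map μ ψ = φ ∧ ξ.app B ψ = y) :
    IsVersal ξ := by
  intro B A μ hμ
  refine surjective_induction (Λ := Λ) (k := k)
    (fun A B μ => ∀ (φ : HomSet R resR A) (y : F.obj B), F.map μ y = ξ.app A φ →
      ∃ ψ : HomSet R resR B, HomSet.map μ ψ = φ ∧ ξ.app B ψ = y) ?_ ?_ ?_ μ hμ
  · intro A B e he φ y hy
    refine ⟨HomSet.map (inv e) φ, ?_, ?_⟩
    · rw [← homSet_map_comp, IsIso.inv_hom_id, homSet_map_id]
    · rw [ξ.natural, ← hy, ← Functor.map_comp_apply, IsIso.hom_inv_id, Functor.map_id_apply]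
  · intro A B μ hμ φ y hy
    exact hl μ hμ φ y hy
  · intro A B C p q hp hq φ y hy
    have hy' : F.map q (F.map p y) = ξ.app A φ := by
      rw [← Functor.map_comp_apply]; exact hy
    obtain ⟨ψB, hψB₁, hψB₂⟩ := hq φ (F.map p y) hy'
    obtain ⟨ψC, hψC₁, hψC₂⟩ := hp ψB y hψB₂.symm
    refine ⟨ψC, ?_, hψC₂⟩
    rw [homSet_map_comp, hψC₁, hψB₁]

/-- a derivation is invisible for a family if modifying a map by it never changes the value -/
def Invisible {R : CRing Λ k} (ξ : Family R.carrier R.res F) (D : Derivation Λ R.carrier k) : Prop :=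
  ∀ (B : Art Λ k) (t : B.carrier),
    (∀ b : B.carrier, b ∈ IsLocalRing.maximalIdeal B.carrier → b * t = 0) →
    t ∈ IsLocalRing.maximalIdeal B.carrier →
    ∀ ψ ψ' : HomSet R.carrier R.res B,
      (∀ r : R.carrier, ∀ b : B.carrier, B.res b = D r → ψ'.1 r = ψ.1 r + b * t) →
      ξ.app B ψ' = ξ.app B ψ

/-- cutting a versal family by an element on which an invisible derivation does not vanish -/
theorem cut_isVersal' (R : CRing Λ k) (ξ : Family R.carrier R.res F) (hv : IsVersal ξ)
    (D₀ : Derivation Λ R.carrier k) (x : R.carrier)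
    (hx : x ∈ IsLocalRing.maximalIdeal R.carrier) (hD₀x : D₀ x ≠ 0) (hinv : Invisible ξ D₀) :
    IsVersal (ξ.along (quotCRingMk R (Ideal.span {x}) (span_singleton_le_maximalIdeal R hx))
      (quotCRing_res_comp R _ _)) := by
  have hK := span_singleton_le_maximalIdeal R hx
  obtain ⟨q, hqdef⟩ : ∃ q : R.carrier →ₐ[Λ] (quotCRing R (Ideal.span {x}) hK).carrier,
    q = quotCRingMk R (Ideal.span {x}) hK := ⟨_, rfl⟩
  have hq : (quotCRing R (Ideal.span {x}) hK).res.comp q = R.res := by
    rw [hqdef]; exact quotCRing_res_comp R _ _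
  have hqsurj : Function.Surjective q := by rw [hqdef]; exact quotCRingMk_surjective R _ _
  have hlift : ∀ {A : Art Λ k} (φ : HomSet R.carrier R.res A), φ.1 x = 0 →
      ∃ φ₁ : HomSet (quotCRing R (Ideal.span {x}) hK).carrier (quotCRing R (Ideal.span {x}) hK).res A,
        homSetPre q hq φ₁ = φ := by
    intro A φ hφ
    obtain ⟨φ₁, hφ₁⟩ := quotCRing_lift R (Ideal.span {x}) hK φ (by
      intro s hs
      obtain ⟨a, rfl⟩ := Ideal.mem_span_singleton'.1 hs
      rw [map_mul, hφ, mul_zero])
    refine ⟨φ₁, ?_⟩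
    subst hqdef
    exact hφ₁
  have halong : ∀ {A : Art Λ k} (φ₁ : HomSet _ _ A),
      (ξ.along q hq).app A φ₁ = ξ.app A (homSetPre q hq φ₁) := fun φ₁ => rfl
  subst hqdef
  apply isVersal_of_small
  intro B A μ hμ φ₁ y hy
  obtain ⟨t, ht0, hker, hm⟩ := Helper94.smallExt_exists_generator hμ
  have htker : μ t = 0 := by
    have : t ∈ RingHom.ker μ.toAlgHom := by rw [hker]; exact Ideal.subset_span rfl
    exact this
  have htm : t ∈ IsLocalRing.maximalIdeal B.carrier := by
    rw [Art.mem_maximalIdeal_iff, ← Art.res_app μ, htker, map_zero]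
  rw [halong] at hy
  obtain ⟨ψ, hψ, hψy⟩ := hv μ hμ.1 _ y hy
  have hψx : μ (ψ.1 x) = 0 := by
    have h1 : (HomSet.map μ ψ).1 x =
        (homSetPre (quotCRingMk R (Ideal.span {x}) hK) hq φ₁).1 x :=
      AlgHom.congr_fun (congrArg Subtype.val hψ) x
    have h2 : (homSetPre (quotCRingMk R (Ideal.span {x}) hK) hq φ₁).1 x = 0 := by
      show φ₁.1 (quotCRingMk R (Ideal.span {x}) hK x) = 0
      rw [(quotCRingMk_eq_zero_iff R _ hK x).2 (Ideal.subset_span rfl), map_zero]
    exact h1.trans h2
  have hψx' : ψ.1 x ∈ RingHom.ker μ.toAlgHom := hψx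
  rw [hker, Ideal.mem_span_singleton'] at hψx'
  obtain ⟨b₀, hb₀⟩ := hψx'
  -- rescale the generator
  obtain ⟨c', hc'⟩ := B.res_surjective (-(B.res b₀) / D₀ x)
  have hm' : ∀ b : B.carrier, b ∈ IsLocalRing.maximalIdeal B.carrier → b * (c' * t) = 0 := by
    intro b hb
    rw [mul_left_comm, hm b hb, mul_zero]
  have htm' : c' * t ∈ IsLocalRing.maximalIdeal B.carrier := Ideal.mul_mem_left _ _ htm
  obtain ⟨ψ', hψ'⟩ := exists_modify (cring_hres R) (c' * t) hm' htm' ψ D₀
  have hψ'x : ψ'.1 x = 0 := by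
    obtain ⟨b, hb⟩ := B.res_surjective (D₀ x)
    rw [hψ' x b hb, ← hb₀, ← mul_assoc, ← add_mul]
    apply hm
    rw [Art.mem_maximalIdeal_iff, map_add, map_mul, hb, hc']
    field_simp
    ring
  obtain ⟨ψ₁, hψ₁⟩ := hlift ψ' hψ'x
  refine ⟨ψ₁, ?_, ?_⟩
  · apply homSetPre_injective _ hq hqsurj
    rw [homSetPre_map, hψ₁, ← hψ]
    apply Subtype.ext
    apply AlgHom.ext
    intro r
    obtain ⟨b, hb⟩ := B.res_surjective (D₀ r)
    show μ (ψ'.1 r) = μ (ψ.1 r)
    rw [hψ' r b hb, map_add, map_mul, map_mul, htker, mul_zero, mul_zero, add_zero]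
  · rw [halong, hψ₁, hinv B (c' * t) hm' htm' ψ ψ' hψ', hψy]

end MinVersal



section MinVersal2

variable {Λ k : Type u} [CommRing Λ] [Field k] [Algebra Λ k]

attribute [local instance] cringAlgebra cringTower

variable {F : Art Λ k ⥤ Type v}

variable [IsNoetherianRing Λ] [Module.Finite Λ k]

/-- an endomorphism preserving the formal element of a family without visible kernel directions is
surjective -/
theorem surjective_of_along_eq' (R : CRing Λ k) (ξ : Family R.carrier R.res F)
    (hinv : ∀ D : Derivation Λ R.carrier k, Invisible ξ D →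
      ∀ x ∈ IsLocalRing.maximalIdeal R.carrier, D x = 0)
    (e : R.carrier →ₐ[Λ] R.carrier) (he : R.res.comp e = R.res)
    (heq : (ξ.along e he).toFormalElt = ξ.toFormalElt) : Function.Surjective e := by
  have h2 := Groth.Agent.S12757.family_app_eq (ξ.along e he) ξ heq
  have hcomplete := R.isAdicComplete
  refine Groth.Agent.S12716.result R R.carrier R.res_surjective e ?_ ?_
  · apply AlgHom.ext
    intro x
    exact congrArg (fun t => t x) he
  · intro D₁ D₂ hD
    have hDe : ∀ r, (D₁ - D₂) (e r) = 0 := fun r => by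
      show D₁ (e r) - D₂ (e r) = 0
      rw [hD r, sub_self]
    have hinvD : Invisible ξ (D₁ - D₂) := by
      intro B t hm htm ψ ψ' hψ'
      have hpre : ∀ χ : HomSet R.carrier R.res B,
          ξ.app B ⟨χ.1.comp e, by rw [← AlgHom.comp_assoc, χ.2, he]⟩ = ξ.app B χ := fun χ => h2 B χ
      rw [← hpre ψ', ← hpre ψ]
      congr 1
      apply Subtype.ext
      apply AlgHom.ext
      intro r
      show ψ'.1 (e r) = ψ.1 (e r)
      rw [hψ' (e r) 0 (by rw [map_zero, hDe]), zero_mul, add_zero]
    have hm := hinv _ hinvD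
    have hzero : D₁ - D₂ = 0 := by
      apply Derivation.ext
      intro r
      have h1 : r - e r ∈ IsLocalRing.maximalIdeal R.carrier := by
        rw [CRing.mem_maximalIdeal_iff, map_sub]
        have : R.res (e r) = R.res r := AlgHom.congr_fun he r
        rw [this, sub_self]
      have h3 := hm _ h1
      rw [map_sub, hDe, sub_zero] at h3
      exact h3
    exact sub_eq_zero.1 hzero

/-- a versal family without visible kernel directions is minimal -/
theorem isMinimalVersal_of_invisible (h0 : H0 F) (R : CRing Λ k) (ξ : Family R.carrier R.res F)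
    (hv : IsVersal ξ)
    (hinv : ∀ D : Derivation Λ R.carrier k, Invisible ξ D →
      ∀ x ∈ IsLocalRing.maximalIdeal R.carrier, D x = 0) :
    ξ.IsMinimalVersal := by
  refine ⟨hv, fun R' u f hf hpush => ?_⟩
  obtain ⟨g, hg, hgu⟩ := Groth.Agent.S12720.result h0 R ξ hv R' u
  have hfg : R.res.comp (f.comp g) = R.res := by
    rw [← AlgHom.comp_assoc, hf, hg]
  have h1 : (ξ.along (f.comp g) hfg).toFormalElt = ξ.toFormalElt := by
    rw [← Groth.Agent.S12757.push_along ξ g hg f hf hfg, hgu, hpush]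
  have hs := surjective_of_along_eq' R ξ hinv (f.comp g) hfg h1
  intro y
  obtain ⟨x, hx⟩ := hs y
  exact ⟨g x, hx⟩

end MinVersal2



section MinVersal3

variable {Λ k : Type u} [CommRing Λ] [Field k] [Algebra Λ k]

attribute [local instance] cringAlgebra cringTower

variable {F : Art Λ k ⥤ Type v}

variable [IsNoetherianRing Λ] [Module.Finite Λ k]

/-- a versal family can be cut down to a minimal versal family on a quotient -/
theorem exists_minimal_quotient (h0 : H0 F) :
    ∀ (d : ℕ) (R : CRing Λ k) (ξ : Family R.carrier R.res F), IsVersal ξ →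
      Module.finrank k (Derivation Λ R.carrier k) = d →
      ∃ (R' : CRing Λ k) (c : R.carrier →ₐ[Λ] R'.carrier) (hc : R'.res.comp c = R.res)
        (ξ' : Family R'.carrier R'.res F),
        Function.Surjective c ∧ ξ'.IsMinimalVersal ∧
          ∀ (A : Art Λ k) (ψ : HomSet R'.carrier R'.res A),
            ξ'.app A ψ = ξ.app A (homSetPre c hc ψ) := by
  intro d
  induction d using Nat.strong_induction_on with
  | _ d ih =>
    intro R ξ hv hd
    by_cases h : ∀ D : Derivation Λ R.carrier k, Invisible ξ D →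
        ∀ x ∈ IsLocalRing.maximalIdeal R.carrier, D x = 0
    · refine ⟨R, AlgHom.id Λ R.carrier, AlgHom.comp_id _, ξ, Function.surjective_id,
        isMinimalVersal_of_invisible h0 R ξ hv h, fun A ψ => ?_⟩
      congr 1
    · push Not at h
      obtain ⟨D₀, hinv, x, hxm, hxD⟩ := h
      have hK := span_singleton_le_maximalIdeal R hxm
      have hv₁ := cut_isVersal' R ξ hv D₀ x hxm hxD hinv
      have hlt := cut_finrank_lt R D₀ x hxm hxD
      rw [hd] at hlt
      obtain ⟨R', c₁, hc₁, ξ', hsurj, hmin, hpt⟩ := ih _ hlt _ _ hv₁ rfl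
      have hc : R'.res.comp (c₁.comp (quotCRingMk R (Ideal.span {x}) hK)) = R.res := by
        rw [← AlgHom.comp_assoc, hc₁, quotCRing_res_comp]
      refine ⟨R', c₁.comp (quotCRingMk R (Ideal.span {x}) hK), hc, ξ',
        hsurj.comp (quotCRingMk_surjective R _ hK), hmin, fun A ψ => ?_⟩
      rw [hpt]
      rfl

end MinVersal3



section MinVersal4

variable {Λ k : Type u} [CommRing Λ] [Field k] [Algebra Λ k]

variable {F : Art Λ k ⥤ Type v}

variable [IsNoetherianRing Λ] [Module.Finite Λ k]

/-- a section of the quotient map to a minimal versal quotient -/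
theorem exists_section (h0 : H0 F) (R R' : CRing Λ k) (ξ : Family R.carrier R.res F)
    (c : R.carrier →ₐ[Λ] R'.carrier) (hc : R'.res.comp c = R.res)
    (ξ' : Family R'.carrier R'.res F) (hmin : ξ'.IsMinimalVersal)
    (hpt : ∀ (A : Art Λ k) (ψ : HomSet R'.carrier R'.res A),
      ξ'.app A ψ = ξ.app A (homSetPre c hc ψ)) :
    ∃ (g : R'.carrier →ₐ[Λ] R.carrier) (hg : R.res.comp g = R'.res),
      c.comp g = AlgHom.id Λ R'.carrier ∧ (ξ'.along g hg).toFormalElt = ξ.toFormalElt := by
  obtain ⟨g₀, hg₀, hg₀u⟩ := Groth.Agent.S12720.result h0 R' ξ' hmin.1 R ξ.toFormalElt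
  have hA : ∀ (A : Art Λ k) (χ : HomSet R.carrier R.res A),
      ξ'.app A (homSetPre g₀ hg₀ χ) = ξ.app A χ := fun A χ =>
    Groth.Agent.S12757.family_app_eq (ξ'.along g₀ hg₀) ξ hg₀u A χ
  have hα : R'.res.comp (c.comp g₀) = R'.res := by
    rw [← AlgHom.comp_assoc, hc, hg₀]
  have hαpt : ∀ (A : Art Λ k) (ψ : HomSet R'.carrier R'.res A),
      ξ'.app A (homSetPre (c.comp g₀) hα ψ) = ξ'.app A ψ := by
    intro A ψ
    rw [hpt A ψ, ← hA]
    rfl
  have hαf : (ξ'.along (c.comp g₀) hα).toFormalElt = ξ'.toFormalElt := by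
    apply FormalElt.ext'
    intro n
    exact hαpt _ _
  have hαsurj : Function.Surjective (c.comp g₀) :=
    hmin.2 R' ξ'.toFormalElt (c.comp g₀) hα (by rw [Groth.Agent.S12758.push_toFormalElt]; exact hαf)
  have hαinj : Function.Injective (c.comp g₀) :=
    Groth.Agent.S12758.injective_of_surjective_endo (c.comp g₀).toRingHom hαsurj
  let αe : R'.carrier ≃ₐ[Λ] R'.carrier := AlgEquiv.ofBijective (c.comp g₀) ⟨hαinj, hαsurj⟩
  have hαe : ∀ a, c (g₀ (αe.symm a)) = a := fun a => αe.apply_symm_apply a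
  have hαe' : ∀ a, αe.symm (c (g₀ a)) = a := fun a => αe.symm_apply_apply a
  have hg : R.res.comp (g₀.comp (αe.symm : R'.carrier →ₐ[Λ] R'.carrier)) = R'.res := by
    apply AlgHom.ext
    intro a
    show R.res (g₀ (αe.symm a)) = R'.res a
    have h1 : R.res (g₀ (αe.symm a)) = R'.res (αe.symm a) := AlgHom.congr_fun hg₀ _
    have h2 : R'.res (c (g₀ (αe.symm a))) = R'.res (αe.symm a) := AlgHom.congr_fun hα _
    rw [h1, ← h2, hαe]
  refine ⟨g₀.comp (αe.symm : R'.carrier →ₐ[Λ] R'.carrier), hg, AlgHom.ext hαe, ?_⟩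
  apply FormalElt.ext'
  intro n
  show ξ'.app _ (homSetPre (g₀.comp (αe.symm : R'.carrier →ₐ[Λ] R'.carrier)) hg (R.truncHom n)) =
    ξ.app _ (R.truncHom n)
  rw [← hA, ← hαpt _ (homSetPre (g₀.comp (αe.symm : R'.carrier →ₐ[Λ] R'.carrier)) hg (R.truncHom n))]
  congr 1
  apply Subtype.ext
  apply AlgHom.ext
  intro a
  show (R.truncHom n).1 (g₀ (αe.symm (c (g₀ a)))) = (R.truncHom n).1 (g₀ a)
  rw [hαe']

end MinVersal4



section DerDiff

variable {Λ : Type u} {k : Type u} [CommRing Λ] [Field k] [Algebra Λ k]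
variable {R : Type u} [CommRing R] [Algebra Λ R] [Algebra R k] [IsScalarTower Λ R k]
variable {resR : R →ₐ[Λ] k} (hres : ∀ r, resR r = algebraMap R k r)

include hres in
/-- two lifts of the same map along a small extension differ by a derivation -/
theorem exists_der_of_map_eq {B A : Art Λ k} (μ : B ⟶ A) (t : B.carrier) (ht0 : t ≠ 0)
    (hker : RingHom.ker μ.toAlgHom = Ideal.span {t})
    (hm : ∀ b : B.carrier, b ∈ IsLocalRing.maximalIdeal B.carrier → b * t = 0)
    (ψ ψ' : HomSet R resR B) (h : HomSet.map μ ψ = HomSet.map μ ψ') :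
    ∃ D : Derivation Λ R k, ∀ r : R, ∀ b : B.carrier, B.res b = D r → ψ'.1 r = ψ.1 r + b * t := by
  have hdiff : ∀ r, ∃ b, b * t = ψ'.1 r - ψ.1 r := by
    intro r
    have h1 : μ (ψ.1 r) = μ (ψ'.1 r) := AlgHom.congr_fun (congrArg Subtype.val h) r
    have h2 : ψ'.1 r - ψ.1 r ∈ RingHom.ker μ.toAlgHom := by
      rw [RingHom.mem_ker, map_sub, sub_eq_zero]
      exact h1.symm
    rw [hker, Ideal.mem_span_singleton'] at h2
    exact h2
  choose β hβ using hdiff
  have key0 : ∀ b : B.carrier, b * t = 0 → B.res b = 0 := by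
    intro b hb
    by_contra hne
    have hu : IsUnit b := by
      by_contra hnu
      exact hne ((Art.mem_maximalIdeal_iff B b).1 ((IsLocalRing.mem_maximalIdeal b).2 hnu))
    exact ht0 (hu.mul_right_eq_zero.1 hb)
  have key : ∀ b b' : B.carrier, b * t = b' * t → B.res b = B.res b' := by
    intro b b' hbb
    have := key0 (b - b') (by rw [sub_mul, hbb, sub_self])
    rwa [map_sub, sub_eq_zero] at this
  have hresψ : ∀ r, B.res (ψ.1 r) = algebraMap R k r := fun r => by
    rw [← hres]; exact DFunLike.congr_fun ψ.2 r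
  have hresψ' : ∀ r, B.res (ψ'.1 r) = algebraMap R k r := fun r => by
    rw [← hres]; exact DFunLike.congr_fun ψ'.2 r
  let L : R →ₗ[Λ] k :=
    { toFun := fun r => B.res (β r)
      map_add' := fun r s => by
        rw [← map_add]
        apply key
        rw [hβ, add_mul, hβ, hβ, map_add, map_add]
        ring
      map_smul' := fun c r => by
        rw [RingHom.id_apply, ← map_smul]
        apply key
        rw [hβ, smul_mul_assoc, hβ, map_smul, map_smul, smul_sub] }
  have hL : ∀ r, L r = B.res (β r) := fun r => rfl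
  let D : Derivation Λ R k :=
    { toLinearMap := L
      map_one_eq_zero' := by
        show L 1 = 0
        rw [hL]
        apply key0
        rw [hβ, map_one, map_one, sub_self]
      leibniz' := fun a b => by
        show L (a * b) = a • L b + b • L a
        rw [hL, hL, hL, Algebra.smul_def, Algebra.smul_def, ← hresψ' a, ← hresψ b, ← map_mul, ← map_mul,
          ← map_add]
        apply key
        rw [hβ, add_mul, mul_assoc, mul_assoc, hβ, hβ, map_mul, map_mul]
        ring }
  refine ⟨D, fun r b hb => ?_⟩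
  have h1 : b * t = β r * t := by
    rw [← sub_eq_zero, ← sub_mul]
    apply hm
    have hDr : D r = B.res (β r) := rfl
    rw [Art.mem_maximalIdeal_iff, map_sub, hb, hDr, sub_self]
  rw [h1, hβ]
  ring

end DerDiff



section MinVersal6

variable {Λ k : Type u} [CommRing Λ] [Field k] [Algebra Λ k]

attribute [local instance] cringAlgebra cringTower

variable {F : Art Λ k ⥤ Type v}

/-- if a versal family over `R` is induced from a family over a retract `R'` of `R`, then
`h_R → h_R'` is smooth -/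
theorem versal_self_along_of_retract (R R' : CRing Λ k) (ξ : Family R.carrier R.res F)
    (hv : IsVersal ξ) (ξ' : Family R'.carrier R'.res F)
    (g : R'.carrier →ₐ[Λ] R.carrier) (hg : R.res.comp g = R'.res)
    (c : R.carrier →ₐ[Λ] R'.carrier) (hc : R'.res.comp c = R.res)
    (hcg : c.comp g = AlgHom.id Λ R'.carrier)
    (hgpt : ∀ (A : Art Λ k) (χ : HomSet R.carrier R.res A),
      ξ'.app A (homSetPre g hg χ) = ξ.app A χ) :
    IsVersal ((Family.self R'.carrier R'.res).along g hg) := by
  apply isVersal_of_small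
  intro B A μ hμ φ y hy
  have hy' : HomSet.map μ y = homSetPre g hg φ := hy
  obtain ⟨t, ht0, hker, hm⟩ := Helper94.smallExt_exists_generator hμ
  have htker : μ t = 0 := by
    have : t ∈ RingHom.ker μ.toAlgHom := by rw [hker]; exact Ideal.subset_span rfl
    exact this
  have htm : t ∈ IsLocalRing.maximalIdeal B.carrier := by
    rw [Art.mem_maximalIdeal_iff, ← Art.res_app μ, htker, map_zero]
  -- lift `φ` using versality
  have hz : F.map μ (ξ'.app B y) = ξ.app A φ := by
    rw [← ξ'.natural, hy', hgpt]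
  obtain ⟨ψ₀, hψ₀, -⟩ := hv μ hμ.1 φ _ hz
  -- compare `y` with the restriction of `ψ₀`
  have hcmp : HomSet.map μ (homSetPre g hg ψ₀) = HomSet.map μ y := by
    rw [hy', ← hψ₀]
    rfl
  obtain ⟨D, hD⟩ := exists_der_of_map_eq (cring_hres R') μ t ht0 hker hm (homSetPre g hg ψ₀) y hcmp
  let E : Derivation Λ R.carrier k := derComp c (fun r => AlgHom.congr_fun hc r) D
  obtain ⟨ψ, hψ⟩ := exists_modify (cring_hres R) t hm htm ψ₀ E
  refine ⟨ψ, ?_, ?_⟩
  · rw [← hψ₀]
    apply Subtype.ext
    apply AlgHom.ext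
    intro r
    obtain ⟨b, hb⟩ := B.res_surjective (E r)
    show μ (ψ.1 r) = μ (ψ₀.1 r)
    rw [hψ r b hb, map_add, map_mul, htker, mul_zero, add_zero]
  · show homSetPre g hg ψ = y
    apply Subtype.ext
    apply AlgHom.ext
    intro a
    obtain ⟨b, hb⟩ := B.res_surjective (D a)
    have hE : E (g a) = D a := by
      show D (c (g a)) = D a
      have : c (g a) = a := AlgHom.congr_fun hcg a
      rw [this]
    show ψ.1 (g a) = y.1 a
    rw [hψ (g a) b (by rw [hb, hE]), hD a b hb]
    rfl

variable [IsNoetherianRing Λ] [Module.Finite Λ k]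

/-- every versal family is induced from a minimal versal family along a power series extension -/
theorem minimal_versal_powerSeries (h0 : H0 F) (V : VersalPair F) :
    ∃ (R' : CRing Λ k) (ξ' : Family R'.carrier R'.res F), ξ'.IsMinimalVersal ∧
      ∃ (g : R'.carrier →ₐ[Λ] V.ring.carrier) (hg : V.ring.res.comp g = R'.res)
        (n : ℕ) (e : V.ring.carrier ≃ₐ[Λ] MvPowerSeries (Fin n) R'.carrier),
        (∀ a : R'.carrier, e (g a) = algebraMap R'.carrier (MvPowerSeries (Fin n) R'.carrier) a) ∧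
        (ξ'.along g hg).toFormalElt = V.family.toFormalElt := by
  obtain ⟨R', c, hc, ξ', -, hmin, hpt⟩ :=
    exists_minimal_quotient h0 _ V.ring V.family V.versal rfl
  obtain ⟨g, hg, hcg, hform⟩ := exists_section h0 V.ring R' V.family c hc ξ' hmin hpt
  have hgpt : ∀ (A : Art Λ k) (χ : HomSet V.ring.carrier V.ring.res A),
      ξ'.app A (homSetPre g hg χ) = V.family.app A χ := fun A χ =>
    Groth.Agent.S12757.family_app_eq (ξ'.along g hg) V.family hform A χ
  have hvers := versal_self_along_of_retract V.ring R' V.family V.versal ξ' g hg c hc hcg hgpt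
  let _ : Algebra R'.carrier V.ring.carrier := g.toRingHom.toAlgebra
  have htower : IsScalarTower Λ R'.carrier V.ring.carrier :=
    IsScalarTower.of_algebraMap_eq (fun x => (g.commutes x).symm)
  have hgeq : IsScalarTower.toAlgHom Λ R'.carrier V.ring.carrier = g := AlgHom.ext fun _ => rfl
  have hRS : V.ring.res.comp (IsScalarTower.toAlgHom Λ R'.carrier V.ring.carrier) = R'.res := by
    rw [hgeq]; exact hg
  have hvers' : IsVersal ((Family.self R'.carrier R'.res).along
      (IsScalarTower.toAlgHom Λ R'.carrier V.ring.carrier) hRS) := by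
    rw [Groth.Agent.S12758.along_congr _ _ g hgeq hRS hg]
    exact hvers
  obtain ⟨n, ⟨e'⟩⟩ := (Groth.Agent.S12718.result R' V.ring hRS).1 hvers'
  refine ⟨R', ξ', hmin, g, hg, n, e'.restrictScalars Λ, fun a => ?_, hform⟩
  exact e'.commutes a

end MinVersal6

end Groth.Agent.Lib.Helper76
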