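import Mathlib

/-!
# Localization bookkeeping for Hironaka's normal flatness criterion (helper76)
-/

set_option autoImplicit false
set_option linter.unusedSectionVars false
universe u v
open Pointwise

namespace Groth.Agent.Lib.Helper76.NormalFlatLoc

open RingTheory.Sequence

section T0

variable {B : Type u} [CommRing B] {N : Type v} [AddCommGroup N] [Module B N]

theorem exists_mk_of_mem_smul_top (S : Submonoid B) (J : Ideal B) (y : LocalizedModule S N)
    (hy : y ∈ J • (⊤ : Submodule B (LocalizedModule S N))) :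
    ∃ m ∈ J • (⊤ : Submodule B N), ∃ s : S, y = LocalizedModule.mk m s := by
  refine Submodule.smul_induction_on hy ?_ ?_
  · intro a ha y _
    induction y using LocalizedModule.induction_on with
    | _ n s =>
      exact ⟨a • n, Submodule.smul_mem_smul ha Submodule.mem_top, s, LocalizedModule.smul'_mk a n s⟩
  · rintro y y' ⟨m, hm, s, rfl⟩ ⟨m', hm', s', rfl⟩
    exact ⟨s' • m + s • m',
      add_mem (Submodule.smul_mem _ (s' : B) hm) (Submodule.smul_mem _ (s : B) hm'), s * s',
      LocalizedModule.mk_add_mk⟩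

theorem local_elementwise (p : Ideal B) [p.IsPrime] (rs : List B)
    (h : IsWeaklyRegular (LocalizedModule p.primeCompl N) rs) (i : ℕ) (hi : i < rs.length) (t : N)
    (ht : rs[i] • t ∈ Ideal.ofList (rs.take i) • (⊤ : Submodule B N)) :
    ∃ s ∉ p, s • t ∈ Ideal.ofList (rs.take i) • (⊤ : Submodule B N) := by
  have h1 := h.regular_mod_prev i hi
  have h2 : rs[i] • (LocalizedModule.mkLinearMap p.primeCompl N t) ∈
      Ideal.ofList (rs.take i) • (⊤ : Submodule B (LocalizedModule p.primeCompl N)) := by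
    rw [← map_smul]
    have h0 : (Ideal.ofList (rs.take i) • (⊤ : Submodule B N)).map
        (LocalizedModule.mkLinearMap p.primeCompl N) ≤ Ideal.ofList (rs.take i) • ⊤ := by
      rw [Submodule.map_smul'']
      exact Submodule.smul_mono le_rfl le_top
    exact h0 ⟨_, ht, rfl⟩
  have h3 := mem_of_isSMulRegular_quotient_of_smul_mem h1 h2
  obtain ⟨m, hm, s, hs⟩ := exists_mk_of_mem_smul_top p.primeCompl _ _ h3
  rw [LocalizedModule.mkLinearMap_apply, LocalizedModule.mk_eq] at hs
  obtain ⟨u, hu⟩ := hs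
  refine ⟨(u : B) * (s : B), (u * s).2, ?_⟩
  have h4 : ((u : B) * (s : B)) • t = (u : B) • m := by
    rw [mul_smul]
    have := hu
    rw [one_smul] at this
    exact this
  rw [h4]
  exact Submodule.smul_mem _ _ hm

theorem isWeaklyRegular_localizedModule_of_flat (p : Ideal B) [p.IsPrime] (rs : List B)
    (hB : IsWeaklyRegular B rs)
    [Module.Flat (Localization.AtPrime p) (LocalizedModule p.primeCompl N)] :
    IsWeaklyRegular (LocalizedModule p.primeCompl N) rs := by
  have h1 : IsWeaklyRegular (Localization.AtPrime p)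
      (rs.map (algebraMap B (Localization.AtPrime p))) :=
    hB.of_isLocalization (Localization.AtPrime p) p.primeCompl
  have h2 := h1.isWeaklyRegular_lTensor (M₂ := LocalizedModule p.primeCompl N)
  have h3 := (LinearEquiv.isWeaklyRegular_congr
    (TensorProduct.rid (Localization.AtPrime p) (LocalizedModule p.primeCompl N)) _).mp h2
  exact (isWeaklyRegular_map_algebraMap_iff (Localization.AtPrime p) _ rs).mp h3

end T0

section T3

variable {A : Type u} [CommRing A] (R : Ideal A)

theorem mem_smul_top_quot_iff {N : Type v} [AddCommGroup N] [Module A N] [Module (A ⧸ R) N]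
    [IsScalarTower A (A ⧸ R) N] (I : Ideal A) (n : N) :
    n ∈ (I.map (Ideal.Quotient.mk R)) • (⊤ : Submodule (A ⧸ R) N) ↔
      n ∈ I • (⊤ : Submodule A N) := by
  have h := Ideal.smul_restrictScalars (R := A) (S := A ⧸ R) I (⊤ : Submodule (A ⧸ R) N)
  rw [Submodule.restrictScalars_top] at h
  rw [← h, Submodule.restrictScalars_mem]
  rfl

theorem map_mem_associatedPrimes [IsNoetherianRing A] (Q : Ideal A) (hRQ : R ≤ Q) (P : Ideal A)
    (hP : P ∈ associatedPrimes A (A ⧸ Q)) :
    (P.map (Ideal.Quotient.mk R)).IsPrime ∧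
      P.map (Ideal.Quotient.mk R) ∈ associatedPrimes (A ⧸ R)
        ((A ⧸ R) ⧸ Q.map (Ideal.Quotient.mk R)) ∧ R ≤ P := by
  obtain ⟨hprime, y, hy⟩ := (isAssociatedPrime_iff).mp hP
  obtain ⟨a, rfl⟩ := Ideal.Quotient.mk_surjective y
  have hmem : ∀ b : A, b ∈ P ↔ b * a ∈ Q := by
    intro b
    rw [hy, Submodule.mem_colon_singleton, Submodule.mem_bot]
    change Ideal.Quotient.mk Q (b * a) = 0 ↔ _
    exact Ideal.Quotient.eq_zero_iff_mem
  have hRP : R ≤ P := fun r hr => (hmem r).mpr (hRQ (R.mul_mem_right a hr))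
  have hsurj : Function.Surjective (Ideal.Quotient.mk R) := Ideal.Quotient.mk_surjective
  have hker : RingHom.ker (Ideal.Quotient.mk R) ≤ P := by rw [Ideal.mk_ker]; exact hRP
  have hprime' : (P.map (Ideal.Quotient.mk R)).IsPrime :=
    Ideal.map_isPrime_of_surjective hsurj hker
  have hcomapP : ∀ b : A, Ideal.Quotient.mk R b ∈ P.map (Ideal.Quotient.mk R) ↔ b ∈ P := by
    intro b
    rw [← Ideal.mem_comap, Ideal.comap_map_of_surjective _ hsurj, ← RingHom.ker_eq_comap_bot,
      Ideal.mk_ker, sup_eq_left.mpr hRP]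
  have hcomapQ : ∀ b : A, Ideal.Quotient.mk R b ∈ Q.map (Ideal.Quotient.mk R) ↔ b ∈ Q := by
    intro b
    rw [← Ideal.mem_comap, Ideal.comap_map_of_surjective _ hsurj, ← RingHom.ker_eq_comap_bot,
      Ideal.mk_ker, sup_eq_left.mpr hRQ]
  refine ⟨hprime', ?_, hRP⟩
  refine (isAssociatedPrime_iff).mpr ⟨hprime',
    Ideal.Quotient.mk (Q.map (Ideal.Quotient.mk R)) (Ideal.Quotient.mk R a), ?_⟩
  ext c
  obtain ⟨b, rfl⟩ := hsurj c
  rw [hcomapP, Submodule.mem_colon_singleton, Submodule.mem_bot, hmem]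
  change _ ↔ Ideal.Quotient.mk (Q.map (Ideal.Quotient.mk R))
    (Ideal.Quotient.mk R b * Ideal.Quotient.mk R a) = 0
  rw [Ideal.Quotient.eq_zero_iff_mem, ← map_mul, hcomapQ]

end T3

end Groth.Agent.Lib.Helper76.NormalFlatLoc
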