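import Mathlib
import Groth.Agent.Lib.Helper76.QuadSing3

/-!
# The comparison map from the local ring of a hypersurface at a rational point to `k[[x]]/(F)`
-/

set_option autoImplicit false
universe u

namespace Groth.Agent.Lib.Helper76.QuadSing

open Groth.Agent.Lib.Helper76
open Groth.Agent.Lib.Helper58.AdicFunct

section Phi

variable {k : Type u} [Field k] {N : ℕ} (f : MvPolynomial (Fin N) k) (a : Fin N → k)

/-- the map `k[x]/(f) → k[[x]]/(F)` -/
noncomputable def beta : (MvPolynomial (Fin N) k ⧸ Ideal.span {f}) →ₐ[k]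
    (MvPowerSeries (Fin N) k ⧸ Ideal.span {theta a f}) :=
  Ideal.Quotient.liftₐ (Ideal.span {f})
    ((Ideal.Quotient.mkₐ k (Ideal.span {theta a f})).comp (theta a)) (by
      intro p hp
      rw [Ideal.mem_span_singleton'] at hp
      obtain ⟨c, rfl⟩ := hp
      rw [AlgHom.comp_apply, map_mul, Ideal.Quotient.mkₐ_eq_mk, Ideal.Quotient.eq_zero_iff_mem]
      exact Ideal.mul_mem_left _ _ (Ideal.subset_span rfl))

theorem beta_mk (p : MvPolynomial (Fin N) k) :
    beta f a (Ideal.Quotient.mk (Ideal.span {f}) p) =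
      Ideal.Quotient.mk (Ideal.span {theta a f}) (theta a p) := rfl

variable (P : Ideal (MvPolynomial (Fin N) k ⧸ Ideal.span {f})) [P.IsMaximal]
  (hPa : ∀ p : MvPolynomial (Fin N) k,
    Ideal.Quotient.mk (Ideal.span {f}) p ∈ P ↔ MvPolynomial.eval a p = 0)
  (R : Type u) [CommRing R] [IsLocalRing R] [Algebra (MvPolynomial (Fin N) k ⧸ Ideal.span {f}) R]
  [IsLocalization.AtPrime R P] [Algebra k R]
  [IsScalarTower k (MvPolynomial (Fin N) k ⧸ Ideal.span {f}) R]

include hPa in
omit [P.IsMaximal] in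
theorem isUnit_beta (b : MvPolynomial (Fin N) k ⧸ Ideal.span {f}) (hb : b ∉ P) :
    IsUnit (beta f a b) := by
  obtain ⟨p, rfl⟩ := Ideal.Quotient.mk_surjective b
  rw [beta_mk]
  apply IsUnit.map
  rw [isUnit_iff_notMem_XI, mem_XI_iff, constantCoeff_theta]
  exact fun h => hb ((hPa p).2 h)

/-- the comparison map `B_P → k[[x]]/(F)` -/
noncomputable def Phi : R →ₐ[k]
    (MvPowerSeries (Fin N) k ⧸ Ideal.span {theta a f}) :=
  IsLocalization.liftAlgHom (M := P.primeCompl) (f := beta f a)
    (fun y => isUnit_beta f a P hPa y.1 y.2)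

/-- the comparison map as a ring homomorphism -/
noncomputable def PhiR : R →+* (MvPowerSeries (Fin N) k ⧸ Ideal.span {theta a f}) :=
  (Phi f a P hPa R).toRingHom

theorem PhiR_apply (r : R) : PhiR f a P hPa R r = Phi f a P hPa R r := rfl

theorem Phi_algebraMap (b : MvPolynomial (Fin N) k ⧸ Ideal.span {f}) :
    Phi f a P hPa R (algebraMap _ R b) = beta f a b :=
  IsLocalization.lift_eq _ b

variable (hfa : MvPolynomial.eval a f = 0)

include hfa in
theorem constantCoeff_F : MvPowerSeries.constantCoeff (theta a f) = 0 := by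
  rw [constantCoeff_theta, hfa]

include hfa in
theorem maximalIdeal_le_comap :
    IsLocalRing.maximalIdeal R ≤
      (JT (theta a f)).comap (PhiR f a P hPa R) := by
  rw [← IsLocalization.AtPrime.map_eq_maximalIdeal P R,
    Ideal.map_le_iff_le_comap]
  intro b hb
  rw [Ideal.mem_comap, Ideal.mem_comap]
  show Phi f a P hPa R (algebraMap _ R b) ∈ _
  rw [Phi_algebraMap]
  obtain ⟨p, rfl⟩ := Ideal.Quotient.mk_surjective b
  rw [beta_mk, mk_mem_JT_iff (constantCoeff_F f a hfa), constantCoeff_theta]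
  exact (hPa p).1 hb

include hPa in
omit [P.IsMaximal] in
theorem map_PI_le : Ideal.map (Ideal.Quotient.mk (Ideal.span {f})) (PI a) ≤ P := by
  rw [Ideal.map_le_iff_le_comap]
  intro p hp
  rw [Ideal.mem_comap]
  exact (hPa p).2 ((mem_PI_iff a p).1 hp)

include hPa in
/-- the key injectivity statement at the level of `B` -/
theorem mk_mem_pow_of_beta_mem (n : ℕ) (p : MvPolynomial (Fin N) k)
    (hp : beta f a (Ideal.Quotient.mk (Ideal.span {f}) p) ∈ JT (theta a f) ^ n) :
    Ideal.Quotient.mk (Ideal.span {f}) p ∈ P ^ n := by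
  rw [beta_mk, JT, ← Ideal.map_pow,
    Ideal.mem_map_iff_of_surjective _ Ideal.Quotient.mk_surjective] at hp
  obtain ⟨g, hg, hgp⟩ := hp
  have h1 : theta a p ∈ (XI : Ideal (MvPowerSeries (Fin N) k)) ^ n ⊔ Ideal.span {theta a f} := by
    have h2 : g - theta a p ∈ Ideal.span {theta a f} := Ideal.Quotient.eq.1 hgp
    have e : theta a p = g - (g - theta a p) := by ring
    rw [e]
    exact Ideal.sub_mem _ (Ideal.mem_sup_left hg) (Ideal.mem_sup_right h2)
  have h3 := mem_sup_of_theta_mem a n f p h1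
  have h4 := Ideal.mem_map_of_mem (Ideal.Quotient.mk (Ideal.span {f})) h3
  rw [Ideal.map_sup, Ideal.map_quotient_self, sup_bot_eq, Ideal.map_pow] at h4
  exact Ideal.pow_right_mono (map_PI_le f a P hPa) n h4

include hfa in
theorem comap_pow_le (n : ℕ) :
    (JT (theta a f) ^ n).comap (PhiR f a P hPa R) ≤
      IsLocalRing.maximalIdeal R ^ n := by
  intro r hr
  rw [Ideal.mem_comap] at hr
  -- approximate `r` by an element of `B`
  obtain ⟨x, hx⟩ := (IsLocalization.AtPrime.equivQuotMaximalIdealPow P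
    R n).surjective (Ideal.Quotient.mk _ r)
  obtain ⟨b, rfl⟩ := Ideal.Quotient.mk_surjective x
  rw [IsLocalization.AtPrime.equivQuotMaximalIdealPow_apply_mk] at hx
  have h1 : algebraMap _ R b - r ∈
      IsLocalRing.maximalIdeal R ^ n := Ideal.Quotient.eq.1 hx
  have h2 : (PhiR f a P hPa R)
      (algebraMap _ R b - r) ∈ JT (theta a f) ^ n :=
    pow_le_comap_pow _ _ _ (maximalIdeal_le_comap f a P hPa R hfa) n h1
  have h3 : (PhiR f a P hPa R)
      (algebraMap _ R b) ∈ JT (theta a f) ^ n := by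
    have e : (PhiR f a P hPa R)
        (algebraMap _ R b) =
        (PhiR f a P hPa R)
          (algebraMap _ R b - r) +
        (PhiR f a P hPa R) r := by
      rw [← map_add]; congr 1; ring
    rw [e]
    exact Ideal.add_mem _ h2 hr
  have h4 : beta f a b ∈ JT (theta a f) ^ n := by
    rw [← Phi_algebraMap f a P hPa R b]
    exact h3
  obtain ⟨p, rfl⟩ := Ideal.Quotient.mk_surjective b
  have h5 := mk_mem_pow_of_beta_mem f a P hPa n p h4
  have h6 := Ideal.mem_map_of_mem (algebraMap _ R) h5
  rw [Ideal.map_pow, IsLocalization.AtPrime.map_eq_maximalIdeal P R] at h6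
  have e : r = algebraMap _ R (Ideal.Quotient.mk (Ideal.span {f}) p) -
      (algebraMap _ R (Ideal.Quotient.mk (Ideal.span {f}) p) - r) := by
    ring
  rw [e]
  exact Ideal.sub_mem _ h6 h1

include hfa in
theorem quotientMap_bijective (n : ℕ) :
    Function.Bijective (Ideal.quotientMap (JT (theta a f) ^ n)
      (PhiR f a P hPa R)
      (pow_le_comap_pow _ _ _ (maximalIdeal_le_comap f a P hPa R hfa) n)) := by
  constructor
  · exact Ideal.quotientMap_injective' (comap_pow_le f a P hPa R hfa n)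
  · intro t
    obtain ⟨t, rfl⟩ := Ideal.Quotient.mk_surjective t
    obtain ⟨g, rfl⟩ := Ideal.Quotient.mk_surjective t
    obtain ⟨p, hp⟩ := exists_theta_sub_mem a n g
    refine ⟨Ideal.Quotient.mk _ (algebraMap _ R
      (Ideal.Quotient.mk (Ideal.span {f}) p)), ?_⟩
    rw [Ideal.quotientMap_mk]
    have e : (PhiR f a P hPa R)
        (algebraMap _ R (Ideal.Quotient.mk (Ideal.span {f}) p)) =
        Ideal.Quotient.mk (Ideal.span {theta a f}) (theta a p) := by
      show Phi f a P hPa R (algebraMap _ R _) = _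
      rw [Phi_algebraMap, beta_mk]
    rw [e, Ideal.Quotient.eq, ← map_sub, JT, ← Ideal.map_pow]
    apply Ideal.mem_map_of_mem
    have e2 : theta a p - g = -(g - theta a p) := by ring
    rw [e2]
    exact Ideal.neg_mem_iff _ |>.2 hp

set_option maxHeartbeats 400000 in
include hfa in
theorem nonempty_completion_ringEquiv :
    ∃ e : AdicCompletion (IsLocalRing.maximalIdeal R) R ≃+*
      (MvPowerSeries (Fin N) k ⧸ Ideal.span {theta a f}),
      ∀ r : R, e (AdicCompletion.of _ _ r) = PhiR f a P hPa R r := by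
  have hF := constantCoeff_F f a hfa
  have hcomp := isAdicComplete_quot hF
  have hle := maximalIdeal_le_comap f a P hPa R hfa
  let e1 : AdicCompletion (IsLocalRing.maximalIdeal R) R ≃+* AdicCompletion (JT (theta a f))
        (MvPowerSeries (Fin N) k ⧸ Ideal.span {theta a f}) :=
    RingEquiv.ofBijective (adicMap _ _ (PhiR f a P hPa R) hle)
      (adicMap_bijective _ _ _ hle (quotientMap_bijective f a P hPa R hfa))
  let e2 : AdicCompletion (JT (theta a f))
        (MvPowerSeries (Fin N) k ⧸ Ideal.span {theta a f}) ≃+*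
        (MvPowerSeries (Fin N) k ⧸ Ideal.span {theta a f}) :=
    (AdicCompletion.ofAlgEquiv (JT (theta a f))).symm.toRingEquiv
  refine ⟨e1.trans e2, ?_⟩
  intro r
  rw [RingEquiv.trans_apply]
  have h1 : e1 (AdicCompletion.of _ _ r) = AdicCompletion.of _ _ (PhiR f a P hPa R r) :=
    adicMap_of _ _ _ hle _
  rw [h1]
  exact AdicCompletion.ofAlgEquiv_symm_of _ _

set_option maxHeartbeats 400000 in
include hfa hPa in
/-- the completion of `B_P` is `k[[x]]/(F)` -/
theorem nonempty_completion_equiv :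
    Nonempty (AdicCompletion (IsLocalRing.maximalIdeal R) R ≃ₐ[k]
      (MvPowerSeries (Fin N) k ⧸ Ideal.span {theta a f})) := by
  obtain ⟨e, he⟩ := nonempty_completion_ringEquiv f a P hPa R hfa
  refine ⟨AlgEquiv.ofRingEquiv (f := e) ?_⟩
  intro c
  rw [AdicCompletion.algebraMap_apply, he, PhiR_apply, AlgHom.commutes]

end Phi

end Groth.Agent.Lib.Helper76.QuadSing
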