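import Mathlib
import Groth.Prelude.Def_QuadSing
import Groth.Agent.Lib.Helper76.QuadSing4
import Groth.Agent.S8719

/-!
# Jacobian ideal versus non-degeneracy of the quadratic part
-/

set_option autoImplicit false
universe u

namespace Groth.Agent.Lib.Helper76.QuadSing

open Groth.Agent.Lib.Helper76

section Coeff

variable {k : Type u} [Field k] {N : ℕ}

theorem coeff_single_eq (i : Fin N) (G : MvPowerSeries (Fin N) k) :
    MvPowerSeries.coeff (Finsupp.single i 1) G =
      MvPowerSeries.constantCoeff (MvPowerSeries.pderiv k i G) := by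
  rw [← MvPowerSeries.coeff_zero_eq_constantCoeff_apply, MvPowerSeries.coeff_pderiv, zero_add]
  simp

theorem coeff_single_mul (i : Fin N) (u v : MvPowerSeries (Fin N) k) :
    MvPowerSeries.coeff (Finsupp.single i 1) (u * v) =
      MvPowerSeries.constantCoeff u * MvPowerSeries.coeff (Finsupp.single i 1) v +
      MvPowerSeries.constantCoeff v * MvPowerSeries.coeff (Finsupp.single i 1) u := by
  rw [coeff_single_eq, Derivation.leibniz, map_add, smul_eq_mul, smul_eq_mul, map_mul, map_mul,
    ← coeff_single_eq, ← coeff_single_eq]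

theorem coeff_single_pderiv (F : MvPowerSeries (Fin N) k) (i l : Fin N) :
    MvPowerSeries.coeff (Finsupp.single l 1) (MvPowerSeries.pderiv k i F) =
      VanCyc.polarMatrix (VanCyc.quadPart F) i l := by
  rw [MvPowerSeries.coeff_pderiv]
  unfold VanCyc.polarMatrix VanCyc.quadPart
  by_cases hil : i = l
  · subst hil
    simp only [if_true, Finsupp.single_eq_same]
    rw [← Finsupp.single_add]
    norm_num
    ring
  · have hli : ¬ l = i := fun h => hil h.symm
    rw [if_neg hil, Finsupp.single_apply, if_neg hli]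
    simp only [Nat.cast_zero, zero_add, mul_one]
    rcases lt_or_gt_of_ne hil with h | h
    · rw [if_pos h, if_neg hil, if_pos h, add_comm (Finsupp.single l 1) (Finsupp.single i 1)]
    · rw [if_neg (not_lt.mpr h.le), if_neg hli, if_pos h]

end Coeff

section Jac

variable {k : Type u} [Field k] {N : ℕ} (f : MvPolynomial (Fin N) k) (a : Fin N → k)
  (P : Ideal (MvPolynomial (Fin N) k ⧸ Ideal.span {f})) [P.IsMaximal]
  (hPa : ∀ p : MvPolynomial (Fin N) k,
    Ideal.Quotient.mk (Ideal.span {f}) p ∈ P ↔ MvPolynomial.eval a p = 0)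
  (R : Type u) [CommRing R] [IsLocalRing R] [Algebra (MvPolynomial (Fin N) k ⧸ Ideal.span {f}) R]
  [IsLocalization.AtPrime R P] [Algebra k R]
  [IsScalarTower k (MvPolynomial (Fin N) k ⧸ Ideal.span {f}) R]
  (hfa : MvPolynomial.eval a f = 0)
  (hP : ∀ j : Fin N, MvPolynomial.eval a (MvPolynomial.pderiv j f) = 0)

include hfa hP in
theorem noLowTerms_F : VanCyc.NoLowTerms (theta a f) := by
  refine ⟨constantCoeff_F f a hfa, fun i => ?_⟩
  rw [coeff_single_theta, hP i]

theorem PhiR_delta (j : Fin N) :
    PhiR f a P hPa R (algebraMap _ R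
      (Ideal.Quotient.mk (Ideal.span {f}) (MvPolynomial.pderiv j f))) =
      Ideal.Quotient.mk (Ideal.span {theta a f}) (MvPowerSeries.pderiv k j (theta a f)) := by
  rw [PhiR_apply, Phi_algebraMap, beta_mk, pderiv_theta]

theorem PhiR_X (l : Fin N) :
    PhiR f a P hPa R (algebraMap _ R
      (Ideal.Quotient.mk (Ideal.span {f}) (MvPolynomial.X l - MvPolynomial.C (a l)))) =
      Ideal.Quotient.mk (Ideal.span {theta a f}) (MvPowerSeries.X l) := by
  rw [PhiR_apply, Phi_algebraMap, beta_mk, map_sub, theta_X, theta_C, add_sub_cancel_right]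

include hPa in
omit [P.IsMaximal] in
theorem mk_X_sub_mem (l : Fin N) :
    Ideal.Quotient.mk (Ideal.span {f}) (MvPolynomial.X l - MvPolynomial.C (a l)) ∈ P := by
  rw [hPa]
  simp

include hfa hP hPa in
/-- (b) ⇒ non-degeneracy -/
theorem quadNondeg_of_map_eq
    (hb : Ideal.map (algebraMap (MvPolynomial (Fin N) k ⧸ Ideal.span {f}) R)
      (Ideal.span (Set.range fun j : Fin N =>
        Ideal.Quotient.mk (Ideal.span {f}) (MvPolynomial.pderiv j f))) =
      IsLocalRing.maximalIdeal R) :
    VanCyc.QuadNondeg (VanCyc.quadPart (theta a f)) := by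
  classical
  obtain ⟨hF0, hF1⟩ := noLowTerms_F f a hfa hP
  set H := VanCyc.polarMatrix (VanCyc.quadPart (theta a f)) with hH
  have hrow : ∀ l : Fin N, ∃ c : Fin N → k, ∀ i : Fin N,
      ∑ j, c j * H j i = if i = l then 1 else 0 := by
    intro l
    have h1 : algebraMap _ R
        (Ideal.Quotient.mk (Ideal.span {f}) (MvPolynomial.X l - MvPolynomial.C (a l))) ∈
        IsLocalRing.maximalIdeal R := by
      rw [← IsLocalization.AtPrime.map_eq_maximalIdeal P R]
      exact Ideal.mem_map_of_mem _ (mk_X_sub_mem f a P hPa l)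
    rw [← hb, Ideal.map_span, ← Set.range_comp, Ideal.mem_span_range_iff_exists_fun] at h1
    obtain ⟨r, hr⟩ := h1
    have h2 := congrArg (PhiR f a P hPa R) hr
    rw [PhiR_X, map_sum] at h2
    simp only [map_mul, Function.comp_apply, PhiR_delta] at h2
    have hρ : ∀ j, ∃ ρ : MvPowerSeries (Fin N) k,
        Ideal.Quotient.mk (Ideal.span {theta a f}) ρ = PhiR f a P hPa R (r j) :=
      fun j => Ideal.Quotient.mk_surjective _
    choose ρ hρ' using hρ
    simp only [← hρ'] at h2
    have h2' : Ideal.Quotient.mk (Ideal.span {theta a f})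
        (∑ j, ρ j * MvPowerSeries.pderiv k j (theta a f)) =
        Ideal.Quotient.mk (Ideal.span {theta a f}) (MvPowerSeries.X l) := by
      rw [map_sum]
      simp only [map_mul]
      exact h2
    have h3 : (∑ j, ρ j * MvPowerSeries.pderiv k j (theta a f)) - MvPowerSeries.X l ∈
        Ideal.span {theta a f} := Ideal.Quotient.eq.1 h2'
    rw [Ideal.mem_span_singleton'] at h3
    obtain ⟨w, hw⟩ := h3
    refine ⟨fun j => MvPowerSeries.constantCoeff (ρ j), fun i => ?_⟩
    have h4 : MvPowerSeries.X l =
        (∑ j, ρ j * MvPowerSeries.pderiv k j (theta a f)) - w * theta a f := by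
      rw [hw]; ring
    have h5 := congrArg (MvPowerSeries.coeff (Finsupp.single i 1)) h4
    rw [map_sub, map_sum, coeff_single_mul, hF0, hF1 i, MvPowerSeries.coeff_X] at h5
    simp only [coeff_single_mul, ← coeff_single_eq, hF1, coeff_single_pderiv] at h5
    simp only [mul_zero, zero_mul, add_zero, sub_zero] at h5
    rw [← h5]
    by_cases hil : i = l
    · subst hil
      rw [if_pos rfl, if_pos rfl]
    · rw [if_neg hil, if_neg]
      intro h
      exact hil (Finsupp.single_left_injective one_ne_zero h)
  choose Cm hCm using hrow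
  have hmul : Matrix.of Cm * H = 1 := by
    ext l i
    rw [Matrix.mul_apply, Matrix.one_apply]
    simp only [Matrix.of_apply]
    rw [hCm l i]
    by_cases hil : i = l
    · subst hil
      simp
    · rw [if_neg hil, if_neg (fun h => hil h.symm)]
  exact Matrix.isUnit_det_of_left_inverse hmul

end Jac

end Groth.Agent.Lib.Helper76.QuadSing
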