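import Mathlib
import Groth.Agent.Lib.Helper76.QuadSing5

/-!
# Non-degeneracy of the quadratic part implies that the Jacobian ideal is the maximal ideal
-/

set_option autoImplicit false
universe u

namespace Groth.Agent.Lib.Helper76.QuadSing

open Groth.Agent.Lib.Helper76
open Groth.Agent.Lib.Helper58.AdicFunct

section Jac

variable {k : Type u} [Field k] {m : ℕ} (f : MvPolynomial (Fin (m + 1)) k) (a : Fin (m + 1) → k)
  (P : Ideal (MvPolynomial (Fin (m + 1)) k ⧸ Ideal.span {f})) [P.IsMaximal]
  (hPa : ∀ p : MvPolynomial (Fin (m + 1)) k,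
    Ideal.Quotient.mk (Ideal.span {f}) p ∈ P ↔ MvPolynomial.eval a p = 0)
  (R : Type u) [CommRing R] [IsLocalRing R]
  [Algebra (MvPolynomial (Fin (m + 1)) k ⧸ Ideal.span {f}) R]
  [IsLocalization.AtPrime R P] [Algebra k R]
  [IsScalarTower k (MvPolynomial (Fin (m + 1)) k ⧸ Ideal.span {f}) R]
  (hfa : MvPolynomial.eval a f = 0)
  (hP : ∀ j : Fin (m + 1), MvPolynomial.eval a (MvPolynomial.pderiv j f) = 0)

include hfa hP hPa in
/-- non-degeneracy ⇒ (b) -/
theorem map_eq_of_quadNondeg (hq : VanCyc.QuadNondeg (VanCyc.quadPart (theta a f))) :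
    Ideal.map (algebraMap (MvPolynomial (Fin (m + 1)) k ⧸ Ideal.span {f}) R)
      (Ideal.span (Set.range fun j : Fin (m + 1) =>
        Ideal.Quotient.mk (Ideal.span {f}) (MvPolynomial.pderiv j f))) =
      IsLocalRing.maximalIdeal R := by
  classical
  have hlow := noLowTerms_F f a hfa hP
  have hF0 := hlow.1
  have hjac := Groth.Agent.S8719.result k m (theta a f) ⟨hlow, hq⟩
  rw [maximalIdeal_eq_XI] at hjac
  have hnoeth : IsNoetherianRing R :=
    IsLocalization.isNoetherianRing P.primeCompl R inferInstance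
  set δ : Fin (m + 1) → R := fun j => algebraMap _ R
      (Ideal.Quotient.mk (Ideal.span {f}) (MvPolynomial.pderiv j f)) with hδ
  have hIdef : Ideal.map (algebraMap (MvPolynomial (Fin (m + 1)) k ⧸ Ideal.span {f}) R)
      (Ideal.span (Set.range fun j : Fin (m + 1) =>
        Ideal.Quotient.mk (Ideal.span {f}) (MvPolynomial.pderiv j f))) =
      Ideal.span (Set.range δ) := by
    rw [Ideal.map_span, ← Set.range_comp]
    rfl
  rw [hIdef]
  have hδm : ∀ j, δ j ∈ IsLocalRing.maximalIdeal R := by
    intro j
    rw [← IsLocalization.AtPrime.map_eq_maximalIdeal P R]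
    apply Ideal.mem_map_of_mem
    rw [hPa]
    exact hP j
  apply le_antisymm
  · rw [Ideal.span_le]
    rintro _ ⟨j, rfl⟩
    exact hδm j
  · have hle := maximalIdeal_le_comap f a P hPa R hfa
    apply Submodule.le_of_le_smul_of_le_jacobson_bot
      (IsNoetherian.noetherian (IsLocalRing.maximalIdeal R))
      (IsLocalRing.maximalIdeal_le_jacobson ⊥)
    intro r hr
    -- the image of `r` in `T`
    have h1 : PhiR f a P hPa R r ∈ JT (theta a f) := hle hr
    have h2 : JT (theta a f) = Ideal.span (Set.range fun j : Fin (m + 1) =>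
        PhiR f a P hPa R (δ j)) := by
      rw [JT, ← hjac, Ideal.map_span, ← Set.range_comp]
      congr 2
      funext j
      rw [Function.comp_apply, hδ, PhiR_delta]
    rw [h2, Ideal.mem_span_range_iff_exists_fun] at h1
    obtain ⟨t, ht⟩ := h1
    have hτ : ∀ j, ∃ τ : MvPowerSeries (Fin (m + 1)) k,
        Ideal.Quotient.mk (Ideal.span {theta a f}) τ = t j :=
      fun j => Ideal.Quotient.mk_surjective _
    choose τ hτ' using hτ
    set c : Fin (m + 1) → k := fun j => MvPowerSeries.constantCoeff (τ j) with hc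
    set r' : R := r - ∑ j, algebraMap k R (c j) * δ j with hr'
    have h3 : PhiR f a P hPa R r' ∈ JT (theta a f) ^ 2 := by
      have e : PhiR f a P hPa R r' =
          ∑ j, (t j - algebraMap k _ (c j)) * PhiR f a P hPa R (δ j) := by
        rw [hr', map_sub, map_sum, ← ht, ← Finset.sum_sub_distrib]
        apply Finset.sum_congr rfl
        intro j _
        rw [map_mul, sub_mul]
        congr 2
        rw [PhiR_apply, AlgHom.commutes]
      rw [e, pow_two]
      apply Ideal.sum_mem
      intro j _
      apply Ideal.mul_mem_mul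
      · rw [← hτ' j]
        have e2 : algebraMap k (MvPowerSeries (Fin (m + 1)) k ⧸ Ideal.span {theta a f}) (c j) =
            Ideal.Quotient.mk (Ideal.span {theta a f}) (MvPowerSeries.C (c j)) := rfl
        rw [e2, ← map_sub, mk_mem_JT_iff hF0, map_sub, MvPowerSeries.constantCoeff_C, hc]
        exact sub_self _
      · exact hle (hδm j)
    have h4 : r' ∈ IsLocalRing.maximalIdeal R ^ 2 :=
      comap_pow_le f a P hPa R hfa 2 (Ideal.mem_comap.2 h3)
    have e3 : r = ∑ j, algebraMap k R (c j) * δ j + r' := by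
      rw [hr']; ring
    rw [e3]
    apply Submodule.add_mem
    · apply Submodule.mem_sup_left
      apply Ideal.sum_mem
      intro j _
      exact Ideal.mul_mem_left _ _ (Ideal.subset_span ⟨j, rfl⟩)
    · apply Submodule.mem_sup_right
      rw [pow_two] at h4
      exact h4

end Jac

end Groth.Agent.Lib.Helper76.QuadSing
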