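import Mathlib
import Groth.Prelude.Def_QuadSing
import Groth.Agent.Lib.Helper76.QuadSing3
import Groth.Agent.Lib.Helper76.MorseLin2

/-!
# Restriction of power series to lines, and quadratic parts
-/

set_option autoImplicit false
universe u

namespace Groth.Agent.Lib.Helper76.QuadSing

open Groth.Agent.Lib.Helper76
open Groth.Agent.Lib.Helper76.MorseLin
open Groth.Agent.Lib.Helper99.Morse

section PS1

variable {k : Type u} [Field k]

theorem coeff_two_of_dvd {s : PowerSeries k} (h : (PowerSeries.X : PowerSeries k) ^ 3 ∣ s) :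
    PowerSeries.coeff 2 s = 0 :=
  PowerSeries.X_pow_dvd_iff.1 h 2 (by norm_num)

theorem coeff_two_mul_of_dvd {A B : PowerSeries k}
    (h : (PowerSeries.X : PowerSeries k) ^ 2 ∣ B) :
    PowerSeries.coeff 2 (A * B) = PowerSeries.constantCoeff A * PowerSeries.coeff 2 B := by
  obtain ⟨B', rfl⟩ := h
  have e : A * (PowerSeries.X ^ 2 * B') = PowerSeries.X ^ 2 * (A * B') := by ring
  rw [e]
  have h1 := PowerSeries.coeff_X_pow_mul (A * B') 2 0
  have h2 := PowerSeries.coeff_X_pow_mul B' 2 0
  rw [zero_add] at h1 h2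
  rw [h1, h2, PowerSeries.coeff_zero_eq_constantCoeff_apply,
    PowerSeries.coeff_zero_eq_constantCoeff_apply, map_mul]

end PS1

section Homs

variable {k : Type u} [Field k] {N : ℕ}

theorem exists_psi (a : Fin N → MvPowerSeries (Fin N) k)
    (ha : ∀ i, a i ∈ (XI : Ideal (MvPowerSeries (Fin N) k))) :
    ∃ ψ : MvPowerSeries (Fin N) k →+* MvPowerSeries (Fin N) k,
      (∀ c, ψ (MvPowerSeries.C c) = MvPowerSeries.C c) ∧
      (∀ i, ψ (MvPowerSeries.X i) = a i) ∧
      (∀ n, Ideal.map ψ ((XI : Ideal (MvPowerSeries (Fin N) k)) ^ n) ≤ XI ^ n) ∧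
      (∀ p : MvPolynomial (Fin N) k, ψ (p : MvPowerSeries (Fin N) k) =
        MvPolynomial.aeval a p) := by
  have hc := isAdicComplete_XI (k := k) (N := N)
  obtain ⟨ψ, hψ⟩ := exists_mvPowerSeries_eval' (Q := k) a XI ha
  have hC : ∀ c, ψ (MvPowerSeries.C c) = MvPowerSeries.C c := by
    intro c
    have h := hψ (MvPolynomial.C c)
    rw [MvPolynomial.coe_C, MvPolynomial.aeval_C] at h
    rw [h, MvPowerSeries.c_eq_algebraMap]
  have hX : ∀ i, ψ (MvPowerSeries.X i) = a i := by
    intro i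
    have h := hψ (MvPolynomial.X i)
    rwa [MvPolynomial.coe_X, MvPolynomial.aeval_X] at h
  refine ⟨ψ, hC, hX, ?_, hψ⟩
  intro n
  rw [Ideal.map_pow]
  apply Ideal.pow_right_mono
  rw [XI, Ideal.map_span, Ideal.span_le]
  rintro _ ⟨_, ⟨i, rfl⟩, rfl⟩
  rw [SetLike.mem_coe, hX]
  exact ha i

theorem exists_lam (u : Fin N → k) :
    ∃ lam : MvPowerSeries (Fin N) k →+* PowerSeries k,
      (∀ c, lam (MvPowerSeries.C c) = PowerSeries.C c) ∧
      (∀ i, lam (MvPowerSeries.X i) = PowerSeries.C (u i) * PowerSeries.X) ∧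
      (∀ n h, h ∈ (XI : Ideal (MvPowerSeries (Fin N) k)) ^ n →
        (PowerSeries.X : PowerSeries k) ^ n ∣ lam h) ∧
      (∀ p : MvPolynomial (Fin N) k, lam (p : MvPowerSeries (Fin N) k) =
        MvPolynomial.aeval (fun i => PowerSeries.C (u i) * (PowerSeries.X : PowerSeries k)) p) := by
  have ha : ∀ i, PowerSeries.C (u i) * (PowerSeries.X : PowerSeries k) ∈
      Ideal.span {(PowerSeries.X : PowerSeries k)} :=
    fun i => Ideal.mul_mem_left _ _ (Ideal.subset_span rfl)
  obtain ⟨lam, hlam⟩ := exists_mvPowerSeries_eval' (Q := k)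
    (fun i => PowerSeries.C (u i) * (PowerSeries.X : PowerSeries k))
    (Ideal.span {(PowerSeries.X : PowerSeries k)}) ha
  have hC : ∀ c, lam (MvPowerSeries.C c) = PowerSeries.C c := by
    intro c
    have h := hlam (MvPolynomial.C c)
    rw [MvPolynomial.coe_C, MvPolynomial.aeval_C] at h
    rw [h, PowerSeries.algebraMap_apply, Algebra.algebraMap_self, RingHom.id_apply]
  have hX : ∀ i, lam (MvPowerSeries.X i) = PowerSeries.C (u i) * PowerSeries.X := by
    intro i
    have h := hlam (MvPolynomial.X i)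
    rwa [MvPolynomial.coe_X, MvPolynomial.aeval_X] at h
  refine ⟨lam, hC, hX, ?_, hlam⟩
  intro n h hh
  have h1 := Ideal.mem_map_of_mem lam hh
  rw [Ideal.map_pow] at h1
  have h2 : Ideal.map lam (XI : Ideal (MvPowerSeries (Fin N) k)) ≤
      Ideal.span {(PowerSeries.X : PowerSeries k)} := by
    rw [XI, Ideal.map_span, Ideal.span_le]
    rintro _ ⟨_, ⟨i, rfl⟩, rfl⟩
    rw [SetLike.mem_coe, hX]
    exact ha i
  have h3 := Ideal.pow_right_mono h2 n h1
  rw [Ideal.span_singleton_pow, Ideal.mem_span_singleton] at h3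
  exact h3

end Homs

section QuadLemmas

variable {k : Type u} [Field k] {N : ℕ}

theorem map_quad {S S' : Type*} [CommRing S] [CommRing S'] (φ : S →+* S')
    (c : Fin N → Fin N → S) (x : Fin N → S) :
    φ (quad c x) = quad (fun i j => φ (c i j)) (fun i => φ (x i)) := by
  unfold quad
  rw [map_sum]
  apply Finset.sum_congr rfl; intro i _
  rw [map_sum]
  apply Finset.sum_congr rfl; intro j _
  split_ifs
  · rw [map_mul, map_mul]
  · rw [map_zero]

theorem quad_CX (q : Fin N → Fin N → k) (w : Fin N → k) :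
    quad (fun i j => (PowerSeries.C (q i j) : PowerSeries k))
      (fun i => PowerSeries.C (w i) * PowerSeries.X) =
      PowerSeries.C (quad q w) * PowerSeries.X ^ 2 := by
  unfold quad
  rw [map_sum, Finset.sum_mul]
  apply Finset.sum_congr rfl; intro i _
  rw [map_sum, Finset.sum_mul]
  apply Finset.sum_congr rfl; intro j _
  split_ifs
  · rw [map_mul, map_mul]; ring
  · rw [map_zero, zero_mul]

/-- a series without terms of degree `< 2` lies in `(X)^2` -/
theorem mem_XI_sq_of_noLowTerms {G : MvPowerSeries (Fin N) k} (hG : VanCyc.NoLowTerms G) :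
    G ∈ (XI : Ideal (MvPowerSeries (Fin N) k)) ^ 2 := by
  rw [mem_XI_pow_iff]
  intro α hα
  have h01 : α.degree = 0 ∨ α.degree = 1 := by omega
  rcases h01 with h | h
  · have : α = 0 := (Finsupp.degree_eq_zero_iff _).1 h
    subst this
    exact hG.1
  · obtain ⟨l, rfl⟩ := exists_single_of_degree_eq_one α h
    exact hG.2 l

/-- a series without low terms is its quadratic part modulo `(X)^3` -/
theorem sub_quadPoly_mem {G : MvPowerSeries (Fin N) k} (hG : VanCyc.NoLowTerms G) :
    G - ((VanCyc.quadPoly (VanCyc.quadPart G) : MvPolynomial (Fin N) k) :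
      MvPowerSeries (Fin N) k) ∈ (XI : Ideal (MvPowerSeries (Fin N) k)) ^ 3 := by
  rw [mem_XI_pow_iff]
  intro α hα
  rw [map_sub, MvPolynomial.coeff_coe, coeff_eq_coeff_lowPoly G α hα, sub_eq_zero]
  congr 1
  have h0 : MvPowerSeries.coeff 0 G = 0 := hG.1
  have h1 : (fun i => MvPowerSeries.coeff (Finsupp.single i 1) G) = fun _ => (0 : k) :=
    funext hG.2
  rw [h0, h1]
  unfold lowPoly
  simp only [map_zero, zero_mul, Finset.sum_const_zero, add_zero, zero_add]

theorem sub_linPart_mem_XI_sq {t : MvPowerSeries (Fin N) k}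
    (ht : t ∈ (XI : Ideal (MvPowerSeries (Fin N) k))) :
    t - linPart t ∈ (XI : Ideal (MvPowerSeries (Fin N) k)) ^ 2 := by
  rw [mem_XI_pow_iff]
  intro α hα
  have h01 : α.degree = 0 ∨ α.degree = 1 := by omega
  rcases h01 with h | h
  · have : α = 0 := (Finsupp.degree_eq_zero_iff _).1 h
    subst this
    rw [map_sub, coeff_zero_linPart, sub_zero]
    exact (mem_XI_iff t).1 ht
  · obtain ⟨l, rfl⟩ := exists_single_of_degree_eq_one α h
    rw [map_sub, coeff_single_linPart, sub_self]

end QuadLemmas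

end Groth.Agent.Lib.Helper76.QuadSing
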