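import Mathlib
import Groth.Agent.Lib.Helper76.QuadSing6

/-!
# Invariance of the non-degeneracy of the quadratic part under isomorphisms of `k[[x]]/(g)`
-/

set_option autoImplicit false
universe u

namespace Groth.Agent.Lib.Helper76.QuadSing

open Groth.Agent.Lib.Helper76
open Groth.Agent.Lib.Helper76.MorseLin
open Groth.Agent.Lib.Helper99.Morse

section Lines

variable {k : Type u} [Field k] {N : ℕ}
  (u : Fin N → k) (lam : MvPowerSeries (Fin N) k →+* PowerSeries k)
  (hlC : ∀ c, lam (MvPowerSeries.C c) = PowerSeries.C c)
  (hlX : ∀ i, lam (MvPowerSeries.X i) = PowerSeries.C (u i) * PowerSeries.X)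
  (hld : ∀ n h, h ∈ (XI : Ideal (MvPowerSeries (Fin N) k)) ^ n →
        (PowerSeries.X : PowerSeries k) ^ n ∣ lam h)
  (hlp : ∀ p : MvPolynomial (Fin N) k, lam (p : MvPowerSeries (Fin N) k) =
        MvPolynomial.aeval (fun i => PowerSeries.C (u i) * (PowerSeries.X : PowerSeries k)) p)

include hld hlp in
/-- the degree two coefficient of the restriction to the line through `u` of a series without
low order terms is the value of its quadratic part -/
theorem coeff_two_lam {G : MvPowerSeries (Fin N) k} (hG : VanCyc.NoLowTerms G) :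
    PowerSeries.coeff 2 (lam G) = quad (VanCyc.quadPart G) u := by
  have e : lam G = lam ((VanCyc.quadPoly (VanCyc.quadPart G) : MvPolynomial (Fin N) k) :
      MvPowerSeries (Fin N) k) +
      lam (G - ((VanCyc.quadPoly (VanCyc.quadPart G) : MvPolynomial (Fin N) k) :
      MvPowerSeries (Fin N) k)) := by
    rw [← map_add]
    congr 1
    ring
  rw [e, map_add, coeff_two_of_dvd (hld 3 _ (sub_quadPoly_mem hG)), add_zero, hlp,
    aeval_quadPoly']
  have e2 : (fun i j => algebraMap k (PowerSeries k) (VanCyc.quadPart G i j)) =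
      fun i j => (PowerSeries.C (VanCyc.quadPart G i j) : PowerSeries k) := by
    funext i j
    rw [PowerSeries.algebraMap_apply, Algebra.algebraMap_self, RingHom.id_apply]
  rw [e2, quad_CX, PowerSeries.coeff_C_mul_X_pow, if_pos rfl]

include hlC hlX hld in
/-- restriction to a line of the composition of a quadratic form with a tuple of series -/
theorem coeff_two_lam_quad (q : Fin N → Fin N → k) (a : Fin N → MvPowerSeries (Fin N) k)
    (ha : ∀ i, a i ∈ (XI : Ideal (MvPowerSeries (Fin N) k))) :
    PowerSeries.coeff 2 (lam (quad (cTab q) a)) =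
      quad q (fun i => ∑ l, MvPowerSeries.coeff (Finsupp.single l 1) (a i) * u l) := by
  set w : Fin N → k := fun i => ∑ l, MvPowerSeries.coeff (Finsupp.single l 1) (a i) * u l
    with hw
  have h1 : ∀ i, lam (linPart (a i)) = PowerSeries.C (w i) * PowerSeries.X := by
    intro i
    rw [linPart, map_sum, hw]
    simp only [map_mul, hlC, hlX, map_sum]
    rw [Finset.sum_mul]
    apply Finset.sum_congr rfl
    intro l _
    ring
  have h2 : ∀ i, (PowerSeries.X : PowerSeries k) ^ 2 ∣
      lam (a i) - PowerSeries.C (w i) * PowerSeries.X := by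
    intro i
    rw [← h1, ← map_sub]
    exact hld 2 _ (sub_linPart_mem_XI_sq (ha i))
  have h3 : ∀ i, (PowerSeries.X : PowerSeries k) ∣ lam (a i) := by
    intro i
    have := hld 1 (a i) (by rw [pow_one]; exact ha i)
    rwa [pow_one] at this
  rw [map_quad]
  have e1 : (fun i j => lam (cTab q i j)) =
      fun i j => (PowerSeries.C (q i j) : PowerSeries k) := by
    funext i j
    rw [cTab, hlC]
  rw [e1]
  have hdiff : (PowerSeries.X : PowerSeries k) ^ 3 ∣
      quad (fun i j => (PowerSeries.C (q i j) : PowerSeries k)) (fun i => lam (a i)) -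
      quad (fun i j => (PowerSeries.C (q i j) : PowerSeries k))
        (fun i => PowerSeries.C (w i) * PowerSeries.X) := by
    rw [quad_sub_quad]
    apply Finset.dvd_sum
    intro i _
    apply Finset.dvd_sum
    intro j _
    split_ifs
    · apply Dvd.dvd.mul_left
      apply dvd_add
      · have : (PowerSeries.X : PowerSeries k) ^ 3 = PowerSeries.X ^ 2 * PowerSeries.X := by ring
        rw [this]
        exact mul_dvd_mul (h2 i) (h3 j)
      · have : (PowerSeries.X : PowerSeries k) ^ 3 = PowerSeries.X * PowerSeries.X ^ 2 := by ring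
        rw [this]
        exact mul_dvd_mul (Dvd.intro_left _ rfl) (h2 j)
    · exact dvd_zero _
  have e2 : quad (fun i j => (PowerSeries.C (q i j) : PowerSeries k)) (fun i => lam (a i)) =
      (quad (fun i j => (PowerSeries.C (q i j) : PowerSeries k)) (fun i => lam (a i)) -
      quad (fun i j => (PowerSeries.C (q i j) : PowerSeries k))
        (fun i => PowerSeries.C (w i) * PowerSeries.X)) +
      quad (fun i j => (PowerSeries.C (q i j) : PowerSeries k))
        (fun i => PowerSeries.C (w i) * PowerSeries.X) := by ring
  rw [e2, map_add, coeff_two_of_dvd hdiff, zero_add, quad_CX, PowerSeries.coeff_C_mul_X_pow,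
    if_pos rfl]

include hlC hld in
theorem constantCoeff_lam (v : MvPowerSeries (Fin N) k) :
    PowerSeries.constantCoeff (lam v) = MvPowerSeries.constantCoeff v := by
  have e : v = MvPowerSeries.C (MvPowerSeries.constantCoeff v) +
      (v - MvPowerSeries.C (MvPowerSeries.constantCoeff v)) := by ring
  have h1 : v - MvPowerSeries.C (MvPowerSeries.constantCoeff v) ∈
      (XI : Ideal (MvPowerSeries (Fin N) k)) ^ 1 := by
    rw [pow_one, mem_XI_iff, map_sub, MvPowerSeries.constantCoeff_C, sub_self]
  have h2 := hld 1 _ h1
  rw [pow_one, PowerSeries.X_dvd_iff] at h2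
  rw [e, map_add, map_add, h2, add_zero, hlC, PowerSeries.constantCoeff_C, ← e]

end Lines

end Groth.Agent.Lib.Helper76.QuadSing
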