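import Mathlib
import Groth.Agent.Lib.Helper76.QuadSing7

/-!
# Invariance of the non-degeneracy of the quadratic part under isomorphisms of `k[[x]]/(g)`
-/

set_option autoImplicit false
universe u

namespace Groth.Agent.Lib.Helper76.QuadSing

open Groth.Agent.Lib.Helper76
open Groth.Agent.Lib.Helper76.MorseLin
open Groth.Agent.Lib.Helper99.Morse

section Lift

variable {k : Type u} [Field k] {N : ℕ}

theorem exists_lift_data (g F : MvPowerSeries (Fin N) k)
    (hg0 : MvPowerSeries.constantCoeff g = 0) (hF0 : MvPowerSeries.constantCoeff F = 0)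
    (ε : (MvPowerSeries (Fin N) k ⧸ Ideal.span {g}) ≃ₐ[k]
      (MvPowerSeries (Fin N) k ⧸ Ideal.span {F})) :
    ∃ (a : Fin N → MvPowerSeries (Fin N) k)
      (ψ : MvPowerSeries (Fin N) k →+* MvPowerSeries (Fin N) k),
      (∀ i, a i ∈ (XI : Ideal (MvPowerSeries (Fin N) k))) ∧
      (∀ c, ψ (MvPowerSeries.C c) = MvPowerSeries.C c) ∧
      (∀ i, ψ (MvPowerSeries.X i) = a i) ∧
      (∀ n, Ideal.map ψ ((XI : Ideal (MvPowerSeries (Fin N) k)) ^ n) ≤ XI ^ n) ∧
      (∀ p : MvPolynomial (Fin N) k, ψ (p : MvPowerSeries (Fin N) k) =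
        MvPolynomial.aeval a p) ∧
      (∀ h, Ideal.Quotient.mk (Ideal.span {F}) (ψ h) =
        ε (Ideal.Quotient.mk (Ideal.span {g}) h)) := by
  have hex : ∀ i, ∃ ai : MvPowerSeries (Fin N) k, Ideal.Quotient.mk (Ideal.span {F}) ai =
      ε (Ideal.Quotient.mk (Ideal.span {g}) (MvPowerSeries.X i)) :=
    fun i => Ideal.Quotient.mk_surjective _
  choose a ha using hex
  have haX : ∀ i, a i ∈ (XI : Ideal (MvPowerSeries (Fin N) k)) := by
    intro i
    by_contra hcon
    have h1 : IsUnit (a i) := (isUnit_iff_notMem_XI (a i)).2 hcon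
    have h2 : IsUnit (Ideal.Quotient.mk (Ideal.span {F}) (a i)) := h1.map _
    rw [ha i] at h2
    have h3 : IsUnit (Ideal.Quotient.mk (Ideal.span {g}) (MvPowerSeries.X i)) := by
      have := h2.map ε.symm
      rwa [AlgEquiv.symm_apply_apply] at this
    haveI := isLocalRing_quot hg0
    have h4 : Ideal.Quotient.mk (Ideal.span {g}) (MvPowerSeries.X i) ∈
        IsLocalRing.maximalIdeal (MvPowerSeries (Fin N) k ⧸ Ideal.span {g}) := by
      rw [maximalIdeal_quot hg0, mk_mem_JT_iff hg0, MvPowerSeries.constantCoeff_X]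
    exact (IsLocalRing.mem_maximalIdeal _).1 h4 h3
  obtain ⟨ψ, hC, hX, hpow, hpoly⟩ := exists_psi a haX
  refine ⟨a, ψ, haX, hC, hX, hpow, hpoly, ?_⟩
  have hH := isHausdorff_quot hF0
  have hcomp : (Ideal.Quotient.mk (Ideal.span {F})).comp ψ =
      (ε : (MvPowerSeries (Fin N) k ⧸ Ideal.span {g}) →+*
        (MvPowerSeries (Fin N) k ⧸ Ideal.span {F})).comp (Ideal.Quotient.mk (Ideal.span {g})) := by
    apply mvPowerSeries_ringHom_ext (JT F)
    · intro c
      rw [RingHom.comp_apply, RingHom.comp_apply, hC]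
      have e1 : Ideal.Quotient.mk (Ideal.span {g}) (MvPowerSeries.C c) =
          algebraMap k (MvPowerSeries (Fin N) k ⧸ Ideal.span {g}) c := rfl
      have e2 : Ideal.Quotient.mk (Ideal.span {F}) (MvPowerSeries.C c) =
          algebraMap k (MvPowerSeries (Fin N) k ⧸ Ideal.span {F}) c := rfl
      rw [e1, e2]
      exact (ε.commutes c).symm
    · intro i
      rw [RingHom.comp_apply, RingHom.comp_apply, hX, ha i]
      rfl
    · intro i
      rw [RingHom.comp_apply, hX]
      exact Ideal.mem_map_of_mem _ (haX i)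
  intro h
  exact RingHom.congr_fun hcomp h

end Lift

end Groth.Agent.Lib.Helper76.QuadSing
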