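import Mathlib
import Groth.Agent.Lib.Helper76.QuadSing8

/-!
# Invariance of the non-degeneracy of the quadratic part: main theorem
-/

set_option autoImplicit false
universe u

namespace Groth.Agent.Lib.Helper76.QuadSing

open Groth.Agent.Lib.Helper76
open Groth.Agent.Lib.Helper76.MorseLin
open Groth.Agent.Lib.Helper99.Morse

section Main

variable {k : Type u} [Field k] {N : ℕ}

theorem span_le_XI_sq {g : MvPowerSeries (Fin N) k} (hg : VanCyc.NoLowTerms g) :
    Ideal.span {g} ≤ (XI : Ideal (MvPowerSeries (Fin N) k)) ^ 2 := by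
  rw [Ideal.span_le, Set.singleton_subset_iff]
  exact mem_XI_sq_of_noLowTerms hg

/-- the linear parts of lifts of mutually inverse isomorphisms are mutually inverse -/
theorem linear_parts_mul (g : MvPowerSeries (Fin N) k) (hg : VanCyc.NoLowTerms g)
    (a a' : Fin N → MvPowerSeries (Fin N) k)
    (ψ' : MvPowerSeries (Fin N) k →+* MvPowerSeries (Fin N) k)
    (haX : ∀ i, a i ∈ (XI : Ideal (MvPowerSeries (Fin N) k)))
    (hC' : ∀ c, ψ' (MvPowerSeries.C c) = MvPowerSeries.C c)
    (hX' : ∀ i, ψ' (MvPowerSeries.X i) = a' i)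
    (hpow' : ∀ n, Ideal.map ψ' ((XI : Ideal (MvPowerSeries (Fin N) k)) ^ n) ≤ XI ^ n)
    (hcomp : ∀ i, ψ' (a i) - MvPowerSeries.X i ∈ Ideal.span {g}) (i m : Fin N) :
    ∑ l, MvPowerSeries.coeff (Finsupp.single l 1) (a i) *
      MvPowerSeries.coeff (Finsupp.single m 1) (a' l) = if m = i then 1 else 0 := by
  classical
  have h1 : MvPowerSeries.coeff (Finsupp.single m 1) (ψ' (a i)) =
      MvPowerSeries.coeff (Finsupp.single m 1) (MvPowerSeries.X i : MvPowerSeries (Fin N) k) := by
    have := coeff_eq_zero_of_mem_XI_pow (span_le_XI_sq hg (hcomp i)) (Finsupp.single m 1)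
      (by simp)
    rw [map_sub, sub_eq_zero] at this
    exact this
  have h2 : MvPowerSeries.coeff (Finsupp.single m 1) (ψ' (a i)) =
      MvPowerSeries.coeff (Finsupp.single m 1) (ψ' (linPart (a i))) := by
    have h3 : ψ' (a i - linPart (a i)) ∈ (XI : Ideal (MvPowerSeries (Fin N) k)) ^ 2 :=
      hpow' 2 (Ideal.mem_map_of_mem _ (sub_linPart_mem_XI_sq (haX i)))
    have := coeff_eq_zero_of_mem_XI_pow h3 (Finsupp.single m 1) (by simp)
    rw [map_sub, map_sub, sub_eq_zero] at this
    exact this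
  have h4 : ψ' (linPart (a i)) =
      ∑ l, MvPowerSeries.C (MvPowerSeries.coeff (Finsupp.single l 1) (a i)) * a' l := by
    rw [linPart, map_sum]
    simp only [map_mul, hC', hX']
  rw [h2, h4, map_sum, MvPowerSeries.coeff_X] at h1
  simp only [MvPowerSeries.coeff_C_mul] at h1
  rw [h1]
  by_cases hmi : m = i
  · subst hmi
    rw [if_pos rfl, if_pos rfl]
  · rw [if_neg hmi, if_neg]
    intro h
    exact hmi (Finsupp.single_left_injective one_ne_zero h)

/-- **Invariance**: if `k[[x]]/(g) ≅ k[[x]]/(F)` as `k`-algebras, `g` and `F` have no terms of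
degree `< 2` and the quadratic part of `g` is non-degenerate, then so is that of `F`. -/
theorem quadNondeg_of_algEquiv (g F : MvPowerSeries (Fin N) k) (hg : VanCyc.NoLowTerms g)
    (hgq : VanCyc.QuadNondeg (VanCyc.quadPart g)) (hF : VanCyc.NoLowTerms F)
    (ε : (MvPowerSeries (Fin N) k ⧸ Ideal.span {g}) ≃ₐ[k]
      (MvPowerSeries (Fin N) k ⧸ Ideal.span {F})) :
    VanCyc.QuadNondeg (VanCyc.quadPart F) := by
  classical
  obtain ⟨a, ψ, haX, hC, hX, hpow, hpoly, hψ⟩ := exists_lift_data g F hg.1 hF.1 ε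
  obtain ⟨a', ψ', haX', hC', hX', hpow', hpoly', hψ'⟩ := exists_lift_data F g hF.1 hg.1 ε.symm
  -- the linear parts
  set L : Matrix (Fin N) (Fin N) k :=
    Matrix.of fun i l => MvPowerSeries.coeff (Finsupp.single l 1) (a i) with hL
  set L' : Matrix (Fin N) (Fin N) k :=
    Matrix.of fun i l => MvPowerSeries.coeff (Finsupp.single l 1) (a' i) with hL'
  have hcomp : ∀ i, ψ' (a i) - MvPowerSeries.X i ∈ Ideal.span {g} := by
    intro i
    rw [← Ideal.Quotient.eq, hψ', ← hX i, hψ, AlgEquiv.symm_apply_apply]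
  have hLL' : L * L' = 1 := by
    ext i m
    rw [Matrix.mul_apply, Matrix.one_apply]
    simp only [hL, hL', Matrix.of_apply]
    rw [linear_parts_mul g hg a a' ψ' haX hC' hX' hpow' hcomp i m]
    by_cases hmi : m = i
    · subst hmi
      simp
    · rw [if_neg hmi, if_neg (fun h => hmi h.symm)]
  have hL'L : L' * L = 1 := mul_eq_one_comm.1 hLL'
  -- `ψ g = v F`
  have hψg : ψ g ∈ Ideal.span {F} := by
    rw [← Ideal.Quotient.eq_zero_iff_mem, hψ]
    have : Ideal.Quotient.mk (Ideal.span {g}) g = 0 :=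
      Ideal.Quotient.eq_zero_iff_mem.2 (Ideal.subset_span rfl)
    rw [this, map_zero]
  rw [Ideal.mem_span_singleton'] at hψg
  obtain ⟨v, hv⟩ := hψg
  set v₀ := MvPowerSeries.constantCoeff v with hv₀
  -- the identity of quadratic forms
  have hquad : ∀ u : Fin N → k,
      quad (VanCyc.quadPart g) (L.mulVec u) = v₀ * quad (VanCyc.quadPart F) u := by
    intro u
    obtain ⟨lam, hlC, hlX, hld, hlp⟩ := exists_lam u
    have h1 : PowerSeries.coeff 2 (lam (v * F)) = PowerSeries.coeff 2 (lam (ψ g)) := by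
      rw [hv]
    rw [map_mul, coeff_two_mul_of_dvd (hld 2 F (mem_XI_sq_of_noLowTerms hF)),
      constantCoeff_lam lam hlC hld, coeff_two_lam u lam hld hlp hF] at h1
    have e : lam (ψ g) = lam (ψ ((VanCyc.quadPoly (VanCyc.quadPart g) :
        MvPolynomial (Fin N) k) : MvPowerSeries (Fin N) k)) +
        lam (ψ (g - ((VanCyc.quadPoly (VanCyc.quadPart g) :
        MvPolynomial (Fin N) k) : MvPowerSeries (Fin N) k))) := by
      rw [← map_add, ← map_add]
      congr 2
      ring
    have h2 : (PowerSeries.X : PowerSeries k) ^ 3 ∣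
        lam (ψ (g - ((VanCyc.quadPoly (VanCyc.quadPart g) :
        MvPolynomial (Fin N) k) : MvPowerSeries (Fin N) k))) :=
      hld 3 _ (hpow 3 (Ideal.mem_map_of_mem _ (sub_quadPoly_mem hg)))
    rw [e, map_add, coeff_two_of_dvd h2, add_zero, hpoly, aeval_quadPoly,
      coeff_two_lam_quad u lam hlC hlX hld _ a haX] at h1
    have e3 : L.mulVec u =
        fun i => ∑ l, MvPowerSeries.coeff (Finsupp.single l 1) (a i) * u l := rfl
    rw [e3, ← h1]
  -- conclusion
  unfold VanCyc.QuadNondeg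
  rw [isUnit_iff_ne_zero]
  intro hdet
  obtain ⟨u, hu0, hu⟩ := Matrix.exists_mulVec_eq_zero_iff.2 hdet
  have hpolar : ∀ w : Fin N → k,
      (∑ i, (L.mulVec w) i * ∑ j, pol (VanCyc.quadPart g) i j * (L.mulVec u) j) =
        v₀ * ∑ i, w i * ∑ j, pol (VanCyc.quadPart F) i j * u j := by
    intro w
    have h1 := quad_add (VanCyc.quadPart g) (L.mulVec u) (L.mulVec w)
    have h2 := quad_add (VanCyc.quadPart F) u w
    have h3 := hquad (u + w)
    rw [Matrix.mulVec_add, h1, h2, hquad u, hquad w] at h3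
    linear_combination h3
  have hzero : ∀ w : Fin N → k,
      (∑ i, (L.mulVec w) i * ∑ j, pol (VanCyc.quadPart g) i j * (L.mulVec u) j) = 0 := by
    intro w
    rw [hpolar w]
    have h0 : ∀ i, ∑ j, pol (VanCyc.quadPart F) i j * u j = 0 := by
      intro i
      have := congrFun hu i
      exact this
    simp only [h0, mul_zero, Finset.sum_const_zero]
  set y : Fin N → k := (VanCyc.polarMatrix (VanCyc.quadPart g)).mulVec (L.mulVec u) with hy
  have hy0 : y = 0 := by
    apply dotProduct_eq_zero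
    intro z
    have h1 := hzero (L'.mulVec z)
    rw [Matrix.mulVec_mulVec, hLL', Matrix.one_mulVec] at h1
    rw [dotProduct_comm]
    exact h1
  have hLu : L.mulVec u = 0 := by
    have h1 : (VanCyc.polarMatrix (VanCyc.quadPart g))⁻¹.mulVec y = L.mulVec u := by
      rw [hy, Matrix.mulVec_mulVec, Matrix.nonsing_inv_mul _ hgq, Matrix.one_mulVec]
    rw [← h1, hy0, Matrix.mulVec_zero]
  have hu' : u = 0 := by
    have h1 : L'.mulVec (L.mulVec u) = u := by
      rw [Matrix.mulVec_mulVec, hL'L, Matrix.one_mulVec]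
    rw [← h1, hLu, Matrix.mulVec_zero]
  exact hu0 hu'

end Main

end Groth.Agent.Lib.Helper76.QuadSing
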