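import Mathlib
import Groth.Prelude.Def_RegImm
import Groth.Agent.Lib.Helper94.SyntV
import Groth.Agent.Lib.Helper94.RegSpread
import Groth.Agent.Lib.Helper94.CIPres

/-!
# Regular immersions into affine space, locally (helper76)

* `exists_regular_stalk`: for a regular immersion `Spec (P/I) → Spec P` (`RegImm`, kind regular) and a
  prime `q` of `P/I`, the ideal `I P_{q'}` (`q'` the contraction of `q`) is generated by a weakly
  regular sequence (stalk of `Spec P` as the localization).
* `exists_presentation`: algebraic part (uses helper94's `RegSpread` / `CIPres` / `SyntV`): then some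
  `(P/I)_g`, `g ∉ q`, is `A[X_0, …, X_n]` modulo a regular sequence (`P = A[X_1..X_n]`, `A` Noetherian).
-/

set_option autoImplicit false
universe u
open CategoryTheory AlgebraicGeometry RingTheory.Sequence

namespace Groth.Agent.Lib.Helper76.RegImmLocal

variable (P : Type u) [CommRing P] (I : Ideal P)

/-- kernel of the global sections map of `Spec (P/I) → Spec P` -/
theorem ker_appTop :
    RingHom.ker (Spec.map (CommRingCat.ofHom (Ideal.Quotient.mk I))).appTop.hom =
      I.map (Scheme.ΓSpecIso (CommRingCat.of P)).inv.hom := by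
  have hnat := Scheme.ΓSpecIso_inv_naturality (CommRingCat.ofHom (Ideal.Quotient.mk I))
  ext s
  obtain ⟨p, rfl⟩ : ∃ p : P, (Scheme.ΓSpecIso (CommRingCat.of P)).inv.hom p = s :=
    ⟨(Scheme.ΓSpecIso (CommRingCat.of P)).hom.hom s, by simp⟩
  have h1 : (Spec.map (CommRingCat.ofHom (Ideal.Quotient.mk I))).appTop.hom
      ((Scheme.ΓSpecIso (CommRingCat.of P)).inv.hom p) =
      (Scheme.ΓSpecIso (CommRingCat.of (P ⧸ I))).inv.hom (Ideal.Quotient.mk I p) := by
    have := congrArg (fun f => f.hom p) hnat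
    exact this.symm
  rw [RingHom.mem_ker, h1]
  have hinj : Function.Injective (Scheme.ΓSpecIso (CommRingCat.of (P ⧸ I))).inv.hom :=
    (ConcreteCategory.bijective_of_isIso (Scheme.ΓSpecIso (CommRingCat.of (P ⧸ I))).inv).1
  rw [map_eq_zero_iff _ hinj, Ideal.Quotient.eq_zero_iff_mem]
  constructor
  · intro hp
    exact Ideal.mem_map_of_mem _ hp
  · intro hp
    have h2 := Ideal.mem_map_of_mem (Scheme.ΓSpecIso (CommRingCat.of P)).hom.hom hp
    rw [Ideal.map_map, ← CommRingCat.hom_comp, Iso.inv_hom_id, CommRingCat.hom_id, Ideal.map_id] at h2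
    simpa using h2

end Groth.Agent.Lib.Helper76.RegImmLocal

namespace Groth.Agent.Lib.Helper76.RegImmLocal

variable (P : Type u) [CommRing P] (I : Ideal P)

theorem exists_regular_stalk_aux
    (z : ↥(Spec (CommRingCat.of (P ⧸ I))))
    (h : RegImm.IsRegularImmersionAt RegImm.Kind.regular
      (Spec.map (CommRingCat.ofHom (Ideal.Quotient.mk I))) z) :
    ∃ rs : List ((Spec (CommRingCat.of P)).presheaf.stalk
        ((Spec.map (CommRingCat.ofHom (Ideal.Quotient.mk I))) z)),
      IsWeaklyRegular ((Spec (CommRingCat.of P)).presheaf.stalk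
        ((Spec.map (CommRingCat.ofHom (Ideal.Quotient.mk I))) z)) rs ∧
      I.map ((Scheme.ΓSpecIso (CommRingCat.of P)).inv ≫
        (Spec (CommRingCat.of P)).presheaf.germ ⊤
          ((Spec.map (CommRingCat.ofHom (Ideal.Quotient.mk I))) z) (TopologicalSpace.Opens.mem_top _)).hom = Ideal.ofList rs := by
  obtain ⟨U, hxU, -, rs, hrs, hker⟩ := h
  refine ⟨rs.map ((Spec (CommRingCat.of P)).presheaf.germ U.1 _ hxU).hom, ?_, ?_⟩
  · letI algU : Algebra Γ(Spec (CommRingCat.of P), U.1) ((Spec (CommRingCat.of P)).presheaf.stalk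
        ((Spec.map (CommRingCat.ofHom (Ideal.Quotient.mk I))) z)) :=
      TopCat.Presheaf.algebra_section_stalk (Spec (CommRingCat.of P)).presheaf ⟨_, hxU⟩
    haveI := U.2.isLocalization_stalk ⟨_, hxU⟩
    haveI : Module.Flat Γ(Spec (CommRingCat.of P), U.1) ((Spec (CommRingCat.of P)).presheaf.stalk
        ((Spec.map (CommRingCat.ofHom (Ideal.Quotient.mk I))) z)) :=
      IsLocalization.flat _ (U.2.primeIdealOf ⟨_, hxU⟩).asIdeal.primeCompl
    have hw : IsWeaklyRegular Γ(Spec (CommRingCat.of P), U.1) rs := hrs.toIsWeaklyRegular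
    exact hw.of_flat
  · let T : (Spec (CommRingCat.of P)).affineOpens := ⟨⊤, isAffineOpen_top _⟩
    have hUT : U ≤ T := (le_top : U.1 ≤ ⊤)
    have h1 : Ideal.ofList (rs.map ((Spec (CommRingCat.of P)).presheaf.germ U.1 _ hxU).hom) =
        (Ideal.ofList rs).map ((Spec (CommRingCat.of P)).presheaf.germ U.1 _ hxU).hom :=
      (Ideal.map_ofList _ _).symm
    rw [h1, ← hker, ← Scheme.Hom.ker_apply _ U,
      ← (Spec.map (CommRingCat.ofHom (Ideal.Quotient.mk I))).ker.map_ideal hUT, Ideal.map_map,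
      ← CommRingCat.hom_comp]
    have hg := TopCat.Presheaf.germ_res (Spec (CommRingCat.of P)).presheaf
      (homOfLE (show U.1 ≤ T.1 from hUT)) _ hxU
    have hcomp : CommRingCat.Hom.hom ((Spec (CommRingCat.of P)).presheaf.map (homOfLE hUT).op ≫
        (Spec (CommRingCat.of P)).presheaf.germ U.1
          ((Spec.map (CommRingCat.ofHom (Ideal.Quotient.mk I))) z) hxU) =
        CommRingCat.Hom.hom ((Spec (CommRingCat.of P)).presheaf.germ T.1
          ((Spec.map (CommRingCat.ofHom (Ideal.Quotient.mk I))) z)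
          (TopologicalSpace.Opens.mem_top _)) := congrArg CommRingCat.Hom.hom hg
    rw [hcomp, Scheme.Hom.ker_apply _ T]
    have h2 : RingHom.ker ((Spec.map (CommRingCat.ofHom (Ideal.Quotient.mk I))).app T.1).hom =
        I.map (Scheme.ΓSpecIso (CommRingCat.of P)).inv.hom := ker_appTop P I
    rw [h2, Ideal.map_map, ← CommRingCat.hom_comp]

end Groth.Agent.Lib.Helper76.RegImmLocal

namespace Groth.Agent.Lib.Helper76.RegImmLocal

variable (P : Type u) [CommRing P] (I : Ideal P)

theorem exists_regular_stalk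
    (h : RegImm.IsRegularImmersion RegImm.Kind.regular
      (Spec.map (CommRingCat.ofHom (Ideal.Quotient.mk I))))
    (q : PrimeSpectrum (P ⧸ I)) :
    ∃ (O : Type u) (_ : CommRing O) (_ : Algebra P O)
      (_ : IsLocalization.AtPrime O (q.asIdeal.comap (Ideal.Quotient.mk I))),
      ∃ rs : List O, IsWeaklyRegular O rs ∧ I.map (algebraMap P O) = Ideal.ofList rs := by
  obtain ⟨rs, hrs, hI⟩ := exists_regular_stalk_aux P I q (h.2 q)
  letI algO : Algebra P ((Spec (CommRingCat.of P)).presheaf.stalk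
      ((Spec.map (CommRingCat.ofHom (Ideal.Quotient.mk I))) q)) :=
    StructureSheaf.stalkAlgebra P ((Spec.map (CommRingCat.ofHom (Ideal.Quotient.mk I))) q)
  have locO : IsLocalization.AtPrime ((Spec (CommRingCat.of P)).presheaf.stalk
      ((Spec.map (CommRingCat.ofHom (Ideal.Quotient.mk I))) q))
      (q.asIdeal.comap (Ideal.Quotient.mk I)) :=
    StructureSheaf.IsLocalization.to_stalk P
      ((Spec.map (CommRingCat.ofHom (Ideal.Quotient.mk I))) q)
  exact ⟨_, inferInstance, algO, locO, rs, hrs, hI⟩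

end Groth.Agent.Lib.Helper76.RegImmLocal

namespace Groth.Agent.Lib.Helper76.RegImmLocal

theorem exists_forall₂ {α β : Type*} (R : α → β → Prop) (Q : β → Prop) :
    ∀ (l : List α), (∀ a ∈ l, ∃ b, R a b ∧ Q b) →
      ∃ l' : List β, List.Forall₂ R l l' ∧ ∀ b ∈ l', Q b
  | [], _ => ⟨[], List.Forall₂.nil, by simp⟩
  | a :: l, h => by
    obtain ⟨b, hab, hb⟩ := h a List.mem_cons_self
    obtain ⟨l', hl', hQ⟩ := exists_forall₂ R Q l (fun a' ha' => h a' (List.mem_cons_of_mem _ ha'))
    refine ⟨b :: l', List.Forall₂.cons hab hl', ?_⟩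
    intro b' hb'
    rcases List.mem_cons.mp hb' with rfl | hb'
    · exact hb
    · exact hQ b' hb'

open MvPolynomial Groth.Agent.Lib.Helper94.CIPres Groth.Agent.Lib.Helper94.RegSpread
  Groth.Agent.Lib.Helper39.QSpread Groth.Agent.Lib.Helper94.SyntV in
theorem exists_presentation (A : Type u) [CommRing A] [IsNoetherianRing A] (n : ℕ)
    (I : Ideal (MvPolynomial (Fin n) A)) (q : PrimeSpectrum (MvPolynomial (Fin n) A ⧸ I))
    (O : Type u) [CommRing O] [Algebra (MvPolynomial (Fin n) A) O]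
    [IsLocalization.AtPrime O (q.asIdeal.comap (Ideal.Quotient.mk I))]
    (rs : List O) (hreg : IsWeaklyRegular O rs)
    (hI : I.map (algebraMap (MvPolynomial (Fin n) A) O) = Ideal.ofList rs) :
    ∃ g : MvPolynomial (Fin n) A ⧸ I, g ∉ q.asIdeal ∧
      ∃ (d : ℕ) (Pf : Fin d → MvPolynomial (Fin (n + 1)) A),
        IsRegular (MvPolynomial (Fin (n + 1)) A) (List.ofFn Pf) ∧
        Nonempty (Localization.Away g ≃ₐ[A]
          (MvPolynomial (Fin (n + 1)) A ⧸ Ideal.ofList (List.ofFn Pf))) := by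
  classical
  set q' : Ideal (MvPolynomial (Fin n) A) := q.asIdeal.comap (Ideal.Quotient.mk I) with hq'
  -- numerators in `I`
  have hex : ∀ r ∈ rs, ∃ b : MvPolynomial (Fin n) A,
      (∃ u : Oˣ, algebraMap (MvPolynomial (Fin n) A) O b = (u : O) * r) ∧ b ∈ I := by
    intro r hr
    have hrI : r ∈ I.map (algebraMap (MvPolynomial (Fin n) A) O) := by
      rw [hI]
      exact Ideal.subset_span hr
    rw [IsLocalization.mem_map_algebraMap_iff q'.primeCompl O] at hrI
    obtain ⟨⟨a, s⟩, has⟩ := hrI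
    have hu : IsUnit (algebraMap (MvPolynomial (Fin n) A) O s) := IsLocalization.map_units O s
    refine ⟨a, ⟨hu.unit, ?_⟩, a.2⟩
    rw [IsUnit.unit_spec, mul_comm]
    exact has.symm
  obtain ⟨bs, hF0, hbsI⟩ := exists_forall₂ _ _ rs hex
  have hF : List.Forall₂ (fun (r r' : O) => ∃ u : Oˣ, r' = (u : O) * r) rs
      (bs.map (algebraMap (MvPolynomial (Fin n) A) O)) := by
    rw [List.forall₂_map_right_iff]
    exact hF0
  have hreg' := isWeaklyRegular_of_forall₂_unit hF hreg
  have hI' : I.map (algebraMap (MvPolynomial (Fin n) A) O) =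
      (Ideal.ofList bs).map (algebraMap (MvPolynomial (Fin n) A) O) := by
    rw [hI, Ideal.map_ofList]
    exact ofList_eq_of_forall₂_unit hF
  obtain ⟨g1, hg1, hgood1⟩ := exists_goodL q' O bs hreg'
  obtain ⟨g2, hg2, hmul⟩ := exists_notMem_mul_mem q' O I (IsNoetherian.noetherian I)
    (Ideal.ofList bs) (fun a ha => hI' ▸ Ideal.mem_map_of_mem _ ha)
  set h₀ : MvPolynomial (Fin n) A := g1 * g2 with hh₀
  have hh₀q : h₀ ∉ q' := fun hmem => (Ideal.IsPrime.mem_or_mem inferInstance hmem).elim hg1 hg2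
  have hgood : GoodL bs h₀ := goodL_of_dvd bs g1 h₀ hgood1 (dvd_mul_right g1 g2)
  -- the relations
  let L : List (MvPolynomial (Fin (n + 1)) A) :=
    (X 0 * ι h₀ - 1) :: bs.map (ι : MvPolynomial (Fin n) A →ₐ[A] _)
  have hweak : IsWeaklyRegular (MvPolynomial (Fin (n + 1)) A) L :=
    isWeaklyRegular_cons_of_goodL bs h₀ hgood
  -- the presentation
  let φ : MvPolynomial (Fin n) A →ₐ[A] (MvPolynomial (Fin n) A ⧸ I) := Ideal.Quotient.mkₐ A I
  have hφ : Function.Surjective φ := Ideal.Quotient.mkₐ_surjective A _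
  have hkerφ : RingHom.ker φ.toRingHom = I := Ideal.Quotient.mkₐ_ker A _
  have hker : RingHom.ker (awayHom φ h₀).toRingHom = Ideal.ofList L := by
    rw [ker_awayHom φ h₀ (Ideal.ofList bs)
      (by rw [hkerφ]; exact Ideal.span_le.mpr (fun b hb => hbsI b hb))
      (fun a ha => ⟨1, by
        rw [pow_one, hh₀, mul_assoc]
        exact Ideal.mul_mem_left _ _ (hmul a (hkerφ ▸ ha))⟩)]
    rw [Ideal.ofList_cons, sup_comm, Ideal.map_ofList]
    rfl
  let e1 : (MvPolynomial (Fin (n + 1)) A ⧸ Ideal.ofList L) ≃ₐ[A] Localization.Away (φ h₀) :=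
    (Ideal.quotientEquivAlgOfEq A hker.symm).trans
      (Ideal.quotientKerAlgEquivOfSurjective (awayHom_surjective φ h₀ hφ))
  have hφh : φ h₀ ∉ q.asIdeal := hh₀q
  haveI : Nontrivial (Localization.Away (φ h₀)) := by
    refine ⟨⟨0, 1, fun h01 => ?_⟩⟩
    obtain ⟨⟨_, m, rfl⟩, hm⟩ := (IsLocalization.eq_iff_exists (Submonoid.powers (φ h₀))
      (Localization.Away (φ h₀))).mp (show algebraMap _ (Localization.Away (φ h₀)) 0 =
        algebraMap _ _ 1 by rw [map_zero, map_one]; exact h01)
    simp only [mul_zero, mul_one] at hm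
    exact hφh (Ideal.IsPrime.mem_of_pow_mem inferInstance m (hm ▸ Ideal.zero_mem _))
  haveI : Nontrivial (MvPolynomial (Fin (n + 1)) A ⧸ Ideal.ofList L) := e1.toEquiv.nontrivial
  have hne : Ideal.ofList L ≠ ⊤ := by
    intro htop
    exact not_subsingleton _ (Ideal.Quotient.subsingleton_iff.mpr htop)
  have hregular : IsRegular (MvPolynomial (Fin (n + 1)) A) L := by
    refine ⟨hweak, ?_⟩
    rw [smul_eq_mul, Ideal.mul_top]
    exact fun h => hne h.symm
  refine ⟨φ h₀, hφh, L.length, fun i => L.get i, ?_, ?_⟩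
  · rw [List.ofFn_get]
    exact hregular
  · rw [List.ofFn_get]
    exact ⟨e1.symm⟩

end Groth.Agent.Lib.Helper76.RegImmLocal
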