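import Groth.Agent.Lib.Helper76.RegularLocalGlDim
import Groth.Agent.Lib.Helper76.ExtDetect
import Mathlib.Algebra.Category.ModuleCat.Projective
import Mathlib.RingTheory.LocalRing.Module

set_option autoImplicit false
universe u
open CategoryTheory

namespace Groth.Agent.Lib.Helper76

/-- exact projective dimension: the least `k` with `pd < k`, when finite. -/
theorem exists_exact_pd (A : Type u) [CommRing A] [IsRegularLocalRing A]
    (M : Type u) [AddCommGroup M] [Module A M]
    (hM : ¬ Limits.IsZero (ModuleCat.of A M)) :
    ∃ e : ℕ, HasProjectiveDimensionLT (ModuleCat.of A M) (e + 1) ∧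
      ¬ HasProjectiveDimensionLT (ModuleCat.of A M) e := by
  classical
  have hne : ringKrullDim A ≠ ⊥ := ringKrullDim_ne_bot
  have hne' : ringKrullDim A ≠ ⊤ := ringKrullDim_ne_top
  obtain ⟨n, hn⟩ : ∃ n : ℕ, ringKrullDim A = n := by
    cases h : ringKrullDim A with
    | bot => exact absurd h hne
    | coe a =>
      cases a with
      | top => exact absurd h hne'
      | coe n => exact ⟨n, rfl⟩
  have hex : ∃ k, HasProjectiveDimensionLT (ModuleCat.of A M) k :=
    ⟨n + 1, Groth.Agent.Lib.Helper76.hasProjectiveDimensionLT_of_isRegularLocalRing A n hn M⟩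
  have hk0 : Nat.find hex ≠ 0 := by
    intro h0
    have := Nat.find_spec hex
    rw [h0] at this
    exact hM (isZero_of_hasProjectiveDimensionLT_zero _)
  obtain ⟨e, he⟩ := Nat.exists_eq_succ_of_ne_zero hk0
  refine ⟨e, ?_, ?_⟩
  · have := Nat.find_spec hex
    rwa [he] at this
  · exact Nat.find_min hex (by omega)

theorem projectiveDimension_eq_iff_ext_self (A : Type u) [CommRing A] [IsRegularLocalRing A]
    (M : Type u) [AddCommGroup M] [Module A M] [Module.Finite A M] (d : ℕ) :
    projectiveDimension (ModuleCat.of A M) = (d : WithBot ℕ∞) ↔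
      ((∀ j : ℕ, d < j → Subsingleton (Abelian.Ext (ModuleCat.of A M) (ModuleCat.of A A) j)) ∧
        Nontrivial (Abelian.Ext (ModuleCat.of A M) (ModuleCat.of A A) d)) := by
  constructor
  · intro hpd
    have h1 : HasProjectiveDimensionLT (ModuleCat.of A M) (d + 1) := by
      rw [← projectiveDimension_lt_iff, hpd]
      exact_mod_cast Nat.lt_succ_self d
    have h2 : ¬ HasProjectiveDimensionLT (ModuleCat.of A M) d := by
      rw [← projectiveDimension_lt_iff, hpd]
      exact lt_irrefl _
    refine ⟨fun j hj => ?_, ?_⟩
    · exact HasProjectiveDimensionLT.subsingleton (ModuleCat.of A M) (d + 1) j hj _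
    · exact Groth.Agent.Lib.Helper76.ext_self_nontrivial_of_projectiveDimension M d h1 h2
  · rintro ⟨hvan, hnt⟩
    have hM : ¬ Limits.IsZero (ModuleCat.of A M) := by
      intro hz
      have := Groth.Agent.Lib.Helper76.ext_subsingleton_of_isZero_src (ModuleCat.of A M)
        (ModuleCat.of A A) hz d
      exact not_subsingleton _ this
    obtain ⟨e, he1, he2⟩ := exists_exact_pd A M hM
    have hnte := Groth.Agent.Lib.Helper76.ext_self_nontrivial_of_projectiveDimension M e he1 he2
    have hed : e = d := by
      rcases lt_trichotomy e d with h | h | h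
      · exfalso
        have := HasProjectiveDimensionLT.subsingleton (ModuleCat.of A M) (e + 1) d h
          (ModuleCat.of A A)
        exact not_subsingleton _ this
      · exact h
      · exfalso
        have := hvan e h
        exact not_subsingleton _ this
    subst hed
    apply le_antisymm
    · rw [projectiveDimension_le_iff]
      exact he1
    · rw [← not_lt, projectiveDimension_lt_iff]
      exact he2

/-- If `Ext^j(M, A) = 0` for `1 ≤ j ≤ dim A` then `M` is free (regular local `A`, f.g. `M`). -/
theorem free_of_ext_self_subsingleton (A : Type u) [CommRing A] [IsRegularLocalRing A]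
    (n : ℕ) (hn : ringKrullDim A = n) (M : Type u) [AddCommGroup M] [Module A M] [Module.Finite A M]
    (h : ∀ j : ℕ, 1 ≤ j → j ≤ n →
      Subsingleton (Abelian.Ext (ModuleCat.of A M) (ModuleCat.of A A) j)) :
    Module.Free A M := by
  by_cases hM : Limits.IsZero (ModuleCat.of A M)
  · have : Subsingleton M := ModuleCat.subsingleton_of_isZero hM
    exact Module.Free.of_subsingleton A M
  · obtain ⟨e, he1, he2⟩ := exists_exact_pd A M hM
    have hnte := ext_self_nontrivial_of_projectiveDimension M e he1 he2
    have hen : e ≤ n := by
      by_contra hlt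
      push Not at hlt
      have hP := hasProjectiveDimensionLT_of_isRegularLocalRing A n hn M
      exact he2 (hasProjectiveDimensionLT_of_ge _ (n + 1) e hlt)
    have he0 : e = 0 := by
      by_contra hne
      have := h e (Nat.one_le_iff_ne_zero.mpr hne) hen
      exact not_subsingleton _ this
    subst he0
    have hproj : Projective (ModuleCat.of A M) :=
      projective_iff_hasProjectiveDimensionLT_one.mpr he1
    have : Module.Projective A M := (IsProjective.iff_projective M).mpr hproj
    exact Module.free_of_flat_of_isLocalRing

end Groth.Agent.Lib.Helper76
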