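/-
Tools for lifting systems of parameters from a Cohen–Macaulay localization (helper76).
-/
import Mathlib
import Groth.Prelude.Def_CAlg
import Groth.Agent.Lib.Helper67.CMCat
import Groth.Agent.Lib.Helper94.CILocal

set_option autoImplicit false
set_option linter.unusedSectionVars false
set_option linter.style.haveILetI false

namespace Groth.Agent.Lib.Helper76.SopLift

open IsLocalRing LocCoh
open scoped Pointwise

universe u

/-- dimension drops when cutting by an element outside all minimal primes -/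
theorem ringKrullDim_quotient_sup_span_succ_le {A : Type u} [CommRing A] [IsNoetherianRing A]
    (J : Ideal A) (x : A) (hx : ∀ q ∈ J.minimalPrimes, x ∉ q) :
    ringKrullDim (A ⧸ (J ⊔ Ideal.span {x})) + 1 ≤ ringKrullDim (A ⧸ J) := by
  have hn : ∀ p ∈ (Module.annihilator (A ⧸ J) (A ⧸ J)).minimalPrimes,
      Ideal.Quotient.mk J x ∉ p := by
    intro p hp hxp
    rw [Module.annihilator_eq_bot.mpr inferInstance] at hp
    have hp' : p ∈ minimalPrimes (A ⧸ J) := hp
    have hcomap : p.comap (Ideal.Quotient.mk J) ∈ J.minimalPrimes := by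
      rw [Ideal.minimalPrimes_eq_comap]
      exact ⟨p, hp', rfl⟩
    exact hx _ hcomap hxp
  have h1 := Module.supportDim_quotSMulTop_succ_le_of_notMem_minimalPrimes
    (R := A ⧸ J) (M := A ⧸ J) hn
  rw [Module.supportDim_self_eq_ringKrullDim] at h1
  have h2 : Module.supportDim (A ⧸ J) (QuotSMulTop (Ideal.Quotient.mk J x) (A ⧸ J)) =
      ringKrullDim ((A ⧸ J) ⧸ Ideal.span {Ideal.Quotient.mk J x}) := by
    have h : Ideal.span {Ideal.Quotient.mk J x} =
        (Ideal.Quotient.mk J x) • (⊤ : Ideal (A ⧸ J)) := by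
      simp [← Submodule.ideal_span_singleton_smul]
    rw [ringKrullDim_eq_of_ringEquiv (Ideal.quotientEquivAlgOfEq (A ⧸ J) h).toRingEquiv]
    exact Module.supportDim_quotient_eq_ringKrullDim _
  rw [h2] at h1
  have h3 : ringKrullDim ((A ⧸ J) ⧸ Ideal.span {Ideal.Quotient.mk J x}) =
      ringKrullDim (A ⧸ (J ⊔ Ideal.span {x})) := by
    have hmap : Ideal.span {Ideal.Quotient.mk J x} =
        (Ideal.span {x}).map (Ideal.Quotient.mk J) := by
      rw [Ideal.map_span, Set.image_singleton]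
    rw [hmap]
    exact ringKrullDim_eq_of_ringEquiv (DoubleQuot.quotQuotEquivQuotSup J (Ideal.span {x}))
  rw [h3] at h1
  exact h1

/-- coset prime avoidance -/
theorem exists_add_notMem {A : Type u} [CommRing A] (S : Finset (Ideal A))
    (hS : ∀ q ∈ S, q.IsPrime) (hinc : ∀ q ∈ S, ∀ q' ∈ S, q' ≤ q → q' = q)
    (y : A) (Jc : Ideal A) (h : ∀ q ∈ S, ¬ (y ∈ q ∧ Jc ≤ q)) :
    ∃ z ∈ Jc, ∀ q ∈ S, y + z ∉ q := by
  classical
  set S1 := S.filter (fun q => y ∈ q) with hS1
  set S2 := S.filter (fun q => y ∉ q) with hS2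
  set I : Ideal A := Jc ⊓ S2.inf id with hI
  have hI2 : ∀ q' ∈ S2, I ≤ q' := by
    intro q' hq'
    exact inf_le_right.trans (Finset.inf_le (f := id) hq')
  have hI1 : ∀ q ∈ S1, ¬ I ≤ q := by
    intro q hq hle
    have hqS : q ∈ S := (Finset.mem_filter.mp hq).1
    have hyq : y ∈ q := (Finset.mem_filter.mp hq).2
    haveI := hS q hqS
    rcases (Ideal.IsPrime.inf_le (hS q hqS)).mp hle with h1 | h1
    · exact h q hqS ⟨hyq, h1⟩
    · obtain ⟨q', hq', hle'⟩ := (Ideal.IsPrime.inf_le' (hS q hqS)).mp h1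
      have hq'S : q' ∈ S := (Finset.mem_filter.mp hq').1
      have hyq' : y ∉ q' := (Finset.mem_filter.mp hq').2
      have := hinc q hqS q' hq'S hle'
      exact hyq' (this ▸ hyq)
  have hex : ∃ z ∈ I, ∀ q ∈ S1, z ∉ q := by
    by_contra hcon
    push Not at hcon
    have hsub : ((I : Ideal A) : Set A) ⊆ ⋃ q ∈ (S1 : Set (Ideal A)), (id q : Ideal A) := by
      intro z hz
      obtain ⟨q, hq, hzq⟩ := hcon z hz
      simp only [Set.mem_iUnion, exists_prop]
      exact ⟨q, hq, hzq⟩
    rw [Ideal.subset_union_prime (⊥ : Ideal A) ⊥] at hsub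
    · obtain ⟨q, hq, hle⟩ := hsub
      exact hI1 q hq hle
    · intro q hq _ _
      exact hS q (Finset.mem_filter.mp hq).1
  obtain ⟨z, hzI, hz⟩ := hex
  refine ⟨z, (inf_le_left : I ≤ Jc) hzI, fun q hq hmem => ?_⟩
  by_cases hyq : y ∈ q
  · have hq1 : q ∈ S1 := Finset.mem_filter.mpr ⟨hq, hyq⟩
    apply hz q hq1
    have := q.sub_mem hmem hyq
    simpa using this
  · have hq2 : q ∈ S2 := Finset.mem_filter.mpr ⟨hq, hyq⟩
    apply hyq
    have hzq : z ∈ q := hI2 q hq2 hzI
    have := q.sub_mem hmem hzq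
    simpa using this

end Groth.Agent.Lib.Helper76.SopLift
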