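/-
In a Cohen–Macaulay local ring, a system of parameters avoids the minimal primes of its initial
segments (helper76).
-/
import Groth.Agent.Lib.Helper76.SopLift1
import Groth.Agent.Lib.Helper76.CIPres

set_option autoImplicit false
set_option linter.unusedSectionVars false
set_option linter.style.haveILetI false

namespace Groth.Agent.Lib.Helper76.SopLift

open IsLocalRing LocCoh Groth.Agent.Lib.Helper94.CILocal

universe u

theorem notMem_minimalPrimes_of_sop (B : Type u) [CommRing B] [IsCohenMacaulayLocalRing B]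
    (s : ℕ) (hs : ringKrullDim B = s) (t : Fin s → B) (ht : ∀ i, t i ∈ maximalIdeal B)
    (hsop : ringKrullDim (B ⧸ Ideal.span (Set.range t)) = 0) (k : Fin s)
    (Q : Ideal B)
    (hQ : Q ∈ (Ideal.span (t '' {j : Fin s | j.val < k.val})).minimalPrimes) :
    t k ∉ Q := by
  classical
  intro htk
  haveI : Q.IsPrime := hQ.1.1
  have hTQ : Ideal.span (t '' {j : Fin s | j.val < k.val}) ≤ Q := hQ.1.2
  have hset : (t '' {j : Fin s | j.val < k.val}) =
      ((Finset.image t (Finset.Iio k) : Finset B) : Set B) := by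
    ext b
    simp only [Set.mem_image, Set.mem_setOf_eq, Finset.coe_image, Finset.coe_Iio, Set.mem_Iio,
      Fin.lt_def]
  have hht : Q.height ≤ (k.val : ℕ∞) := by
    rw [hset] at hQ
    refine (Ideal.height_le_card_of_mem_minimalPrimes_span_finset hQ).trans ?_
    have : (Finset.image t (Finset.Iio k)).card ≤ k.val :=
      Finset.card_image_le.trans (by simp)
    exact_mod_cast this
  haveI : IsLocalRing (B ⧸ Q) :=
    IsLocalRing.of_surjective' (Ideal.Quotient.mk Q) Ideal.Quotient.mk_surjective
  set S2 : Finset (B ⧸ Q) :=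
    Finset.image (fun j => Ideal.Quotient.mk Q (t j)) (Finset.Ioi k) with hS2
  have hcard : S2.card ≤ s - 1 - k.val := Finset.card_image_le.trans (by simp)
  have hjac : (S2 : Set (B ⧸ Q)) ⊆ Ring.jacobson (B ⧸ Q) := by
    rw [ringJacobson_eq_maximalIdeal]
    intro b hb
    obtain ⟨j, -, rfl⟩ := Finset.mem_image.mp (Finset.mem_coe.mp hb)
    rw [SetLike.mem_coe, ← Groth.Agent.Lib.Helper76.KosLen.map_maximalIdeal_of_surjective
      (Ideal.Quotient.mk Q) Ideal.Quotient.mk_surjective]
    exact Ideal.mem_map_of_mem _ (ht j)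
  have hK := ringKrullDim_le_ringKrullDim_quotient_add_card S2 hjac
  have hq0 : ringKrullDim ((B ⧸ Q) ⧸ Ideal.span (S2 : Set (B ⧸ Q))) ≤ 0 := by
    let f : B →+* (B ⧸ Q) ⧸ Ideal.span (S2 : Set (B ⧸ Q)) :=
      (Ideal.Quotient.mk _).comp (Ideal.Quotient.mk Q)
    have hf : Function.Surjective f :=
      Ideal.Quotient.mk_surjective.comp Ideal.Quotient.mk_surjective
    have hker : ∀ a ∈ Ideal.span (Set.range t), f a = 0 := by
      intro a ha
      have hle : Ideal.span (Set.range t) ≤ RingHom.ker f := by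
        rw [Ideal.span_le]
        rintro _ ⟨j, rfl⟩
        rw [SetLike.mem_coe, RingHom.mem_ker]
        show Ideal.Quotient.mk _ (Ideal.Quotient.mk Q (t j)) = 0
        rcases lt_trichotomy j k with h | h | h
        · have : t j ∈ Q := hTQ (Ideal.subset_span ⟨j, Fin.lt_def.mp h, rfl⟩)
          rw [Ideal.Quotient.eq_zero_iff_mem.mpr this, map_zero]
        · subst h
          rw [Ideal.Quotient.eq_zero_iff_mem.mpr htk, map_zero]
        · rw [Ideal.Quotient.eq_zero_iff_mem]
          exact Ideal.subset_span (Finset.mem_coe.mpr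
            (Finset.mem_image.mpr ⟨j, Finset.mem_Ioi.mpr h, rfl⟩))
      exact hle ha
    let g : B ⧸ Ideal.span (Set.range t) →+* (B ⧸ Q) ⧸ Ideal.span (S2 : Set (B ⧸ Q)) :=
      Ideal.Quotient.lift _ f hker
    have hg : Function.Surjective g := Ideal.Quotient.lift_surjective_of_surjective _ _ hf
    exact (ringKrullDim_le_of_surjective g hg).trans hsop.le
  have hsupp : Module.support B B = Set.univ := by
    rw [Module.support_eq_zeroLocus, Module.annihilator_eq_bot.mpr inferInstance]
    simp
  have hCM := Groth.Agent.Lib.Helper67.CMCat.ringKrullDim_quotient_add_height (R := B) B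
    IsCohenMacaulayLocalRing.supportDim_eq_depth hsupp Q
  obtain ⟨d, hd⟩ := exists_nat_ringKrullDim (B ⧸ Q)
  have hne : Q.height ≠ ⊤ := ne_top_of_le_ne_top (ENat.natCast_ne_top _) hht
  obtain ⟨h, hh⟩ := ENat.ne_top_iff_exists.mp hne
  rw [hd, ← hh, hs] at hCM
  have e1 : d + h = s := by exact_mod_cast hCM
  have e2 : h ≤ k.val := by
    rw [← hh] at hht
    exact_mod_cast hht
  have e3 : d ≤ S2.card := by
    have := hK.trans (add_le_add_left hq0 _)
    rw [hd, zero_add] at this
    exact_mod_cast this
  have e4 := k.2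
  omega

end Groth.Agent.Lib.Helper76.SopLift
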