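/-
Lifting a system of parameters of a Cohen–Macaulay localization: the inductive step (helper76).
-/
import Groth.Agent.Lib.Helper76.SopLift2

set_option autoImplicit false
set_option linter.unusedSectionVars false
set_option linter.style.haveILetI false

namespace Groth.Agent.Lib.Helper76.SopLift

open IsLocalRing LocCoh

universe u

section Step

variable (A : Type u) [CommRing A] [IsNoetherianRing A] (p : Ideal A) [p.IsPrime]

theorem step (J : Ideal A) (hJp : J ≤ p) (T : Ideal (Localization.AtPrime p))
    (hT : Ideal.map (algebraMap A (Localization.AtPrime p)) J = T)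
    (τ : Localization.AtPrime p) (hτm : τ ∈ maximalIdeal (Localization.AtPrime p))
    (hτ : ∀ Q ∈ T.minimalPrimes, τ ∉ Q) :
    ∃ xi ai : A, xi ∈ p ∧ ai ∉ p ∧
      algebraMap A (Localization.AtPrime p) xi -
        algebraMap A (Localization.AtPrime p) ai * τ ∈ T ∧
      ∀ q ∈ J.minimalPrimes, xi ∉ q := by
  classical
  obtain ⟨y, b, hyb⟩ := IsLocalization.exists_mk'_eq p.primeCompl τ
  have hspec : τ * algebraMap A (Localization.AtPrime p) b =
      algebraMap A (Localization.AtPrime p) y := by
    rw [← hyb]; exact IsLocalization.mk'_spec _ _ _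
  have hbunit : IsUnit (algebraMap A (Localization.AtPrime p) (b : A)) :=
    IsLocalization.map_units (Localization.AtPrime p) b
  have hyp : y ∈ p := by
    have : algebraMap A (Localization.AtPrime p) y ∈ maximalIdeal (Localization.AtPrime p) := by
      rw [← hspec]; exact Ideal.mul_mem_right _ _ hτm
    exact (IsLocalization.AtPrime.to_map_mem_maximal_iff (Localization.AtPrime p) p y).mp this
  set Jc : Ideal A := T.comap (algebraMap A (Localization.AtPrime p)) with hJc
  have hJJc : J ≤ Jc := by rw [hJc, ← hT]; exact Ideal.le_comap_map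
  have hTm : T ≤ maximalIdeal (Localization.AtPrime p) := by
    rw [← hT, Ideal.map_le_iff_le_comap]
    have := IsLocalization.AtPrime.under_maximalIdeal (Localization.AtPrime p) p
    rw [Ideal.under_def] at this
    rw [this]
    exact hJp
  have hJcp : Jc ≤ p := by
    have := IsLocalization.AtPrime.under_maximalIdeal (Localization.AtPrime p) p
    rw [Ideal.under_def] at this
    rw [hJc]
    exact (Ideal.comap_mono hTm).trans this.le
  have hfin : J.minimalPrimes.Finite := Ideal.finite_minimalPrimes_of_isNoetherianRing A J
  have key : ∀ q ∈ hfin.toFinset, ¬ (y ∈ q ∧ Jc ≤ q) := by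
    rintro q hq ⟨hyq, hJcq⟩
    have hqmin : q ∈ J.minimalPrimes := hfin.mem_toFinset.mp hq
    haveI : q.IsPrime := hqmin.1.1
    by_cases hqp : q ≤ p
    · have hdisj : Disjoint (p.primeCompl : Set A) (q : Set A) := by
        rw [Set.disjoint_left]; intro a ha haq; exact ha (hqp haq)
      have hQprime : (Ideal.map (algebraMap A (Localization.AtPrime p)) q).IsPrime :=
        IsLocalization.isPrime_of_isPrime_disjoint p.primeCompl (Localization.AtPrime p) q
          inferInstance hdisj
      have hcomap : (Ideal.map (algebraMap A (Localization.AtPrime p)) q).comap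
          (algebraMap A (Localization.AtPrime p)) = q :=
        IsLocalization.under_map_of_isPrime_disjoint p.primeCompl (Localization.AtPrime p)
          inferInstance hdisj
      have hQmin : Ideal.map (algebraMap A (Localization.AtPrime p)) q ∈ T.minimalPrimes := by
        refine ⟨⟨hQprime, ?_⟩, ?_⟩
        · rw [← hT]; exact Ideal.map_mono hqmin.1.2
        · rintro Q' ⟨hQ'p, hTQ'⟩ hQ'le
          haveI := hQ'p
          have h1 : J ≤ Q'.comap (algebraMap A (Localization.AtPrime p)) :=
            hJJc.trans (Ideal.comap_mono hTQ')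
          have h2 : Q'.comap (algebraMap A (Localization.AtPrime p)) ≤ q := by
            rw [← hcomap]; exact Ideal.comap_mono hQ'le
          have h3 : q ≤ Q'.comap (algebraMap A (Localization.AtPrime p)) :=
            hqmin.2 ⟨Ideal.comap_isPrime _ _, h1⟩ h2
          calc Ideal.map (algebraMap A (Localization.AtPrime p)) q
              ≤ Ideal.map (algebraMap A (Localization.AtPrime p))
                  (Q'.comap (algebraMap A (Localization.AtPrime p))) := Ideal.map_mono h3
            _ = Q' := IsLocalization.map_under p.primeCompl (Localization.AtPrime p) Q'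
      apply hτ _ hQmin
      have : algebraMap A (Localization.AtPrime p) y ∈
          Ideal.map (algebraMap A (Localization.AtPrime p)) q := Ideal.mem_map_of_mem _ hyq
      rw [← hspec] at this
      rcases hQprime.mem_or_mem this with h | h
      · exact h
      · exact absurd (Ideal.eq_top_of_isUnit_mem _ h hbunit) hQprime.ne_top
    · obtain ⟨w, hwq, hwp⟩ := Set.not_subset.mp hqp
      have hqminc : q ∈ Jc.minimalPrimes :=
        ⟨⟨inferInstance, hJcq⟩, fun q' hq' hle => hqmin.2 ⟨hq'.1, hJJc.trans hq'.2⟩ hle⟩
      have hass : q ∈ associatedPrimes A (A ⧸ Jc) := by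
        apply Module.associatedPrimes.minimalPrimes_annihilator_subset_associatedPrimes
        rw [Ideal.annihilator_quotient]; exact hqminc
      obtain ⟨_, m, hm⟩ := isAssociatedPrime_iff.mp hass
      obtain ⟨v, rfl⟩ := Ideal.Quotient.mk_surjective m
      have hwv : w * v ∈ Jc := by
        have h1 : w ∈ (⊥ : Submodule A (A ⧸ Jc)).colon {Ideal.Quotient.mk Jc v} := hm ▸ hwq
        rw [Submodule.mem_colon_singleton, Submodule.mem_bot] at h1
        rw [← Ideal.Quotient.eq_zero_iff_mem, map_mul]
        exact h1
      have hv : v ∈ Jc := by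
        rw [hJc, Ideal.mem_comap] at hwv ⊢
        rw [map_mul] at hwv
        have hwunit : IsUnit (algebraMap A (Localization.AtPrime p) w) :=
          IsLocalization.map_units (Localization.AtPrime p) (⟨w, hwp⟩ : p.primeCompl)
        exact (Ideal.unit_mul_mem_iff_mem T hwunit).mp hwv
      have h1 : (1 : A) ∈ q := by
        rw [hm, Submodule.mem_colon_singleton, Submodule.mem_bot, one_smul,
          Ideal.Quotient.eq_zero_iff_mem]
        exact hv
      exact (Ideal.IsPrime.ne_top inferInstance) ((Ideal.eq_top_iff_one q).mpr h1)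
  obtain ⟨z, hzJc, hz⟩ := exists_add_notMem hfin.toFinset
    (fun q hq => (hfin.mem_toFinset.mp hq).1.1)
    (fun q hq q' hq' hle => le_antisymm hle ((hfin.mem_toFinset.mp hq).2
      ⟨(hfin.mem_toFinset.mp hq').1.1, (hfin.mem_toFinset.mp hq').1.2⟩ hle)) y Jc key
  refine ⟨y + z, b, p.add_mem hyp (hJcp hzJc), b.2, ?_,
    fun q hq => hz q (hfin.mem_toFinset.mpr hq)⟩
  have h1 : algebraMap A (Localization.AtPrime p) (y + z) -
      algebraMap A (Localization.AtPrime p) b * τ = algebraMap A (Localization.AtPrime p) z := by
    rw [map_add, ← hspec]; ring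
  rw [h1]
  exact hzJc

end Step

end Groth.Agent.Lib.Helper76.SopLift
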