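/-
Lifting a system of parameters of a Cohen–Macaulay localization: the induction (helper76).
-/
import Groth.Agent.Lib.Helper76.SopLift3

set_option autoImplicit false
set_option linter.unusedSectionVars false
set_option linter.style.haveILetI false

namespace Groth.Agent.Lib.Helper76.SopLift

open IsLocalRing LocCoh

universe u

section Main

variable (A : Type u) [CommRing A] [IsNoetherianRing A] [IsLocalRing A] (p : Ideal A) [p.IsPrime]
  [IsCohenMacaulayLocalRing (Localization.AtPrime p)] (s : ℕ)
  (hs : ringKrullDim (Localization.AtPrime p) = s) (t : Fin s → Localization.AtPrime p)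
  (ht : ∀ i, t i ∈ maximalIdeal (Localization.AtPrime p))
  (hsop : ringKrullDim (Localization.AtPrime p ⧸ Ideal.span (Set.range t)) = 0)

/-- the ideal generated by the first `i` members of a family -/
def initSpan {R : Type u} [CommRing R] {s : ℕ} (x : Fin s → R) (i : ℕ) : Ideal R :=
  Ideal.span (x '' {j : Fin s | j.val < i})

theorem initSpan_zero {R : Type u} [CommRing R] {s : ℕ} (x : Fin s → R) : initSpan x 0 = ⊥ := by
  unfold initSpan
  have : {j : Fin s | j.val < 0} = ∅ := by
    ext j; simp
  rw [this, Set.image_empty, Ideal.span_empty]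

theorem initSpan_succ_update {R : Type u} [CommRing R] {s : ℕ} (x : Fin s → R) (i : ℕ)
    (hi : i < s) (r : R) :
    initSpan (Function.update x ⟨i, hi⟩ r) (i + 1) = initSpan x i ⊔ Ideal.span {r} := by
  unfold initSpan
  have : (Function.update x ⟨i, hi⟩ r) '' {j : Fin s | j.val < i + 1} =
      insert r (x '' {j : Fin s | j.val < i}) := by
    ext b
    constructor
    · rintro ⟨j, hj, rfl⟩
      by_cases hjk : j = ⟨i, hi⟩
      · subst hjk
        rw [Function.update_self]
        exact Set.mem_insert _ _
      · rw [Function.update_of_ne hjk]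
        refine Set.mem_insert_of_mem _ ⟨j, ?_, rfl⟩
        have h1 : j.val < i + 1 := hj
        have h2 : j.val ≠ i := fun h => hjk (Fin.ext h)
        show j.val < i
        omega
    · rintro (rfl | ⟨j, hj, rfl⟩)
      · exact ⟨⟨i, hi⟩, Nat.lt_succ_self i, Function.update_self _ _ _⟩
      · have h1 : j.val < i := hj
        have hjk : j ≠ ⟨i, hi⟩ := fun h => by rw [h] at h1; exact lt_irrefl _ h1
        exact ⟨j, Nat.lt_succ_of_lt h1, Function.update_of_ne hjk _ _⟩
  rw [this, Ideal.span_insert, sup_comm]

theorem initSpan_succ {R : Type u} [CommRing R] {s : ℕ} (x : Fin s → R) (i : ℕ)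
    (hi : i < s) :
    initSpan x (i + 1) = initSpan x i ⊔ Ideal.span {x ⟨i, hi⟩} := by
  have := initSpan_succ_update x i hi (x ⟨i, hi⟩)
  rwa [Function.update_eq_self] at this

theorem initSpan_full {R : Type u} [CommRing R] {s : ℕ} (x : Fin s → R) :
    initSpan x s = Ideal.span (Set.range x) := by
  unfold initSpan
  have : {j : Fin s | j.val < s} = Set.univ := by
    ext j; simp
  rw [this, Set.image_univ]

include hs ht hsop in
theorem inv (i : ℕ) (hi : i ≤ s) : ∃ x a : Fin s → A, (∀ j, x j ∈ p) ∧ (∀ j, a j ∉ p) ∧
    (∀ j : Fin s, j.val < i →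
      algebraMap A (Localization.AtPrime p) (x j) -
        algebraMap A (Localization.AtPrime p) (a j) * t j ∈ initSpan t j.val) ∧
    Ideal.map (algebraMap A (Localization.AtPrime p)) (initSpan x i) = initSpan t i ∧
    ringKrullDim (A ⧸ initSpan x i) + (i : WithBot ℕ∞) ≤ ringKrullDim A := by
  induction i with
  | zero =>
    refine ⟨fun _ => 0, fun _ => 1, fun _ => zero_mem _, fun _ => ?_,
      fun j hj => absurd hj (Nat.not_lt_zero _), ?_, ?_⟩
    · exact fun h => (Ideal.IsPrime.ne_top inferInstance) ((Ideal.eq_top_iff_one p).mpr h)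
    · rw [initSpan_zero, initSpan_zero, Ideal.map_bot]
    · rw [initSpan_zero, Nat.cast_zero, add_zero]
      exact (ringKrullDim_eq_of_ringEquiv (RingEquiv.quotientBot A)).le
  | succ i ih =>
    obtain ⟨x, a, hxp, hap, hcong, hmap, hdim⟩ := ih (Nat.le_of_succ_le hi)
    have hi' : i < s := hi
    have hJp : initSpan x i ≤ p := by
      unfold initSpan
      rw [Ideal.span_le]
      rintro _ ⟨j, -, rfl⟩
      exact hxp j
    have hτ : ∀ Q ∈ (initSpan t i).minimalPrimes, t ⟨i, hi'⟩ ∉ Q := fun Q hQ =>
      notMem_minimalPrimes_of_sop _ s hs t ht hsop ⟨i, hi'⟩ Q hQ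
    obtain ⟨xi, ai, hxip, haip, hci, hmin⟩ :=
      step A p (initSpan x i) hJp (initSpan t i) hmap (t ⟨i, hi'⟩) (ht _) hτ
    have haunit : IsUnit (algebraMap A (Localization.AtPrime p) ai) :=
      IsLocalization.map_units (Localization.AtPrime p) (⟨ai, haip⟩ : p.primeCompl)
    refine ⟨Function.update x ⟨i, hi'⟩ xi, Function.update a ⟨i, hi'⟩ ai, ?_, ?_, ?_, ?_, ?_⟩
    · intro j
      by_cases hjk : j = ⟨i, hi'⟩
      · subst hjk; rw [Function.update_self]; exact hxip
      · rw [Function.update_of_ne hjk]; exact hxp j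
    · intro j
      by_cases hjk : j = ⟨i, hi'⟩
      · subst hjk; rw [Function.update_self]; exact haip
      · rw [Function.update_of_ne hjk]; exact hap j
    · intro j hj
      by_cases hjk : j = ⟨i, hi'⟩
      · subst hjk
        rw [Function.update_self, Function.update_self]
        exact hci
      · rw [Function.update_of_ne hjk, Function.update_of_ne hjk]
        apply hcong j
        have h2 : j.val ≠ i := fun h => hjk (Fin.ext h)
        omega
    · rw [initSpan_succ_update, initSpan_succ t i hi', Ideal.map_sup, hmap, Ideal.map_span,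
        Set.image_singleton]
      apply le_antisymm
      · refine sup_le le_sup_left ?_
        rw [Ideal.span_le, Set.singleton_subset_iff, SetLike.mem_coe]
        have h1 : algebraMap A (Localization.AtPrime p) xi =
            (algebraMap A (Localization.AtPrime p) xi -
              algebraMap A (Localization.AtPrime p) ai * t ⟨i, hi'⟩) +
            algebraMap A (Localization.AtPrime p) ai * t ⟨i, hi'⟩ := by ring
        rw [h1]
        refine Ideal.add_mem _ (Ideal.mem_sup_left hci) (Ideal.mem_sup_right ?_)
        exact Ideal.mul_mem_left _ _ (Ideal.subset_span rfl)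
      · refine sup_le le_sup_left ?_
        rw [Ideal.span_le, Set.singleton_subset_iff, SetLike.mem_coe]
        rw [← Ideal.unit_mul_mem_iff_mem _ haunit]
        have h1 : algebraMap A (Localization.AtPrime p) ai * t ⟨i, hi'⟩ =
            algebraMap A (Localization.AtPrime p) xi -
            (algebraMap A (Localization.AtPrime p) xi -
              algebraMap A (Localization.AtPrime p) ai * t ⟨i, hi'⟩) := by ring
        rw [h1]
        refine Ideal.sub_mem _ (Ideal.mem_sup_right (Ideal.subset_span rfl))
          (Ideal.mem_sup_left hci)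
    · rw [initSpan_succ_update]
      have h1 := ringKrullDim_quotient_sup_span_succ_le (initSpan x i) xi hmin
      calc ringKrullDim (A ⧸ (initSpan x i ⊔ Ideal.span {xi})) + ((i + 1 : ℕ) : WithBot ℕ∞)
          = (ringKrullDim (A ⧸ (initSpan x i ⊔ Ideal.span {xi})) + 1) + (i : WithBot ℕ∞) := by
            rw [Nat.cast_add, Nat.cast_one, add_assoc, add_comm (1 : WithBot ℕ∞)]
        _ ≤ ringKrullDim (A ⧸ initSpan x i) + (i : WithBot ℕ∞) := add_le_add_left h1 _
        _ ≤ ringKrullDim A := hdim

include hs ht hsop in
theorem main : ∃ x a : Fin s → A, (∀ i, x i ∈ p) ∧ (∀ i, a i ∉ p) ∧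
    ringKrullDim (A ⧸ Ideal.span (Set.range x)) + (s : WithBot ℕ∞) = ringKrullDim A ∧
    ∀ i : Fin s, algebraMap A (Localization.AtPrime p) (x i) -
        algebraMap A (Localization.AtPrime p) (a i) * t i ∈
      Ideal.span (t '' {j : Fin s | j < i}) := by
  classical
  obtain ⟨x, a, hxp, hap, hcong, -, hdim⟩ := inv A p s hs t ht hsop s le_rfl
  refine ⟨x, a, hxp, hap, ?_, fun i => hcong i i.2⟩
  rw [initSpan_full] at hdim
  apply le_antisymm hdim
  have hjac : ((Finset.univ.image x : Finset A) : Set A) ⊆ Ring.jacobson A := by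
    rw [ringJacobson_eq_maximalIdeal]
    intro b hb
    obtain ⟨j, -, rfl⟩ := Finset.mem_image.mp (Finset.mem_coe.mp hb)
    exact IsLocalRing.le_maximalIdeal (Ideal.IsPrime.ne_top inferInstance) (hxp j)
  have h1 := ringKrullDim_le_ringKrullDim_quotient_add_card (Finset.univ.image x) hjac
  have h2 : ((Finset.univ.image x : Finset A) : Set A) = Set.range x := by
    rw [Finset.coe_image, Finset.coe_univ, Set.image_univ]
  rw [h2] at h1
  refine h1.trans (add_le_add_right ?_ _)
  have : (Finset.univ.image x).card ≤ s := Finset.card_image_le.trans (by simp)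
  exact_mod_cast this

end Main

end Groth.Agent.Lib.Helper76.SopLift
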