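import Groth.Agent.Lib.Helper76.JdC
import Groth.Agent.Lib.Helper76.FinSynt
import Groth.Agent.Lib.Helper94.NoetherDiff
import Groth.Agent.Lib.Helper94.SyntZ
import Groth.Agent.Lib.Helper75.Fitting13
import Groth.Agent.S8931

/-!
# helper76: Noether different = Kähler different for finite syntomic algebras
-/

set_option autoImplicit false
set_option linter.unusedSimpArgs false
set_option linter.unusedSectionVars false
set_option linter.unusedVariables false
set_option linter.style.haveILetI false
universe u

open TensorProduct MvPolynomial KaehlerDifferential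

namespace Groth.Agent.Lib.Helper76.Sy

/-- local case: over a local ring a finite syntomic algebra has a square presentation, for which
both ideals are generated by the Jacobian determinant. -/
theorem local_case (A' B' : Type u) [CommRing A'] [IsLocalRing A'] [CommRing B'] [Algebra A' B']
    [Module.Finite A' B'] (h : Synt.IsSyntomic A' B') :
    Disc.noetherDifferent A' B' = Fitt.ideal B' (Ω[B'⁄A']) 0 := by
  obtain ⟨n, F, ⟨e⟩⟩ := Groth.Agent.Lib.Helper76.FinSynt.exists_square_presentation A' B' h
  haveI : Module.Finite A' (MvPolynomial (Fin n) A' ⧸ Ideal.span (Set.range F)) :=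
    Module.Finite.equiv e.toLinearEquiv
  haveI : Algebra.QuasiFinite A' (MvPolynomial (Fin n) A' ⧸ Ideal.span (Set.range F)) :=
    inferInstance
  have hrel := Groth.Agent.Lib.Helper76.Jd.isRelGCI_of_quasiFinite A' n F
  haveI : Module.Flat A' (MvPolynomial (Fin n) A' ⧸ Ideal.span (Set.range F)) :=
    Groth.Agent.Lib.Helper94.SyntH.flat_of_isRelGCI A' n n F hrel
  have hND := Groth.Agent.Lib.Helper76.Jd.noetherDifferent_eq_jacobian F
    (Groth.Agent.Lib.Helper76.Jd.koszulRegular_of_isRelGCI A' n n F hrel)
  letI : Algebra (MvPolynomial (Fin n) A' ⧸ Ideal.span (Set.range F)) B' :=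
    e.symm.toAlgHom.toRingHom.toAlgebra
  haveI : IsScalarTower A' (MvPolynomial (Fin n) A' ⧸ Ideal.span (Set.range F)) B' := by
    refine ⟨fun a c b => ?_⟩
    change e.symm (a • c) * b = a • (e.symm c * b)
    rw [map_smul, smul_mul_assoc]
  have hbij : Function.Bijective
      (algebraMap (MvPolynomial (Fin n) A' ⧸ Ideal.span (Set.range F)) B') := e.symm.bijective
  haveI : Module.Flat (MvPolynomial (Fin n) A' ⧸ Ideal.span (Set.range F)) B' :=
    RingHom.flat_algebraMap_iff.mp (RingHom.Flat.of_bijective hbij)
  haveI : Algebra.IsEpi (MvPolynomial (Fin n) A' ⧸ Ideal.span (Set.range F)) B' :=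
    Algebra.isEpi_of_surjective_algebraMap _ _ hbij.2
  have h1 := Groth.Agent.Lib.Helper94.NoetherDiff.noetherDifferent_of_flat_epi (A := A')
    (B' := MvPolynomial (Fin n) A' ⧸ Ideal.span (Set.range F)) (B := B')
  letI : Algebra (MvPolynomial (Fin n) A') B' :=
    ((algebraMap (MvPolynomial (Fin n) A' ⧸ Ideal.span (Set.range F)) B').comp
      (Ideal.Quotient.mk (Ideal.span (Set.range F)))).toAlgebra
  haveI : IsScalarTower A' (MvPolynomial (Fin n) A') B' :=
    IsScalarTower.of_algebraMap_eq (fun a => by
      change algebraMap A' B' a = e.symm (Ideal.Quotient.mk _ (algebraMap A' _ a))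
      exact (e.symm.commutes a).symm)
  have hsurj : Function.Surjective (algebraMap (MvPolynomial (Fin n) A') B') :=
    hbij.2.comp Ideal.Quotient.mk_surjective
  have hker : RingHom.ker (algebraMap (MvPolynomial (Fin n) A') B') =
      Ideal.span (Set.range F) := by
    ext x
    rw [RingHom.mem_ker]
    change e.symm (Ideal.Quotient.mk _ x) = 0 ↔ _
    rw [map_eq_zero_iff _ e.symm.injective, Ideal.Quotient.eq_zero_iff_mem]
  have h2 := Groth.Agent.S8931.fitt_eq A' n B' F hsurj hker
  rw [h1, hND, Ideal.map_span, Set.image_singleton, h2]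
  rfl

section Loc

variable (A B : Type u) [CommRing A] [CommRing B] [Algebra A B] (m : Ideal A) [m.IsPrime]

theorem nd_localize [Algebra.FiniteType A B] :
    Disc.noetherDifferent (Localization.AtPrime m)
      (Localization (Algebra.algebraMapSubmonoid B m.primeCompl)) =
    (Disc.noetherDifferent A B).map
      (algebraMap B (Localization (Algebra.algebraMapSubmonoid B m.primeCompl))) := by
  haveI : Algebra.IsPushout A B (Localization.AtPrime m)
      (Localization (Algebra.algebraMapSubmonoid B m.primeCompl)) :=
    Algebra.isPushout_of_isLocalization m.primeCompl (Localization.AtPrime m) B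
      (Localization (Algebra.algebraMapSubmonoid B m.primeCompl))
  exact Groth.Agent.Lib.Helper94.NoetherDiff.noetherDifferent_flat_baseChange

theorem fitt_localize [Algebra.FiniteType A B] :
    Fitt.ideal (Localization (Algebra.algebraMapSubmonoid B m.primeCompl))
      (Ω[Localization (Algebra.algebraMapSubmonoid B m.primeCompl)⁄Localization.AtPrime m]) 0 =
    (Fitt.ideal B (Ω[B⁄A]) 0).map
      (algebraMap B (Localization (Algebra.algebraMapSubmonoid B m.primeCompl))) := by
  haveI h1 : Algebra.IsPushout A B (Localization.AtPrime m)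
      (Localization (Algebra.algebraMapSubmonoid B m.primeCompl)) :=
    Algebra.isPushout_of_isLocalization m.primeCompl (Localization.AtPrime m) B
      (Localization (Algebra.algebraMapSubmonoid B m.primeCompl))
  haveI h2 : Algebra.IsPushout A (Localization.AtPrime m) B
      (Localization (Algebra.algebraMapSubmonoid B m.primeCompl)) := h1.symm
  rw [← Groth.Agent.Lib.Helper75.Fitting.fitt_congr
    (KaehlerDifferential.tensorKaehlerEquiv A (Localization.AtPrime m) B
      (Localization (Algebra.algebraMapSubmonoid B m.primeCompl))) 0,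
    Groth.Agent.Lib.Helper75.Fitting.fitt_baseChange]

theorem syntomic_localize [Module.Finite A B] (h : Synt.IsSyntomic A B) :
    Synt.IsSyntomic (Localization.AtPrime m)
      (Localization (Algebra.algebraMapSubmonoid B m.primeCompl)) := by
  haveI h1 : Algebra.IsPushout A B (Localization.AtPrime m)
      (Localization (Algebra.algebraMapSubmonoid B m.primeCompl)) :=
    Algebra.isPushout_of_isLocalization m.primeCompl (Localization.AtPrime m) B
      (Localization (Algebra.algebraMapSubmonoid B m.primeCompl))
  haveI h2 : Algebra.IsPushout A (Localization.AtPrime m) B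
      (Localization (Algebra.algebraMapSubmonoid B m.primeCompl)) := h1.symm
  exact Groth.Agent.Lib.Helper94.SyntS.isSyntomic_of_algEquiv
    (Algebra.IsPushout.equiv A (Localization.AtPrime m) B
      (Localization (Algebra.algebraMapSubmonoid B m.primeCompl)))
    (Groth.Agent.Lib.Helper94.SyntZ.isSyntomic_baseChange h)

end Loc

end Groth.Agent.Lib.Helper76.Sy
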