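import Groth.Agent.Lib.Helper76.SyA

/-!
# helper76: Noether different = Kähler different for finite syntomic algebras (globalization)
-/

set_option autoImplicit false
set_option linter.unusedSimpArgs false
set_option linter.unusedSectionVars false
set_option linter.unusedVariables false
set_option linter.style.haveILetI false
universe u

open TensorProduct KaehlerDifferential

namespace Groth.Agent.Lib.Helper76.Sy

section Glue

variable {A B : Type u} [CommRing A] [CommRing B] [Algebra A B]

/-- ideals of an `A`-algebra `B` can be compared after localizing at the maximal ideals of `A` -/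
lemma le_of_localization_base (I J : Ideal B)
    (h : ∀ (m : Ideal A) [m.IsMaximal],
      I.map (algebraMap B (Localization (Algebra.algebraMapSubmonoid B m.primeCompl))) ≤
      J.map (algebraMap B (Localization (Algebra.algebraMapSubmonoid B m.primeCompl)))) :
    I ≤ J := by
  intro x hx
  by_contra hxJ
  let 𝔞 : Ideal A :=
    { carrier := {a | algebraMap A B a * x ∈ J}
      add_mem' := fun {a b} ha hb => by
        change algebraMap A B (a + b) * x ∈ J
        rw [map_add, add_mul]; exact J.add_mem ha hb
      zero_mem' := by
        change algebraMap A B 0 * x ∈ J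
        rw [map_zero, zero_mul]; exact J.zero_mem
      smul_mem' := fun c a ha => by
        change algebraMap A B (c • a) * x ∈ J
        rw [smul_eq_mul, map_mul, mul_assoc]; exact J.mul_mem_left _ ha }
  have h𝔞 : 𝔞 ≠ ⊤ := by
    intro htop
    have h1 : (1 : A) ∈ 𝔞 := htop ▸ Submodule.mem_top
    have h2 : algebraMap A B 1 * x ∈ J := h1
    rw [map_one, one_mul] at h2
    exact hxJ h2
  obtain ⟨m, hm, hle⟩ := Ideal.exists_le_maximal 𝔞 h𝔞
  haveI := hm
  have hmem := h m (Ideal.mem_map_of_mem
    (algebraMap B (Localization (Algebra.algebraMapSubmonoid B m.primeCompl))) hx)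
  rw [IsLocalization.mem_map_algebraMap_iff (Algebra.algebraMapSubmonoid B m.primeCompl)] at hmem
  obtain ⟨⟨⟨j, hj⟩, ⟨s, hs⟩⟩, heq⟩ := hmem
  rw [← map_mul, IsLocalization.eq_iff_exists (Algebra.algebraMapSubmonoid B m.primeCompl)] at heq
  obtain ⟨⟨t, ht⟩, heq⟩ := heq
  obtain ⟨a, ha, rfl⟩ := hs
  obtain ⟨a', ha', rfl⟩ := ht
  have hin : a' * a ∈ 𝔞 := by
    change algebraMap A B (a' * a) * x ∈ J
    have e1 : algebraMap A B (a' * a) * x = algebraMap A B a' * j := by
      rw [map_mul]
      simp only at heq
      linear_combination heq
    rw [e1]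
    exact J.mul_mem_left _ hj
  exact (m.primeCompl.mul_mem ha' ha) (hle hin)

lemma eq_of_localization_base (I J : Ideal B)
    (h : ∀ (m : Ideal A) [m.IsMaximal],
      I.map (algebraMap B (Localization (Algebra.algebraMapSubmonoid B m.primeCompl))) =
      J.map (algebraMap B (Localization (Algebra.algebraMapSubmonoid B m.primeCompl)))) :
    I = J :=
  le_antisymm (le_of_localization_base I J (fun m _ => (h m).le))
    (le_of_localization_base J I (fun m _ => (h m).ge))

end Glue

/-- **Noether different = Kähler different** for a finite syntomic algebra. -/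
theorem noetherDifferent_eq_fitt (A B : Type u) [CommRing A] [CommRing B] [Algebra A B]
    [Module.Finite A B] (h : Synt.IsSyntomic A B) :
    Disc.noetherDifferent A B = Fitt.ideal B (Ω[B⁄A]) 0 := by
  apply eq_of_localization_base (A := A)
  intro m hm
  rw [← nd_localize A B m, ← fitt_localize A B m]
  exact local_case _ _ (syntomic_localize A B m h)

end Groth.Agent.Lib.Helper76.Sy
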