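import Mathlib
import Groth.Agent.Lib.Helper76.Curvilinear
import Groth.Agent.S12734

/-!
# The T¹-lifting theorem for set-valued deformation functors in characteristic zero
-/

set_option autoImplicit false
universe u v

namespace Groth.Agent.Lib.Helper76.T1Fun

section Part1

open CategoryTheory T1Lift ArtFun ArtFun.Art Groth.Agent.Lib.Helper63.T1L
open Groth.Agent.Lib.Helper76 Groth.Agent.Lib.Helper76.TrArc Groth.Agent.Lib.Helper76.Curvi

variable (k : Type u) [Field k]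

/-- the section `a ↦ (a, 0)` of `β` -/
noncomputable def iB (n : ℕ) : T1Lift.A k n ⟶ T1Lift.B k n :=
  Art.homMk (TrivSqZeroExt.inlAlgHom k (Tr k n) (Tr k n)) (AlgHom.ext fun a => by
    show resA k n (TrivSqZeroExt.fst (TrivSqZeroExt.inl a : DualNumber (Tr k n))) = resA k n a
    rw [TrivSqZeroExt.fst_inl])

theorem iB_β (n : ℕ) : iB k n ≫ β k n = 𝟙 (T1Lift.A k n) := by
  refine Art.hom_ext (AlgHom.ext fun a => ?_)
  show TrivSqZeroExt.fst (TrivSqZeroExt.inl a : DualNumber (Tr k n)) = a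
  rw [TrivSqZeroExt.fst_inl]

theorem dual_mul_eq_zero {S : Type*} [CommRing S] (x y : DualNumber S) (h1 : x.fst = 0)
    (h2 : y.fst = 0) : x * y = 0 := by
  refine TrivSqZeroExt.ext ?_ ?_
  · rw [TrivSqZeroExt.fst_mul, h1, zero_mul, TrivSqZeroExt.fst_zero]
  · rw [TrivSqZeroExt.snd_mul, h1, h2, zero_smul, MulOpposite.op_zero, zero_smul, add_zero,
      TrivSqZeroExt.snd_zero]

theorem ker_β_sq (n : ℕ) :
    RingHom.ker (β k n).toAlgHom * RingHom.ker (β k n).toAlgHom = ⊥ := by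
  rw [eq_bot_iff, Ideal.mul_le]
  intro x hx y hy
  rw [Ideal.mem_bot]
  exact dual_mul_eq_zero (S := Tr k n) x y hx hy

theorem ker_pC1_sq (n : ℕ) :
    RingHom.ker (pC1 k n).toAlgHom * RingHom.ker (pC1 k n).toAlgHom = ⊥ := by
  rw [eq_bot_iff, Ideal.mul_le]
  intro x hx y hy
  rw [Ideal.mem_bot]
  obtain ⟨x', rfl⟩ := q_surjective k n x
  obtain ⟨y', rfl⟩ := q_surjective k n y
  have h1 : x' ∈ RingHom.ker (β k (n + 1)).toAlgHom := by
    rw [← q_pC1]
    exact hx
  have h2 : y' ∈ RingHom.ker (β k (n + 1)).toAlgHom := by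
    rw [← q_pC1]
    exact hy
  have h3 : x' * y' = 0 := by
    have := Ideal.mul_mem_mul h1 h2
    rw [ker_β_sq, Ideal.mem_bot] at this
    exact this
  show (q k n).toAlgHom x' * (q k n).toAlgHom y' = 0
  rw [← map_mul, h3, map_zero]

/-- `A_(n+2)` is the fibre product of `A_(n+1)` and `B_(n+1)` over `C_n` in characteristic zero -/
theorem isFibreProd_ε [CharZero k] (n : ℕ) :
    IsFibreProd (α k (n + 1)) (ε k (n + 1)) (e k n) (q k n) where
  w := α_e k n
  inj := by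
    intro b₁ b₂ _ h2
    exact εAlg_injective k n h2
  surj := by
    intro a' a'' h
    have h1 : a' = TrivSqZeroExt.fst a'' := by
      have := congrArg (fun c => (pC1 k n).toAlgHom c) h
      have h3 : (pC1 k n).toAlgHom ((e k n).toAlgHom a') = a' :=
        congrArg (fun g : T1Lift.A k (n + 1) ⟶ T1Lift.A k (n + 1) => g.toAlgHom a') (e_pC1 k n)
      have h4 : (pC1 k n).toAlgHom ((q k n).toAlgHom a'') = TrivSqZeroExt.fst a'' :=
        congrArg (fun g : T1Lift.B k (n + 1) ⟶ T1Lift.A k (n + 1) => g.toAlgHom a'') (q_pC1 k n)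
      exact h3.symm.trans (this.trans h4)
    have h2 : dualMap k (αAlg k n) a'' = εAlg k n (TrivSqZeroExt.fst a'') := by
      have := congrArg (fun c => (pC2 k n).toAlgHom c) h
      have h3 : (pC2 k n).toAlgHom ((e k n).toAlgHom a') = εAlg k n a' :=
        congrArg (fun g : T1Lift.A k (n + 1) ⟶ T1Lift.B k n => g.toAlgHom a') (e_pC2 k n)
      have h4 : (pC2 k n).toAlgHom ((q k n).toAlgHom a'') = dualMap k (αAlg k n) a'' :=
        congrArg (fun g : T1Lift.B k (n + 1) ⟶ T1Lift.B k n => g.toAlgHom a'') (q_pC2 k n)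
      rw [← h1]
      exact h4.symm.trans (this.symm.trans h3)
    obtain ⟨j, hj⟩ := εAlg_range k n a'' h2
    refine ⟨j, ?_, hj⟩
    show αAlg k (n + 1) j = a'
    rw [h1, ← hj, fst_εAlg]

end Part1

section Part2

open CategoryTheory T1Lift ArtFun ArtFun.Art Groth.Agent.Lib.Helper63.T1L
open Groth.Agent.Lib.Helper76 Groth.Agent.Lib.Helper76.TrArc Groth.Agent.Lib.Helper76.Curvi

variable {k : Type u} [Field k]

/-- curvilinear lifting for a functor with the first-order lifting property -/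
theorem map_α_surjective [CharZero k] (F : ArtFun.Art k k ⥤ Type v)
    (hRS : (∀ ⦃B A A' A'' : ArtFun.Art k k⦄ (p' : B ⟶ A') (p'' : B ⟶ A'') (f' : A' ⟶ A) (f'' : A'' ⟶ A)
        (h : ArtFun.Art.IsFibreProd p' p'' f' f''), Function.Surjective f'' → Function.Bijective (ArtFun.cmp F h)))
    (hT1 : ∀ ⦃A A' A'' : ArtFun.Art k k⦄ (π' : A' ⟶ A) (i' : A ⟶ A') (π'' : A'' ⟶ A) (i'' : A ⟶ A'')
        (q : A'' ⟶ A'), i' ≫ π' = 𝟙 A → i'' ≫ π'' = 𝟙 A →
        RingHom.ker π'.toAlgHom * RingHom.ker π'.toAlgHom = ⊥ →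
        RingHom.ker π''.toAlgHom * RingHom.ker π''.toAlgHom = ⊥ →
        q ≫ π' = π'' → i'' ≫ q = i' → Function.Surjective q → Function.Surjective (F.map q))
    (n : ℕ) : Function.Surjective (F.map (α k (n + 1))) := by
  intro X
  have hq : Function.Surjective (F.map (q k n)) :=
    hT1 (pC1 k n) (iB k (n + 1) ≫ q k n) (β k (n + 1)) (iB k (n + 1)) (q k n)
      (by rw [Category.assoc, q_pC1, iB_β]) (iB_β k (n + 1)) (ker_pC1_sq k n)
      (ker_β_sq k (n + 1)) (q_pC1 k n) rfl (q_surjective k n)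
  obtain ⟨Y, hY⟩ := hq (F.map (e k n) X)
  have hfp := isFibreProd_ε k n
  have hbij := hRS (α k (n + 1)) (ε k (n + 1)) (e k n) (q k n) hfp (q_surjective k n)
  obtain ⟨X', hX'⟩ := hbij.2 ⟨(X, Y), hY.symm⟩
  exact ⟨X', congrArg (fun z : FibProd F (e k n) (q k n) => z.1.1) hX'⟩

end Part2

section Part3

open CategoryTheory T1Lift ArtFun ArtFun.Art Groth.Agent.Lib.Helper63.T1L
open Groth.Agent.Lib.Helper76 Groth.Agent.Lib.Helper76.TrArc Groth.Agent.Lib.Helper76.Curvi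

variable {k : Type u} [Field k]

/-- a deformation functor with finite-dimensional tangent space and the first-order lifting
property is smooth, in characteristic zero -/
theorem smooth_of_t1 [CharZero k] (F : ArtFun.Art k k ⥤ Type v) [ArtFun.TangentStr F]
    (h0 : ArtFun.H0 F)
    (hRS : (∀ ⦃B A A' A'' : ArtFun.Art k k⦄ (p' : B ⟶ A') (p'' : B ⟶ A'') (f' : A' ⟶ A) (f'' : A'' ⟶ A)
        (h : ArtFun.Art.IsFibreProd p' p'' f' f''), Function.Surjective f'' → Function.Bijective (ArtFun.cmp F h)))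
    (hfin : ArtFun.Hfin F)
    (hT1 : ∀ ⦃A A' A'' : ArtFun.Art k k⦄ (π' : A' ⟶ A) (i' : A ⟶ A') (π'' : A'' ⟶ A) (i'' : A ⟶ A'')
        (q : A'' ⟶ A'), i' ≫ π' = 𝟙 A → i'' ≫ π'' = 𝟙 A →
        RingHom.ker π'.toAlgHom * RingHom.ker π'.toAlgHom = ⊥ →
        RingHom.ker π''.toAlgHom * RingHom.ker π''.toAlgHom = ⊥ →
        q ≫ π' = π'' → i'' ≫ q = i' → Function.Surjective q → Function.Surjective (F.map q)) :
    ArtFun.IsSmoothFunctor F := by
  have hpro : IsProrepresentable F := Groth.Agent.S12734.prorep_of_conditions F h0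
    (fun _ _ _ _ p' p'' f' f'' h hs => (hRS p' p'' f' f'' h hs).2)
    (fun _ _ p' p'' h => hRS p' p'' _ _ h (dual k k).res_surjective)
    hfin
    (fun _ _ _ p₁ p₂ f h hs => (hRS p₁ p₂ f f h hs.1).1)
    (fun _ σ _ => Art.hom_ext (AlgHom.ext fun c =>
      (σ.toAlgHom.commutes c).trans ((baseToDual (Λ := k) (k := k)).toAlgHom.commutes c).symm))
  obtain ⟨P⟩ := hpro
  set R := P.ring with hRdef
  have hξ := P.universal
  -- curvilinear lifting for `R`
  have hCL : ∀ (n : ℕ) (X : R.carrier →ₐ[k] Tr k (n + 1)),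
      ∃ X' : R.carrier →ₐ[k] Tr k (n + 2), ∀ r, αAlg k (n + 1) (X' r) = X r := by
    intro n X
    let φ : HomSet R.carrier R.res (T1Lift.A k (n + 1)) :=
      ⟨X, res_comp_of_field R (T1Lift.A k (n + 1)) X⟩
    obtain ⟨Y, hY⟩ := map_α_surjective F hRS hT1 n (P.family.app _ φ)
    obtain ⟨ψ, hψ⟩ := (hξ (T1Lift.A k (n + 2))).2 Y
    have h1 : HomSet.map (α k (n + 1)) ψ = φ := by
      apply (hξ (T1Lift.A k (n + 1))).1
      rw [P.family.natural, hψ, hY]
    refine ⟨ψ.1, fun r => ?_⟩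
    exact AlgHom.congr_fun (congrArg Subtype.val h1) r
  obtain ⟨e⟩ := powerSeries_of_curvilinear R hCL
  have hsm : IsSmoothFunctor (hR R.carrier R.res) :=
    (Groth.Agent.S12722.result (Λ := k) (k := k) (fun c => ⟨c, rfl⟩) R).2 ⟨_, ⟨e⟩⟩
  intro B A μ hμ y
  obtain ⟨φ, hφ⟩ := (hξ A).2 y
  obtain ⟨ψ, hψ⟩ := hsm μ hμ φ
  have hψ' : HomSet.map μ ψ = φ := hψ
  refine ⟨P.family.app B ψ, ?_⟩
  rw [← P.family.natural, hψ', hφ]

end Part3

end Groth.Agent.Lib.Helper76.T1Fun
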