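import Mathlib
import Groth.Agent.Lib.Helper52.RegularQuot
import Groth.Agent.Lib.Helper65.RegularSmooth
import Groth.Agent.Lib.Helper76.RegularLocal
import Groth.Agent.Lib.Helper97.CotT2.Constr
import Groth.Agent.Lib.Helper97.CotT2.Datum
import Groth.Agent.Lib.Helper97.CotT2.RegSeq
import Groth.Agent.Lib.Helper97.CotT2.T2Indep
import Groth.Agent.S12289
import Groth.Prelude.Def_CotT

/-!
# Regular finitely generated algebras over a field have `T¹ = T² = 0`

Local-to-global for the Hom-model `H2` of helper97: a cocycle which is locally a coboundary is a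
coboundary; localisation of the relation module; and vanishing of `H2` for a regular quotient of a
regular local ring (the ideal is generated by part of a regular system of parameters).
-/

set_option autoImplicit false
universe u

namespace Groth.Agent.Lib.Helper76.T2Smooth

open Groth.Agent.Lib.Helper97.CotT2 Finsupp IsLocalRing

section Part1

/-- `T¹(B/k, -)` vanishes identically exactly when `B` is formally smooth over `k` -/
theorem formallySmooth_iff_T1 (k B : Type u) [CommRing k] [CommRing B] [Algebra k B] :
    Algebra.FormallySmooth k B ↔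
      ∀ (M : Type u) [AddCommGroup M] [Module B M], Subsingleton (CotT.T1 (CotT.canon k B) M) := by
  haveI : Algebra.FormallySmooth k (CotT.canon k B).toExtension.Ring := by
    change Algebra.FormallySmooth k (MvPolynomial B k)
    infer_instance
  constructor
  · intro hfs M _ _
    obtain ⟨l, hl⟩ := ((CotT.canon k B).toExtension.formallySmooth_iff_split_injection).1 hfs
    obtain ⟨-, hker, hsurj⟩ := Groth.Agent.S12289.result k B B (CotT.CanonRels k B) (CotT.canon k B) M
    refine ⟨fun x y => ?_⟩
    have h0 : ∀ x : CotT.T1 (CotT.canon k B) M, x = 0 := by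
      intro x
      obtain ⟨φ, rfl⟩ := hsurj x
      have : φ ∈ LinearMap.ker (CotT.homToT1 (CotT.canon k B) M) := by
        rw [hker]
        refine ⟨φ ∘ₗ l, ?_⟩
        rw [LinearMap.lcomp_apply', LinearMap.comp_assoc, hl, LinearMap.comp_id]
      exact this
    rw [h0 x, h0 y]
  · intro h
    rw [(CotT.canon k B).toExtension.formallySmooth_iff_split_injection]
    obtain ⟨-, hker, -⟩ := Groth.Agent.S12289.result k B B (CotT.CanonRels k B) (CotT.canon k B)
      (CotT.canon k B).toExtension.Cotangent
    have hsub := h (CotT.canon k B).toExtension.Cotangent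
    have hmem : (LinearMap.id : (CotT.canon k B).toExtension.Cotangent →ₗ[B] _) ∈
        LinearMap.ker (CotT.homToT1 (CotT.canon k B) (CotT.canon k B).toExtension.Cotangent) :=
      Subsingleton.elim _ _
    rw [hker] at hmem
    obtain ⟨l, hl⟩ := hmem
    exact ⟨l, hl⟩

end Part1

section Part2

variable {R : Type*} [CommRing R] {σ : Type*} (r : σ → R)

/-- the basic trivial relation `r_i e_j - r_j e_i` -/
noncomputable def basic (i j : σ) : σ →₀ R := r i • single j 1 - r j • single i 1

theorem basic_mem_F0 (i j : σ) : basic r i j ∈ F0 r := by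
  have h := triv_mem_F0 r (single i 1) (single j 1)
  rw [jm_single, jm_single, one_mul, one_mul] at h
  exact h

theorem F0_eq_span_basic :
    F0 r = Submodule.span R (Set.range (fun p : σ × σ => basic r p.1 p.2)) := by
  apply le_antisymm
  · refine Submodule.span_le.mpr ?_
    rintro _ ⟨a, b, rfl⟩
    induction a using Finsupp.induction_linear with
    | zero => simp
    | add a a' ha ha' =>
      have : jm r (a + a') • b - jm r b • (a + a') =
          (jm r a • b - jm r b • a) + (jm r a' • b - jm r b • a') := by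
        rw [map_add, add_smul, smul_add]; abel
      rw [this]
      exact Submodule.add_mem _ ha ha'
    | single i x =>
      induction b using Finsupp.induction_linear with
      | zero => simp
      | add b b' hb hb' =>
        have : jm r (single i x) • (b + b') - jm r (b + b') • single i x =
            (jm r (single i x) • b - jm r b • single i x) +
              (jm r (single i x) • b' - jm r b' • single i x) := by
          rw [map_add, add_smul, smul_add]; abel
        rw [this]
        exact Submodule.add_mem _ hb hb'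
      | single j y =>
        have : jm r (single i x) • single j y - jm r (single j y) • single i x =
            (x * y) • basic r i j := by
          rw [jm_single, jm_single, basic, smul_sub, smul_smul, smul_smul, smul_single,
            smul_single, smul_single, smul_single, smul_eq_mul, smul_eq_mul, smul_eq_mul,
            smul_eq_mul]
          congr 2 <;> ring
        rw [this]
        exact Submodule.smul_mem _ _ (Submodule.subset_span ⟨(i, j), rfl⟩)
  · refine Submodule.span_le.mpr ?_
    rintro _ ⟨p, rfl⟩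
    exact basic_mem_F0 r p.1 p.2

variable {r}
variable {M : Type*} [AddCommGroup M] [Module R M]
variable {S : Type*} [Ring S] [Module S M] [SMulCommClass R S M]

/-- a cocycle which is locally a coboundary is a coboundary -/
theorem mem_Bd_of_local (z : Z r M S)
    (h : ∀ 𝔪 : Ideal R, 𝔪.IsMaximal → ∃ g : R, g ∉ 𝔪 ∧ ∃ ψ : (σ →₀ R) →ₗ[R] M,
      ∀ q : Q r, g • (z : Q r →ₗ[R] M) q = ψ q) : z ∈ Bd r M S := by
  let J : Ideal R :=
    { carrier := {g | ∃ ψ : (σ →₀ R) →ₗ[R] M, ∀ q : Q r, g • (z : Q r →ₗ[R] M) q = ψ q}
      add_mem' := by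
        rintro a b ⟨ψ, hψ⟩ ⟨ψ', hψ'⟩
        exact ⟨ψ + ψ', fun q => by rw [add_smul, hψ, hψ', LinearMap.add_apply]⟩
      zero_mem' := ⟨0, fun q => by rw [zero_smul, LinearMap.zero_apply]⟩
      smul_mem' := by
        rintro c a ⟨ψ, hψ⟩
        exact ⟨c • ψ, fun q => by rw [smul_eq_mul, mul_smul, hψ, LinearMap.smul_apply]⟩ }
  have hJ : J = ⊤ := by
    by_contra hne
    obtain ⟨𝔪, hmax, hle⟩ := Ideal.exists_le_maximal J hne
    obtain ⟨g, hg, ψ, hψ⟩ := h 𝔪 hmax
    exact hg (hle ⟨ψ, hψ⟩)
  have h1 : (1 : R) ∈ J := by rw [hJ]; trivial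
  obtain ⟨ψ, hψ⟩ := h1
  exact ⟨ψ, fun q => by rw [← hψ, one_smul]⟩

end Part2

section Part3

/-- the first `c` members of a regular system of parameters have only trivial relations -/
theorem Q_le_F0_of_prefix (R' : Type u) [CommRing R'] [IsRegularLocalRing R'] (d : ℕ)
    (hd : ringKrullDim R' = d) (x : Fin d → R') (hx : Ideal.span (Set.range x) = maximalIdeal R')
    (c : ℕ) (hc : c ≤ d) :
    Q (fun i : Fin c => x (Fin.castLE hc i)) ≤ F0 (fun i : Fin c => x (Fin.castLE hc i)) := by
  have hreg := (Groth.Agent.Lib.Helper76.isRegular_of_span_range_eq_maximalIdeal R' d hd x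
    hx).toIsWeaklyRegular
  refine Q_le_F0_of_regular _ ?_
  intro i y hy
  set rs := List.ofFn x with hrs
  have hlen : rs.length = d := List.length_ofFn
  have hi : i.val < rs.length := by rw [hlen]; exact lt_of_lt_of_le i.isLt hc
  have hset : (fun i : Fin c => x (Fin.castLE hc i)) '' {j | j < i} = {r | r ∈ rs.take i} := by
    ext r
    simp only [Set.mem_image, Set.mem_ofPred_eq, List.mem_take_iff_getElem]
    constructor
    · rintro ⟨j, hj, rfl⟩
      have hj' : j.val < rs.length := by rw [hlen]; exact lt_of_lt_of_le j.isLt hc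
      refine ⟨j.val, lt_min (Fin.lt_def.mp hj) hj', ?_⟩
      rw [List.getElem_ofFn]
      rfl
    · rintro ⟨j, hj, rfl⟩
      have hj' := lt_min_iff.mp hj
      refine ⟨⟨j, lt_trans hj'.1 i.isLt⟩, Fin.lt_def.mpr hj'.1, ?_⟩
      rw [List.getElem_ofFn]
      rfl
  rw [hset] at hy ⊢
  have hreg' := hreg.regular_mod_prev i.val hi
  have hget : rs[i.val] = x (Fin.castLE hc i) := by
    rw [List.getElem_ofFn]
    rfl
  have h0 : (Submodule.Quotient.mk y : R' ⧸ (Ideal.ofList (rs.take i) • ⊤ : Submodule R' R')) = 0 := by
    apply hreg'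
    change rs[i.val] • Submodule.Quotient.mk y = rs[i.val] • (0 : R' ⧸ _)
    rw [smul_zero, ← Submodule.Quotient.mk_smul, Submodule.Quotient.mk_eq_zero, ideal_smul_top,
      hget]
    exact hy
  rw [Submodule.Quotient.mk_eq_zero, ideal_smul_top] at h0
  exact h0

/-- `H²` vanishes for generators of an ideal of a regular local ring with regular quotient -/
theorem subsingleton_H2_of_regularLocal (R' : Type u) [CommRing R'] [IsRegularLocalRing R']
    (J : Ideal R') [IsRegularLocalRing (R' ⧸ J)] {σ : Type*} (r' : σ → R')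
    (hr' : Ideal.span (Set.range r') = J) (N : Type*) [AddCommGroup N] [Module R' N]
    (S : Type*) [Ring S] [Module S N] [SMulCommClass R' S N] :
    Subsingleton (H2 r' N S) := by
  obtain ⟨d, hd⟩ := Groth.Agent.Lib.Helper52.exists_nat_ringKrullDim R'
  obtain ⟨x, c, hc, hx, hJ⟩ :=
    Groth.Agent.Lib.Helper52.exists_generators_of_regular_quotient_regular d R' hd J
  have h1 := Q_le_F0_of_prefix R' d hd x hx c hc
  have hsub : Subsingleton (H2 (fun i : Fin c => x (Fin.castLE hc i)) N S) :=
    subsingleton_H2_of_Q_le_F0 _ N S h1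
  obtain ⟨e⟩ := nonempty_equiv_of_ringEquiv (r := r') (r' := fun i : Fin c => x (Fin.castLE hc i))
    (M := N) S (RingEquiv.refl R')
    (fun s => by
      rw [← hJ, ← hr']
      exact Ideal.subset_span ⟨s, rfl⟩)
    (fun s' => by
      rw [hr', hJ]
      exact Ideal.subset_span ⟨s', rfl⟩)
    (fun _ _ => rfl)
  exact e.symm.toEquiv.subsingleton

end Part3

section Part4

variable {R : Type*} [CommRing R] {σ : Type*} (r : σ → R) (W : Submonoid R)
  (R' : Type*) [CommRing R'] [Algebra R R'] [IsLocalization W R']

/-- the localized family -/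
def rLoc : σ → R' := fun s => algebraMap R R' (r s)

/-- the localization map on free modules -/
noncomputable def locF : (σ →₀ R) →ₗ[R] (σ →₀ R') :=
  Finsupp.mapRange.linearMap (Algebra.linearMap R R')

theorem locF_single (s : σ) (x : R) : locF (σ := σ) R' (single s x) = single s (algebraMap R R' x) := by
  simp [locF]

theorem jm_locF (f : σ →₀ R) : jm (rLoc r R') (locF R' f) = algebraMap R R' (jm r f) := by
  induction f using Finsupp.induction_linear with
  | zero => simp
  | add a b ha hb => rw [map_add, map_add, ha, hb, map_add, map_add]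
  | single s x => rw [locF_single, jm_single, jm_single, map_mul]; rfl

instance locF_isLocalizedModule : IsLocalizedModule W (locF (σ := σ) R') := by
  unfold locF
  infer_instance

theorem map_jm : IsLocalizedModule.map W (locF (σ := σ) R') (Algebra.linearMap R R') (jm r) =
    (jm (rLoc r R')).restrictScalars R := by
  apply IsLocalizedModule.linearMap_ext W (locF (σ := σ) R') (Algebra.linearMap R R')
  rw [IsLocalizedModule.map_comp]
  ext f
  simp only [LinearMap.coe_comp, Function.comp_apply, LinearMap.coe_restrictScalars,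
    Algebra.linearMap_apply]
  rw [jm_locF]

/-- the localization map on relation modules -/
noncomputable def locQ : Q r →ₗ[R] Q (rLoc r R') where
  toFun q := ⟨locF R' q.1, by rw [mem_Q, jm_locF, (mem_Q r).1 q.2, map_zero]⟩
  map_add' a b := Subtype.ext (map_add _ _ _)
  map_smul' c a := Subtype.ext (map_smul _ _ _)

@[simp] theorem locQ_coe (q : Q r) : ((locQ r R' q : Q (rLoc r R')) : σ →₀ R') = locF R' q.1 := rfl

/-- the kernel of the localized map is the relation module of the localized family -/
noncomputable def eK :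
    LinearMap.ker (IsLocalizedModule.map W (locF (σ := σ) R') (Algebra.linearMap R R') (jm r))
      ≃ₗ[R] Q (rLoc r R') where
  toFun x := ⟨x.1, by
    have h := LinearMap.mem_ker.1 x.2
    have h2 := LinearMap.congr_fun (map_jm r W R') x.1
    rw [h] at h2
    exact h2.symm⟩
  invFun y := ⟨y.1, by
    have h2 := LinearMap.congr_fun (map_jm r W R') y.1
    rw [LinearMap.mem_ker, h2]
    exact y.2⟩
  map_add' _ _ := rfl
  map_smul' _ _ := rfl
  left_inv _ := rfl
  right_inv _ := rfl

theorem locQ_isLocalizedModule : IsLocalizedModule W (locQ r R') := by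
  haveI := LinearMap.toKerLocalized_isLocalizedModule R' W (locF (σ := σ) R')
    (Algebra.linearMap R R') (jm r)
  have h := IsLocalizedModule.of_linearEquiv W
    (LinearMap.toKerIsLocalized W (locF (σ := σ) R') (Algebra.linearMap R R') (jm r)) (eK r W R')
  have heq : (eK r W R').toLinearMap ∘ₗ
      (LinearMap.toKerIsLocalized W (locF (σ := σ) R') (Algebra.linearMap R R') (jm r)) =
      locQ r R' := by
    ext q
    rfl
  rw [heq] at h
  exact h

end Part4

section Part5

variable {R : Type*} [CommRing R] {σ : Type*} (r : σ → R) (W : Submonoid R)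
  (R' : Type*) [CommRing R'] [Algebra R R'] [IsLocalization W R']

theorem basic_rLoc (i j : σ) : basic (rLoc r R') i j = locF R' (basic r i j) := by
  unfold basic
  rw [map_sub, map_smul, map_smul, locF_single, locF_single, map_one]
  simp only [rLoc, algebraMap_smul]

variable {r}
variable {M : Type*} [AddCommGroup M] [Module R M]
variable {S : Type*} [Ring S] [Module S M] [SMulCommClass R S M]
variable (N : Type*) [AddCommGroup N] [Module R N] [Module R' N] [IsScalarTower R R' N]
  (f : M →ₗ[R] N) [IsLocalizedModule W f]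

include W in
/-- the localized cocycle -/
theorem exists_locZ (z : Z r M S) :
    ∃ z' : Z (rLoc r R') N R', ∀ q : Q r, (z' : Q (rLoc r R') →ₗ[R'] N) (locQ r R' q) =
      f ((z : Q r →ₗ[R] M) q) := by
  haveI := locQ_isLocalizedModule r W R'
  have hunits : ∀ x : W, IsUnit ((algebraMap R (Module.End R N)) x) :=
    IsLocalizedModule.map_units f
  let z'R : Q (rLoc r R') →ₗ[R] N := IsLocalizedModule.lift W (locQ r R') (f ∘ₗ z.1) hunits
  let z'' : Q (rLoc r R') →ₗ[R'] N := LinearMap.extendScalarsOfIsLocalization W R' z'R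
  have hz'' : ∀ q : Q r, z'' (locQ r R' q) = f (z.1 q) := fun q =>
    IsLocalizedModule.lift_apply W (locQ r R') (f ∘ₗ z.1) hunits q
  have hZ : ∀ x : σ →₀ R', x ∈ F0 (rLoc r R') → ∀ hq : x ∈ Q (rLoc r R'), z'' ⟨x, hq⟩ = 0 := by
    intro x hx
    rw [F0_eq_span_basic] at hx
    induction hx using Submodule.span_induction with
    | mem x hx =>
      obtain ⟨p, rfl⟩ := hx
      intro hq
      have h1 : (⟨basic (rLoc r R') p.1 p.2, hq⟩ : Q (rLoc r R')) =
          locQ r R' ⟨basic r p.1 p.2, F0_le_Q r (basic_mem_F0 r p.1 p.2)⟩ := by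
        apply Subtype.ext
        rw [locQ_coe]
        exact basic_rLoc r R' p.1 p.2
      rw [h1, hz'', z.2 _ (basic_mem_F0 r p.1 p.2), map_zero]
    | zero =>
      intro hq
      exact map_zero z''
    | add x y hx hy ihx ihy =>
      intro hq
      have hxq : x ∈ Q (rLoc r R') := by
        rw [← F0_eq_span_basic] at hx; exact F0_le_Q _ hx
      have hyq : y ∈ Q (rLoc r R') := by
        rw [← F0_eq_span_basic] at hy; exact F0_le_Q _ hy
      have : (⟨x + y, hq⟩ : Q (rLoc r R')) = ⟨x, hxq⟩ + ⟨y, hyq⟩ := rfl
      rw [this, map_add, ihx hxq, ihy hyq, add_zero]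
    | smul c x hx ihx =>
      intro hq
      have hxq : x ∈ Q (rLoc r R') := by
        rw [← F0_eq_span_basic] at hx; exact F0_le_Q _ hx
      have : (⟨c • x, hq⟩ : Q (rLoc r R')) = c • ⟨x, hxq⟩ := rfl
      rw [this, map_smul, ihx hxq, smul_zero]
  exact ⟨⟨z'', fun q hq => hZ q.1 hq q.2⟩, hz''⟩

include W f in
/-- a cocycle whose localization is a coboundary becomes a coboundary after multiplying by
an element of the multiplicative set -/
theorem exists_local_lift [IsNoetherianRing R] [Finite σ] (z : Z r M S)
    (hsub : Subsingleton (H2 (rLoc r R') N R')) :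
    ∃ g ∈ W, ∃ ψ : (σ →₀ R) →ₗ[R] M, ∀ q : Q r, g • (z : Q r →ₗ[R] M) q = ψ q := by
  obtain ⟨z', hz'⟩ := exists_locZ W R' N f z
  have hB : z' ∈ Bd (rLoc r R') N R' :=
    (Submodule.Quotient.mk_eq_zero _).1 (Subsingleton.elim (Submodule.Quotient.mk z') 0)
  obtain ⟨ψ', hψ'⟩ := hB
  let g₀ : (σ →₀ R) →ₗ[R] N := ψ'.restrictScalars R ∘ₗ locF R'
  obtain ⟨h, s, hs⟩ := Module.FinitePresentation.exists_lift_of_isLocalizedModule W f g₀
  let g₁ : Q r →ₗ[R] M := h ∘ₗ (Q r).subtype
  let g₂ : Q r →ₗ[R] M := (s : R) • z.1
  have heq : f.comp g₁ = f.comp g₂ := by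
    ext q
    have h1 : f (h q.1) = (s : R) • g₀ q.1 := LinearMap.congr_fun hs q.1
    have h2 : g₀ q.1 = f (z.1 q) := by
      rw [← hz' q, hψ' (locQ r R' q)]
      rfl
    change f (h q.1) = f ((s : R) • z.1 q)
    rw [h1, h2, map_smul]
  obtain ⟨t, ht⟩ := Module.Finite.exists_smul_of_comp_eq_of_isLocalizedModule (M := Q r) W f g₁ g₂ heq
  refine ⟨t * s, (t * s).2, (t : R) • h, fun q => ?_⟩
  have := LinearMap.congr_fun ht q
  change (t : R) • h q.1 = (t : R) • ((s : R) • z.1 q) at this
  rw [LinearMap.smul_apply, this]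
  exact mul_smul _ _ _

end Part5

section Part6

/-- the localization of a regular quotient at a maximal ideal containing the kernel -/
theorem isRegularLocalRing_quotient_map {R : Type u} [CommRing R] (I : Ideal R)
    [IsRegularRing (R ⧸ I)] (𝔪 : Ideal R) [𝔪.IsPrime] (hI : I ≤ 𝔪) :
    IsRegularLocalRing (Localization.AtPrime 𝔪 ⧸
      I.map (algebraMap R (Localization.AtPrime 𝔪))) := by
  have hsurj : Function.Surjective (Ideal.Quotient.mk I) := Ideal.Quotient.mk_surjective
  have hker : RingHom.ker (Ideal.Quotient.mk I) ≤ 𝔪 := by rw [Ideal.mk_ker]; exact hI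
  haveI h𝔭 : (𝔪.map (Ideal.Quotient.mk I)).IsPrime := Ideal.map_isPrime_of_surjective hsurj hker
  have hcomap : (𝔪.map (Ideal.Quotient.mk I)).comap (Ideal.Quotient.mk I) = 𝔪 := by
    rw [Ideal.comap_map_of_surjective _ hsurj, ← RingHom.ker_eq_comap_bot, sup_eq_left]
    exact hker
  have hW : Algebra.algebraMapSubmonoid (R ⧸ I) 𝔪.primeCompl =
      (𝔪.map (Ideal.Quotient.mk I)).primeCompl := by
    have := Ideal.map_primeCompl_comap_of_surjective (Ideal.Quotient.mk I) hsurj
      (𝔪.map (Ideal.Quotient.mk I))
    simp only [hcomap] at this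
    exact this
  have hloc : IsLocalization (Algebra.algebraMapSubmonoid (R ⧸ I) 𝔪.primeCompl)
      (Localization.AtPrime 𝔪 ⧸ I.map (algebraMap R (Localization.AtPrime 𝔪))) := inferInstance
  rw [hW] at hloc
  exact IsRegularLocalRing.of_ringEquiv (IsLocalization.algEquiv
    (𝔪.map (Ideal.Quotient.mk I)).primeCompl
    (Localization.AtPrime (𝔪.map (Ideal.Quotient.mk I))) _).toRingEquiv

/-- `H²` vanishes for generators of an ideal of a regular ring with regular quotient -/
theorem subsingleton_H2_of_regular {R : Type u} [CommRing R] [IsRegularRing R] {σ : Type*}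
    [Finite σ] (r : σ → R) [IsRegularRing (R ⧸ Ideal.span (Set.range r))]
    (M : Type*) [AddCommGroup M] [Module R M] (hM : ∀ (s : σ) (m : M), r s • m = 0)
    (S : Type*) [Ring S] [Module S M] [SMulCommClass R S M] : Subsingleton (H2 r M S) := by
  rw [Submodule.Quotient.subsingleton_iff, eq_top_iff]
  rintro z -
  set I := Ideal.span (Set.range r) with hIdef
  have hI : ∀ x ∈ I, ∀ m : M, x • m = 0 := by
    intro x hx m
    induction hx using Submodule.span_induction with
    | mem x hx => obtain ⟨s, rfl⟩ := hx; exact hM s m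
    | zero => exact zero_smul _ _
    | add x y _ _ hx hy => rw [add_smul, hx, hy, add_zero]
    | smul c x _ hx => rw [smul_eq_mul, mul_smul, hx, smul_zero]
  apply mem_Bd_of_local
  intro 𝔪 hmax
  by_cases hle : I ≤ 𝔪
  · haveI : 𝔪.IsPrime := hmax.isPrime
    haveI := isRegularLocalRing_quotient_map I 𝔪 hle
    have hr' : Ideal.span (Set.range (rLoc r (Localization.AtPrime 𝔪))) =
        I.map (algebraMap R (Localization.AtPrime 𝔪)) := by
      rw [hIdef, Ideal.map_span, ← Set.range_comp]
      rfl
    have hsub := subsingleton_H2_of_regularLocal (Localization.AtPrime 𝔪)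
      (I.map (algebraMap R (Localization.AtPrime 𝔪))) (rLoc r (Localization.AtPrime 𝔪)) hr'
      (LocalizedModule 𝔪.primeCompl M) (Localization.AtPrime 𝔪)
    obtain ⟨g, hg, ψ, hψ⟩ := exists_local_lift 𝔪.primeCompl (Localization.AtPrime 𝔪)
      (LocalizedModule 𝔪.primeCompl M) (LocalizedModule.mkLinearMap 𝔪.primeCompl M) z hsub
    exact ⟨g, hg, ψ, hψ⟩
  · obtain ⟨g, hgI, hg𝔪⟩ := SetLike.not_le_iff_exists.1 hle
    exact ⟨g, hg𝔪, 0, fun q => hI g hgI _⟩

end Part6

section Part7

/-- `T²(B/k, M) = 0` for a regular finitely generated algebra over a field -/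
theorem subsingleton_T2_of_regular (k B : Type u) [Field k] [CommRing B] [Algebra k B]
    [Algebra.FiniteType k B] [IsRegularRing B] (M : Type u) [AddCommGroup M] [Module B M] :
    Subsingleton (CotT.T2 (CotT.canon k B) M) := by
  haveI : Algebra.FinitePresentation k B := Algebra.FinitePresentation.of_finiteType.mp inferInstance
  let P₀ := Algebra.Presentation.ofFinitePresentation k B
  obtain ⟨e⟩ := nonempty_T2_equiv (CotT.canon k B) P₀ M
  suffices Subsingleton (CotT.T2 P₀ M) from e.toEquiv.subsingleton
  letI i1 : Module P₀.toExtension.Ring M := Module.compHom M (algebraMap P₀.toExtension.Ring B)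
  haveI i2 : IsScalarTower P₀.toExtension.Ring B M := IsScalarTower.of_algebraMap_smul fun _ _ => rfl
  suffices Subsingleton (H2 (CotT.rel P₀) M B) from (bridge P₀ M).toEquiv.subsingleton
  have hsurj : Function.Surjective (algebraMap P₀.toExtension.Ring B) := P₀.algebraMap_surjective
  have hker := ker_eq_span_rel P₀
  haveI : IsRegularRing (P₀.toExtension.Ring ⧸ Ideal.span (Set.range (CotT.rel P₀))) := by
    rw [← hker]
    exact IsRegularRing.of_ringEquiv (RingHom.quotientKerEquivOfSurjective hsurj).symm
  haveI : IsRegularRing P₀.toExtension.Ring := by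
    change IsRegularRing (MvPolynomial _ k)
    infer_instance
  refine subsingleton_H2_of_regular (CotT.rel P₀) M ?_ B
  intro s m
  have h0 : algebraMap P₀.toExtension.Ring B (CotT.rel P₀ s) = 0 := by
    rw [← RingHom.mem_ker, hker]
    exact Ideal.subset_span ⟨s, rfl⟩
  rw [← algebraMap_smul B, h0, zero_smul]

/-- the full statement: nonsingular iff `T¹ = 0`; nonsingular implies `T² = 0` -/
theorem regular_iff_T1 (k B : Type u) [Field k] [IsAlgClosed k] [CommRing B] [Algebra k B]
    [Algebra.FiniteType k B] :
    ((∀ (p : Ideal B) [p.IsPrime], IsRegularLocalRing (Localization.AtPrime p)) ↔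
      ∀ (M : Type u) [AddCommGroup M] [Module B M], Subsingleton (CotT.T1 (CotT.canon k B) M)) ∧
    ((∀ (p : Ideal B) [p.IsPrime], IsRegularLocalRing (Localization.AtPrime p)) →
      ∀ (M : Type u) [AddCommGroup M] [Module B M], Subsingleton (CotT.T2 (CotT.canon k B) M)) := by
  haveI hN : IsNoetherianRing B := Algebra.FiniteType.isNoetherianRing k B
  refine ⟨?_, ?_⟩
  · rw [← isRegularRing_iff,
      Groth.Agent.Lib.Helper65.RegularSmooth.isRegularRing_iff_formallySmooth k B]
    exact formallySmooth_iff_T1 k B
  · intro h M _ _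
    haveI : IsRegularRing B := isRegularRing_iff.2 h
    exact subsingleton_T2_of_regular k B M

end Part7

end Groth.Agent.Lib.Helper76.T2Smooth
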