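import Mathlib
import Groth.Agent.Lib.Helper76.T2Smooth

/-!
# `T²` of a regular localization of a finitely generated algebra vanishes

`H2` of helper97 descends along localizations (for modules over the localization), is invariant
under passing to a polynomial ring with an evaluation map; this gives `T²(B_m/k, M) = 0` for
`B_m` regular.
-/

set_option autoImplicit false
universe u

namespace Groth.Agent.Lib.Helper76.T2Local

open Groth.Agent.Lib.Helper97.CotT2 Finsupp Groth.Agent.Lib.Helper76.T2Smooth

section Part1

variable {R : Type*} [CommRing R] {σ : Type*} (r : σ → R)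
variable (M : Type*) [AddCommGroup M] [Module R M]

/-- vanishing of `H2` does not depend on the auxiliary ring of scalars -/
theorem subsingleton_H2_of_subsingleton (S S' : Type*) [Ring S] [Module S M] [SMulCommClass R S M]
    [Ring S'] [Module S' M] [SMulCommClass R S' M] (h : Subsingleton (H2 r M S)) :
    Subsingleton (H2 r M S') := by
  rw [Submodule.Quotient.subsingleton_iff, eq_top_iff]
  rintro z -
  let z₀ : Z r M S := ⟨z.1, z.2⟩
  have hB : z₀ ∈ Bd r M S :=
    (Submodule.Quotient.mk_eq_zero _).1 (Subsingleton.elim (Submodule.Quotient.mk z₀) 0)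
  obtain ⟨ψ, hψ⟩ := hB
  exact ⟨ψ, hψ⟩

/-- vanishing of `H2` descends from a localization, for modules over the localization -/
theorem subsingleton_H2_of_loc (W : Submonoid R) (R' : Type*) [CommRing R'] [Algebra R R']
    [IsLocalization W R'] [Module R' M] [IsScalarTower R R' M]
    (S : Type*) [Ring S] [Module S M] [SMulCommClass R S M]
    (h : Subsingleton (H2 (rLoc r R') M R')) : Subsingleton (H2 r M S) := by
  rw [Submodule.Quotient.subsingleton_iff, eq_top_iff]
  rintro z -
  haveI := isLocalizedModule_id W M R'
  obtain ⟨z', hz'⟩ := exists_locZ W R' M (LinearMap.id : M →ₗ[R] M) z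
  have hB : z' ∈ Bd (rLoc r R') M R' :=
    (Submodule.Quotient.mk_eq_zero _).1 (Subsingleton.elim (Submodule.Quotient.mk z') 0)
  obtain ⟨ψ', hψ'⟩ := hB
  refine ⟨ψ'.restrictScalars R ∘ₗ locF R', fun q => ?_⟩
  have := hz' q
  rw [LinearMap.id_apply] at this
  rw [← this, hψ' (locQ r R' q)]
  rfl

end Part1

section Part2

open MvPolynomial

theorem eval_shift {R' : Type*} [CommRing R'] {κ : Type*} (c : κ → R') (p : MvPolynomial κ R') :
    MvPolynomial.eval c (shift c p) = constantCoeff p := by
  have h : (MvPolynomial.eval c).comp ((shift c : MvPolynomial κ R' ≃ₐ[R'] MvPolynomial κ R') :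
      MvPolynomial κ R' →+* MvPolynomial κ R') = constantCoeff := by
    apply MvPolynomial.ringHom_ext
    · intro x
      simp
    · intro k
      simp
  exact RingHom.congr_fun h p

variable {X : Type*} [CommRing X] {R' : Type*} [CommRing R'] [Algebra R' X] {σ : Type*}
  (r' : σ → R') (κ : Type*) (c : κ → R') [Algebra (MvPolynomial κ R') X]
  {τ : Type*} (t' : τ → MvPolynomial κ R')
  (M : Type*) [AddCommGroup M] [Module X M] [Module R' M] [IsScalarTower R' X M]
  [Module (MvPolynomial κ R') M] [IsScalarTower (MvPolynomial κ R') X M]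

/-- `H2` of a ring agrees with `H2` of a polynomial ring over it mapping to the target by an
evaluation -/
theorem nonempty_H2_equiv_eval
    (halg : ∀ p : MvPolynomial κ R',
      algebraMap (MvPolynomial κ R') X p = algebraMap R' X (MvPolynomial.eval c p))
    (hr : RingHom.ker (algebraMap R' X) = Ideal.span (Set.range r'))
    (ht : RingHom.ker (algebraMap (MvPolynomial κ R') X) = Ideal.span (Set.range t')) :
    Nonempty (H2 r' M X ≃ₗ[X] H2 t' M X) := by
  let E : MvPolynomial κ R' ≃+* MvPolynomial PEmpty.{1} (MvPolynomial κ R') :=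
    (shift c).toRingEquiv.trans (isEmptyRingEquiv (MvPolynomial κ R') PEmpty).symm
  refine nonempty_H2_equiv r' t' M hr ht PEmpty.{1} κ E ?_
  intro p
  have h1 : constantCoeff (E p) = shift c p := by
    change constantCoeff ((isEmptyRingEquiv (MvPolynomial κ R') PEmpty).symm (shift c p)) = _
    rw [isEmptyRingEquiv_symm_apply, constantCoeff_C]
  rw [h1, halg, eval_shift]

end Part2

section Part3

open MvPolynomial

attribute [local instance] MvPolynomial.algebraMvPolynomial

/-- from a ring `R'` to the polynomial ring over a ring `R₀` of which `R'` is a localization -/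
theorem subsingleton_H2_chain {R₀ : Type*} [CommRing R₀] (W : Submonoid R₀) {R' : Type*}
    [CommRing R'] [Algebra R₀ R'] [IsLocalization W R'] {X : Type*} [CommRing X] (φ₁ : R' →+* X)
    (κ : Type*) (c : κ → R') (M : Type*) [AddCommGroup M] [Module X M] [Module R' M]
    (h₁ : ∀ (x : R') (m : M), x • m = φ₁ x • m) [Module (MvPolynomial κ R₀) M]
    (h₂ : ∀ (p : MvPolynomial κ R₀) (m : M),
      p • m = φ₁ (MvPolynomial.eval c (MvPolynomial.map (algebraMap R₀ R') p)) • m)
    (hsub : Subsingleton (H2 (Subtype.val : RingHom.ker φ₁ → R') M ℤ)) :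
    Subsingleton (H2 (Subtype.val : RingHom.ker ((φ₁.comp (MvPolynomial.eval c)).comp
      (MvPolynomial.map (algebraMap R₀ R'))) → MvPolynomial κ R₀) M ℤ) := by
  set φ' : MvPolynomial κ R' →+* X := φ₁.comp (MvPolynomial.eval c) with hφ'
  set φR : MvPolynomial κ R₀ →+* X := φ'.comp (MvPolynomial.map (algebraMap R₀ R')) with hφR
  letI a1 : Algebra R' X := φ₁.toAlgebra
  letI a2 : Algebra (MvPolynomial κ R') X := φ'.toAlgebra
  letI m2 : Module (MvPolynomial κ R') M := Module.compHom M φ'
  haveI t1 : IsScalarTower R' X M := IsScalarTower.of_algebraMap_smul fun x m => (h₁ x m).symm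
  haveI t2 : IsScalarTower (MvPolynomial κ R') X M :=
    IsScalarTower.of_algebraMap_smul fun _ _ => rfl
  haveI t3 : IsScalarTower (MvPolynomial κ R₀) (MvPolynomial κ R') M := by
    refine IsScalarTower.of_algebraMap_smul fun p m => ?_
    rw [h₂ p m]
    rfl
  let tR : RingHom.ker φR → MvPolynomial κ R₀ := Subtype.val
  -- step A
  have hr : RingHom.ker (algebraMap R' X) =
      Ideal.span (Set.range (Subtype.val : RingHom.ker φ₁ → R')) := by
    rw [Subtype.range_coe, Ideal.span_eq]
    rfl
  have ht : RingHom.ker (algebraMap (MvPolynomial κ R') X) =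
      Ideal.span (Set.range (rLoc tR (MvPolynomial κ R'))) := by
    have h1 : Set.range (rLoc tR (MvPolynomial κ R')) =
        (algebraMap (MvPolynomial κ R₀) (MvPolynomial κ R')) '' (RingHom.ker φR : Set _) := by
      ext x
      constructor
      · rintro ⟨s, rfl⟩
        exact ⟨s.1, s.2, rfl⟩
      · rintro ⟨y, hy, rfl⟩
        exact ⟨⟨y, hy⟩, rfl⟩
    rw [h1]
    change RingHom.ker φ' = Ideal.map (algebraMap (MvPolynomial κ R₀) (MvPolynomial κ R'))
      (RingHom.ker φR)
    have h2 : RingHom.ker φR = (RingHom.ker φ').under (MvPolynomial κ R₀) := by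
      rw [Ideal.under_def, RingHom.comap_ker]
      rfl
    rw [h2, IsLocalization.map_under (W.map (C (σ := κ))) (MvPolynomial κ R')]
  obtain ⟨e⟩ := nonempty_H2_equiv_eval (X := X) (Subtype.val : RingHom.ker φ₁ → R') κ c
    (rLoc tR (MvPolynomial κ R')) M (fun _ => rfl) hr ht
  have hsub1 : Subsingleton (H2 (Subtype.val : RingHom.ker φ₁ → R') M X) :=
    subsingleton_H2_of_subsingleton _ M ℤ X hsub
  have hsub2 : Subsingleton (H2 (rLoc tR (MvPolynomial κ R')) M X) := e.symm.toEquiv.subsingleton
  have hsub3 : Subsingleton (H2 (rLoc tR (MvPolynomial κ R')) M (MvPolynomial κ R')) :=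
    subsingleton_H2_of_subsingleton _ M X _ hsub2
  exact subsingleton_H2_of_loc tR M (W.map (C (σ := κ))) (MvPolynomial κ R') ℤ hsub3

end Part3

section Part4

open MvPolynomial

/-- the presentation with given generators and all elements of the kernel as relations -/
noncomputable def fullPres {k B : Type*} [CommRing k] [CommRing B] [Algebra k B] {ι : Type*}
    (G : Algebra.Generators k B ι) : Algebra.Presentation k B ι G.ker where
  __ := G
  relation := Subtype.val
  span_range_relation_eq_ker := by
    refine le_antisymm (Ideal.span_le.mpr ?_) fun x hx => Ideal.subset_span ⟨⟨x, hx⟩, rfl⟩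
    rintro _ ⟨r, rfl⟩
    exact r.2

theorem map_surjective_of_map_eq {R P : Type*} [CommRing R] [CommRing P] (M : Submonoid R)
    (S : Type*) [CommRing S] [Algebra R S] [IsLocalization M S] (Q : Type*) [CommRing Q]
    [Algebra P Q] (g : R →+* P) (hg : Function.Surjective g) (T : Submonoid P)
    (hT : Submonoid.map g M = T) [IsLocalization T Q] (hle : M ≤ T.comap g) :
    Function.Surjective (IsLocalization.map Q g hle : S →+* Q) := by
  subst hT
  exact IsLocalization.map_surjective_of_surjective M S Q hg

theorem subsingleton_T2_localization (k : Type u) [Field k] (B : Type u) [CommRing B] [Algebra k B]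
    (n : ℕ) (π : MvPolynomial (Fin n) k →ₐ[k] B) (hπ : Function.Surjective π) (m : Ideal B)
    [m.IsPrime] [IsRegularLocalRing (Localization.AtPrime m)] (M : Type u) [AddCommGroup M]
    [Module (Localization.AtPrime m) M] :
    Subsingleton (CotT.T2 (CotT.canon k (Localization.AtPrime m)) M) := by
  set R := MvPolynomial (Fin n) k with hR
  set Bm := Localization.AtPrime m with hBm
  let π' : R →+* B := (π : R →+* B)
  have hπ' : Function.Surjective π' := hπ
  set 𝔪 : Ideal R := m.comap π' with h𝔪
  haveI : 𝔪.IsPrime := Ideal.comap_isPrime π' m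
  set W := 𝔪.primeCompl with hW
  set R' := Localization.AtPrime 𝔪 with hR'
  have hT : Submonoid.map π' W = m.primeCompl := Ideal.map_primeCompl_comap_of_surjective π' hπ' m
  have hle : W ≤ m.primeCompl.comap π' := by rw [← hT]; exact W.le_comap_map
  let φ₁ : R' →+* Bm := IsLocalization.map Bm π' hle
  have hφ₁ : ∀ x : R, φ₁ (algebraMap R R' x) = algebraMap B Bm (π' x) := fun x =>
    IsLocalization.map_eq hle x
  have hφ₁surj : Function.Surjective φ₁ := by
    exact map_surjective_of_map_eq W R' Bm π' hπ' m.primeCompl hT hle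
  -- the regular local rings
  haveI : IsRegularLocalRing R' := inferInstance
  haveI : IsRegularLocalRing (R' ⧸ RingHom.ker φ₁) :=
    IsRegularLocalRing.of_ringEquiv (RingHom.quotientKerEquivOfSurjective hφ₁surj).symm
  letI mR' : Module R' M := Module.compHom M φ₁
  have hsub0 : Subsingleton (H2 (Subtype.val : RingHom.ker φ₁ → R') M ℤ) :=
    subsingleton_H2_of_regularLocal R' (RingHom.ker φ₁) _
      (by rw [Subtype.range_coe, Ideal.span_eq]) M ℤ
  -- the chain
  let c : W → R' := fun w => IsLocalization.mk' R' 1 w
  let φR : MvPolynomial W R →+* Bm :=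
    (φ₁.comp (MvPolynomial.eval c)).comp (MvPolynomial.map (algebraMap R R'))
  letI mPR : Module (MvPolynomial W R) M := Module.compHom M φR
  have hsub1 : Subsingleton (H2 (Subtype.val : RingHom.ker φR → MvPolynomial W R) M ℤ) :=
    subsingleton_H2_chain W φ₁ W c M (fun _ _ => rfl) (fun _ _ => rfl) hsub0
  -- generators of `Bm` over `k`
  let val : W ⊕ Fin n → Bm := Sum.elim (fun w => φ₁ (c w)) (fun i => algebraMap B Bm (π' (X i)))
  let s : MvPolynomial (W ⊕ Fin n) k ≃ₐ[k] MvPolynomial W R := sumAlgEquiv k W (Fin n)
  have hkey : ∀ p : MvPolynomial (W ⊕ Fin n) k, aeval val p = φR (s p) := by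
    intro p
    have h : ((aeval val : MvPolynomial (W ⊕ Fin n) k →ₐ[k] Bm) : MvPolynomial (W ⊕ Fin n) k →+* Bm)
        = φR.comp ((s : MvPolynomial (W ⊕ Fin n) k →ₐ[k] MvPolynomial W R) :
          MvPolynomial (W ⊕ Fin n) k →+* MvPolynomial W R) := by
      apply MvPolynomial.ringHom_ext
      · intro a
        change aeval val (C a) = φR (s (C a))
        have h1 : s (C a) = C (C a) := sumAlgEquiv_C_inl k W (Fin n) a
        rw [h1, aeval_C]
        change _ = φ₁ (MvPolynomial.eval c (MvPolynomial.map (algebraMap R R') (C (C a))))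
        rw [MvPolynomial.map_C, MvPolynomial.eval_C, hφ₁]
        change _ = algebraMap B Bm (π (C a))
        rw [← MvPolynomial.algebraMap_eq, π.commutes, ← IsScalarTower.algebraMap_apply]
      · intro i
        change aeval val (X i) = φR (s (X i))
        rw [aeval_X]
        rcases i with w | i
        · have h1 : s (X (Sum.inl w)) = X w := sumAlgEquiv_X_inl k W (Fin n) w
          rw [h1]
          change _ = φ₁ (MvPolynomial.eval c (MvPolynomial.map (algebraMap R R') (X w)))
          rw [MvPolynomial.map_X, MvPolynomial.eval_X]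
          rfl
        · have h1 : s (X (Sum.inr i)) = C (X i) := sumAlgEquiv_X_inr k W (Fin n) i
          rw [h1]
          change _ = φ₁ (MvPolynomial.eval c (MvPolynomial.map (algebraMap R R') (C (X i))))
          rw [MvPolynomial.map_C, MvPolynomial.eval_C, hφ₁]
          rfl
    exact RingHom.congr_fun h p
  have hvsurj : Function.Surjective (aeval val : MvPolynomial (W ⊕ Fin n) k →ₐ[k] Bm) := by
    intro x
    obtain ⟨y, rfl⟩ := hφ₁surj x
    obtain ⟨a, w, rfl⟩ := IsLocalization.exists_mk'_eq W y
    refine ⟨s.symm (C a * X w), ?_⟩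
    rw [hkey, AlgEquiv.apply_symm_apply]
    change φ₁ (MvPolynomial.eval c (MvPolynomial.map (algebraMap R R') (C a * X w))) = _
    rw [map_mul, MvPolynomial.map_C, MvPolynomial.map_X, map_mul, MvPolynomial.eval_C,
      MvPolynomial.eval_X, ← IsLocalization.mk'_eq_mul_mk'_one]
  let G : Algebra.Generators k Bm (W ⊕ Fin n) := Algebra.Generators.ofSurjective val hvsurj
  let PP : Algebra.Presentation k Bm (W ⊕ Fin n) G.ker := fullPres G
  obtain ⟨e⟩ := nonempty_T2_equiv (CotT.canon k Bm) PP M
  suffices Subsingleton (CotT.T2 PP M) from e.toEquiv.subsingleton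
  letI i1 : Module PP.toExtension.Ring M := Module.compHom M (algebraMap PP.toExtension.Ring Bm)
  haveI i2 : IsScalarTower PP.toExtension.Ring Bm M :=
    IsScalarTower.of_algebraMap_smul fun _ _ => rfl
  suffices Subsingleton (H2 (CotT.rel PP) M Bm) from (bridge PP M).toEquiv.subsingleton
  have halg : ∀ x : MvPolynomial (W ⊕ Fin n) k, algebraMap PP.toExtension.Ring Bm x = φR (s x) := by
    intro x
    rw [← hkey]
    exact G.algebraMap_apply x
  have hrel : ∀ x : MvPolynomial (W ⊕ Fin n) k, x ∈ G.ker ↔ φR (s x) = 0 := by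
    intro x
    rw [← halg]
    exact Iff.rfl
  obtain ⟨e2⟩ := nonempty_equiv_of_ringEquiv (r := CotT.rel PP)
    (r' := (Subtype.val : RingHom.ker φR → MvPolynomial W R)) (M := M) ℤ s.toRingEquiv
    (fun x => Ideal.subset_span ⟨⟨s (CotT.rel PP x), (hrel _).1 x.2⟩, rfl⟩)
    (fun y => Ideal.subset_span ⟨⟨s.symm y.1, (hrel _).2 (by
      rw [AlgEquiv.apply_symm_apply]; exact y.2)⟩, rfl⟩)
    (fun x m => by
      change φR (s x) • m = algebraMap PP.toExtension.Ring Bm x • m
      rw [halg])
  have hsub2 : Subsingleton (H2 (CotT.rel PP) M ℤ) := e2.symm.toEquiv.subsingleton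
  exact subsingleton_H2_of_subsingleton _ M ℤ Bm hsub2

end Part4

section Part5

open IsLocalRing

/-- local version: the localization of a finitely generated algebra over an algebraically closed
field at a maximal ideal is regular iff `T¹` vanishes, and then `T²` vanishes -/
theorem regular_iff_T1_local (k B : Type u) [Field k] [IsAlgClosed k] [CommRing B] [Algebra k B]
    [Algebra.FiniteType k B] (m : Ideal B) [m.IsMaximal] :
    (IsRegularLocalRing (Localization.AtPrime m) ↔
      ∀ (M : Type u) [AddCommGroup M] [Module (Localization.AtPrime m) M],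
        Subsingleton (CotT.T1 (CotT.canon k (Localization.AtPrime m)) M)) ∧
    (IsRegularLocalRing (Localization.AtPrime m) →
      ∀ (M : Type u) [AddCommGroup M] [Module (Localization.AtPrime m) M],
        Subsingleton (CotT.T2 (CotT.canon k (Localization.AtPrime m)) M)) := by
  refine ⟨?_, ?_⟩
  · rw [← formallySmooth_iff_T1 k (Localization.AtPrime m)]
    have hres := Groth.Agent.Lib.Helper65.RegularSmooth.bijective_algebraMap_residueField_of_isAlgClosed
      k B m
    constructor
    · intro hreg
      haveI : Algebra.FormallySmooth k (ResidueField (Localization.AtPrime m)) :=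
        Algebra.FormallySmooth.of_equiv (AlgEquiv.ofBijective (Algebra.ofId k _) hres)
      exact Groth.Agent.Lib.Helper65.RegularSmooth.formallySmooth_of_isRegularLocalRing k
        (Localization.AtPrime m)
    · intro hfs
      exact Groth.Agent.Lib.Helper65.RegularSmooth.isRegularLocalRing_of_formallySmooth k
        (Localization.AtPrime m)
  · intro hreg M _ _
    obtain ⟨n, π, hπ⟩ := Algebra.FiniteType.iff_quotient_mvPolynomial''.1
      (inferInstance : Algebra.FiniteType k B)
    exact subsingleton_T2_localization k B n π hπ m M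

end Part5

end Groth.Agent.Lib.Helper76.T2Local
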