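import Mathlib

/-!
# helper76: exterior powers over `A` of a free `A/K`-module

For an `A/K`-module `M` (viewed as an `A`-module), the positive exterior powers `⋀[A]^(j+1) M` are
killed by `K` and agree with `⋀[A/K]^(j+1) M`.  For `M` free over `A/K` with a basis indexed by a
linearly ordered type `I` we get `⋀[A]^(j+1) M ≃ₗ[A] (powersetCard I (j+1) →₀ A/K)`.
-/

set_option autoImplicit false
universe u v w

namespace Groth.Agent.Lib.Helper76.TorExt

open exteriorPower

variable {A : Type u} [CommRing A] (K : Ideal A)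
variable {M : Type v} [AddCommGroup M] [Module A M] [Module (A ⧸ K) M] [IsScalarTower A (A ⧸ K) M]

omit [IsScalarTower A (A ⧸ K) M] in
include K in
lemma smul_eq_mk_smul [IsScalarTower A (A ⧸ K) M] (a : A) (x : M) :
    a • x = (Ideal.Quotient.mk K a) • x :=
  (algebraMap_smul (A ⧸ K) a x).symm

/-- `K` kills the positive exterior powers over `A` of an `A/K`-module. -/
theorem isTorsionBySet (j : ℕ) : Module.IsTorsionBySet A (⋀[A]^(j + 1) M) (K : Set A) := by
  intro x k
  have hx : x ∈ Submodule.span A (Set.range (ιMulti A (j + 1) (M := M))) := by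
    rw [ιMulti_span]; trivial
  induction hx using Submodule.span_induction with
  | mem y hy =>
    obtain ⟨m, rfl⟩ := hy
    have h1 : (k : A) • ιMulti A (j + 1) m =
        ιMulti A (j + 1) (Function.update m 0 ((k : A) • m 0)) := by
      rw [AlternatingMap.map_update_smul, Function.update_eq_self]
    rw [h1, smul_eq_mk_smul K, (Ideal.Quotient.eq_zero_iff_mem).2 k.2, zero_smul]
    exact AlternatingMap.map_update_zero _ m 0
  | zero => exact smul_zero _
  | add y z _ _ hy hz => rw [smul_add, hy, hz, add_zero]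
  | smul a y _ hy => rw [smul_comm, hy, smul_zero]

/-- the `A/K`-module structure on `⋀[A]^(j+1) M` -/
noncomputable abbrev modB (j : ℕ) : Module (A ⧸ K) (⋀[A]^(j + 1) M) :=
  (isTorsionBySet K (M := M) j).module

attribute [local instance] modB

lemma mk_smul_ext (j : ℕ) (a : A) (x : ⋀[A]^(j + 1) M) :
    (Ideal.Quotient.mk K a) • x = a • x := rfl

instance (j : ℕ) : IsScalarTower A (A ⧸ K) (⋀[A]^(j + 1) M) :=
  Module.IsTorsionBySet.isScalarTower (isTorsionBySet K (M := M) j)

/-- the universal `A`-alternating map is `A/K`-alternating -/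
noncomputable def ιB (j : ℕ) : M [⋀^Fin (j + 1)]→ₗ[A ⧸ K] (⋀[A]^(j + 1) M) :=
  { toFun := ιMulti A (j + 1)
    map_update_add' := fun m i x y => (ιMulti A (j + 1)).map_update_add m i x y
    map_update_smul' := fun m i b x => by
      obtain ⟨a, rfl⟩ := Ideal.Quotient.mk_surjective b
      rw [← smul_eq_mk_smul K a x, (ιMulti A (j + 1)).map_update_smul, mk_smul_ext]
    map_eq_zero_of_eq' := fun v i j' h hij => (ιMulti A (j + 1)).map_eq_zero_of_eq v h hij }

lemma ιB_apply (j : ℕ) (m : Fin (j + 1) → M) : ιB K j m = ιMulti A (j + 1) m := rfl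

/-- the comparison map `⋀[A/K]^(j+1) M → ⋀[A]^(j+1) M` -/
noncomputable def psi (j : ℕ) : ⋀[A ⧸ K]^(j + 1) M →ₗ[A ⧸ K] ⋀[A]^(j + 1) M :=
  alternatingMapLinearEquiv (ιB K (M := M) j)

lemma psi_ιMulti (j : ℕ) (m : Fin (j + 1) → M) :
    psi K j (ιMulti (A ⧸ K) (j + 1) m) = ιMulti A (j + 1) m := by
  unfold psi
  rw [alternatingMapLinearEquiv_apply_ιMulti, ιB_apply]

lemma psi_surjective (j : ℕ) : Function.Surjective (psi K (M := M) j) := by
  intro x
  have hx : x ∈ Submodule.span A (Set.range (ιMulti A (j + 1) (M := M))) := by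
    rw [ιMulti_span]; trivial
  induction hx using Submodule.span_induction with
  | mem y hy =>
    obtain ⟨m, rfl⟩ := hy
    exact ⟨_, psi_ιMulti K j m⟩
  | zero => exact ⟨0, map_zero _⟩
  | add y z _ _ hy hz =>
    obtain ⟨y', rfl⟩ := hy
    obtain ⟨z', rfl⟩ := hz
    exact ⟨y' + z', map_add _ _ _⟩
  | smul a y _ hy =>
    obtain ⟨y', rfl⟩ := hy
    refine ⟨(Ideal.Quotient.mk K a) • y', ?_⟩
    rw [map_smul, mk_smul_ext]

section Basis

variable {I : Type w} [LinearOrder I] (b : Module.Basis I (A ⧸ K) M)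

/-- the `A/K`-alternating coordinate map attached to `s` -/
noncomputable def altB (j : ℕ) (s : Set.powersetCard I (j + 1)) :
    M [⋀^Fin (j + 1)]→ₗ[A ⧸ K] (A ⧸ K) :=
  ((b.exteriorPower (j + 1)).coord s).compAlternatingMap (ιMulti (A ⧸ K) (j + 1))

/-- the same map, `A`-alternating -/
noncomputable def altA (j : ℕ) (s : Set.powersetCard I (j + 1)) :
    M [⋀^Fin (j + 1)]→ₗ[A] (A ⧸ K) :=
  { MultilinearMap.restrictScalars A (altB K b j s).toMultilinearMap with
    map_eq_zero_of_eq' := fun v _ _ h hij => (altB K b j s).map_eq_zero_of_eq v h hij }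

lemma altA_apply (j : ℕ) (s : Set.powersetCard I (j + 1)) (m : Fin (j + 1) → M) :
    altA K b j s m = (b.exteriorPower (j + 1)).coord s (ιMulti (A ⧸ K) (j + 1) m) := rfl

/-- the `A`-linear coordinate functional on `⋀[A]^(j+1) M` attached to `s` -/
noncomputable def coordA (j : ℕ) (s : Set.powersetCard I (j + 1)) :
    ⋀[A]^(j + 1) M →ₗ[A] (A ⧸ K) :=
  alternatingMapLinearEquiv (altA K b j s)

lemma coordA_ιMulti (j : ℕ) (s : Set.powersetCard I (j + 1)) (m : Fin (j + 1) → M) :
    coordA K b j s (ιMulti A (j + 1) m) =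
      (b.exteriorPower (j + 1)).coord s (ιMulti (A ⧸ K) (j + 1) m) := by
  unfold coordA
  rw [alternatingMapLinearEquiv_apply_ιMulti, altA_apply]

lemma coordA_psi (j : ℕ) (s : Set.powersetCard I (j + 1)) (y : ⋀[A ⧸ K]^(j + 1) M) :
    coordA K b j s (psi K j y) = (b.exteriorPower (j + 1)).coord s y := by
  have hy : y ∈ Submodule.span (A ⧸ K) (Set.range (ιMulti (A ⧸ K) (j + 1) (M := M))) := by
    rw [ιMulti_span]; trivial
  induction hy using Submodule.span_induction with
  | mem z hz =>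
    obtain ⟨m, rfl⟩ := hz
    rw [psi_ιMulti, coordA_ιMulti]
  | zero => simp
  | add z w _ _ hz hw => rw [map_add, map_add, map_add, hz, hw]
  | smul c z _ hz =>
    obtain ⟨a, rfl⟩ := Ideal.Quotient.mk_surjective c
    rw [map_smul, mk_smul_ext, map_smul, hz, map_smul]
    rfl

include b in
lemma psi_injective (j : ℕ) : Function.Injective (psi K (M := M) j) := by
  rw [← LinearMap.ker_eq_bot, Submodule.eq_bot_iff]
  intro y hy
  rw [LinearMap.mem_ker] at hy
  apply (b.exteriorPower (j + 1)).repr.injective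
  ext s
  rw [map_zero, Finsupp.zero_apply, ← Module.Basis.coord_apply, ← coordA_psi K b j s y, hy,
    map_zero]

/-- `⋀[A/K]^(j+1) M ≃ ⋀[A]^(j+1) M`, `A/K`-linearly -/
noncomputable def psiEquiv (j : ℕ) : ⋀[A ⧸ K]^(j + 1) M ≃ₗ[A ⧸ K] ⋀[A]^(j + 1) M :=
  LinearEquiv.ofBijective (psi K j) ⟨psi_injective K b j, psi_surjective K j⟩

/-- the exterior power over `A` of a free `A/K`-module -/
noncomputable def extPowEquiv (j : ℕ) :
    (Set.powersetCard I (j + 1) →₀ A ⧸ K) ≃ₗ[A] ⋀[A]^(j + 1) M :=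
  ((b.exteriorPower (j + 1)).repr.symm.trans (psiEquiv K b j)).restrictScalars A

end Basis

end Groth.Agent.Lib.Helper76.TorExt
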