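import Groth.Agent.Lib.Helper76.TorKosA
import Groth.Agent.Lib.Helper43.KoszulGen
import Groth.Agent.Lib.Helper43.KoszulComp

/-!
# helper76: `Tor_i(A/(f,g), A/(f,h))` is a sum of `C(|f|, i)` copies of `A/(f,g,h)`
-/

set_option autoImplicit false
universe u
open CategoryTheory CategoryTheory.Limits MonoidalCategory HomologicalComplex DerivedCategory DRing
  CochainComplex HomComplex

attribute [local instance] HasDerivedCategory.standard

namespace Groth.Agent.Lib.Helper76.TorExt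

open Groth.Agent.Lib.Helper98.KoszulEuler Groth.Agent.Lib.Helper43.KoszulGen
  Groth.Agent.Lib.Helper43.KoszulComp Groth.Agent.Lib.Helper43.KoszulPerf
  Groth.Agent.Lib.Helper76.TorKos

variable {A : Type u} [CommRing A]

/-! ### (I) `Tor` against `A/(l)` as Koszul homology, isomorphism version -/

open Groth.Agent.Lib.Helper8.ResOfExact in
theorem nonempty_tensor_homology_iso (l : List A) (M : ModuleCat.{u} A) (n : ℕ) :
    Nonempty ((((tensorRight M).mapHomologicalComplex (ComplexShape.down ℕ)).obj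
      (cx (KX l) (Kd l) (Kd_comp l))).homology n ≅ (CM l M).homology (-(n : ℤ))) := by
  set C := ((tensorRight M).mapHomologicalComplex (ComplexShape.down ℕ)).obj
      (cx (KX l) (Kd l) (Kd_comp l)) with hC
  set D := CM l M with hD
  have hCd : ∀ m : ℕ, C.d (m + 1) m =
      (Koszul.koszul A l).d (-((m + 1 : ℕ) : ℤ)) (-(m : ℤ)) ▷ M := by
    intro m
    change (tensorRight M).map ((cx (KX l) (Kd l) (Kd_comp l)).d (m + 1) m) = _
    rw [cx_d]
    rfl
  cases n with
  | zero =>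
    have e₁ := C.homologyIsoSc' 1 0 0 (by simp) (by simp)
    have e₂ := D.homologyIsoSc' (-((0 + 1 : ℕ) : ℤ)) (-((0 : ℕ) : ℤ)) 1 (by simp) (by simp)
    let φ : D.sc' (-((0 + 1 : ℕ) : ℤ)) (-((0 : ℕ) : ℤ)) 1 ⟶ C.sc' 1 0 0 :=
      ShortComplex.homMk (𝟙 _) (𝟙 _) 0 (by
        change 𝟙 _ ≫ C.d 1 0 = D.d _ _ ≫ 𝟙 _
        rw [Category.id_comp, Category.comp_id, hCd 0]
        rfl) (by
        change 𝟙 _ ≫ C.d 0 0 = D.d _ _ ≫ 0
        rw [comp_zero, C.shape 0 0 (by simp), comp_zero]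
        rfl)
    have hz : IsZero (D.X 1) :=
      Functor.map_isZero (tensorRight M) (isZero_koszul_X_pos l 1 one_pos)
    have : Epi φ.τ₁ := by change Epi (𝟙 _); infer_instance
    have : IsIso φ.τ₂ := by change IsIso (𝟙 _); infer_instance
    have : Mono φ.τ₃ := hz.mono _
    have hq := ShortComplex.quasiIso_of_epi_of_isIso_of_mono φ
    exact ⟨e₁ ≪≫ (asIso (ShortComplex.homologyMap φ)).symm ≪≫ e₂.symm⟩
  | succ m =>
    have e₁ := C.homologyIsoSc' (m + 1 + 1) (m + 1) m (by simp) (by simp)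
    have e₂ := D.homologyIsoSc' (-((m + 1 + 1 : ℕ) : ℤ)) (-((m + 1 : ℕ) : ℤ)) (-(m : ℤ))
      (by simp; omega) (by simp)
    let e₃ : C.sc' (m + 1 + 1) (m + 1) m ≅
        D.sc' (-((m + 1 + 1 : ℕ) : ℤ)) (-((m + 1 : ℕ) : ℤ)) (-(m : ℤ)) :=
      ShortComplex.isoMk (Iso.refl _) (Iso.refl _) (Iso.refl _) (by
        change 𝟙 _ ≫ D.d _ _ = C.d (m + 1 + 1) (m + 1) ≫ 𝟙 _
        rw [Category.id_comp, Category.comp_id, hCd (m + 1)]
        rfl) (by
        change 𝟙 _ ≫ D.d _ _ = C.d (m + 1) m ≫ 𝟙 _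
        rw [Category.id_comp, Category.comp_id, hCd m]
        rfl)
    exact ⟨e₁ ≪≫ ShortComplex.homologyMapIso e₃ ≪≫ e₂.symm⟩

/-- `Tor_n(A/(l), M) ≅ H^{-n}(K(l; M))` for a Koszul-regular sequence `l`. -/
theorem nonempty_tor_iso_koszulCx (l : List A) (hl : LCI.IsKoszulRegularSeq A l)
    (M : ModuleCat.{u} A) (n : ℕ) :
    Nonempty (((Tor (ModuleCat.{u} A) n).obj (ModuleCat.of A (A ⧸ Ideal.ofList l))).obj M ≅
      (CohIII.koszulCx M l).homology (-(n : ℤ))) := by
  obtain ⟨P, hP⟩ := exists_koszul_resolution l hl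
  obtain ⟨e⟩ := Groth.Agent.Lib.Helper80.TorBalance.nonempty_tor_iso_homology
    (ModuleCat.of A (A ⧸ Ideal.ofList l)) M P n
  rw [hP] at e
  obtain ⟨e1⟩ := nonempty_tensor_homology_iso l M n
  obtain ⟨e2⟩ := CM_iso_koszulCx l M
  exact ⟨e ≪≫ e1 ≪≫ (HomologicalComplex.homologyFunctor _ _ (-(n : ℤ))).mapIso e2⟩

/-! ### (II) iterated cones of null-homotopic multiplications -/

lemma kosOn_append (K : Cx A) (ts rs : List A) :
    kosOn K (ts ++ rs) = kosOn (kosOn K rs) ts := by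
  induction ts with
  | nil => rfl
  | cons t ts ih =>
    change mappingCone (t • 𝟙 (kosOn K (ts ++ rs))) = mappingCone (t • 𝟙 (kosOn (kosOn K rs) ts))
    rw [ih]

open Groth.Agent.Lib.Helper98.KoszulEuler in
lemma nullH_kosOn (K : Cx A) (s : A) (h : NullH K s) (ts : List A) : NullH (kosOn K ts) s := by
  induction ts with
  | nil => exact h
  | cons t ts ih => exact nullH_cone _ t s ih

open Groth.Agent.Lib.Helper98.KoszulEuler in
/-- if all elements of `ts` act null-homotopically on `K`, then `kosOn K ts` is an iterated double -/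
lemma kosOn_dblPow (K : Cx A) (ts : List A) (h : ∀ s ∈ ts, NullH K s) :
    Nonempty (toD (kosOn K ts) ≅ DblPow ts.length (toD K)) := by
  induction ts with
  | nil => exact ⟨Iso.refl _⟩
  | cons s ts ih =>
    obtain ⟨e⟩ := ih (fun t ht => h t (List.mem_cons_of_mem _ ht))
    obtain ⟨e1⟩ := cone_nullH_iso (kosOn K ts) s (nullH_kosOn K s (h s List.mem_cons_self) ts)
    exact ⟨e1 ≪≫ dblIso e⟩

open Groth.Agent.Lib.Helper98.KoszulEuler in
/-- an element killing `M` acts null-homotopically (indeed by zero) on `M[0]` -/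
lemma nullH_single (M : ModuleCat.{u} A) (s : A) (hs : ∀ x : M, s • x = 0) :
    NullH ((HomologicalComplex.single (ModuleCat.{u} A) (ComplexShape.up ℤ) 0).obj M) s := by
  have h0 : s • 𝟙 M = 0 := by
    ext x
    exact hs x
  have h1 : s • 𝟙 ((HomologicalComplex.single (ModuleCat.{u} A) (ComplexShape.up ℤ) 0).obj M) =
      0 := by
    apply HomologicalComplex.from_single_hom_ext
    change s • 𝟙 (((HomologicalComplex.single (ModuleCat.{u} A) (ComplexShape.up ℤ) 0).obj M).X 0) = 0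
    set e := HomologicalComplex.singleObjXSelf (ComplexShape.up ℤ) 0 M with he
    calc s • 𝟙 (((HomologicalComplex.single (ModuleCat.{u} A) (ComplexShape.up ℤ) 0).obj M).X 0)
        = s • (e.hom ≫ 𝟙 M ≫ e.inv) := by simp
      _ = e.hom ≫ (s • 𝟙 M) ≫ e.inv := by rw [Linear.smul_comp, Linear.comp_smul]
      _ = 0 := by rw [h0]; simp
  refine ⟨0, ?_⟩
  rw [δ_zero, h1, Cochain.ofHom_zero]

end Groth.Agent.Lib.Helper76.TorExt
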