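import Groth.Agent.Lib.Helper76.TorExtA
import Groth.Agent.Lib.Helper76.TorExtB

/-!
# helper76: `Tor_i(A/(f,g), A/(f,h)) ≅ ⋀^i Tor_1` for Koszul-regular `f++g`, `f++h`, `f++g++h`
-/

set_option autoImplicit false
universe u
open CategoryTheory CategoryTheory.Limits MonoidalCategory HomologicalComplex DerivedCategory DRing
  CochainComplex HomComplex

attribute [local instance] HasDerivedCategory.standard

namespace Groth.Agent.Lib.Helper76.TorExt

open Groth.Agent.Lib.Helper98.KoszulEuler Groth.Agent.Lib.Helper43.KoszulGen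
  Groth.Agent.Lib.Helper43.KoszulComp Groth.Agent.Lib.Helper43.KoszulPerf
  Groth.Agent.Lib.Helper76.TorKos

variable {A : Type u} [CommRing A]

/-! ### (III) cohomology of iterated doubles -/

/-- the multiplicity of `H⁰(Z)` in `Hⁿ` of the `a`-fold double of `Z` -/
def cnt (a : ℕ) (n : ℤ) : ℕ := if n ≤ 0 then a.choose (-n).toNat else 0

lemma cnt_succ (a : ℕ) (n : ℤ) : cnt (a + 1) n = cnt a n + cnt a (n + 1) := by
  unfold cnt
  rcases lt_trichotomy n 0 with h | h | h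
  · have h1 : n ≤ 0 := h.le
    have h2 : n + 1 ≤ 0 := by omega
    rw [if_pos h1, if_pos h1, if_pos h2]
    obtain ⟨k, hk⟩ : ∃ k : ℕ, (-n).toNat = k + 1 := ⟨(-n).toNat - 1, by omega⟩
    have hk' : (-(n + 1)).toNat = k := by omega
    rw [hk, hk', Nat.choose_succ_succ, add_comm]
  · subst h; simp
  · rw [if_neg (by omega), if_neg (by omega), if_neg (by omega)]

lemma cnt_zero_of_ne (n : ℤ) (hn : n ≠ 0) : cnt 0 n = 0 := by
  unfold cnt
  split_ifs with h
  · obtain ⟨k, hk⟩ : ∃ k : ℕ, (-n).toNat = k + 1 := ⟨(-n).toNat - 1, by omega⟩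
    rw [hk, Nat.choose_zero_succ]
  · rfl

lemma cnt_zero_zero : cnt 0 0 = 1 := by simp [cnt]

lemma cnt_neg (a i : ℕ) : cnt a (-(i : ℤ)) = a.choose i := by
  unfold cnt
  rw [if_pos (by omega)]
  congr 1
  omega

/-- `(Fin m → E) × (Fin k → E) ≃ (Fin (m+k) → E)` -/
noncomputable def finProdEquiv (E : Type u) [AddCommGroup E] [Module A E] (m k : ℕ) :
    ((Fin m → E) × (Fin k → E)) ≃ₗ[A] (Fin (m + k) → E) :=
  (LinearEquiv.sumArrowLequivProdArrow (Fin m) (Fin k) A E).symm ≪≫ₗ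
    LinearEquiv.funCongrLeft A E finSumFinEquiv.symm

theorem hh_dblPow (Z : Dual.D A) (E : Type u) [AddCommGroup E] [Module A E]
    (hZ : ∀ n : ℤ, n ≠ 0 → IsZero (hh n Z)) (e0 : hh 0 Z ≃ₗ[A] E) :
    ∀ (a : ℕ) (n : ℤ), Nonempty (hh n (DblPow a Z) ≃ₗ[A] (Fin (cnt a n) → E))
  | 0, n => by
    by_cases hn : n = 0
    · subst hn
      rw [cnt_zero_zero]
      exact ⟨e0.trans (LinearEquiv.funUnique (Fin 1) A E).symm⟩
    · rw [cnt_zero_of_ne n hn]
      have : Subsingleton (hh n (DblPow 0 Z)) := ModuleCat.subsingleton_of_isZero (hZ n hn)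
      exact ⟨LinearEquiv.ofSubsingleton _ _⟩
  | a + 1, n => by
    obtain ⟨e1⟩ := hh_dblPow Z E hZ e0 a n
    obtain ⟨e2⟩ := hh_dblPow Z E hZ e0 a (n + 1)
    rw [cnt_succ]
    exact ⟨(hDbl (DblPow a Z) n).toLinearEquiv ≪≫ₗ
      (ModuleCat.biprodIsoProd _ _).toLinearEquiv ≪≫ₗ (e1.prodCongr e2) ≪≫ₗ
      finProdEquiv E _ _⟩

/-! ### (IV) the Koszul complex of `g` on `A/(f,h)` -/

theorem koszulCx_quot (f g h : List A) (hfh : LCI.IsKoszulRegularSeq A (f ++ h))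
    (hfgh : LCI.IsKoszulRegularSeq A (f ++ g ++ h)) :
    (∀ n : ℤ, n ≠ 0 → IsZero (hh n (toD (CohIII.koszulCx
      (ModuleCat.of A (A ⧸ Ideal.ofList (f ++ h))) g)))) ∧
    Nonempty (hh 0 (toD (CohIII.koszulCx (ModuleCat.of A (A ⧸ Ideal.ofList (f ++ h))) g)) ≅
      ModuleCat.of A (A ⧸ Ideal.ofList (f ++ g ++ h))) := by
  set M : ModuleCat.{u} A := ModuleCat.of A (A ⧸ Ideal.ofList (f ++ h)) with hM
  obtain ⟨e0⟩ := inD_iso_koszul (f ++ h) hfh
  have e1 : toD (Koszul.koszul A (f ++ h)) ≅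
      toD ((HomologicalComplex.single (ModuleCat.{u} A) (ComplexShape.up ℤ) 0).obj M) :=
    e0 ≪≫ (DerivedCategory.singleFunctorIsoCompQ (ModuleCat.{u} A) 0).app M
  obtain ⟨e2⟩ := kosOn_iso _ _ e1 g
  rw [← koszul_append, ← koszulCx_eq_kosOn] at e2
  have hperm : (f ++ g ++ h).Perm (g ++ (f ++ h)) := by
    rw [← List.append_assoc]
    exact (List.perm_append_comm (l₁ := f) (l₂ := g)).append_right h
  obtain ⟨e3⟩ := Groth.Agent.Lib.Helper98.KoszulEuler.koszul_perm (A := A) hperm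
  have e4 : ∀ n : ℤ, hh n (toD (CohIII.koszulCx M g)) ≅ (Koszul.koszul A (f ++ g ++ h)).homology n :=
    fun n => (DerivedCategory.homologyFunctor _ n).mapIso e2.symm ≪≫
      (DerivedCategory.homologyFunctorFactors _ n).app _ ≪≫
      (HomologicalComplex.homologyFunctor _ _ n).mapIso e3.symm
  refine ⟨fun n hn => (hfgh n hn).of_iso (e4 n), ?_⟩
  obtain ⟨c⟩ := koszul_homology_zero (f ++ g ++ h)
  exact ⟨e4 0 ≪≫ c⟩

end Groth.Agent.Lib.Helper76.TorExt
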