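import Groth.Agent.Lib.Helper76.TorExtC

/-!
# helper76: assembly of `Tor_i(A/(f,g), A/(f,h)) ≅ ⋀^i Tor_1`
-/

set_option autoImplicit false
universe u
open CategoryTheory CategoryTheory.Limits MonoidalCategory HomologicalComplex DerivedCategory DRing
  CochainComplex HomComplex

attribute [local instance] HasDerivedCategory.standard

namespace Groth.Agent.Lib.Helper76.TorExt

open Groth.Agent.Lib.Helper98.KoszulEuler Groth.Agent.Lib.Helper43.KoszulGen
  Groth.Agent.Lib.Helper43.KoszulComp Groth.Agent.Lib.Helper43.KoszulPerf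
  Groth.Agent.Lib.Helper76.TorKos

variable {A : Type u} [CommRing A]

/-- `Tor_i(A/(f,g), A/(f,h))` is a direct sum of `C(|f|, i)` copies of `A/(f,g,h)`. -/
theorem nonempty_tor_equiv (f g h : List A) (hfg : LCI.IsKoszulRegularSeq A (f ++ g))
    (hfh : LCI.IsKoszulRegularSeq A (f ++ h)) (hfgh : LCI.IsKoszulRegularSeq A (f ++ g ++ h))
    (i : ℕ) :
    Nonempty (↑(((Tor (ModuleCat.{u} A) i).obj (ModuleCat.of A (A ⧸ Ideal.ofList (f ++ g)))).obj
      (ModuleCat.of A (A ⧸ Ideal.ofList (f ++ h)))) ≃ₗ[A]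
      (Fin (f.length.choose i) → A ⧸ Ideal.ofList (f ++ g ++ h))) := by
  set M : ModuleCat.{u} A := ModuleCat.of A (A ⧸ Ideal.ofList (f ++ h)) with hM
  obtain ⟨t1⟩ := nonempty_tor_iso_koszulCx (f ++ g) hfg M i
  have hX : CohIII.koszulCx M (f ++ g) = kosOn (CohIII.koszulCx M g) f := by
    rw [koszulCx_eq_kosOn, koszulCx_eq_kosOn, kosOn_append]
  have hnull : ∀ s ∈ f, NullH (CohIII.koszulCx M g) s := by
    intro s hs
    rw [koszulCx_eq_kosOn]
    refine nullH_kosOn _ s (nullH_single M s ?_) g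
    intro x
    obtain ⟨a, rfl⟩ := Ideal.Quotient.mk_surjective x
    change Ideal.Quotient.mk _ (s * a) = 0
    rw [Ideal.Quotient.eq_zero_iff_mem]
    exact Ideal.mul_mem_right _ _ (Ideal.subset_span (List.mem_append_left h hs))
  obtain ⟨t2⟩ := kosOn_dblPow (CohIII.koszulCx M g) f hnull
  obtain ⟨hZ, ⟨c0⟩⟩ := koszulCx_quot f g h hfh hfgh
  obtain ⟨t3⟩ := hh_dblPow (toD (CohIII.koszulCx M g)) (A ⧸ Ideal.ofList (f ++ g ++ h)) hZ
    c0.toLinearEquiv f.length (-(i : ℤ))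
  rw [cnt_neg] at t3
  have t4 : (CohIII.koszulCx M (f ++ g)).homology (-(i : ℤ)) ≅
      hh (-(i : ℤ)) (DblPow f.length (toD (CohIII.koszulCx M g))) := by
    rw [hX]
    exact ((DerivedCategory.homologyFunctorFactors _ (-(i : ℤ))).app _).symm ≪≫
      (DerivedCategory.homologyFunctor _ (-(i : ℤ))).mapIso t2
  exact ⟨(t1 ≪≫ t4).toLinearEquiv ≪≫ₗ t3⟩

/-- functoriality of exterior powers on linear equivalences -/
noncomputable def extMapEquiv {M N : Type u} [AddCommGroup M] [Module A M] [AddCommGroup N]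
    [Module A N] (e : M ≃ₗ[A] N) (n : ℕ) : ⋀[A]^n M ≃ₗ[A] ⋀[A]^n N :=
  LinearEquiv.ofLinearMap (exteriorPower.map n e.toLinearMap) (exteriorPower.map n e.symm.toLinearMap)
    (by rw [← exteriorPower.map_comp, LinearEquiv.comp_symm, exteriorPower.map_id])
    (by rw [← exteriorPower.map_comp, LinearEquiv.symm_comp, exteriorPower.map_id])

/-- `(σ →₀ E) ≃ (Fin c → E)` for a finite type `σ` of cardinality `c` -/
noncomputable def finsuppFinEquiv (E : Type u) [AddCommGroup E] [Module A E] (σ : Type) [Finite σ]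
    (c : ℕ) (hc : Nat.card σ = c) : (σ →₀ E) ≃ₗ[A] (Fin c → E) :=
  Finsupp.linearEquivFunOnFinite A E σ ≪≫ₗ
    LinearEquiv.funCongrLeft A E (Finite.equivFinOfCardEq hc).symm

/-- the exterior power over `A` of `(A/K)^a` -/
theorem nonempty_extPow_equiv (K : Ideal A) (a j : ℕ) :
    Nonempty (⋀[A]^(j + 1) (Fin a → A ⧸ K) ≃ₗ[A] (Fin (a.choose (j + 1)) → A ⧸ K)) := by
  have e1 := (extPowEquiv K (Pi.basisFun (A ⧸ K) (Fin a)) j).symm
  have hc : Nat.card (Set.powersetCard (Fin a) (j + 1)) = a.choose (j + 1) := by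
    rw [Set.powersetCard.card, Nat.card_eq_fintype_card, Fintype.card_fin]
  exact ⟨e1 ≪≫ₗ finsuppFinEquiv (A ⧸ K) _ _ hc⟩

/-- **Main theorem** -/
theorem main (f g h : List A) (hfg : LCI.IsKoszulRegularSeq A (f ++ g))
    (hfh : LCI.IsKoszulRegularSeq A (f ++ h)) (hfgh : LCI.IsKoszulRegularSeq A (f ++ g ++ h))
    (i : ℕ) (hi : 1 ≤ i) :
    Nonempty (((Tor (ModuleCat.{u} A) i).obj (ModuleCat.of A (A ⧸ Ideal.ofList (f ++ g)))).obj
        (ModuleCat.of A (A ⧸ Ideal.ofList (f ++ h))) ≅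
      ModuleCat.of A (⋀[A]^i (((Tor (ModuleCat.{u} A) 1).obj
        (ModuleCat.of A (A ⧸ Ideal.ofList (f ++ g)))).obj
          (ModuleCat.of A (A ⧸ Ideal.ofList (f ++ h)))))) := by
  obtain ⟨j, rfl⟩ : ∃ j, i = j + 1 := ⟨i - 1, by omega⟩
  obtain ⟨ti⟩ := nonempty_tor_equiv f g h hfg hfh hfgh (j + 1)
  obtain ⟨t1⟩ := nonempty_tor_equiv f g h hfg hfh hfgh 1
  rw [Nat.choose_one_right] at t1
  obtain ⟨e⟩ := nonempty_extPow_equiv (Ideal.ofList (f ++ g ++ h)) f.length j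
  exact ⟨(ti ≪≫ₗ e.symm ≪≫ₗ (extMapEquiv t1 (j + 1)).symm).toModuleIso⟩

end Groth.Agent.Lib.Helper76.TorExt
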