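import Groth.Agent.Lib.Helper98.KoszulRes
import Groth.Agent.Lib.Helper98.KoszulAcyclic
import Groth.Agent.Lib.Helper43.KoszulPerf
import Groth.Agent.Lib.Helper75.Kz2
import Groth.Agent.Lib.Helper80.TorBalance
import Groth.Prelude.Def_LCI2

/-!
# helper76: Tor against the quotient by a Koszul-regular sequence

For a Koszul-regular sequence `l` in `A` (prelude mapping-cone Koszul complex acyclic off degree 0),
`Tor_n^A(A/(l), M)` vanishes as soon as the Koszul complex of `M` on `l` has no homology in
degree `-n`.  Applied to `M = A'` an `A`-algebra in which the image of `l` is Koszul-regular.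
-/

set_option autoImplicit false
universe u
open CategoryTheory CategoryTheory.Limits MonoidalCategory HomologicalComplex

namespace Groth.Agent.Lib.Helper76.TorKos

open Groth.Agent.Lib.Helper98.KoszulEuler

variable {A : Type u} [CommRing A]

/-- The Koszul resolution of `A/(l)` for a Koszul-regular sequence `l`. -/
theorem exists_koszul_resolution (l : List A) (hl : LCI.IsKoszulRegularSeq A l) :
    ∃ P : ProjectiveResolution (ModuleCat.of A (A ⧸ Ideal.ofList l)),
      P.complex = Groth.Agent.Lib.Helper8.ResOfExact.cx (KX l) (Kd l) (Kd_comp l) := by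
  obtain ⟨e⟩ := Groth.Agent.Lib.Helper43.KoszulPerf.koszul_homology_zero l
  obtain ⟨ε, hsurj, hker⟩ := exists_aug (Koszul.koszul A l) (isZero_koszul_X_pos l 1 one_pos) _ e
  have h0 : LinearMap.ker ε = LinearMap.range (Kd l 0) := hker
  have hε : ε.comp (Kd l 0) = 0 := by
    ext x
    have : (Kd l 0) x ∈ LinearMap.ker ε := by rw [h0]; exact ⟨x, rfl⟩
    exact this
  have hex : ∀ n, LinearMap.ker (Kd l n) = LinearMap.range (Kd l (n + 1)) := by
    intro n
    have h1 := hl (-((n + 1 : ℕ) : ℤ)) (by omega)
    rw [← HomologicalComplex.exactAt_iff_isZero_homology,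
      HomologicalComplex.exactAt_iff' _ (-((n + 1 + 1 : ℕ) : ℤ)) (-((n + 1 : ℕ) : ℤ)) (-(n : ℤ))
        (by simp; omega) (by simp), ShortComplex.moduleCat_exact_iff_range_eq_ker] at h1
    exact h1.symm
  exact ⟨Groth.Agent.Lib.Helper8.ResOfExact.res (KX l) (Kd l) ε (Kd_comp l) hε hsurj h0 hex, rfl⟩

/-- `Tor_n(A/(l), M) = 0` when the Koszul complex of `M` on the Koszul-regular sequence `l` has no
homology in degree `-n`. -/
theorem isZero_tor_quot (l : List A) (hl : LCI.IsKoszulRegularSeq A l) (M : ModuleCat.{u} A) (n : ℕ)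
    (h : IsZero ((CohIII.koszulCx M l).homology (-(n : ℤ)))) :
    IsZero (((Tor (ModuleCat.{u} A) n).obj (ModuleCat.of A (A ⧸ Ideal.ofList l))).obj M) := by
  obtain ⟨P, hP⟩ := exists_koszul_resolution l hl
  obtain ⟨e⟩ := Groth.Agent.Lib.Helper80.TorBalance.nonempty_tor_iso_homology
    (ModuleCat.of A (A ⧸ Ideal.ofList l)) M P n
  rw [hP] at e
  obtain ⟨e2⟩ := CM_iso_koszulCx l M
  have h2 : IsZero ((CM l M).homology (-(n : ℤ))) :=
    h.of_iso ((HomologicalComplex.homologyFunctor _ _ (-(n : ℤ))).mapIso e2)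
  have h3 : Module.length A ((CM l M).homology (-(n : ℤ))) = 0 := by
    have : Subsingleton ((CM l M).homology (-(n : ℤ))) := ModuleCat.subsingleton_of_isZero h2
    exact Module.length_eq_zero
  rw [← length_tensor_homology l M n] at h3
  have h4 : Subsingleton ((((tensorRight M).mapHomologicalComplex (ComplexShape.down ℕ)).obj
      (Groth.Agent.Lib.Helper8.ResOfExact.cx (KX l) (Kd l) (Kd_comp l))).homology n) :=
    Module.length_eq_zero_iff.1 h3
  exact (ModuleCat.isZero_of_subsingleton _).of_iso e

/-- The `A`-module `A'` as a restriction of scalars. -/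
noncomputable def ofAlgIso (A' : Type u) [CommRing A'] [Algebra A A'] :
    ModuleCat.of A A' ≅ (ModuleCat.restrictScalars (algebraMap A A')).obj (ModuleCat.of A' A') :=
  (show A' ≃ₗ[A] ((ModuleCat.restrictScalars (algebraMap A A')).obj (ModuleCat.of A' A')) from
    { AddEquiv.refl A' with
      map_smul' := fun a x => by
        change a • x = algebraMap A A' a • x
        rw [Algebra.smul_def]; rfl }).toModuleIso

/-- `Tor_i^A(A/(l), A') = 0` for `i ≥ 1` when `l` and its image in `A'` are Koszul-regular. -/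
theorem isZero_tor_quot_alg (A' : Type u) [CommRing A'] [Algebra A A'] (l : List A)
    (hl : LCI.IsKoszulRegularSeq A l)
    (hl' : LCI.IsKoszulRegularSeq A' (l.map (algebraMap A A'))) (i : ℕ) (hi : 1 ≤ i) :
    IsZero (((Tor (ModuleCat.{u} A) i).obj (ModuleCat.of A (A ⧸ Ideal.ofList l))).obj
      (ModuleCat.of A A')) := by
  apply isZero_tor_quot l hl
  have h1 : IsZero ((CohIII.koszulCx (ModuleCat.of A' A') (l.map (algebraMap A A'))).homology
      (-(i : ℤ))) := by
    have h0 := hl' (-(i : ℤ)) (by omega)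
    rw [← HomologicalComplex.exactAt_iff_isZero_homology,
      Groth.Agent.Lib.Helper75.Kz.koszul_eq_koszulCx,
      HomologicalComplex.exactAt_iff_isZero_homology] at h0
    exact h0
  have h2 := (Groth.Agent.Lib.Helper75.Kz.isZero_homology_restrictScalars_iff (algebraMap A A') l
    (ModuleCat.of A' A') (-(i : ℤ))).2 h1
  exact h2.of_iso ((HomologicalComplex.homologyFunctor _ _ (-(i : ℤ))).mapIso
    (Groth.Agent.Lib.Helper75.Kz.kmapIso (ofAlgIso A') l))

end Groth.Agent.Lib.Helper76.TorKos
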