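import Mathlib
import Groth.Agent.Lib.Helper39.H1Reg

/-!
# helper76: `Jⁿ/Jⁿ⁺¹` is "free over `A/J`" for a quasi-regular family, in split form

For a quasi-regular family `f : Fin c → A` generating `J`, the identity of `Jⁿ/Jⁿ⁺¹` is a finite
sum of endomorphisms each factoring through `A/J` (coefficient extraction followed by multiplication
with a monomial).  This is all that is needed to kill additive functors on `Jⁿ/Jⁿ⁺¹`.
-/

set_option autoImplicit false
universe u

namespace Groth.Agent.Lib.Helper76.TorKos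

open Groth.Agent.Lib.Helper39.H1Reg MvPolynomial

variable {A : Type u} [CommRing A] {c : ℕ} (f : Fin c → A)

/-- The graded piece `Jⁿ/Jⁿ⁺¹` in the form used by the statement. -/
abbrev Gr (J : Ideal A) (n : ℕ) : Type u :=
  ↥(J ^ n) ⧸ Submodule.comap (J ^ n).subtype (J ^ (n + 1))

/-- the monomial `f^d` -/
def mon (d : Fin c →₀ ℕ) : A := ∏ i, f i ^ d i

lemma mon_mem (d : Fin c →₀ ℕ) : mon f d ∈ Ideal.span (Set.range f) ^ d.degree :=
  monomial_mem_pow f d

/-- the monomial `f^d` as an element of `Jⁿ` (zero when the degree is wrong) -/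
noncomputable def monJ (n : ℕ) (d : Fin c →₀ ℕ) : ↥(Ideal.span (Set.range f) ^ n) :=
  if h : d.degree = n then ⟨mon f d, h ▸ mon_mem f d⟩ else 0

lemma monJ_coe (n : ℕ) (d : Fin c →₀ ℕ) (h : d.degree = n) :
    ((monJ f n d : ↥(Ideal.span (Set.range f) ^ n)) : A) = mon f d := by
  unfold monJ
  rw [dif_pos h]

/-- evaluation of homogeneous polynomials of degree `n` at `f`, landing in `Jⁿ` -/
noncomputable def evalH (n : ℕ) :
    homogeneousSubmodule (Fin c) A n →ₗ[A] ↥(Ideal.span (Set.range f) ^ n) :=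
  LinearMap.codRestrict (Ideal.span (Set.range f) ^ n)
    ((aeval f).toLinearMap.comp (homogeneousSubmodule (Fin c) A n).subtype) (by
      intro P
      rw [Ideal.span_pow_eq_map_homogeneousSubmodule]
      exact ⟨P.1, P.2, rfl⟩)

lemma evalH_coe (n : ℕ) (P : homogeneousSubmodule (Fin c) A n) :
    ((evalH f n P : ↥(Ideal.span (Set.range f) ^ n)) : A) = eval f P.1 := by
  change aeval f P.1 = _
  rw [aeval_def, eval₂_eq_eval_map]
  simp

lemma evalH_surjective (n : ℕ) : Function.Surjective (evalH f n) := by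
  rintro ⟨x, hx⟩
  obtain ⟨P, hP, hPx⟩ := (Ideal.mem_span_pow_iff_exists_isHomogeneous f x).1 hx
  refine ⟨⟨P, hP⟩, ?_⟩
  apply Subtype.ext
  rw [evalH_coe]
  exact hPx

/-- the projection `Jⁿ → Jⁿ/Jⁿ⁺¹` -/
noncomputable abbrev grπ (n : ℕ) :
    ↥(Ideal.span (Set.range f) ^ n) →ₗ[A] Gr (Ideal.span (Set.range f)) n :=
  Submodule.mkQ _

/-- homogeneous polynomials onto `Jⁿ/Jⁿ⁺¹` -/
noncomputable def Psi (n : ℕ) :
    homogeneousSubmodule (Fin c) A n →ₗ[A] Gr (Ideal.span (Set.range f)) n :=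
  (grπ f n).comp (evalH f n)

lemma Psi_surjective (n : ℕ) : Function.Surjective (Psi f n) :=
  (Submodule.mkQ_surjective _).comp (evalH_surjective f n)

lemma Psi_eq_zero_iff (n : ℕ) (P : homogeneousSubmodule (Fin c) A n) :
    Psi f n P = 0 ↔ eval f P.1 ∈ Ideal.span (Set.range f) ^ (n + 1) := by
  unfold Psi
  rw [LinearMap.comp_apply, Submodule.mkQ_apply, Submodule.Quotient.mk_eq_zero,
    Submodule.mem_comap, Submodule.subtype_apply, evalH_coe]

/-- coefficient extraction modulo `J` on homogeneous polynomials -/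
noncomputable def coeffMk (n : ℕ) (d : Fin c →₀ ℕ) :
    homogeneousSubmodule (Fin c) A n →ₗ[A] A ⧸ Ideal.span (Set.range f) :=
  (Submodule.mkQ (Ideal.span (Set.range f))).comp
    ((lcoeff A d).comp (homogeneousSubmodule (Fin c) A n).subtype)

lemma coeffMk_apply (n : ℕ) (d : Fin c →₀ ℕ) (P : homogeneousSubmodule (Fin c) A n) :
    coeffMk f n d P = Ideal.Quotient.mk _ (coeff d P.1) := rfl

variable {f}

lemma ker_Psi_le (hQR : IsQR f) (n : ℕ) (d : Fin c →₀ ℕ) :
    LinearMap.ker (Psi f n) ≤ LinearMap.ker (coeffMk f n d) := by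
  intro P hP
  rw [LinearMap.mem_ker, Psi_eq_zero_iff] at hP
  rw [LinearMap.mem_ker, coeffMk_apply, Ideal.Quotient.eq_zero_iff_mem]
  exact hQR n P.1 P.2 hP d

/-- the coefficient projection `Jⁿ/Jⁿ⁺¹ → A/J` -/
noncomputable def proj (hQR : IsQR f) (n : ℕ) (d : Fin c →₀ ℕ) :
    Gr (Ideal.span (Set.range f)) n →ₗ[A] A ⧸ Ideal.span (Set.range f) :=
  ((LinearMap.ker (Psi f n)).liftQ (coeffMk f n d) (ker_Psi_le hQR n d)).comp
    ((Psi f n).quotKerEquivOfSurjective (Psi_surjective f n)).symm.toLinearMap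

lemma proj_Psi (hQR : IsQR f) (n : ℕ) (d : Fin c →₀ ℕ) (P : homogeneousSubmodule (Fin c) A n) :
    proj hQR n d (Psi f n P) = Ideal.Quotient.mk _ (coeff d P.1) := by
  unfold proj
  have h1 : ((Psi f n).quotKerEquivOfSurjective (Psi_surjective f n)).symm (Psi f n P) =
      Submodule.Quotient.mk P := by
    rw [LinearEquiv.symm_apply_eq]
    rfl
  rw [LinearMap.comp_apply, LinearEquiv.coe_coe, h1, Submodule.liftQ_apply, coeffMk_apply]

variable (f)

/-- multiplication by an element of `Jⁿ`, as a map `A/J → Jⁿ/Jⁿ⁺¹` -/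
noncomputable def inc (n : ℕ) (x : ↥(Ideal.span (Set.range f) ^ n)) :
    A ⧸ Ideal.span (Set.range f) →ₗ[A] Gr (Ideal.span (Set.range f)) n :=
  (Ideal.span (Set.range f)).liftQ ((grπ f n).comp (LinearMap.toSpanSingleton A _ x)) (by
    intro a ha
    rw [LinearMap.mem_ker, LinearMap.comp_apply, LinearMap.toSpanSingleton_apply,
      Submodule.mkQ_apply, Submodule.Quotient.mk_eq_zero, Submodule.mem_comap,
      Submodule.subtype_apply]
    change a * (x : A) ∈ _
    rw [pow_succ']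
    exact Ideal.mul_mem_mul ha x.2)

lemma inc_mk (n : ℕ) (x : ↥(Ideal.span (Set.range f) ^ n)) (a : A) :
    inc f n x (Ideal.Quotient.mk _ a) = grπ f n (a • x) := rfl

/-- all exponent vectors of degree `n` -/
noncomputable def degSet (c n : ℕ) : Finset (Fin c →₀ ℕ) :=
  Finset.finsuppAntidiag Finset.univ n

lemma mem_degSet {n : ℕ} (d : Fin c →₀ ℕ) : d ∈ degSet c n ↔ d.degree = n := by
  unfold degSet
  rw [Finset.mem_finsuppAntidiag, Finsupp.degree_eq_sum]
  simp

variable {f}

/-- the identity of `Jⁿ/Jⁿ⁺¹` as a finite sum of maps through `A/J` -/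
theorem sum_inc_proj (hQR : IsQR f) (n : ℕ) (m : Gr (Ideal.span (Set.range f)) n) :
    ∑ d ∈ degSet c n, inc f n (monJ f n d) (proj hQR n d m) = m := by
  obtain ⟨P, rfl⟩ := Psi_surjective f n m
  have h1 : ∀ d ∈ degSet c n, inc f n (monJ f n d) (proj hQR n d (Psi f n P)) =
      grπ f n (coeff d P.1 • monJ f n d) := by
    intro d _
    rw [proj_Psi, inc_mk]
  rw [Finset.sum_congr rfl h1, ← map_sum]
  unfold Psi
  rw [LinearMap.comp_apply]
  congr 1
  apply Subtype.ext
  rw [evalH_coe, Submodule.coe_sum, eval_eq']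
  have h2 : ∀ d ∈ degSet c n, ((coeff d P.1 • monJ f n d : ↥(Ideal.span (Set.range f) ^ n)) : A) =
      coeff d P.1 * ∏ i, f i ^ d i := by
    intro d hd
    rw [Submodule.coe_smul, monJ_coe f n d ((mem_degSet d).1 hd)]
    rfl
  rw [Finset.sum_congr rfl h2]
  symm
  apply Finset.sum_subset
  · intro d hd
    rw [mem_degSet]
    by_contra hne
    exact (mem_support_iff.1 hd) (P.2.coeff_eq_zero hne)
  · intro d _ hd
    rw [notMem_support_iff.1 hd, zero_mul]

end Groth.Agent.Lib.Helper76.TorKos
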