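import Groth.Agent.Lib.Helper76.TorKosA
import Groth.Agent.Lib.Helper76.TorKosB
import Groth.Agent.Lib.Helper43.KoszulH1
import Groth.Agent.Lib.Helper43.TorDim
import Groth.Agent.Lib.Helper68.TorFreeLeft

/-!
# helper76: `Tor_i(Jⁿ, A') = 0 = Tor_i(Jⁿ/Jⁿ⁺¹, A')` for a Koszul-regular `J` with Koszul-regular image
-/

set_option autoImplicit false
universe u
open CategoryTheory CategoryTheory.Limits

namespace Groth.Agent.Lib.Helper76.TorKos

open Groth.Agent.Lib.Helper39.H1Reg Groth.Agent.Lib.Helper43.TorDim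

variable {A : Type u} [CommRing A]

/-- an additive functor killing `Y` kills every object whose identity is a finite sum of maps
factoring through `Y` -/
lemma isZero_of_sum_factor (F : ModuleCat.{u} A ⥤ ModuleCat.{u} A) [F.Additive]
    (X Y : ModuleCat.{u} A) (hY : IsZero (F.obj Y)) {ι : Type*} (D : Finset ι)
    (p : ι → (X ⟶ Y)) (q : ι → (Y ⟶ X)) (h : ∑ d ∈ D, p d ≫ q d = 𝟙 X) : IsZero (F.obj X) := by
  rw [IsZero.iff_id_eq_zero, ← F.map_id, ← h, F.map_sum]
  refine Finset.sum_eq_zero fun d _ => ?_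
  rw [F.map_comp, hY.eq_of_tgt (F.map (p d)) 0, zero_comp]

/-- `Tor_i(Jⁿ/Jⁿ⁺¹, N) = 0` as soon as `Tor_i(A/J, N) = 0`, for `J` generated by a quasi-regular
family. -/
theorem isZero_tor_gr {c : ℕ} {f : Fin c → A} (hQR : IsQR f) (N : ModuleCat.{u} A) (i : ℕ)
    (h : IsZero (T i (ModuleCat.of A (A ⧸ Ideal.span (Set.range f))) N)) (n : ℕ) :
    IsZero (T i (ModuleCat.of A (Gr (Ideal.span (Set.range f)) n)) N) := by
  refine isZero_of_sum_factor ((Tor (ModuleCat.{u} A) i).flip.obj N)
    (ModuleCat.of A (Gr (Ideal.span (Set.range f)) n))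
    (ModuleCat.of A (A ⧸ Ideal.span (Set.range f))) h (degSet c n)
    (fun d => ModuleCat.ofHom (proj hQR n d)) (fun d => ModuleCat.ofHom (inc f n (monJ f n d))) ?_
  apply ModuleCat.hom_ext
  apply LinearMap.ext
  intro m
  rw [ModuleCat.hom_sum, LinearMap.sum_apply]
  exact sum_inc_proj hQR n m

/-- the short exact sequence `0 → Jⁿ⁺¹ → Jⁿ → Jⁿ/Jⁿ⁺¹ → 0` -/
noncomputable def grSC (J : Ideal A) (n : ℕ) : ShortComplex (ModuleCat.{u} A) :=
  ShortComplex.mk
    (ModuleCat.ofHom (Submodule.comap (J ^ n).subtype (J ^ (n + 1))).subtype)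
    (ModuleCat.ofHom (Submodule.mkQ (Submodule.comap (J ^ n).subtype (J ^ (n + 1))))) (by
      ext x
      exact (Submodule.Quotient.mk_eq_zero _).2 x.2)

lemma grSC_shortExact (J : Ideal A) (n : ℕ) : (grSC J n).ShortExact := by
  have hex : (grSC J n).Exact := by
    rw [ShortComplex.moduleCat_exact_iff_range_eq_ker]
    change LinearMap.range (Submodule.subtype _) = LinearMap.ker (Submodule.mkQ _)
    rw [Submodule.range_subtype, Submodule.ker_mkQ]
  have hmono : Mono (grSC J n).f := by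
    rw [ModuleCat.mono_iff_injective]
    exact Subtype.val_injective
  have hepi : Epi (grSC J n).g := by
    rw [ModuleCat.epi_iff_surjective]
    exact Submodule.mkQ_surjective _
  exact { exact := hex, mono_f := hmono, epi_g := hepi }

/-- the kernel term is `Jⁿ⁺¹` -/
noncomputable def grSCX₁Iso (J : Ideal A) (n : ℕ) :
    (grSC J n).X₁ ≅ ModuleCat.of A ↥(J ^ (n + 1)) :=
  (Submodule.comapSubtypeEquivOfLe (Ideal.pow_le_pow_right (Nat.le_succ n))).toModuleIso

/-- `Tor_i(Jⁿ, N) = 0` for `i ≥ 1` when all `Tor_i(A/J, N)` (`i ≥ 1`) vanish and `J` is generated by a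
quasi-regular family. -/
theorem isZero_tor_pow {c : ℕ} {f : Fin c → A} (hQR : IsQR f) (N : ModuleCat.{u} A)
    (h : ∀ i : ℕ, 1 ≤ i → IsZero (T i (ModuleCat.of A (A ⧸ Ideal.span (Set.range f))) N)) :
    ∀ (n i : ℕ), 1 ≤ i → IsZero (T i (ModuleCat.of A ↥(Ideal.span (Set.range f) ^ n)) N) := by
  intro n
  induction n with
  | zero =>
    intro i hi
    have e : (Ideal.span (Set.range f) ^ 0 : Ideal A) ≃ₗ[A] A :=
      (LinearEquiv.ofEq _ _ (by rw [pow_zero, Ideal.one_eq_top])).trans Submodule.topEquiv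
    have h0 : IsZero (T i (ModuleCat.of A A) N) :=
      isZero_T_succ_of_flat (ModuleCat.of A A) (inferInstanceAs (Module.Flat A A)) N i (by omega)
    exact isZero_T_of_iso e.symm.toModuleIso N i h0
  | succ n ih =>
    intro i hi
    have h3 : IsZero (T (i + 1) (grSC (Ideal.span (Set.range f)) n).X₃ N) :=
      isZero_tor_gr hQR N (i + 1) (h (i + 1) (by omega)) n
    have h2 : IsZero (T i (grSC (Ideal.span (Set.range f)) n).X₂ N) := ih i hi
    have h1 := isZero_T_X₁ (grSC_shortExact (Ideal.span (Set.range f)) n) N i h3 h2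
    exact isZero_T_of_iso (grSCX₁Iso (Ideal.span (Set.range f)) n) N i h1

/-- the general form of the main statement, for an ideal presented as `J = (f)` -/
theorem main_aux (A' : Type u) [CommRing A'] [Algebra A A'] (fs : List A)
    (hfs : LCI.IsKoszulRegularSeq A fs)
    (hfs' : LCI.IsKoszulRegularSeq A' (fs.map (algebraMap A A')))
    (J : Ideal A) (hJ : J = Ideal.span (Set.range fs.get)) (n i : ℕ) (hi : 1 ≤ i) :
    IsZero (T i (ModuleCat.of A ↥(J ^ n)) (ModuleCat.of A A')) ∧
      IsZero (T i (ModuleCat.of A (Gr J n)) (ModuleCat.of A A')) := by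
  subst hJ
  have hH1 := Groth.Agent.Lib.Helper43.KoszulH1.isH1Regular_of_isKoszulRegularSeq fs hfs
  have hQR : IsQR fs.get := IsH1.isQR (f := fs.get) hH1
  have hq : ∀ i : ℕ, 1 ≤ i →
      IsZero (T i (ModuleCat.of A (A ⧸ Ideal.span (Set.range fs.get))) (ModuleCat.of A A')) := by
    intro i hi
    have h0 := isZero_tor_quot_alg A' fs hfs hfs' i hi
    have hI : Ideal.ofList fs = Ideal.span (Set.range fs.get) := by
      rw [Set.range_list_get]
    exact isZero_T_of_iso (Submodule.quotEquivOfEq _ _ hI).toModuleIso (ModuleCat.of A A') i h0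
  exact ⟨isZero_tor_pow hQR (ModuleCat.of A A') hq n i hi,
    isZero_tor_gr hQR (ModuleCat.of A A') i (hq i hi) n⟩

end Groth.Agent.Lib.Helper76.TorKos
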