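import Mathlib

/-!
# helper76: an elementary recursive model of Koszul complexes (ungraded, nested pairs)

`KT X l` is the iterated "cone" of a module `X` along a list `l` of ring elements: for `a :: l` it
is `KT X l × KT X l`, a pair `(z', z)` standing for `ε z' + z` with `ε` the new exterior generator.
The differential is `D (z', z) = (-D z', a • z' + D z)`.
-/

set_option autoImplicit false
set_option linter.unusedSimpArgs false
set_option linter.unusedSectionVars false
set_option linter.unusedVariables false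
universe u

namespace Groth.Agent.Lib.Helper76.Wb

variable {R : Type u} [CommRing R]

section OneStep

variable {Y Y' : Type u} [AddCommGroup Y] [Module R Y] [AddCommGroup Y'] [Module R Y']

/-- cone differential -/
def coneD (a : R) (δ : Y →ₗ[R] Y) : (Y × Y) →ₗ[R] (Y × Y) :=
  LinearMap.prod (-(δ ∘ₗ LinearMap.fst R Y Y)) (a • LinearMap.fst R Y Y + δ ∘ₗ LinearMap.snd R Y Y)

@[simp] lemma coneD_apply (a : R) (δ : Y →ₗ[R] Y) (p : Y × Y) :
    coneD a δ p = (-(δ p.1), a • p.1 + δ p.2) := rfl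

/-- odd lift of an operator -/
def liftO (t : Y →ₗ[R] Y) : (Y × Y) →ₗ[R] (Y × Y) :=
  LinearMap.prod (-(t ∘ₗ LinearMap.fst R Y Y)) (t ∘ₗ LinearMap.snd R Y Y)

@[simp] lemma liftO_apply (t : Y →ₗ[R] Y) (p : Y × Y) : liftO t p = (-(t p.1), t p.2) := rfl

/-- the new exterior generator -/
def s0 : (Y × Y) →ₗ[R] (Y × Y) :=
  LinearMap.prod (LinearMap.snd R Y Y) 0

@[simp] lemma s0_apply (p : Y × Y) : (s0 (R := R) p) = (p.2, 0) := rfl

/-- functoriality -/
def mapP (u : Y →ₗ[R] Y') : (Y × Y) →ₗ[R] (Y' × Y') := LinearMap.prodMap u u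

@[simp] lemma mapP_apply (u : Y →ₗ[R] Y') (p : Y × Y) : mapP u p = (u p.1, u p.2) := rfl

/-- graded projections -/
def projP (P : ℤ → (Y →ₗ[R] Y)) (k : ℤ) : (Y × Y) →ₗ[R] (Y × Y) :=
  LinearMap.prodMap (P (k - 1)) (P k)

@[simp] lemma projP_apply (P : ℤ → (Y →ₗ[R] Y)) (k : ℤ) (p : Y × Y) :
    projP P k p = (P (k - 1) p.1, P k p.2) := rfl

lemma coneD_sq (a : R) (δ : Y →ₗ[R] Y) (h : ∀ y, δ (δ y) = 0) (p : Y × Y) :
    coneD a δ (coneD a δ p) = 0 := by
  obtain ⟨z', z⟩ := p
  simp only [coneD_apply, map_neg, map_add, map_smul, h]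
  ext <;> simp

lemma coneD_s0 (a : R) (δ : Y →ₗ[R] Y) (p : Y × Y) :
    coneD a δ (s0 (R := R) p) + s0 (R := R) (coneD a δ p) = a • p := by
  obtain ⟨z', z⟩ := p
  simp only [coneD_apply, s0_apply, map_zero]
  ext <;> simp

lemma coneD_liftO (a b : R) (δ t : Y →ₗ[R] Y) (h : ∀ y, δ (t y) + t (δ y) = b • y) (p : Y × Y) :
    coneD a δ (liftO t p) + liftO t (coneD a δ p) = b • p := by
  obtain ⟨z', z⟩ := p
  simp only [coneD_apply, liftO_apply, map_neg, map_add, map_smul]
  ext
  · simp only [Prod.fst_add, neg_neg, Prod.smul_fst]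
    rw [← h z']
  · simp only [Prod.snd_add, Prod.smul_snd, smul_neg]
    rw [← h z]; abel

lemma s0_s0 (p : Y × Y) : s0 (R := R) (s0 (R := R) p) = 0 := by
  obtain ⟨z', z⟩ := p
  simp

lemma s0_liftO (t : Y →ₗ[R] Y) (p : Y × Y) :
    s0 (R := R) (liftO t p) + liftO t (s0 (R := R) p) = 0 := by
  obtain ⟨z', z⟩ := p
  simp only [liftO_apply, s0_apply, map_zero]
  ext <;> simp

lemma liftO_liftO (t t' : Y →ₗ[R] Y) (p : Y × Y) :
    liftO t (liftO t' p) = (t (t' p.1), t (t' p.2)) := by
  obtain ⟨z', z⟩ := p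
  simp

lemma mapP_coneD (a : R) (δ : Y →ₗ[R] Y) (δ' : Y' →ₗ[R] Y') (u : Y →ₗ[R] Y')
    (h : ∀ y, u (δ y) = δ' (u y)) (p : Y × Y) :
    mapP u (coneD a δ p) = coneD a δ' (mapP u p) := by
  obtain ⟨z', z⟩ := p
  simp [h]

lemma mapP_s0 (u : Y →ₗ[R] Y') (p : Y × Y) :
    mapP u (s0 (R := R) p) = s0 (R := R) (mapP u p) := by
  obtain ⟨z', z⟩ := p
  simp

lemma mapP_liftO (u : Y →ₗ[R] Y') (t : Y →ₗ[R] Y) (t' : Y' →ₗ[R] Y')
    (h : ∀ y, u (t y) = t' (u y)) (p : Y × Y) :
    mapP u (liftO t p) = liftO t' (mapP u p) := by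
  obtain ⟨z', z⟩ := p
  simp [h]

end OneStep

/-! ### The recursive type -/

/-- iterated cone type -/
def KT (X : Type u) : List R → Type u
  | [] => X
  | _ :: l => KT X l × KT X l

instance KT.instACG (X : Type u) [AddCommGroup X] : (l : List R) → AddCommGroup (KT X l)
  | [] => (inferInstance : AddCommGroup X)
  | _ :: l => @Prod.instAddCommGroup (KT X l) (KT X l) (KT.instACG X l) (KT.instACG X l)

instance KT.instModule (X : Type u) [AddCommGroup X] [Module R X] :
    (l : List R) → Module R (KT X l)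
  | [] => (inferInstance : Module R X)
  | _ :: l => @Prod.instModule R (KT X l) (KT X l) _ _ _ (KT.instModule X l) (KT.instModule X l)

section KTcons

variable {X : Type u} [AddCommGroup X] [Module R X] {a : R} {l : List R}

lemma KT.ext' {p q : KT X (a :: l)} (h1 : p.1 = q.1) (h2 : p.2 = q.2) : p = q := Prod.ext h1 h2
lemma KT.fst_add (p q : KT X (a :: l)) : (p + q).1 = p.1 + q.1 := rfl
lemma KT.snd_add (p q : KT X (a :: l)) : (p + q).2 = p.2 + q.2 := rfl
lemma KT.fst_sub (p q : KT X (a :: l)) : (p - q).1 = p.1 - q.1 := rfl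
lemma KT.snd_sub (p q : KT X (a :: l)) : (p - q).2 = p.2 - q.2 := rfl
lemma KT.fst_neg (p : KT X (a :: l)) : (-p).1 = -p.1 := rfl
lemma KT.snd_neg (p : KT X (a :: l)) : (-p).2 = -p.2 := rfl
lemma KT.fst_smul (c : R) (p : KT X (a :: l)) : (c • p).1 = c • p.1 := rfl
lemma KT.snd_smul (c : R) (p : KT X (a :: l)) : (c • p).2 = c • p.2 := rfl
lemma KT.fst_zero : (0 : KT X (a :: l)).1 = 0 := rfl
lemma KT.snd_zero : (0 : KT X (a :: l)).2 = 0 := rfl

end KTcons

section Rec

variable {X X' : Type u} [AddCommGroup X] [Module R X] [AddCommGroup X'] [Module R X']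

/-- the differential -/
noncomputable def KD (d : X →ₗ[R] X) : (l : List R) → (KT X l →ₗ[R] KT X l)
  | [] => d
  | a :: l => coneD a (KD d l)

lemma KD_cons (d : X →ₗ[R] X) (a : R) (l : List R) (p : KT X (a :: l)) :
    KD d (a :: l) p = (-(KD d l p.1), a • p.1 + KD d l p.2) := rfl

lemma KD_sq (d : X →ₗ[R] X) (h : ∀ x, d (d x) = 0) (l : List R) (p : KT X l) :
    KD d l (KD d l p) = 0 := by
  induction l with
  | nil => exact h p
  | cons a l ih => exact coneD_sq a (KD d l) ih p


/-- functoriality in the coefficients -/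
noncomputable def KM (u : X →ₗ[R] X') : (l : List R) → (KT X l →ₗ[R] KT X' l)
  | [] => u
  | _ :: l => mapP (KM u l)

/-- odd lift of an operator on the coefficients -/
noncomputable def KL (t : X →ₗ[R] X) : (l : List R) → (KT X l →ₗ[R] KT X l)
  | [] => t
  | _ :: l => liftO (KL t l)

/-- left multiplication by the linear combination `∑ v j • e_j` of the exterior generators -/
noncomputable def KV : (l : List R) → (ℕ → R) → (KT X l →ₗ[R] KT X l)
  | [], _ => 0
  | _ :: l, v => v 0 • s0 + liftO (KV l (fun k => v (k + 1)))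

/-- the pairing `∑ v j * l_j` -/
def pair : List R → (ℕ → R) → R
  | [], _ => 0
  | a :: l, v => v 0 * a + pair l (fun k => v (k + 1))

/-- the unit (degree zero) embedding -/
noncomputable def KU : (l : List R) → (X →ₗ[R] KT X l)
  | [] => LinearMap.id
  | _ :: l => LinearMap.inr R (KT X l) (KT X l) ∘ₗ KU l

/-- the top embedding -/
noncomputable def KTopS : (l : List R) → (X →ₗ[R] KT X l)
  | [] => LinearMap.id
  | _ :: l => LinearMap.inl R (KT X l) (KT X l) ∘ₗ KTopS l

/-- the top coefficient -/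
noncomputable def KTop : (l : List R) → (KT X l →ₗ[R] X)
  | [] => LinearMap.id
  | _ :: l => KTop l ∘ₗ LinearMap.fst R (KT X l) (KT X l)

/-- the degree zero coefficient -/
noncomputable def KAug : (l : List R) → (KT X l →ₗ[R] X)
  | [] => LinearMap.id
  | _ :: l => KAug l ∘ₗ LinearMap.snd R (KT X l) (KT X l)

/-- graded projections -/
noncomputable def KP (P : ℤ → (X →ₗ[R] X)) : (l : List R) → ℤ → (KT X l →ₗ[R] KT X l)
  | [], k => P k
  | _ :: l, k => projP (KP P l) k

lemma KM_cons (u : X →ₗ[R] X') (a : R) (l : List R) (p : KT X (a :: l)) :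
    KM u (a :: l) p = (KM u l p.1, KM u l p.2) := rfl

lemma KL_cons (t : X →ₗ[R] X) (a : R) (l : List R) (p : KT X (a :: l)) :
    KL t (a :: l) p = (-(KL t l p.1), KL t l p.2) := rfl

lemma KV_cons (a : R) (l : List R) (v : ℕ → R) :
    (KV (a :: l) v : KT X (a :: l) →ₗ[R] KT X (a :: l)) =
      v 0 • s0 + liftO (KV l (fun k => v (k + 1))) := rfl

lemma KV_cons_apply (a : R) (l : List R) (v : ℕ → R) (p : KT X (a :: l)) :
    KV (a :: l) v p = (v 0 • p.2 + -(KV l (fun k => v (k + 1)) p.1), KV l (fun k => v (k + 1)) p.2) := by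
  obtain ⟨z', z⟩ := p
  change (v 0 • s0 + liftO (KV l (fun k => v (k + 1))) : KT X l × KT X l →ₗ[R] KT X l × KT X l)
    (z', z) = _
  simp only [LinearMap.add_apply, LinearMap.smul_apply, s0_apply, liftO_apply]
  ext <;> simp

lemma KU_cons (a : R) (l : List R) (x : X) : KU (a :: l) x = ((0 : KT X l), KU l x) := rfl

lemma KTopS_cons (a : R) (l : List R) (x : X) : KTopS (a :: l) x = (KTopS l x, (0 : KT X l)) := rfl

lemma KTop_cons (a : R) (l : List R) (p : KT X (a :: l)) : KTop (a :: l) p = KTop l p.1 := rfl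

lemma KAug_cons (a : R) (l : List R) (p : KT X (a :: l)) : KAug (a :: l) p = KAug l p.2 := rfl

lemma KP_cons (P : ℤ → (X →ₗ[R] X)) (a : R) (l : List R) (k : ℤ) (p : KT X (a :: l)) :
    KP P (a :: l) k p = (KP P l (k - 1) p.1, KP P l k p.2) := rfl

/-! ### relations -/

lemma KD_KV (d : X →ₗ[R] X) (l : List R) (v : ℕ → R) (p : KT X l) :
    KD d l (KV l v p) + KV l v (KD d l p) = pair l v • p := by
  induction l generalizing v with
  | nil => simp [KV, pair]
  | cons a l ih =>
    obtain ⟨z', z⟩ := p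
    have h1 := ih (fun k => v (k + 1)) z'
    have h2 := ih (fun k => v (k + 1)) z
    rw [KV_cons_apply, KD_cons, KD_cons, KV_cons_apply]
    change _ = (v 0 * a + pair l (fun k => v (k + 1))) • _
    refine KT.ext' ?_ ?_
    · simp only [KT.fst_add, KT.snd_add, KT.fst_sub, KT.snd_sub, KT.fst_neg, KT.snd_neg, KT.fst_smul, KT.snd_smul, KT.fst_zero, KT.snd_zero, map_add, map_neg, map_smul]
      rw [eq_sub_of_add_eq h1]; module
    · simp only [KT.fst_add, KT.snd_add, KT.fst_sub, KT.snd_sub, KT.fst_neg, KT.snd_neg, KT.fst_smul, KT.snd_smul, KT.fst_zero, KT.snd_zero, map_add, map_neg, map_smul]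
      rw [eq_sub_of_add_eq h2]; module

lemma KV_KV (l : List R) (v : ℕ → R) (p : KT X l) : KV l v (KV l v p) = 0 := by
  induction l generalizing v with
  | nil => simp [KV]
  | cons a l ih =>
    obtain ⟨z', z⟩ := p
    rw [KV_cons_apply, KV_cons_apply]
    refine KT.ext' ?_ ?_
    · simp only [KT.fst_add, KT.snd_add, KT.fst_sub, KT.snd_sub, KT.fst_neg, KT.snd_neg, KT.fst_smul, KT.snd_smul, KT.fst_zero, KT.snd_zero, map_add, map_neg, map_smul, ih]
      simp
    · simp only [KT.fst_add, KT.snd_add, KT.fst_sub, KT.snd_sub, KT.fst_neg, KT.snd_neg, KT.fst_smul, KT.snd_smul, KT.fst_zero, KT.snd_zero, ih]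

lemma KD_KL (d t : X →ₗ[R] X) (b : R) (h : ∀ x, d (t x) + t (d x) = b • x) (l : List R)
    (p : KT X l) : KD d l (KL t l p) + KL t l (KD d l p) = b • p := by
  induction l with
  | nil => exact h p
  | cons a l ih => exact coneD_liftO a b (KD d l) (KL t l) ih p

lemma KL_add (t t' : X →ₗ[R] X) (l : List R) (p : KT X l) :
    KL (t + t') l p = KL t l p + KL t' l p := by
  induction l with
  | nil => rfl
  | cons a l ih =>
    obtain ⟨z', z⟩ := p
    rw [KL_cons, KL_cons, KL_cons]
    refine KT.ext' ?_ ?_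
    · simp only [KT.fst_add, KT.snd_add, KT.fst_sub, KT.snd_sub, KT.fst_neg, KT.snd_neg, KT.fst_smul, KT.snd_smul, KT.fst_zero, KT.snd_zero, ih, neg_add]
    · simp only [KT.fst_add, KT.snd_add, KT.fst_sub, KT.snd_sub, KT.fst_neg, KT.snd_neg, KT.fst_smul, KT.snd_smul, KT.fst_zero, KT.snd_zero, ih]

lemma KL_smul (c : R) (t : X →ₗ[R] X) (l : List R) (p : KT X l) :
    KL (c • t) l p = c • KL t l p := by
  induction l with
  | nil => rfl
  | cons a l ih =>
    obtain ⟨z', z⟩ := p
    rw [KL_cons, KL_cons]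
    refine KT.ext' ?_ ?_
    · simp only [KT.fst_add, KT.snd_add, KT.fst_sub, KT.snd_sub, KT.fst_neg, KT.snd_neg, KT.fst_smul, KT.snd_smul, KT.fst_zero, KT.snd_zero, ih, smul_neg]
    · simp only [KT.fst_add, KT.snd_add, KT.fst_sub, KT.snd_sub, KT.fst_neg, KT.snd_neg, KT.fst_smul, KT.snd_smul, KT.fst_zero, KT.snd_zero, ih]

lemma KL_zero (l : List R) (p : KT X l) : KL (0 : X →ₗ[R] X) l p = 0 := by
  induction l with
  | nil => rfl
  | cons a l ih =>
    obtain ⟨z', z⟩ := p
    rw [KL_cons]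
    refine KT.ext' ?_ ?_
    · simp only [KT.fst_add, KT.snd_add, KT.fst_sub, KT.snd_sub, KT.fst_neg, KT.snd_neg, KT.fst_smul, KT.snd_smul, KT.fst_zero, KT.snd_zero, ih, neg_zero]
    · simp only [KT.fst_add, KT.snd_add, KT.fst_sub, KT.snd_sub, KT.fst_neg, KT.snd_neg, KT.fst_smul, KT.snd_smul, KT.fst_zero, KT.snd_zero, ih]

lemma KM_KD (d : X →ₗ[R] X) (d' : X' →ₗ[R] X') (u : X →ₗ[R] X')
    (h : ∀ x, u (d x) = d' (u x)) (l : List R) (p : KT X l) :
    KM u l (KD d l p) = KD d' l (KM u l p) := by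
  induction l with
  | nil => exact h p
  | cons a l ih => exact mapP_coneD a (KD d l) (KD d' l) (KM u l) ih p

lemma KM_KV (u : X →ₗ[R] X') (l : List R) (v : ℕ → R) (p : KT X l) :
    KM u l (KV l v p) = KV l v (KM u l p) := by
  induction l generalizing v with
  | nil => simp [KV]
  | cons a l ih =>
    obtain ⟨z', z⟩ := p
    rw [KV_cons_apply, KM_cons, KM_cons, KV_cons_apply]
    simp only [map_add, map_neg, map_smul, ih]

lemma KM_KL (u : X →ₗ[R] X') (t : X →ₗ[R] X) (t' : X' →ₗ[R] X')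
    (h : ∀ x, u (t x) = t' (u x)) (l : List R) (p : KT X l) :
    KM u l (KL t l p) = KL t' l (KM u l p) := by
  induction l with
  | nil => exact h p
  | cons a l ih => exact mapP_liftO (KM u l) (KL t l) (KL t' l) ih p

lemma KM_KU (u : X →ₗ[R] X') (l : List R) (x : X) : KM u l (KU l x) = KU l (u x) := by
  induction l with
  | nil => rfl
  | cons a l ih =>
    change (KM u l 0, KM u l (KU l x)) = ((0 : KT X' l), KU l (u x))
    rw [ih, map_zero]

lemma KM_KTopS (u : X →ₗ[R] X') (l : List R) (x : X) : KM u l (KTopS l x) = KTopS l (u x) := by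
  induction l with
  | nil => rfl
  | cons a l ih =>
    change (KM u l (KTopS l x), KM u l 0) = (KTopS l (u x), (0 : KT X' l))
    rw [ih, map_zero]

lemma KTop_KM (u : X →ₗ[R] X') (l : List R) (p : KT X l) : KTop l (KM u l p) = u (KTop l p) := by
  induction l with
  | nil => rfl
  | cons a l ih => exact ih p.1

lemma KAug_KM (u : X →ₗ[R] X') (l : List R) (p : KT X l) : KAug l (KM u l p) = u (KAug l p) := by
  induction l with
  | nil => rfl
  | cons a l ih => exact ih p.2

lemma KD_KU (d : X →ₗ[R] X) (l : List R) (x : X) : KD d l (KU l x) = KU l (d x) := by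
  induction l with
  | nil => rfl
  | cons a l ih =>
    change (-(KD d l 0), a • (0 : KT X l) + KD d l (KU l x)) = ((0 : KT X l), KU l (d x))
    rw [ih]; simp

lemma KD_KTopS (d : X →ₗ[R] X) (l : List R) (x : X) (hd : d x = 0) (hx : ∀ a ∈ l, a • x = 0) :
    KD d l (KTopS l x) = 0 := by
  induction l with
  | nil => exact hd
  | cons a l ih =>
    change (-(KD d l (KTopS l x)), a • KTopS l x + KD d l 0) = 0
    rw [ih (fun b hb => hx b (List.mem_cons_of_mem a hb)), ← map_smul,
      hx a (List.mem_cons_self ..)]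
    simp

lemma KTop_KD (d : X →ₗ[R] X) (l : List R) (p : KT X l) :
    KTop l (KD d l p) = (-1 : R) ^ l.length • d (KTop l p) := by
  induction l with
  | nil =>
    change d p = (-1 : R) ^ 0 • d p
    simp
  | cons a l ih =>
    change KTop l (-(KD d l p.1)) = (-1 : R) ^ (l.length + 1) • d (KTop l p.1)
    rw [map_neg, ih, pow_succ, mul_smul, neg_one_smul R, smul_neg]

lemma KTop_KTopS (l : List R) (x : X) : KTop l (KTopS l x) = x := by
  induction l with
  | nil => rfl
  | cons a l ih => exact ih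

lemma KAug_KU (l : List R) (x : X) : KAug l (KU l x) = x := by
  induction l with
  | nil => rfl
  | cons a l ih => exact ih

lemma KAug_KV (l : List R) (v : ℕ → R) (p : KT X l) : KAug l (KV l v p) = 0 := by
  induction l generalizing v with
  | nil => simp [KV]
  | cons a l ih =>
    rw [KV_cons_apply, KAug_cons]
    exact ih _ _

lemma KV_add (l : List R) (v w : ℕ → R) (p : KT X l) :
    KV l (v + w) p = KV l v p + KV l w p := by
  induction l generalizing v w with
  | nil => simp [KV]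
  | cons a l ih =>
    obtain ⟨z', z⟩ := p
    rw [KV_cons_apply, KV_cons_apply, KV_cons_apply]
    have e : (fun k => (v + w) (k + 1)) = (fun k => v (k + 1)) + (fun k => w (k + 1)) := rfl
    rw [e, ih, ih]
    refine KT.ext' ?_ ?_
    · simp only [KT.fst_add, KT.snd_add, KT.fst_sub, KT.snd_sub, KT.fst_neg, KT.snd_neg, KT.fst_smul, KT.snd_smul, KT.fst_zero, KT.snd_zero, Pi.add_apply, add_smul, neg_add]; abel
    · simp only [KT.fst_add, KT.snd_add, KT.fst_sub, KT.snd_sub, KT.fst_neg, KT.snd_neg, KT.fst_smul, KT.snd_smul, KT.fst_zero, KT.snd_zero]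

lemma KV_smul (l : List R) (c : R) (v : ℕ → R) (p : KT X l) :
    KV l (c • v) p = c • KV l v p := by
  induction l generalizing v with
  | nil => simp [KV]
  | cons a l ih =>
    obtain ⟨z', z⟩ := p
    rw [KV_cons_apply, KV_cons_apply]
    have e : (fun k => (c • v) (k + 1)) = c • (fun k => v (k + 1)) := rfl
    rw [e, ih, ih]
    refine KT.ext' ?_ ?_
    · simp only [KT.fst_add, KT.snd_add, KT.fst_sub, KT.snd_sub, KT.fst_neg, KT.snd_neg, KT.fst_smul, KT.snd_smul, KT.fst_zero, KT.snd_zero, Pi.smul_apply, smul_eq_mul, mul_smul, smul_add, smul_neg]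
    · simp only [KT.fst_add, KT.snd_add, KT.fst_sub, KT.snd_sub, KT.fst_neg, KT.snd_neg, KT.fst_smul, KT.snd_smul, KT.fst_zero, KT.snd_zero]

lemma KV_zero (l : List R) (p : KT X l) : KV l (0 : ℕ → R) p = 0 := by
  have := KV_smul l (0 : R) (0 : ℕ → R) p
  simpa using this

end Rec

end Groth.Agent.Lib.Helper76.Wb
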