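import Groth.Agent.Lib.Helper76.WbA

/-!
# helper76: quasi-isomorphisms of differential modules, cones, graded projections
-/

set_option autoImplicit false
set_option linter.unusedSimpArgs false
set_option linter.unusedSectionVars false
set_option linter.unusedVariables false
universe u

namespace Groth.Agent.Lib.Helper76.Wb

variable {R : Type u} [CommRing R]

section QI

variable {Y Y' : Type u} [AddCommGroup Y] [Module R Y] [AddCommGroup Y'] [Module R Y']

/-- `u` is a quasi-isomorphism of differential modules (elementwise form). -/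
structure QI (δ : Y →ₗ[R] Y) (δ' : Y' →ₗ[R] Y') (u : Y →ₗ[R] Y') : Prop where
  comm : ∀ y, u (δ y) = δ' (u y)
  inj : ∀ y, δ y = 0 → (∃ w', u y = δ' w') → ∃ w, y = δ w
  surj : ∀ y', δ' y' = 0 → ∃ y, δ y = 0 ∧ ∃ w', y' - u y = δ' w'

lemma QI.cone (a : R) {δ : Y →ₗ[R] Y} {δ' : Y' →ₗ[R] Y'} {u : Y →ₗ[R] Y'} (h : QI δ δ' u) :
    QI (coneD a δ) (coneD a δ') (mapP u) where
  comm := fun p => mapP_coneD a δ δ' u h.comm p
  inj := by
    rintro ⟨y₁, y₂⟩ hp ⟨⟨v₁, v₂⟩, hv⟩
    simp only [coneD_apply, mapP_apply, Prod.mk.injEq, Prod.mk_eq_zero, neg_eq_zero] at hp hv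
    obtain ⟨hp1, hp2⟩ := hp
    obtain ⟨hv1, hv2⟩ := hv
    obtain ⟨w₁, hw₁⟩ := h.inj y₁ hp1 ⟨-v₁, by rw [map_neg]; exact hv1⟩
    have hc0 : δ' (v₁ + u w₁) = 0 := by
      rw [map_add, ← h.comm w₁, ← hw₁, hv1, add_neg_cancel]
    obtain ⟨c, hc, e, he⟩ := h.surj _ hc0
    have h3 : δ (y₂ + a • w₁ - a • c) = 0 := by
      rw [map_sub, map_add, map_smul, map_smul, ← hw₁, hc, smul_zero, sub_zero, add_comm]
      exact hp2
    obtain ⟨w₂, hw₂⟩ := h.inj _ h3 ⟨a • e + v₂, by
      rw [map_sub, map_add, map_smul, map_smul, hv2, map_add, map_smul, ← he]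
      module⟩
    refine ⟨(c - w₁, w₂), ?_⟩
    simp only [coneD_apply, Prod.mk.injEq]
    constructor
    · rw [map_sub, hc, zero_sub, neg_neg]; exact hw₁
    · rw [← hw₂]; module
  surj := by
    rintro ⟨y₁', y₂'⟩ hp
    simp only [coneD_apply, Prod.mk_eq_zero, neg_eq_zero] at hp
    obtain ⟨hp1, hp2⟩ := hp
    obtain ⟨y₁, hy₁, w₁', hw₁'⟩ := h.surj y₁' hp1
    obtain ⟨w, hw⟩ := h.inj (a • y₁) (by rw [map_smul, hy₁, smul_zero]) ⟨-y₂' - a • w₁', by
      simp only [map_sub, map_neg, map_smul]
      linear_combination (norm := module) hp2 - a • hw₁'⟩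
    have ht : δ' (y₂' + a • w₁' + u w) = 0 := by
      rw [map_add, map_add, map_smul, ← h.comm, ← hw, map_smul]
      linear_combination (norm := module) hp2 - a • hw₁'
    obtain ⟨y₂, hy₂, w₂', hw₂'⟩ := h.surj _ ht
    refine ⟨(y₁, y₂ - w), ?_, (-w₁', w₂'), ?_⟩
    · simp only [coneD_apply, Prod.mk_eq_zero, neg_eq_zero]
      refine ⟨hy₁, ?_⟩
      rw [map_sub, hy₂, ← hw]; module
    · simp only [coneD_apply, mapP_apply, Prod.mk_sub_mk, Prod.mk.injEq, map_neg, neg_neg, map_sub]
      refine ⟨hw₁', ?_⟩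
      linear_combination (norm := module) hw₂'

end QI

section Rec

variable {X X' : Type u} [AddCommGroup X] [Module R X] [AddCommGroup X'] [Module R X']

lemma KM_QI {d : X →ₗ[R] X} {d' : X' →ₗ[R] X'} {u : X →ₗ[R] X'} (h : QI d d' u) (l : List R) :
    QI (KD d l) (KD d' l) (KM u l) := by
  induction l with
  | nil => exact h
  | cons a l ih => exact ih.cone a

/-! ### graded projections -/

/-- the projections of a module concentrated in degree `0` -/
noncomputable def P0 (X : Type u) [AddCommGroup X] [Module R X] : ℤ → (X →ₗ[R] X) :=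
  fun k => if k = 0 then LinearMap.id else 0

lemma P0_zero (x : X) : P0 (R := R) X 0 x = x := by simp [P0]

lemma P0_ne (k : ℤ) (hk : k ≠ 0) (x : X) : P0 (R := R) X k x = 0 := by simp [P0, hk]

lemma KP_KD (d : X →ₗ[R] X) (P : ℤ → (X →ₗ[R] X)) (h : ∀ k x, d (P k x) = P (k - 1) (d x))
    (l : List R) (k : ℤ) (p : KT X l) : KD d l (KP P l k p) = KP P l (k - 1) (KD d l p) := by
  induction l generalizing k with
  | nil => exact h k p
  | cons a l ih =>
    obtain ⟨z', z⟩ := p
    rw [KP_cons, KD_cons, KD_cons, KP_cons]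
    simp only [map_add, map_neg, map_smul, ih]

lemma KP_KV (P : ℤ → (X →ₗ[R] X)) (l : List R) (v : ℕ → R) (k : ℤ) (p : KT X l) :
    KV l v (KP P l k p) = KP P l (k + 1) (KV l v p) := by
  induction l generalizing k v with
  | nil => simp [KV]
  | cons a l ih =>
    obtain ⟨z', z⟩ := p
    rw [KP_cons, KV_cons_apply, KV_cons_apply, KP_cons]
    have e1 : k + 1 - 1 = k := by ring
    have e2 : k - 1 + 1 = k := by ring
    simp only [map_add, map_neg, map_smul, ih, e1, e2]

lemma KP_KL (t : X →ₗ[R] X) (P : ℤ → (X →ₗ[R] X)) (h : ∀ k x, t (P k x) = P (k + 1) (t x))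
    (l : List R) (k : ℤ) (p : KT X l) : KL t l (KP P l k p) = KP P l (k + 1) (KL t l p) := by
  induction l generalizing k with
  | nil => exact h k p
  | cons a l ih =>
    obtain ⟨z', z⟩ := p
    rw [KP_cons, KL_cons, KL_cons, KP_cons]
    have e1 : k + 1 - 1 = k - 1 + 1 := by ring
    simp only [map_neg, ih, e1]

lemma KP_KM (u : X →ₗ[R] X') (P : ℤ → (X →ₗ[R] X)) (P' : ℤ → (X' →ₗ[R] X'))
    (h : ∀ k x, u (P k x) = P' k (u x)) (l : List R) (k : ℤ) (p : KT X l) :
    KM u l (KP P l k p) = KP P' l k (KM u l p) := by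
  induction l generalizing k with
  | nil => exact h k p
  | cons a l ih =>
    obtain ⟨z', z⟩ := p
    rw [KP_cons, KM_cons, KM_cons, KP_cons]
    simp only [ih]

lemma KP0_neg (l : List R) (k : ℤ) (hk : k < 0) (p : KT X l) : KP (P0 X) l k p = 0 := by
  induction l generalizing k with
  | nil => exact P0_ne k (by omega) p
  | cons a l ih =>
    rw [KP_cons, ih (k - 1) (by omega), ih k hk]; rfl

lemma KP0_gt (l : List R) (k : ℤ) (hk : (l.length : ℤ) < k) (p : KT X l) :
    KP (P0 X) l k p = 0 := by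
  induction l generalizing k with
  | nil =>
    simp only [List.length_nil, Nat.cast_zero] at hk
    exact P0_ne k (by omega) p
  | cons a l ih =>
    simp only [List.length_cons, Nat.cast_add, Nat.cast_one] at hk
    rw [KP_cons, ih (k - 1) (by omega), ih k (by omega)]; rfl

lemma KP0_top (l : List R) (p : KT X l) :
    KP (P0 X) l (l.length : ℤ) p = KTopS l (KTop l p) := by
  induction l with
  | nil => exact P0_zero p
  | cons a l ih =>
    rw [KP_cons, KTop_cons, KTopS_cons]
    have e : ((a :: l).length : ℤ) - 1 = (l.length : ℤ) := by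
      simp only [List.length_cons, Nat.cast_add, Nat.cast_one]; ring
    rw [e, ih, KP0_gt l _ (by simp)]

lemma KP0_zero (l : List R) (p : KT X l) : KP (P0 X) l 0 p = KU l (KAug l p) := by
  induction l with
  | nil => exact P0_zero p
  | cons a l ih =>
    rw [KP_cons, KAug_cons, KU_cons, KP0_neg l _ (by omega), ih]

lemma KP0_sum (l : List R) (p : KT X l) :
    ∑ k ∈ Finset.range (l.length + 1), KP (P0 X) l (k : ℤ) p = p := by
  induction l with
  | nil =>
    simp only [List.length_nil, zero_add, Finset.range_one, Finset.sum_singleton, Nat.cast_zero]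
    exact P0_zero p
  | cons a l ih =>
    obtain ⟨z', z⟩ := p
    refine KT.ext' ?_ ?_
    · have h1 : (∑ k ∈ Finset.range ((a :: l).length + 1),
          KP (P0 X) (a :: l) (k : ℤ) ((z', z) : KT X l × KT X l)).1 =
          ∑ k ∈ Finset.range ((a :: l).length + 1), KP (P0 X) l ((k : ℤ) - 1) z' :=
        map_sum (LinearMap.fst R (KT X l) (KT X l)) _ _
      rw [h1, List.length_cons, Finset.sum_range_succ']
      simp only [Nat.cast_add, Nat.cast_one, add_sub_cancel_right, Nat.cast_zero, zero_sub]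
      rw [KP0_neg l _ (by omega), add_zero]
      exact ih z'
    · have h1 : (∑ k ∈ Finset.range ((a :: l).length + 1),
          KP (P0 X) (a :: l) (k : ℤ) ((z', z) : KT X l × KT X l)).2 =
          ∑ k ∈ Finset.range ((a :: l).length + 1), KP (P0 X) l (k : ℤ) z :=
        map_sum (LinearMap.snd R (KT X l) (KT X l)) _ _
      rw [h1, List.length_cons, Finset.sum_range_succ, KP0_gt l _ (by simp), add_zero]
      exact ih z

lemma KAug_KP0 (l : List R) (k : ℤ) (p : KT X l) :
    KAug l (KP (P0 X) l k p) = P0 (R := R) X k (KAug l p) := by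
  induction l with
  | nil => rfl
  | cons a l ih =>
    rw [KP_cons, KAug_cons, KAug_cons]
    exact ih p.2

lemma KP_KU (P : ℤ → (X →ₗ[R] X)) (l : List R) (x : X) (hx : P 0 x = x) :
    KP P l 0 (KU l x) = KU l x := by
  induction l with
  | nil => exact hx
  | cons a l ih =>
    rw [KU_cons, KP_cons]
    simp only [map_zero]
    rw [ih]

/-! ### ordered products of operators -/

/-- `opProd θ i m u = θ i (θ (i+1) (… θ (i+m-1) u))` -/
def opProd {M : Type u} (θ : ℕ → M → M) : ℕ → ℕ → M → M
  | _, 0, u => u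
  | i, m + 1, u => θ i (opProd θ (i + 1) m u)

lemma opProd_map {M M' : Type u} (θ : ℕ → M → M) (θ' : ℕ → M' → M') (A : M → M')
    (h : ∀ i x, A (θ i x) = θ' i (A x)) (i m : ℕ) (u : M) :
    A (opProd θ i m u) = opProd θ' i m (A u) := by
  induction m generalizing i with
  | zero => rfl
  | succ m ih =>
    change A (θ i (opProd θ (i + 1) m u)) = θ' i (opProd θ' (i + 1) m (A u))
    rw [h, ih]

lemma opProd_cycle {M : Type u} [AddCommGroup M] (D : M →+ M) (θ : ℕ → M → M)
    (h : ∀ i x, D (θ i x) = -θ i (D x)) (h0 : ∀ i, θ i 0 = 0) (i m : ℕ) (u : M) (hu : D u = 0) :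
    D (opProd θ i m u) = 0 := by
  induction m generalizing i with
  | zero => exact hu
  | succ m ih =>
    change D (θ i (opProd θ (i + 1) m u)) = 0
    rw [h, ih, h0, neg_zero]

lemma single_shift_succ (i : ℕ) :
    (fun k => (Pi.single (i + 1) 1 : ℕ → R) (k + 1)) = Pi.single i 1 := by
  funext k
  simp only [Pi.single_apply, Nat.add_right_cancel_iff]

lemma single_shift_zero : (fun k => (Pi.single 0 1 : ℕ → R) (k + 1)) = 0 := by
  funext k
  simp [Pi.single_apply]

lemma opProd_KV_snd (a : R) (l : List R) (j m : ℕ) (w : KT X l) :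
    opProd (fun i => (KV (a :: l) (Pi.single i 1) : KT X (a :: l) → KT X (a :: l))) (j + 1) m
      ((0, w) : KT X l × KT X l) =
    ((0 : KT X l), opProd (fun i => (KV l (Pi.single i 1) : KT X l → KT X l)) j m w) := by
  induction m generalizing j with
  | zero => rfl
  | succ m ih =>
    change KV (a :: l) (Pi.single (j + 1) 1) (opProd _ (j + 1 + 1) m ((0, w) : KT X l × KT X l)) = _
    rw [ih, KV_cons_apply, single_shift_succ]
    simp only [map_zero, neg_zero, add_zero]
    have : (Pi.single (j + 1) 1 : ℕ → R) 0 = 0 := by simp [Pi.single_apply]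
    rw [this, zero_smul]
    rfl

lemma opProd_KV_top (l : List R) (x : X) :
    opProd (fun i => (KV l (Pi.single i 1) : KT X l → KT X l)) 0 l.length (KU l x) =
      KTopS l x := by
  induction l with
  | nil => rfl
  | cons a l ih =>
    change KV (a :: l) (Pi.single 0 1) (opProd _ (0 + 1) l.length (KU (a :: l) x)) = _
    rw [KU_cons, opProd_KV_snd, ih, KV_cons_apply, single_shift_zero, KTopS_cons]
    have : (Pi.single 0 1 : ℕ → R) 0 = 1 := by simp
    rw [this, one_smul]
    refine KT.ext' ?_ ?_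
    · change KTopS l x + -(KV l 0 0) = KTopS l x
      rw [map_zero, neg_zero, add_zero]
    · change KV l 0 (KTopS l x) = 0
      exact KV_zero l _

end Rec

end Groth.Agent.Lib.Helper76.Wb
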