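import Groth.Agent.Lib.Helper76.WbB

/-!
# helper76: the swap isomorphism `Kos(Kos(X, g), F) ≅ Kos(Kos(X, F), g)`
-/

set_option autoImplicit false
set_option linter.unusedSimpArgs false
set_option linter.unusedSectionVars false
set_option linter.unusedVariables false
universe u

namespace Groth.Agent.Lib.Helper76.Wb

variable {R : Type u} [CommRing R]

section Tau

variable {X : Type u} [AddCommGroup X] [Module R X]

/-- `τ : cone (KT X l) → KT (cone X) l` -/
noncomputable def tau : (l : List R) → ((KT X l × KT X l) →ₗ[R] KT (X × X) l)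
  | [] => LinearMap.id
  | b :: l => LinearMap.prod
      (tau l ∘ₗ LinearMap.prod
        (-(LinearMap.fst R (KT X l) (KT X l) ∘ₗ LinearMap.fst R (KT X (b :: l)) (KT X (b :: l))))
        (LinearMap.fst R (KT X l) (KT X l) ∘ₗ LinearMap.snd R (KT X (b :: l)) (KT X (b :: l))))
      (tau l ∘ₗ LinearMap.prod
        (LinearMap.snd R (KT X l) (KT X l) ∘ₗ LinearMap.fst R (KT X (b :: l)) (KT X (b :: l)))
        (LinearMap.snd R (KT X l) (KT X l) ∘ₗ LinearMap.snd R (KT X (b :: l)) (KT X (b :: l))))

lemma tau_cons (b : R) (l : List R) (p : KT X (b :: l) × KT X (b :: l)) :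
    tau (b :: l) p = (tau l (-p.1.1, p.2.1), tau l (p.1.2, p.2.2)) := rfl

lemma tau_injective (l : List R) : Function.Injective (tau (X := X) l) := by
  induction l with
  | nil => exact fun _ _ h => h
  | cons b l ih =>
    rw [← LinearMap.ker_eq_bot, LinearMap.ker_eq_bot']
    rintro ⟨⟨q2, q1⟩, ⟨r2, r1⟩⟩ h
    rw [tau_cons] at h
    have h1 : tau l ((-q2, r2) : KT X l × KT X l) = 0 := congrArg Prod.fst h
    have h2 : tau l ((q1, r1) : KT X l × KT X l) = 0 := congrArg Prod.snd h
    have h1' := ih (h1.trans (map_zero _).symm)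
    have h2' := ih (h2.trans (map_zero _).symm)
    simp only [Prod.mk_eq_zero, neg_eq_zero] at h1' h2'
    obtain ⟨rfl, rfl⟩ := h1'
    obtain ⟨rfl, rfl⟩ := h2'
    rfl

lemma tau_surjective (l : List R) : Function.Surjective (tau (X := X) l) := by
  induction l with
  | nil => exact fun y => ⟨y, rfl⟩
  | cons b l ih =>
    rintro ⟨y1, y2⟩
    obtain ⟨⟨u1, u2⟩, hu⟩ := ih y1
    obtain ⟨⟨w1, w2⟩, hw⟩ := ih y2
    refine ⟨(((-u1, w1) : KT X l × KT X l), ((u2, w2) : KT X l × KT X l)), ?_⟩
    rw [tau_cons]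
    simp only [neg_neg]
    rw [hu, hw]

lemma tau_D (a : R) (d : X →ₗ[R] X) (l : List R) (p : KT X l × KT X l) :
    tau l (coneD a (KD d l) p) = KD (coneD a d) l (tau l p) := by
  induction l with
  | nil => rfl
  | cons b l ih =>
    obtain ⟨⟨q2, q1⟩, ⟨r2, r1⟩⟩ := p
    rw [tau_cons (X := X) b l, KD_cons (coneD a d) b l, tau_cons (X := X) b l]
    simp only [coneD_apply, KD_cons d b l, KT.fst_add, KT.snd_add, KT.fst_neg, KT.snd_neg, KT.fst_smul,
      KT.snd_smul]
    rw [← ih, ← ih]
    refine KT.ext' ?_ ?_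
    · change tau (X := X) l _ = -tau (X := X) l _
      rw [← map_neg (tau (X := X) l)]
      congr 1
      simp only [coneD_apply, Prod.neg_mk, Prod.mk.injEq, map_neg, neg_neg, smul_neg]
      refine ⟨trivial, ?_⟩
      abel
    · change tau (X := X) l _ = b • tau (X := X) l _ + tau (X := X) l _
      rw [← map_smul (tau (X := X) l), ← map_add (tau (X := X) l)]
      congr 1
      simp only [coneD_apply, Prod.smul_mk, Prod.mk_add_mk, Prod.mk.injEq, smul_neg]
      refine ⟨by abel, by abel⟩

lemma tau_s0 (l : List R) (p : KT X l × KT X l) :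
    tau l (s0 (R := R) p) = KL (s0 (R := R) (Y := X)) l (tau l p) := by
  induction l with
  | nil => rfl
  | cons b l ih =>
    obtain ⟨⟨q2, q1⟩, ⟨r2, r1⟩⟩ := p
    rw [tau_cons (X := X) b l, KL_cons (s0 (R := R) (Y := X)) b l, tau_cons (X := X) b l]
    simp only [s0_apply]
    rw [← ih, ← ih]
    refine KT.ext' ?_ ?_
    · change tau (X := X) l _ = -tau (X := X) l _
      rw [← map_neg (tau (X := X) l)]
      congr 1
      simp
      rfl
    · change tau (X := X) l _ = tau (X := X) l _
      congr 1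

lemma tau_liftO_KL (t : X →ₗ[R] X) (l : List R) (p : KT X l × KT X l) :
    tau l (liftO (KL t l) p) = KL (liftO t) l (tau l p) := by
  induction l with
  | nil => rfl
  | cons b l ih =>
    obtain ⟨⟨q2, q1⟩, ⟨r2, r1⟩⟩ := p
    rw [tau_cons (X := X) b l, KL_cons (liftO t) b l, tau_cons (X := X) b l]
    simp only [liftO_apply, KL_cons t b l, KT.fst_neg, KT.snd_neg]
    rw [← ih, ← ih]
    refine KT.ext' ?_ ?_
    · change tau (X := X) l _ = -tau (X := X) l _
      rw [← map_neg (tau (X := X) l)]
      congr 1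
      simp only [liftO_apply, Prod.neg_mk, Prod.mk.injEq, map_neg, neg_neg]
    · change tau (X := X) l _ = tau (X := X) l _
      congr 1

lemma tau_liftO_KV (l : List R) (v : ℕ → R) (p : KT X l × KT X l) :
    tau l (liftO (KV l v) p) = KV l v (tau l p) := by
  induction l generalizing v with
  | nil =>
    change liftO (0 : X →ₗ[R] X) p = (0 : X × X →ₗ[R] X × X) p
    simp
  | cons b l ih =>
    obtain ⟨⟨q2, q1⟩, ⟨r2, r1⟩⟩ := p
    rw [tau_cons (X := X) b l, KV_cons_apply b l v (tau (b :: l) _), tau_cons (X := X) b l]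
    simp only [liftO_apply, KV_cons_apply b l v, KT.fst_neg, KT.snd_neg]
    rw [← ih, ← ih]
    refine KT.ext' ?_ ?_
    · change tau (X := X) l _ = v 0 • tau (X := X) l _ + -tau (X := X) l _
      rw [← map_neg (tau (X := X) l), ← map_smul (tau (X := X) l), ← map_add (tau (X := X) l)]
      congr 1
      simp only [liftO_apply, Prod.neg_mk, Prod.smul_mk, Prod.mk_add_mk, Prod.mk.injEq, map_neg,
        neg_neg, neg_add_rev]
    · change tau (X := X) l _ = tau (X := X) l _
      congr 1

lemma tau_projP (P : ℤ → (X →ₗ[R] X)) (l : List R) (k : ℤ) (p : KT X l × KT X l) :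
    tau l (projP (KP P l) k p) = KP (projP P) l k (tau l p) := by
  induction l generalizing k with
  | nil => rfl
  | cons b l ih =>
    obtain ⟨⟨q2, q1⟩, ⟨r2, r1⟩⟩ := p
    rw [tau_cons (X := X) b l, KP_cons (projP P) b l, tau_cons (X := X) b l]
    simp only [projP_apply, KP_cons P b l]
    rw [← ih, ← ih]
    refine KT.ext' ?_ ?_
    · change tau (X := X) l _ = tau (X := X) l _
      congr 1
      simp only [projP_apply, map_neg]
    · change tau (X := X) l _ = tau (X := X) l _
      congr 1

lemma tau_KU (l : List R) (x : X) :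
    tau l ((0, KU l x) : KT X l × KT X l) = KU l ((0, x) : X × X) := by
  induction l with
  | nil => rfl
  | cons b l ih =>
    rw [tau_cons (X := X) b l, KU_cons b l ((0, x) : X × X)]
    refine KT.ext' ?_ ?_
    · change tau (X := X) l (-(0 : KT X l), (0 : KT X l)) = 0
      rw [neg_zero]
      exact map_zero _
    · exact ih

end Tau

section Swap

variable {X : Type u} [AddCommGroup X] [Module R X]

/-- the swap `Kos(Kos(X, g), F) → Kos(Kos(X, F), g)` -/
noncomputable def swp : (F g : List R) → (KT (KT X g) F →ₗ[R] KT (KT X F) g)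
  | [], _ => LinearMap.id
  | _ :: F, g => tau g ∘ₗ mapP (swp F g)

lemma swp_cons (a : R) (F g : List R) (p : KT (KT X g) (a :: F)) :
    swp (a :: F) g p = tau g ((swp F g p.1, swp F g p.2) : KT (KT X F) g × KT (KT X F) g) := rfl

lemma swp_injective (F g : List R) : Function.Injective (swp (X := X) F g) := by
  induction F with
  | nil => exact fun _ _ h => h
  | cons a F ih =>
    rintro ⟨p1, p2⟩ ⟨q1, q2⟩ h
    rw [swp_cons, swp_cons] at h
    have h' := tau_injective g h
    simp only [Prod.mk.injEq] at h'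
    exact Prod.ext (ih h'.1) (ih h'.2)

lemma swp_surjective (F g : List R) : Function.Surjective (swp (X := X) F g) := by
  induction F with
  | nil => exact fun y => ⟨y, rfl⟩
  | cons a F ih =>
    intro y
    obtain ⟨⟨y1, y2⟩, hy⟩ := tau_surjective (X := KT X F) g y
    obtain ⟨p1, hp1⟩ := ih y1
    obtain ⟨p2, hp2⟩ := ih y2
    refine ⟨((p1, p2) : KT (KT X g) F × KT (KT X g) F), ?_⟩
    rw [swp_cons]
    change tau g (swp F g p1, swp F g p2) = y
    rw [hp1, hp2, hy]

lemma swp_D (d : X →ₗ[R] X) (F g : List R) (p : KT (KT X g) F) :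
    swp F g (KD (KD d g) F p) = KD (KD d F) g (swp F g p) := by
  induction F with
  | nil => rfl
  | cons a F ih =>
    change tau g (mapP (swp F g) (coneD a (KD (KD d g) F) p)) = _
    rw [mapP_coneD a (KD (KD d g) F) (KD (KD d F) g) (swp F g) ih p, tau_D]
    rfl

lemma swp_KP (P : ℤ → (X →ₗ[R] X)) (F g : List R) (k : ℤ) (p : KT (KT X g) F) :
    swp F g (KP (KP P g) F k p) = KP (KP P F) g k (swp F g p) := by
  induction F generalizing k with
  | nil => rfl
  | cons a F ih =>
    obtain ⟨p1, p2⟩ := p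
    rw [KP_cons, swp_cons, swp_cons]
    simp only [ih]
    exact tau_projP (X := KT X F) (KP P F) g k
      ((swp F g p1, swp F g p2) : KT (KT X F) g × KT (KT X F) g)

lemma swp_KU (F g : List R) (x : X) : swp F g (KU F (KU g x)) = KU g (KU F x) := by
  induction F with
  | nil => rfl
  | cons a F ih =>
    rw [KU_cons, swp_cons]
    simp only [map_zero, ih]
    exact tau_KU (X := KT X F) g (KU F x)

lemma swp_KL_in (F g : List R) (w : ℕ → R) (p : KT (KT X g) F) :
    swp F g (KL (KV g w) F p) = KV g w (swp F g p) := by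
  induction F with
  | nil => rfl
  | cons a F ih =>
    obtain ⟨p1, p2⟩ := p
    rw [KL_cons, swp_cons, swp_cons]
    simp only [map_neg, ih]
    exact tau_liftO_KV (X := KT X F) g w
      ((swp F g p1, swp F g p2) : KT (KT X F) g × KT (KT X F) g)

lemma swp_KV_out (F g : List R) (v : ℕ → R) (p : KT (KT X g) F) :
    swp F g (KV F v p) = KL (KV F v) g (swp F g p) := by
  induction F generalizing v with
  | nil =>
    change swp ([] : List R) g ((0 : KT X g →ₗ[R] KT X g) p) = KL (0 : X →ₗ[R] X) g (swp [] g p)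
    rw [KL_zero]; rfl
  | cons a F ih =>
    obtain ⟨p1, p2⟩ := p
    rw [KV_cons_apply, swp_cons, swp_cons]
    simp only [map_add, map_neg, map_smul, ih]
    change _ = KL (X := KT X F × KT X F) (v 0 • s0 + liftO (KV F (fun k => v (k + 1)))) g
      (tau g ((swp F g p1, swp F g p2) : KT (KT X F) g × KT (KT X F) g))
    rw [KL_add, KL_smul, ← tau_s0, ← tau_liftO_KL, ← map_smul (tau (X := KT X F) g),
      ← map_add (tau (X := KT X F) g)]
    congr 1
    simp [s0_apply, liftO_apply]

end Swap


end Groth.Agent.Lib.Helper76.Wb
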