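import Groth.Agent.Lib.Helper76.WbC
import Groth.Agent.Lib.Helper43.KoszulH1
import Groth.Prelude.Def_LCI2

/-!
# helper76: bridge from the prelude (mapping cone) Koszul complex to the recursive model

For a Koszul-regular sequence `l` the augmentation `KT R l → R ⧸ (l)` is a quasi-isomorphism of
differential modules.
-/

set_option autoImplicit false
set_option linter.unusedSimpArgs false
set_option linter.unusedSectionVars false
set_option linter.unusedVariables false
universe u

open CategoryTheory CategoryTheory.Limits CochainComplex HomComplex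
open Groth.Agent.Lib.Helper43.KoszulH1

namespace Groth.Agent.Lib.Helper76.Wb

variable {R : Type u} [CommRing R]

section Cone

variable {K L : CochainComplex (ModuleCat.{u} R) ℤ} (φ : K ⟶ L)

lemma fst_d (i j k : ℤ) (hij : i + 1 = j) (hjk : j + 1 = k) (x : (mappingCone φ).X i) :
    ((mappingCone.fst φ).1.v j k hjk).hom (((mappingCone φ).d i j).hom x) =
      -(K.d j k).hom (((mappingCone.fst φ).1.v i j hij).hom x) := by
  have h := mappingCone.d_fst_v φ i j k hij hjk
  have := congrArg (fun t => t.hom x) h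
  simpa using this

lemma snd_d (i j : ℤ) (hij : i + 1 = j) (x : (mappingCone φ).X i) :
    ((mappingCone.snd φ).v j j (add_zero j)).hom (((mappingCone φ).d i j).hom x) =
      (φ.f j).hom (((mappingCone.fst φ).1.v i j hij).hom x) +
        (L.d i j).hom (((mappingCone.snd φ).v i i (add_zero i)).hom x) := by
  have h := mappingCone.d_snd_v φ i j hij
  have := congrArg (fun t => t.hom x) h
  simpa using this

end Cone

/-- comparison map from the degree `i` term of the cone model to the recursive model -/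
noncomputable def Psi : (l : List R) → (i : ℤ) → ((Koszul.koszul R l).X i →ₗ[R] KT R l)
  | [], i => if h : i = 0 then
      (HomologicalComplex.singleObjXIsoOfEq (ComplexShape.up ℤ) 0 (ModuleCat.of R R) i h).hom.hom
    else 0
  | a :: l, i =>
      LinearMap.prod
        (Psi l (i + 1) ∘ₗ ((mappingCone.fst (a • 𝟙 (Koszul.koszul R l))).1.v i (i + 1) rfl).hom)
        (Psi l i ∘ₗ ((mappingCone.snd (a • 𝟙 (Koszul.koszul R l))).v i i (add_zero i)).hom)

lemma Psi_cons (a : R) (l : List R) (i : ℤ) (x : (Koszul.koszul R (a :: l)).X i) :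
    Psi (a :: l) i x =
      (Psi l (i + 1) (((mappingCone.fst (a • 𝟙 (Koszul.koszul R l))).1.v i (i + 1) rfl).hom x),
        Psi l i (((mappingCone.snd (a • 𝟙 (Koszul.koszul R l))).v i i (add_zero i)).hom x)) := rfl

lemma Psi_d (l : List R) (i j : ℤ) (hij : i + 1 = j) (x : (Koszul.koszul R l).X i) :
    KD (0 : R →ₗ[R] R) l (Psi l i x) = Psi l j (((Koszul.koszul R l).d i j).hom x) := by
  induction l generalizing i j with
  | nil =>
    have hd : ((Koszul.koszul R []).d i j) = 0 := HomologicalComplex.single_obj_d _ _ _ _ _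
    rw [hd]
    change (0 : R →ₗ[R] R) _ = Psi [] j ((0 : (Koszul.koszul R []).X i →ₗ[R] _) x)
    rw [LinearMap.zero_apply, LinearMap.zero_apply, map_zero]
    rfl
  | cons a l ih =>
    subst hij
    rw [Psi_cons, KD_cons, Psi_cons]
    have h1 := fst_d (a • 𝟙 (Koszul.koszul R l)) i (i + 1) (i + 1 + 1) rfl rfl x
    have h2 := snd_d (a • 𝟙 (Koszul.koszul R l)) i (i + 1) rfl x
    refine KT.ext' ?_ ?_
    · change -(KD (0 : R →ₗ[R] R) l (Psi l (i + 1) _)) = Psi l (i + 1 + 1) _
      rw [ih (i + 1) (i + 1 + 1) rfl]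
      erw [h1]
      rw [map_neg]
    · change a • Psi l (i + 1) _ + KD (0 : R →ₗ[R] R) l (Psi l i _) = Psi l (i + 1) _
      rw [ih i (i + 1) rfl]
      erw [h2]
      rw [map_add, smul_id_f_apply, map_smul]

lemma Psi_injective (l : List R) (i : ℤ) : Function.Injective (Psi l i) := by
  induction l generalizing i with
  | nil =>
    by_cases h : i = 0
    · have : Psi ([] : List R) i =
          (HomologicalComplex.singleObjXIsoOfEq (ComplexShape.up ℤ) 0 (ModuleCat.of R R) i
            h).hom.hom := by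
        simp [Psi, h]
      rw [this]
      exact (HomologicalComplex.singleObjXIsoOfEq (ComplexShape.up ℤ) 0 (ModuleCat.of R R) i
        h).toLinearEquiv.injective
    · have : Subsingleton ((Koszul.koszul R []).X i) :=
        ModuleCat.subsingleton_of_isZero (HomologicalComplex.isZero_single_obj_X _ _ _ _ h)
      exact fun x y _ => Subsingleton.elim x y
  | cons a l ih =>
    rw [← LinearMap.ker_eq_bot, LinearMap.ker_eq_bot']
    intro x hx
    rw [Psi_cons] at hx
    have h1 : Psi l (i + 1) _ = 0 := congrArg Prod.fst hx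
    have h2 : Psi l i _ = 0 := congrArg Prod.snd hx
    have h1' := ih (i + 1) (h1.trans (map_zero _).symm)
    have h2' := ih i (h2.trans (map_zero _).symm)
    have hdec := decomp (a • 𝟙 (Koszul.koszul R l)) i (i + 1) rfl x
    rw [hdec]
    erw [h1', h2']
    rw [map_zero, map_zero, add_zero]
    rfl

lemma Psi_range (l : List R) (i : ℤ) (y : KT R l) :
    ∃ x : (Koszul.koszul R l).X i, KP (P0 R) l (-i) y = Psi l i x := by
  induction l generalizing i with
  | nil =>
    by_cases h : i = 0
    · subst h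
      refine ⟨(HomologicalComplex.singleObjXIsoOfEq (ComplexShape.up ℤ) 0 (ModuleCat.of R R) 0
        rfl).inv.hom y, ?_⟩
      have : Psi ([] : List R) 0 =
          (HomologicalComplex.singleObjXIsoOfEq (ComplexShape.up ℤ) 0 (ModuleCat.of R R) 0
            rfl).hom.hom := by
        simp [Psi]
      rw [this]
      change P0 (R := R) R (-0) y = _
      rw [neg_zero, P0_zero]
      exact (capply _ _ _ (HomologicalComplex.singleObjXIsoOfEq (ComplexShape.up ℤ) 0
        (ModuleCat.of R R) 0 rfl).inv_hom_id y).symm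
    · refine ⟨0, ?_⟩
      rw [map_zero]
      exact P0_ne (-i) (by omega) y
  | cons a l ih =>
    obtain ⟨z', z⟩ := y
    have e : -i - 1 = -(i + 1) := by ring
    obtain ⟨x₁, hx₁⟩ := ih (i + 1) z'
    obtain ⟨x₂, hx₂⟩ := ih i z
    refine ⟨((mappingCone.inl (a • 𝟙 (Koszul.koszul R l))).v (i + 1) i (by omega)).hom x₁ +
      ((mappingCone.inr (a • 𝟙 (Koszul.koszul R l))).f i).hom x₂, ?_⟩
    rw [KP_cons, Psi_cons, e]
    simp only [map_add]
    erw [fst_inl (a • 𝟙 (Koszul.koszul R l)) i (i + 1) rfl x₁,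
      fst_inr (a • 𝟙 (Koszul.koszul R l)) i (i + 1) rfl x₂,
      snd_inl (a • 𝟙 (Koszul.koszul R l)) i (i + 1) rfl x₁,
      snd_inr (a • 𝟙 (Koszul.koszul R l)) i x₂]
    refine KT.ext' ?_ ?_
    · change KP (P0 R) l (-(i + 1)) z' = Psi l (i + 1) x₁ + Psi l (i + 1) 0
      rw [map_zero, add_zero]; exact hx₁
    · change KP (P0 R) l (-i) z = Psi l i 0 + Psi l i x₂
      rw [map_zero, zero_add]; exact hx₂

/-- every element of `Ideal.ofList l` is a pairing -/
lemma exists_pair_of_mem (l : List R) (r : R) (hr : r ∈ Ideal.ofList l) :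
    ∃ t : ℕ → R, pair l t = r := by
  induction l generalizing r with
  | nil =>
    rw [Ideal.ofList_nil, Ideal.mem_bot] at hr
    exact ⟨0, hr.symm⟩
  | cons a l ih =>
    rw [Ideal.ofList_cons, Submodule.mem_sup] at hr
    obtain ⟨y, hy, z, hz, rfl⟩ := hr
    obtain ⟨c, rfl⟩ := Ideal.mem_span_singleton'.1 hy
    obtain ⟨t', ht'⟩ := ih z hz
    refine ⟨fun k => Nat.casesOn k c t', ?_⟩
    change c * a + pair l (fun k => t' k) = c * a + z
    rw [← ht']

lemma pair_mem (l : List R) (t : ℕ → R) : pair l t ∈ Ideal.ofList l := by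
  induction l generalizing t with
  | nil => exact Submodule.zero_mem _
  | cons a l ih =>
    rw [Ideal.ofList_cons]
    exact Submodule.add_mem_sup (Ideal.mem_span_singleton'.2 ⟨t 0, rfl⟩) (ih _)

lemma KAug_KD_mem (l : List R) (p : KT R l) :
    KAug l (KD (0 : R →ₗ[R] R) l p) ∈ Ideal.ofList l := by
  induction l with
  | nil => exact Submodule.zero_mem _
  | cons a l ih =>
    rw [KD_cons, KAug_cons, Ideal.ofList_cons]
    change KAug l (a • p.1 + KD (0 : R →ₗ[R] R) l p.2) ∈ _
    rw [map_add, map_smul]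
    refine Submodule.add_mem_sup (Ideal.mem_span_singleton'.2 ⟨KAug l p.1, ?_⟩) (ih p.2)
    rw [smul_eq_mul, mul_comm]

/-- the augmentation to `R ⧸ (l)` -/
noncomputable def aug (l : List R) : KT R l →ₗ[R] R ⧸ Ideal.ofList l :=
  Submodule.mkQ (Ideal.ofList l) ∘ₗ KAug l

lemma aug_apply (l : List R) (p : KT R l) :
    aug l p = Submodule.Quotient.mk (p := Ideal.ofList l) (KAug l p) := rfl

lemma aug_KU (l : List R) (r : R) :
    aug l (KU l r) = Submodule.Quotient.mk (p := Ideal.ofList l) r := by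
  rw [aug_apply, KAug_KU]

lemma aug_KV (l : List R) (v : ℕ → R) (p : KT R l) : aug l (KV l v p) = 0 := by
  rw [aug_apply, KAug_KV]; rfl

lemma aug_KD (l : List R) (p : KT R l) : aug l (KD (0 : R →ₗ[R] R) l p) = 0 := by
  rw [aug_apply]
  exact (Submodule.Quotient.mk_eq_zero _).2 (KAug_KD_mem l p)

lemma aug_KP (l : List R) (k : ℤ) (p : KT R l) :
    aug l (KP (P0 R) l k p) = P0 (R := R) (R ⧸ Ideal.ofList l) k (aug l p) := by
  rw [aug_apply, KAug_KP0, aug_apply]
  by_cases hk : k = 0
  · subst hk; rw [P0_zero, P0_zero]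
  · rw [P0_ne k hk, P0_ne k hk]; rfl

/-- **Bridge**: for a Koszul-regular sequence the augmentation is a quasi-isomorphism. -/
theorem QI_aug (l : List R) (hl : LCI.IsKoszulRegularSeq R l) :
    QI (KD (0 : R →ₗ[R] R) l) (0 : (R ⧸ Ideal.ofList l) →ₗ[R] (R ⧸ Ideal.ofList l)) (aug l) where
  comm := fun y => by rw [aug_KD]; rfl
  surj := by
    intro y' _
    obtain ⟨r, rfl⟩ := Submodule.Quotient.mk_surjective _ y'
    refine ⟨KU l r, ?_, 0, ?_⟩
    · rw [KD_KU, LinearMap.zero_apply, map_zero]
    · rw [aug_KU, sub_self]; rfl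
  inj := by
    rintro y hy ⟨w', hw'⟩
    rw [LinearMap.zero_apply] at hw'
    -- each homogeneous component is a boundary
    have hcomp : ∀ k : ℕ, ∃ w, KP (P0 R) l (k : ℤ) y = KD (0 : R →ₗ[R] R) l w := by
      intro k
      rcases Nat.eq_zero_or_pos k with hk | hk
      · subst hk
        rw [Nat.cast_zero, KP0_zero]
        have hmem : KAug l y ∈ Ideal.ofList l := by
          rw [aug_apply] at hw'
          exact (Submodule.Quotient.mk_eq_zero _).1 hw'
        obtain ⟨t, ht⟩ := exists_pair_of_mem l _ hmem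
        refine ⟨KV l t (KU l 1), ?_⟩
        have h1 := KD_KV (0 : R →ₗ[R] R) l t (KU l (1 : R))
        rw [KD_KU, LinearMap.zero_apply, map_zero, map_zero, add_zero] at h1
        rw [h1, ht, ← map_smul, smul_eq_mul, mul_one]
      · obtain ⟨x, hx⟩ := Psi_range l (-(k : ℤ)) y
        rw [neg_neg] at hx
        have hcyc : KD (0 : R →ₗ[R] R) l (KP (P0 R) l (k : ℤ) y) = 0 := by
          rw [KP_KD (0 : R →ₗ[R] R) (P0 R) (fun _ _ => by simp) l, hy, map_zero]
        rw [hx, Psi_d l (-(k : ℤ)) (-(k : ℤ) + 1) rfl] at hcyc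
        have hdx : ((Koszul.koszul R l).d (-(k : ℤ)) (-(k : ℤ) + 1)).hom x = 0 :=
          Psi_injective l _ (hcyc.trans (map_zero _).symm)
        have hz := hl (-(k : ℤ)) (by omega)
        have hex : (Koszul.koszul R l).ExactAt (-(k : ℤ)) :=
          (HomologicalComplex.exactAt_iff_isZero_homology _ _).2 hz
        rw [HomologicalComplex.exactAt_iff' _ (-(k : ℤ) - 1) (-(k : ℤ)) (-(k : ℤ) + 1) (by simp)
          (by simp), ShortComplex.moduleCat_exact_iff] at hex
        obtain ⟨x', hx'⟩ := hex x hdx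
        refine ⟨Psi l (-(k : ℤ) - 1) x', ?_⟩
        rw [hx, Psi_d l (-(k : ℤ) - 1) (-(k : ℤ)) (by ring)]
        exact congrArg _ hx'.symm
    choose w hw using hcomp
    refine ⟨∑ k ∈ Finset.range (l.length + 1), w k, ?_⟩
    rw [map_sum]
    conv_lhs => rw [← KP0_sum l y]
    exact Finset.sum_congr rfl (fun k _ => hw k)

end Groth.Agent.Lib.Helper76.Wb
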