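import Groth.Agent.Lib.Helper76.WbD

/-!
# helper76: Wiebe's lemma, core homological argument on the double Koszul complex
-/

set_option autoImplicit false
set_option linter.unusedSimpArgs false
set_option linter.unusedSectionVars false
set_option linter.unusedVariables false
universe u

namespace Groth.Agent.Lib.Helper76.Wb

variable {R : Type u} [CommRing R]

/-- the "determinant" element: top coefficient of the product `w_0 ∧ … ∧ w_{n-1}` -/
noncomputable def wdelta (g : List R) (w : ℕ → ℕ → R) : R :=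
  KTop g (opProd (fun i => (KV g (w i) : KT R g → KT R g)) 0 g.length (KU g (1 : R)))

section Core

variable (F g : List R)

/-- the operators `θ_i = e_i + w_i` on the double complex -/
noncomputable def theta (w : ℕ → ℕ → R) (i : ℕ) : KT (KT R g) F →ₗ[R] KT (KT R g) F :=
  KV F (Pi.single i 1) + KL (KV g (w i)) F

lemma theta_apply (w : ℕ → ℕ → R) (i : ℕ) (p : KT (KT R g) F) :
    theta F g w i p = KV F (Pi.single i 1) p + KL (KV g (w i)) F p := rfl

lemma theta_D (w : ℕ → ℕ → R) (hw : ∀ i, pair F (Pi.single i 1) + pair g (w i) = 0) (i : ℕ)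
    (p : KT (KT R g) F) :
    KD (KD (0 : R →ₗ[R] R) g) F (theta F g w i p) =
      -theta F g w i (KD (KD (0 : R →ₗ[R] R) g) F p) := by
  have h1 := KD_KV (KD (0 : R →ₗ[R] R) g) F (Pi.single i 1) p
  have h2 := KD_KL (KD (0 : R →ₗ[R] R) g) (KV g (w i)) (pair g (w i))
    (KD_KV (0 : R →ₗ[R] R) g (w i)) F p
  rw [theta_apply, theta_apply, map_add]
  have h3 : (pair F (Pi.single i 1) + pair g (w i)) • p = 0 := by rw [hw, zero_smul]
  rw [add_smul] at h3
  linear_combination (norm := module) h1 + h2 + h3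

/-- the cycle `Z = θ_0 ⋯ θ_{n-1} 1` -/
noncomputable def ZZ (w : ℕ → ℕ → R) : KT (KT R g) F :=
  opProd (fun i => (theta F g w i : KT (KT R g) F → KT (KT R g) F)) 0 F.length
    (KU F (KU g (1 : R)))

lemma ZZ_D (w : ℕ → ℕ → R) (hw : ∀ i, pair F (Pi.single i 1) + pair g (w i) = 0) :
    KD (KD (0 : R →ₗ[R] R) g) F (ZZ F g w) = 0 := by
  have := opProd_cycle (KD (KD (0 : R →ₗ[R] R) g) F).toAddMonoidHom
    (fun i => (theta F g w i : KT (KT R g) F → KT (KT R g) F))
    (fun i p => theta_D F g w hw i p) (fun i => map_zero _) 0 F.length (KU F (KU g (1 : R)))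
    (by
      change KD (KD (0 : R →ₗ[R] R) g) F (KU F (KU g (1 : R))) = 0
      rw [KD_KU, KD_KU, LinearMap.zero_apply, map_zero, map_zero])
  exact this

lemma ZZ_A (w : ℕ → ℕ → R) :
    KM (aug g) F (ZZ F g w) =
      KTopS F (Submodule.Quotient.mk (p := Ideal.ofList g) (1 : R)) := by
  have hc : ∀ i (p : KT (KT R g) F), KM (aug g) F (theta F g w i p) =
      (KV F (Pi.single i 1) : KT (R ⧸ Ideal.ofList g) F →ₗ[R] KT (R ⧸ Ideal.ofList g) F)
        (KM (aug g) F p) := by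
    intro i p
    rw [theta_apply, map_add, KM_KV, KM_KL (aug g) (KV g (w i)) 0
      (fun x => by rw [aug_KV]; rfl), KL_zero, add_zero]
  have h := opProd_map (fun i => (theta F g w i : KT (KT R g) F → KT (KT R g) F))
    (fun i => ((KV F (Pi.single i 1) :
      KT (R ⧸ Ideal.ofList g) F →ₗ[R] KT (R ⧸ Ideal.ofList g) F) :
        KT (R ⧸ Ideal.ofList g) F → KT (R ⧸ Ideal.ofList g) F))
    (KM (aug g) F) hc 0 F.length (KU F (KU g (1 : R)))
  rw [ZZ, h, KM_KU, aug_KU, opProd_KV_top]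

lemma ZZ_swp (w : ℕ → ℕ → R) (hn : F.length = g.length) :
    aug F (KTop g (swp F g (ZZ F g w))) =
      Submodule.Quotient.mk (p := Ideal.ofList F) (wdelta g w) := by
  have h1 : ∀ i (p : KT (KT R g) F), swp F g (theta F g w i p) =
      (KL (KV F (Pi.single i 1)) g + KV g (w i) : KT (KT R F) g →ₗ[R] KT (KT R F) g)
        (swp F g p) := by
    intro i p
    rw [theta_apply, map_add, swp_KV_out, swp_KL_in]
    rfl
  have e1 := opProd_map (fun i => (theta F g w i : KT (KT R g) F → KT (KT R g) F))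
    (fun i => ((KL (KV F (Pi.single i 1)) g + KV g (w i) :
      KT (KT R F) g →ₗ[R] KT (KT R F) g) : KT (KT R F) g → KT (KT R F) g))
    (swp F g) h1 0 F.length (KU F (KU g (1 : R)))
  have h2 : ∀ i (p : KT (KT R F) g), KM (aug F) g
      ((KL (KV F (Pi.single i 1)) g + KV g (w i) : KT (KT R F) g →ₗ[R] KT (KT R F) g) p) =
      (KV g (w i) : KT (R ⧸ Ideal.ofList F) g →ₗ[R] KT (R ⧸ Ideal.ofList F) g)
        (KM (aug F) g p) := by
    intro i p
    rw [LinearMap.add_apply, map_add, KM_KV, KM_KL (aug F) (KV F (Pi.single i 1)) 0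
      (fun x => by rw [aug_KV]; rfl), KL_zero, zero_add]
  have e2 := opProd_map
    (fun i => ((KL (KV F (Pi.single i 1)) g + KV g (w i) :
      KT (KT R F) g →ₗ[R] KT (KT R F) g) : KT (KT R F) g → KT (KT R F) g))
    (fun i => ((KV g (w i) : KT (R ⧸ Ideal.ofList F) g →ₗ[R] KT (R ⧸ Ideal.ofList F) g) :
      KT (R ⧸ Ideal.ofList F) g → KT (R ⧸ Ideal.ofList F) g))
    (KM (aug F) g) h2 0 F.length (swp F g (KU F (KU g (1 : R))))
  have h3 : ∀ i (p : KT R g), KM (Submodule.mkQ (Ideal.ofList F)) g (KV g (w i) p) =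
      (KV g (w i) : KT (R ⧸ Ideal.ofList F) g →ₗ[R] KT (R ⧸ Ideal.ofList F) g)
        (KM (Submodule.mkQ (Ideal.ofList F)) g p) := fun i p => KM_KV _ g (w i) p
  have e3 := opProd_map (fun i => (KV g (w i) : KT R g → KT R g))
    (fun i => ((KV g (w i) : KT (R ⧸ Ideal.ofList F) g →ₗ[R] KT (R ⧸ Ideal.ofList F) g) :
      KT (R ⧸ Ideal.ofList F) g → KT (R ⧸ Ideal.ofList F) g))
    (KM (Submodule.mkQ (Ideal.ofList F)) g) h3 0 g.length (KU g (1 : R))
  rw [← KTop_KM (aug F) g, ZZ, e1, e2, swp_KU, KM_KU, aug_KU, hn]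
  have e4 := KTop_KM (Submodule.mkQ (Ideal.ofList F)) g
    (opProd (fun i => (KV g (w i) : KT R g → KT R g)) 0 g.length (KU g (1 : R)))
  rw [e3, KM_KU] at e4
  exact e4

lemma core_W (hF : LCI.IsKoszulRegularSeq R F) (x : R)
    (hx : ∀ a ∈ g, a * x ∈ Ideal.ofList F) :
    ∃ W'' : KT (KT R g) F,
      KD (KD (0 : R →ₗ[R] R) g) F (KP (KP (P0 R) g) F (g.length : ℤ) W'') = 0 ∧
      aug F (KTop g (swp F g (KP (KP (P0 R) g) F (g.length : ℤ) W''))) =
        Submodule.Quotient.mk (p := Ideal.ofList F) x := by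
  have hA' : QI (KD (KD (0 : R →ₗ[R] R) F) g)
      (KD (0 : (R ⧸ Ideal.ofList F) →ₗ[R] (R ⧸ Ideal.ofList F)) g) (KM (aug F) g) :=
    KM_QI (QI_aug F hF) g
  have hξ : KD (0 : (R ⧸ Ideal.ofList F) →ₗ[R] (R ⧸ Ideal.ofList F)) g
      (KTopS g (Submodule.Quotient.mk (p := Ideal.ofList F) x)) = 0 := by
    refine KD_KTopS _ g _ rfl ?_
    intro a ha
    rw [← Submodule.Quotient.mk_smul, smul_eq_mul]
    exact (Submodule.Quotient.mk_eq_zero _).2 (hx a ha)
  obtain ⟨W', hW', η, hη⟩ := hA'.surj _ hξ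
  obtain ⟨W'', hW''⟩ := swp_surjective F g W'
  refine ⟨W'', ?_, ?_⟩
  · apply swp_injective F g
    rw [swp_D, swp_KP, hW'', map_zero]
    rw [KP_KD (KD (0 : R →ₗ[R] R) F) (KP (P0 R) F)
      (fun k p => KP_KD (0 : R →ₗ[R] R) (P0 R) (fun _ _ => by simp) F k p) g, hW', map_zero]
  · rw [swp_KP, hW'', ← KTop_KM (aug F) g,
      KP_KM (aug F) (KP (P0 R) F) (P0 (R ⧸ Ideal.ofList F)) (fun k p => aug_KP F k p) g,
      KP0_top, KTop_KTopS]
    have : KM (aug F) g W' =
        KTopS g (Submodule.Quotient.mk (p := Ideal.ofList F) x) -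
          KD (0 : (R ⧸ Ideal.ofList F) →ₗ[R] (R ⧸ Ideal.ofList F)) g η := by
      rw [← hη]; abel
    rw [this, map_sub, KTop_KTopS, KTop_KD, LinearMap.zero_apply, smul_zero, sub_zero]

end Core

/-- **Wiebe's lemma, core form.** -/
theorem wiebe_core (F g : List R) (hn : F.length = g.length)
    (hF : LCI.IsKoszulRegularSeq R F) (hg : LCI.IsKoszulRegularSeq R g)
    (w : ℕ → ℕ → R) (hw : ∀ i, pair F (Pi.single i 1) + pair g (w i) = 0)
    (x : R) (hx : ∀ a ∈ g, a * x ∈ Ideal.ofList F) :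
    ∃ y, x - y * wdelta g w ∈ Ideal.ofList F := by
  obtain ⟨W'', hW1, hW2⟩ := core_W F g hF x hx
  have hA : QI (KD (KD (0 : R →ₗ[R] R) g) F)
      (KD (0 : (R ⧸ Ideal.ofList g) →ₗ[R] (R ⧸ Ideal.ofList g)) F) (KM (aug g) F) :=
    KM_QI (QI_aug g hg) F
  have hAW : KM (aug g) F (KP (KP (P0 R) g) F (g.length : ℤ) W'') =
      KTopS F (KTop F (KM (aug g) F W'')) := by
    rw [KP_KM (aug g) (KP (P0 R) g) (P0 (R ⧸ Ideal.ofList g)) (fun k p => aug_KP g k p) F,
      ← hn, KP0_top]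
  obtain ⟨y, hy⟩ := Submodule.Quotient.mk_surjective _ (KTop F (KM (aug g) F W''))
  refine ⟨y, ?_⟩
  have hU1 : KD (KD (0 : R →ₗ[R] R) g) F
      (KP (KP (P0 R) g) F (g.length : ℤ) W'' - y • ZZ F g w) = 0 := by
    rw [map_sub, map_smul, hW1, ZZ_D F g w hw, smul_zero, sub_zero]
  have hU2 : KM (aug g) F (KP (KP (P0 R) g) F (g.length : ℤ) W'' - y • ZZ F g w) = 0 := by
    rw [map_sub, map_smul, hAW, ZZ_A, ← hy, ← map_smul, ← map_sub]
    have : Submodule.Quotient.mk (p := Ideal.ofList g) y -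
        y • Submodule.Quotient.mk (p := Ideal.ofList g) (1 : R) = 0 := by
      rw [← Submodule.Quotient.mk_smul, smul_eq_mul, mul_one, sub_self]
    rw [this, map_zero]
  obtain ⟨V, hV⟩ := hA.inj _ hU1 ⟨0, by rw [hU2, map_zero]⟩
  have h5 : aug F (KTop g (swp F g
      (KP (KP (P0 R) g) F (g.length : ℤ) W'' - y • ZZ F g w))) = 0 := by
    rw [hV, swp_D, ← KTop_KM (aug F) g,
      KM_KD (KD (0 : R →ₗ[R] R) F) (0 : (R ⧸ Ideal.ofList F) →ₗ[R] (R ⧸ Ideal.ofList F))
        (aug F) (fun p => by rw [aug_KD]; rfl) g, KTop_KD, LinearMap.zero_apply, smul_zero]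
  rw [map_sub, map_smul, map_sub, map_smul, map_sub, map_smul, hW2, ZZ_swp F g w hn] at h5
  rw [← Submodule.Quotient.mk_smul, ← Submodule.Quotient.mk_sub,
    Submodule.Quotient.mk_eq_zero, smul_eq_mul] at h5
  exact h5

end Groth.Agent.Lib.Helper76.Wb
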