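import Groth.Agent.Lib.Helper76.WbE

/-!
# helper76: Wiebe's lemma — identification of the top coefficient with a determinant, and the
`Fin n`-indexed form.
-/

set_option autoImplicit false
set_option linter.unusedSimpArgs false
set_option linter.unusedSectionVars false
set_option linter.unusedVariables false
universe u

namespace Groth.Agent.Lib.Helper76.Wb

variable {R : Type u} [CommRing R]

/-- `KV` as a linear map in the vector -/
noncomputable def sL (g : List R) : (ℕ → R) →ₗ[R] Module.End R (KT R g) where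
  toFun v := KV g v
  map_add' v w := LinearMap.ext (KV_add g v w)
  map_smul' c v := LinearMap.ext (KV_smul g c v)

lemma sL_apply (g : List R) (v : ℕ → R) (p : KT R g) : sL g v p = KV g v p := rfl

lemma sL_sq (g : List R) (v : ℕ → R) : sL g v * sL g v = 0 :=
  LinearMap.ext (fun p => KV_KV g v p)

/-- the action of the exterior algebra -/
noncomputable def Lam (g : List R) : ExteriorAlgebra R (ℕ → R) →ₐ[R] Module.End R (KT R g) :=
  ExteriorAlgebra.lift R ⟨sL g, sL_sq g⟩

lemma Lam_ι (g : List R) (v : ℕ → R) : Lam g (ExteriorAlgebra.ι R v) = sL g v :=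
  ExteriorAlgebra.lift_ι_apply R (sL g) (sL_sq g) v

/-- extension by zero -/
def extN (n : ℕ) : (Fin n → R) →ₗ[R] (ℕ → R) where
  toFun v k := if h : k < n then v ⟨k, h⟩ else 0
  map_add' v w := by
    funext k
    simp only [Pi.add_apply]
    split_ifs <;> simp
  map_smul' c v := by
    funext k
    simp only [Pi.smul_apply, RingHom.id_apply]
    split_ifs <;> simp

lemma extN_apply (n : ℕ) (v : Fin n → R) (k : ℕ) :
    extN n v k = if h : k < n then v ⟨k, h⟩ else 0 := rfl

lemma extN_val (n : ℕ) (v : Fin n → R) (k : Fin n) : extN n v (k : ℕ) = v k := by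
  rw [extN_apply, dif_pos k.isLt]

lemma extN_single (n : ℕ) (k : Fin n) :
    extN (R := R) n (Pi.single k 1) = Pi.single (k : ℕ) 1 := by
  funext j
  rw [extN_apply]
  by_cases h : j < n
  · rw [dif_pos h, Pi.single_apply, Pi.single_apply]
    by_cases h2 : (⟨j, h⟩ : Fin n) = k
    · rw [if_pos h2, if_pos (by rw [← h2])]
    · rw [if_neg h2, if_neg (fun h3 => h2 (Fin.ext h3))]
  · have h3 : ¬ j = (k : ℕ) := fun h3 => h (by rw [h3]; exact k.isLt)
    rw [dif_neg h, Pi.single_apply, if_neg h3]

/-- the rows of a matrix as vectors indexed by `ℕ` -/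
def wM {n : ℕ} (M : Matrix (Fin n) (Fin n) R) : ℕ → ℕ → R :=
  fun i => if h : i < n then extN n (M ⟨i, h⟩) else 0

lemma wM_val {n : ℕ} (M : Matrix (Fin n) (Fin n) R) (k : Fin n) :
    wM M (k : ℕ) = extN n (M k) := by
  rw [wM, dif_pos k.isLt]

lemma wM_ge {n : ℕ} (M : Matrix (Fin n) (Fin n) R) (i : ℕ) (h : ¬ i < n) : wM M i = 0 := by
  rw [wM, dif_neg h]

lemma opProd_ofFn {M : Type u} [AddCommGroup M] [Module R M] (θ : ℕ → Module.End R M)
    (i n : ℕ) (u : M) :
    opProd (fun k => (θ k : M → M)) i n u = (List.ofFn (fun k : Fin n => θ (i + k))).prod u := by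
  induction n generalizing i with
  | zero => simp [opProd]
  | succ n ih =>
    rw [List.ofFn_succ, List.prod_cons]
    change θ i (opProd _ (i + 1) n u) = _
    rw [ih, Module.End.mul_apply]
    have e : (fun k : Fin n => θ (i + 1 + (k : ℕ))) =
        fun k : Fin n => θ (i + ((k.succ : Fin (n + 1)) : ℕ)) := by
      funext k
      congr 1
      rw [Fin.val_succ]; omega
    rw [e]
    simp

/-- the alternating map `M ↦ top coefficient of (row 0) ∧ … ∧ (row n-1)` -/
noncomputable def PhiAlt (g : List R) (n : ℕ) : AlternatingMap R (Fin n → R) R (Fin n) :=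
  ((KTop g ∘ₗ LinearMap.applyₗ (KU g (1 : R)) ∘ₗ (Lam g).toLinearMap).compAlternatingMap
    (ExteriorAlgebra.ιMulti R n)).compLinearMap (extN n)

lemma PhiAlt_apply (g : List R) (n : ℕ) (M : Fin n → Fin n → R) :
    PhiAlt g n M =
      KTop g ((List.ofFn fun k : Fin n => sL g (extN n (M k))).prod (KU g (1 : R))) := by
  rw [PhiAlt, AlternatingMap.compLinearMap_apply, LinearMap.compAlternatingMap_apply,
    ExteriorAlgebra.ιMulti_apply]
  simp only [LinearMap.comp_apply, AlgHom.toLinearMap_apply, map_list_prod, List.map_ofFn,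
    LinearMap.applyₗ_apply_apply]
  congr 4
  funext k
  exact Lam_ι g _

lemma PhiAlt_eq_wdelta (g : List R) (n : ℕ) (hn : g.length = n) (M : Matrix (Fin n) (Fin n) R) :
    PhiAlt g n M = wdelta g (wM M) := by
  subst hn
  rw [PhiAlt_apply, wdelta]
  have h := opProd_ofFn (fun k => sL g (wM M k)) 0 g.length (KU g (1 : R))
  have e : (fun k : Fin g.length => sL g (wM M (0 + (k : ℕ)))) =
      fun k : Fin g.length => sL g (extN g.length (M k)) := by
    funext k
    rw [zero_add, wM_val]
  rw [e] at h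
  rw [← h]
  rfl

lemma PhiAlt_basis (g : List R) (n : ℕ) (hn : g.length = n) :
    PhiAlt g n (fun i => (Pi.single i 1 : Fin n → R)) = 1 := by
  subst hn
  rw [PhiAlt_apply]
  have h := opProd_ofFn (fun k => sL g (Pi.single k 1)) 0 g.length (KU g (1 : R))
  have e : (fun k : Fin g.length => sL g (Pi.single (0 + (k : ℕ)) 1)) =
      fun k : Fin g.length => sL g (extN g.length (Pi.single k 1)) := by
    funext k
    rw [zero_add, extN_single]
  rw [e] at h
  rw [← h]
  have h2 := opProd_KV_top g (1 : R)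
  change KTop g (opProd (fun i => (KV g (Pi.single i 1) : KT R g → KT R g)) 0 g.length
    (KU g (1 : R))) = 1
  rw [h2, KTop_KTopS]

theorem wdelta_eq_det (g : List R) (n : ℕ) (hn : g.length = n) (M : Matrix (Fin n) (Fin n) R) :
    wdelta g (wM M) = M.det := by
  rw [← PhiAlt_eq_wdelta g n hn M]
  have h := (PhiAlt g n).eq_smul_basis_det (Pi.basisFun R (Fin n))
  have hb : (PhiAlt g n) (⇑(Pi.basisFun R (Fin n))) = 1 := by
    have : (⇑(Pi.basisFun R (Fin n)) : Fin n → Fin n → R) = fun i => Pi.single i 1 := by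
      funext i
      exact Pi.basisFun_apply R (Fin n) i
    rw [this]
    exact PhiAlt_basis g n hn
  rw [hb, one_smul] at h
  rw [h, Pi.basisFun_det_apply]
  rfl

/-! ### glue -/

lemma pair_ofFn (n : ℕ) (a : Fin n → R) (v : ℕ → R) :
    pair (List.ofFn a) v = ∑ j : Fin n, v j * a j := by
  induction n generalizing v with
  | zero => simp [pair]
  | succ n ih =>
    rw [List.ofFn_succ, Fin.sum_univ_succ]
    change v 0 * a 0 + pair (List.ofFn fun i : Fin n => a i.succ) (fun k => v (k + 1)) = _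
    rw [ih]
    simp [Fin.val_succ]

lemma ofList_ofFn (n : ℕ) (a : Fin n → R) :
    Ideal.ofList (List.ofFn a) = Ideal.span (Set.range a) := by
  unfold Ideal.ofList
  congr 1
  ext r
  simp [List.mem_ofFn]

/-- **Wiebe's lemma** (`Fin n`-indexed form). -/
theorem wiebe_fin (n : ℕ) (F' g' : Fin n → R)
    (hF : LCI.IsKoszulRegularSeq R (List.ofFn F')) (hg : LCI.IsKoszulRegularSeq R (List.ofFn g'))
    (c : Matrix (Fin n) (Fin n) R) (hc : ∀ i, F' i = ∑ j, c i j * g' j)
    (x : R) (hx : ∀ j, g' j * x ∈ Ideal.span (Set.range F')) :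
    x ∈ Ideal.span (Set.range F') ⊔ Ideal.span {c.det} := by
  have hw : ∀ i : ℕ, pair (List.ofFn F') (Pi.single i 1) + pair (List.ofFn g') (wM (-c) i) = 0 := by
    intro i
    rw [pair_ofFn, pair_ofFn]
    by_cases h : i < n
    · have h1 : ∑ j : Fin n, (Pi.single i 1 : ℕ → R) (j : ℕ) * F' j = F' ⟨i, h⟩ := by
        rw [Finset.sum_eq_single (⟨i, h⟩ : Fin n)]
        · simp
        · intro b _ hb
          have : (b : ℕ) ≠ i := fun e => hb (Fin.ext e)
          rw [Pi.single_apply, if_neg this, zero_mul]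
        · intro h'; exact absurd (Finset.mem_univ _) h'
      have h2 : ∑ j : Fin n, wM (-c) i (j : ℕ) * g' j = -F' ⟨i, h⟩ := by
        rw [hc ⟨i, h⟩, ← Finset.sum_neg_distrib]
        refine Finset.sum_congr rfl (fun j _ => ?_)
        have : wM (-c) i = extN n ((-c) ⟨i, h⟩) := wM_val (-c) ⟨i, h⟩
        rw [this, extN_val]
        simp
      rw [h1, h2, add_neg_cancel]
    · have h1 : ∑ j : Fin n, (Pi.single i 1 : ℕ → R) (j : ℕ) * F' j = 0 := by
        refine Finset.sum_eq_zero (fun j _ => ?_)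
        have : (j : ℕ) ≠ i := fun e => h (e ▸ j.isLt)
        rw [Pi.single_apply, if_neg this, zero_mul]
      rw [h1, wM_ge _ i h]
      simp
  have hx' : ∀ a ∈ List.ofFn g', a * x ∈ Ideal.ofList (List.ofFn F') := by
    intro a ha
    rw [List.mem_ofFn] at ha
    obtain ⟨j, rfl⟩ := ha
    rw [ofList_ofFn]
    exact hx j
  obtain ⟨y, hy⟩ := wiebe_core (List.ofFn F') (List.ofFn g') (by simp) hF hg (wM (-c)) hw x hx'
  rw [wdelta_eq_det (List.ofFn g') n (by simp) (-c), Matrix.det_neg, ofList_ofFn] at hy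
  have : x = (x - y * ((-1) ^ Fintype.card (Fin n) * c.det)) +
      (y * (-1) ^ Fintype.card (Fin n)) * c.det := by ring
  rw [this]
  exact Submodule.add_mem_sup hy (Ideal.mem_span_singleton'.2 ⟨_, rfl⟩)

end Groth.Agent.Lib.Helper76.Wb
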