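import Groth.Agent.Lib.Helper76.WbF
import Groth.Agent.Lib.Helper76.TorKosA
import Groth.Agent.Lib.Helper42.KoszulPow
import Groth.Agent.Lib.Helper75.Kz2

/-!
# helper76: the annihilator of the diagonal ideal (Wiebe / Tate), assembly
-/

set_option autoImplicit false
set_option linter.unusedSimpArgs false
set_option linter.unusedSectionVars false
set_option linter.unusedVariables false
universe u

open CategoryTheory CategoryTheory.Limits
open TensorProduct

namespace Groth.Agent.Lib.Helper76.Wb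

/-- Koszul-regularity is preserved by flat base change. -/
theorem koszulRegular_of_flat_alg {A : Type u} [CommRing A] (A' : Type u) [CommRing A']
    [Algebra A A'] [Module.Flat A A'] (l : List A) (hl : LCI.IsKoszulRegularSeq A l) :
    LCI.IsKoszulRegularSeq A' (l.map (algebraMap A A')) := by
  intro i hi
  have h1 : IsZero ((CohIII.koszulCx (ModuleCat.of A A') l).homology i) := by
    have : Module.Flat A (ModuleCat.of A A') := ‹Module.Flat A A'›
    exact Groth.Agent.Lib.Helper42.KoszulPow.KR_of_flat (ModuleCat.of A A') l hl i hi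
  have h2 : IsZero ((CohIII.koszulCx ((ModuleCat.restrictScalars (algebraMap A A')).obj
      (ModuleCat.of A' A')) l).homology i) :=
    h1.of_iso ((HomologicalComplex.homologyFunctor _ _ i).mapIso
      (Groth.Agent.Lib.Helper75.Kz.kmapIso (Groth.Agent.Lib.Helper76.TorKos.ofAlgIso A') l)).symm
  have h3 := (Groth.Agent.Lib.Helper75.Kz.isZero_homology_restrictScalars_iff (algebraMap A A') l
    (ModuleCat.of A' A') i).1 h2
  rw [← HomologicalComplex.exactAt_iff_isZero_homology,
    Groth.Agent.Lib.Helper75.Kz.koszul_eq_koszulCx,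
    HomologicalComplex.exactAt_iff_isZero_homology]
  exact h3

theorem annihilator_diag {A P : Type u} [CommRing A] [CommRing P] [Algebra A P]
    {n : ℕ} (f : Fin n → P) (hf : LCI.IsKoszulRegularSeq P (List.ofFn f))
    (I : Ideal P) (hI : I = Ideal.span (Set.range f))
    [Module.Flat A (P ⧸ I)]
    (g : Fin n → P ⊗[A] (P ⧸ I))
    (hg : LCI.IsKoszulRegularSeq (P ⊗[A] (P ⧸ I)) (List.ofFn g))
    (hgker : Ideal.span (Set.range g) = RingHom.ker (Algebra.TensorProduct.productMap
      (Ideal.Quotient.mkₐ A I) (AlgHom.id A (P ⧸ I))))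
    (c : Matrix (Fin n) (Fin n) (P ⊗[A] (P ⧸ I)))
    (hc : ∀ i, f i ⊗ₜ[A] (1 : P ⧸ I) = ∑ j, c i j * g j) :
    Submodule.annihilator (RingHom.ker (Algebra.TensorProduct.lmul' (S := P ⧸ I) A)) =
      Ideal.span {Algebra.TensorProduct.map (Ideal.Quotient.mkₐ A I) (AlgHom.id A (P ⧸ I))
        (Matrix.det c)} := by
  classical
  have hπs : Function.Surjective
      (Algebra.TensorProduct.map (Ideal.Quotient.mkₐ A I) (AlgHom.id A (P ⧸ I))) :=
    Algebra.TensorProduct.map_surjective _ _ (Ideal.Quotient.mkₐ_surjective A I)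
      (fun x => ⟨x, rfl⟩)
  have hkerπ : RingHom.ker
      (Algebra.TensorProduct.map (Ideal.Quotient.mkₐ A I) (AlgHom.id A (P ⧸ I))) =
      Ideal.span (Set.range (fun i => f i ⊗ₜ[A] (1 : P ⧸ I))) := by
    have hk : RingHom.ker (Ideal.Quotient.mkₐ A I) = I := Ideal.Quotient.mkₐ_ker A I
    rw [Algebra.TensorProduct.rTensor_ker _ (Ideal.Quotient.mkₐ_surjective A I),
      hk, hI, Ideal.map_span, ← Set.range_comp]
    rfl
  have hF' : LCI.IsKoszulRegularSeq (P ⊗[A] (P ⧸ I))
      (List.ofFn (fun i => f i ⊗ₜ[A] (1 : P ⧸ I))) := by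
    have := koszulRegular_of_flat_alg (P ⊗[A] (P ⧸ I)) (List.ofFn f) hf
    rw [List.map_ofFn] at this
    exact this
  have hcomp : ∀ y, Algebra.TensorProduct.lmul' (S := P ⧸ I) A
      (Algebra.TensorProduct.map (Ideal.Quotient.mkₐ A I) (AlgHom.id A (P ⧸ I)) y) =
      Algebra.TensorProduct.productMap (Ideal.Quotient.mkₐ A I) (AlgHom.id A (P ⧸ I)) y := by
    intro y
    induction y using TensorProduct.induction_on with
    | zero => simp
    | tmul p b => simp
    | add x y hx hy => rw [map_add, map_add, hx, hy, map_add]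
  have hgmem : ∀ j, Algebra.TensorProduct.lmul' (S := P ⧸ I) A
      (Algebra.TensorProduct.map (Ideal.Quotient.mkₐ A I) (AlgHom.id A (P ⧸ I)) (g j)) = 0 := by
    intro j
    rw [hcomp, ← RingHom.mem_ker, ← hgker]
    exact Ideal.subset_span ⟨j, rfl⟩
  -- Cramer
  have hdet : ∀ y ∈ Ideal.span (Set.range g),
      Matrix.det c * y ∈ Ideal.span (Set.range (fun i => f i ⊗ₜ[A] (1 : P ⧸ I))) := by
    intro y hy
    refine Submodule.span_induction ?_ ?_ ?_ ?_ hy
    · rintro _ ⟨j, rfl⟩
      have h1 : (Matrix.adjugate c * c).mulVec g = c.det • g := by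
        rw [Matrix.adjugate_mul, Matrix.smul_mulVec, Matrix.one_mulVec]
      have h2 : c.mulVec g = fun i => f i ⊗ₜ[A] (1 : P ⧸ I) := by
        funext i; exact (hc i).symm
      rw [← Matrix.mulVec_mulVec, h2] at h1
      have h3 := congrFun h1 j
      rw [Pi.smul_apply, smul_eq_mul] at h3
      rw [← h3]
      simp only [Matrix.mulVec, dotProduct]
      refine Submodule.sum_mem _ (fun i _ => Ideal.mul_mem_left _ _ (Ideal.subset_span ⟨i, rfl⟩))
    · simp
    · intro x y _ _ hx hy; rw [mul_add]; exact add_mem hx hy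
    · intro a x _ hx; rw [smul_eq_mul, mul_left_comm]; exact Ideal.mul_mem_left _ _ hx
  apply le_antisymm
  · intro z hz
    rw [Submodule.mem_annihilator] at hz
    obtain ⟨x, rfl⟩ := hπs z
    have hxg : ∀ j, g j * x ∈ Ideal.span (Set.range (fun i => f i ⊗ₜ[A] (1 : P ⧸ I))) := by
      intro j
      rw [← hkerπ, RingHom.mem_ker, map_mul, mul_comm]
      have := hz _ (RingHom.mem_ker.2 (hgmem j))
      rwa [smul_eq_mul] at this
    have hx := wiebe_fin n (fun i => f i ⊗ₜ[A] (1 : P ⧸ I)) g hF' hg c hc x hxg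
    obtain ⟨a, ha, b, hb, rfl⟩ := Submodule.mem_sup.1 hx
    obtain ⟨r, rfl⟩ := Ideal.mem_span_singleton'.1 hb
    rw [map_add, map_mul]
    rw [← hkerπ, RingHom.mem_ker] at ha
    rw [ha, zero_add]
    exact Ideal.mem_span_singleton'.2 ⟨_, rfl⟩
  · rw [Ideal.span_le, Set.singleton_subset_iff, SetLike.mem_coe, Submodule.mem_annihilator]
    intro z hz
    obtain ⟨y, rfl⟩ := hπs z
    have hy : y ∈ Ideal.span (Set.range g) := by
      rw [hgker, RingHom.mem_ker, ← hcomp]; exact RingHom.mem_ker.1 hz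
    have := hdet y hy
    rw [← hkerπ, RingHom.mem_ker, map_mul] at this
    rw [smul_eq_mul]; exact this

end Groth.Agent.Lib.Helper76.Wb
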